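import Mathlib

/-!
# I-adic precompleteness / Hausdorffness of a module with a finite basis, and
lifting surjectivity of an additive "π-linear" map from `M / π M` to `M`.
-/

namespace Groth.Agent.Lib.Helper85.AdicBasis

section basis

variable {R : Type*} [CommRing R] (I : Ideal R) {M : Type*} [AddCommGroup M] [Module R M]
  {ι : Type*} [Fintype ι] (e : Module.Basis ι R M)

theorem mem_smul_top_iff (x : M) :
    x ∈ (I • ⊤ : Submodule R M) ↔ ∀ i, e.repr x i ∈ I := by
  constructor
  · intro hx i
    refine Submodule.smul_induction_on hx ?_ ?_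
    · intro r hr m _
      rw [map_smul, Finsupp.smul_apply, smul_eq_mul]
      exact I.mul_mem_right _ hr
    · intro a b ha hb
      rw [map_add, Finsupp.add_apply]
      exact I.add_mem ha hb
  · intro h
    rw [← e.sum_repr x]
    exact Submodule.sum_mem _ fun i _ => Submodule.smul_mem_smul (h i) Submodule.mem_top

include e in
theorem isPrecomplete_of_basis [IsPrecomplete I R] : IsPrecomplete I M := by
  refine ⟨fun {f} hf => ?_⟩
  have hc : ∀ i, ∃ L : R, ∀ n, e.repr (f n) i ≡ L [SMOD (I ^ n • ⊤ : Submodule R R)] := by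
    intro i
    apply IsPrecomplete.prec' (I := I) (fun n => e.repr (f n) i)
    intro m n hmn
    have h1 := hf hmn
    rw [SModEq.sub_mem] at h1 ⊢
    have h2 := (mem_smul_top_iff (I ^ m) e _).1 h1 i
    rw [map_sub, Finsupp.sub_apply] at h2
    simpa [smul_eq_mul, Ideal.mul_top] using h2
  choose L hL using hc
  refine ⟨∑ i, L i • e i, fun n => ?_⟩
  rw [SModEq.sub_mem, mem_smul_top_iff (I ^ n) e]
  intro i
  have h1 := hL i n
  rw [SModEq.sub_mem] at h1
  rw [map_sub, Finsupp.sub_apply, e.repr_sum_self]
  simpa [smul_eq_mul, Ideal.mul_top] using h1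

include e in
theorem isHausdorff_of_basis [IsHausdorff I R] : IsHausdorff I M := by
  refine ⟨fun x hx => ?_⟩
  apply e.repr.injective
  ext i
  rw [map_zero, Finsupp.zero_apply]
  refine IsHausdorff.haus' (I := I) _ fun n => ?_
  have h1 := hx n
  rw [SModEq.zero] at h1 ⊢
  have h2 := (mem_smul_top_iff (I ^ n) e x).1 h1 i
  simpa [smul_eq_mul, Ideal.mul_top] using h2

end basis

section surj

variable {R : Type*} [CommRing R] (π : R) {M : Type*} [AddCommGroup M] [Module R M]

theorem mem_span_pow_smul_top_iff (n : ℕ) (x : M) :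
    x ∈ ((Ideal.span {π}) ^ n • ⊤ : Submodule R M) ↔ ∃ t : M, x = π ^ n • t := by
  rw [Ideal.span_singleton_pow, Submodule.ideal_span_singleton_smul,
    Submodule.mem_smul_pointwise_iff_exists]
  constructor
  · rintro ⟨t, -, rfl⟩; exact ⟨t, rfl⟩
  · rintro ⟨t, rfl⟩; exact ⟨t, Submodule.mem_top, rfl⟩

theorem map_pow_smul (G : M →+ M) (hG : ∀ m, G (π • m) = π • G m) (n : ℕ) (m : M) :
    G (π ^ n • m) = π ^ n • G m := by
  induction n generalizing m with
  | zero => simp
  | succ n ih => rw [pow_succ, mul_smul, ih, hG, ← mul_smul]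

/-- If `G` is additive, commutes with multiplication by `π`, and is surjective modulo `π`,
then `G` is surjective, provided `M` is `π`-adically complete. -/
theorem surjective_of_surjective_mod
    [IsPrecomplete (Ideal.span {π}) M] [IsHausdorff (Ideal.span {π}) M]
    (G : M →+ M) (hG : ∀ m, G (π • m) = π • G m)
    (hmod : ∀ u : M, ∃ w z : M, G w = u + π • z) : Function.Surjective G := by
  intro u
  choose w z hwz using hmod
  -- the sequence of remainders
  let U : ℕ → M := fun n => Nat.rec u (fun _ x => - z x) n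
  have hU0 : U 0 = u := rfl
  have hUs : ∀ n, U (n + 1) = - z (U n) := fun n => rfl
  have hGw : ∀ n, G (w (U n)) = U n - π • U (n + 1) := by
    intro n
    rw [hwz, hUs, smul_neg, sub_neg_eq_add]
  let S : ℕ → M := fun N => ∑ n ∈ Finset.range N, π ^ n • w (U n)
  have hS : ∀ N, G (S N) = u - π ^ N • U N := by
    intro N
    induction N with
    | zero => simp [S, hU0]
    | succ N ih =>
      have : S (N + 1) = S N + π ^ N • w (U N) := Finset.sum_range_succ _ _
      rw [this, map_add, ih, map_pow_smul π G hG, hGw, smul_sub, pow_succ, mul_smul]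
      abel
  have hcauchy : ∀ {m n}, m ≤ n → S m ≡ S n [SMOD ((Ideal.span {π}) ^ m • ⊤ : Submodule R M)] := by
    intro m n hmn
    rw [SModEq.sub_mem]
    induction n, hmn using Nat.le_induction with
    | base => simp
    | succ n hmn ih =>
      have : S (n + 1) = S n + π ^ n • w (U n) := Finset.sum_range_succ _ _
      rw [this, ← sub_sub]
      refine Submodule.sub_mem _ ih ?_
      rw [mem_span_pow_smul_top_iff]
      refine ⟨π ^ (n - m) • w (U n), ?_⟩
      rw [← mul_smul, ← pow_add, Nat.add_sub_cancel' hmn]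
  obtain ⟨L, hL⟩ := IsPrecomplete.prec' (I := Ideal.span {π}) S hcauchy
  refine ⟨L, ?_⟩
  rw [← sub_eq_zero]
  refine IsHausdorff.haus' (I := Ideal.span {π}) _ fun n => ?_
  rw [SModEq.zero]
  have h1 := hL n
  rw [SModEq.sub_mem, mem_span_pow_smul_top_iff] at h1
  obtain ⟨t, ht⟩ := h1
  rw [mem_span_pow_smul_top_iff]
  refine ⟨-G t - U n, ?_⟩
  have hL' : L = S n - π ^ n • t := by rw [← ht]; abel
  rw [hL', map_sub, hS, map_pow_smul π G hG, smul_sub, smul_neg]
  abel

end surj

end Groth.Agent.Lib.Helper85.AdicBasis
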