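import Mathlib

/-!
# The "uncountable field" form of the Nullstellensatz

* `algebraMap_surjective_of_rank_le_aleph0`: a field extension of countable dimension of an
  uncountable algebraically closed field is trivial.
* `exists_maximal_avoiding`: in a finitely generated algebra over an uncountable algebraically
  closed field, given a prime `p` and countably many elements outside `p`, there is a maximal
  ideal containing `p` and avoiding all of them.
-/

universe u

namespace Groth.Agent.Lib.Helper85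

open Cardinal

theorem algebraMap_surjective_of_rank_le_aleph0 {k K : Type u} [Field k] [IsAlgClosed k]
    [Uncountable k] [Field K] [Algebra k K] (h : Module.rank k K ≤ ℵ₀) :
    Function.Surjective (algebraMap k K) := by
  have halg : Algebra.IsAlgebraic k K := ⟨fun t => by
    by_contra ht
    have hli := Transcendental.linearIndependent_sub_inv (F := k) (E := K) (x := t) ht
    have h1 := hli.cardinal_le_rank
    have h2 : ℵ₀ < #k := Cardinal.aleph0_lt_mk_iff.mpr inferInstance
    exact absurd (h1.trans h) (not_le.mpr h2)⟩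
  have : Algebra.IsIntegral k K := Algebra.IsAlgebraic.isIntegral
  exact IsAlgClosed.algebraMap_bijective_of_isIntegral.2

theorem rank_mvPolynomial_le_aleph0 (k : Type u) [Field k] (σ : Type) [Countable σ] :
    Module.rank k (MvPolynomial σ k) ≤ ℵ₀ := by
  rw [MvPolynomial.rank_eq_lift]
  have : #(σ →₀ ℕ) ≤ ℵ₀ := Cardinal.mk_le_aleph0
  calc lift.{u} #(σ →₀ ℕ) ≤ lift.{u} ℵ₀ := Cardinal.lift_le.mpr this
    _ = ℵ₀ := Cardinal.lift_aleph0

theorem exists_maximal_avoiding {k A : Type u} [Field k] [IsAlgClosed k] [Uncountable k]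
    [CommRing A] [Algebra k A] [Algebra.FiniteType k A] (p : Ideal A) [p.IsPrime]
    (f : ℕ → A) (hf : ∀ n, f n ∉ p) :
    ∃ m : Ideal A, m.IsMaximal ∧ p ≤ m ∧ ∀ n, f n ∉ m := by
  classical
  obtain ⟨n, g, hg⟩ := Algebra.FiniteType.iff_quotient_mvPolynomial''.mp
    (inferInstance : Algebra.FiniteType k A)
  let P := MvPolynomial ℕ A
  let Q := FractionRing (A ⧸ p)
  let ι : A →+* Q := (algebraMap (A ⧸ p) Q).comp (Ideal.Quotient.mk p)
  have hι : ∀ a : A, ι a = 0 ↔ a ∈ p := by
    intro a
    change algebraMap (A ⧸ p) Q (Ideal.Quotient.mk p a) = 0 ↔ _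
    rw [map_eq_zero_iff _ (IsFractionRing.injective (A ⧸ p) Q), Ideal.Quotient.eq_zero_iff_mem]
  let Φ : P →+* Q := MvPolynomial.eval₂Hom ι (fun n => (ι (f n))⁻¹)
  obtain ⟨M, hM, hle⟩ := Ideal.exists_le_maximal (RingHom.ker Φ) (RingHom.ker_ne_top Φ)
  let _ : Field (P ⧸ M) := Ideal.Quotient.field M
  -- the residue field has countable dimension
  have hrank : Module.rank k (P ⧸ M) ≤ ℵ₀ := by
    let Θ : MvPolynomial (ℕ ⊕ Fin n) k →ₐ[k] (P ⧸ M) :=
      (Ideal.Quotient.mkₐ k M).comp ((MvPolynomial.mapAlgHom g).comp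
        (MvPolynomial.sumAlgEquiv k ℕ (Fin n)).toAlgHom)
    have h1 : Function.Surjective (MvPolynomial.mapAlgHom (σ := ℕ) g) :=
      MvPolynomial.map_surjective g.toRingHom hg
    have hΘ : Function.Surjective Θ :=
      (Ideal.Quotient.mkₐ_surjective k M).comp
        (h1.comp (MvPolynomial.sumAlgEquiv k ℕ (Fin n)).surjective)
    exact (LinearMap.rank_le_of_surjective Θ.toLinearMap hΘ).trans
      (rank_mvPolynomial_le_aleph0 k _)
  have hsurj := algebraMap_surjective_of_rank_le_aleph0 hrank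
  let ψ : A →ₐ[k] (P ⧸ M) := (Ideal.Quotient.mkₐ k M).comp (IsScalarTower.toAlgHom k A P)
  have hψ : ∀ a : A, ψ a = Ideal.Quotient.mk M (MvPolynomial.C a) := fun a => rfl
  have hψsurj : Function.Surjective ψ := by
    intro y
    obtain ⟨c, rfl⟩ := hsurj y
    exact ⟨algebraMap k A c, ψ.commutes c⟩
  refine ⟨RingHom.ker ψ.toRingHom, RingHom.ker_isMaximal_of_surjective _ hψsurj, ?_, ?_⟩
  · intro a ha
    rw [RingHom.mem_ker]
    change ψ a = 0
    rw [hψ, Ideal.Quotient.eq_zero_iff_mem]
    apply hle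
    rw [RingHom.mem_ker]
    change MvPolynomial.eval₂Hom ι _ (MvPolynomial.C a) = 0
    rw [MvPolynomial.eval₂Hom_C]
    exact (hι a).mpr ha
  · intro j hj
    rw [RingHom.mem_ker] at hj
    change ψ (f j) = 0 at hj
    rw [hψ] at hj
    have hne : ι (f j) ≠ 0 := fun h0 => hf j ((hι _).mp h0)
    have hmem : MvPolynomial.C (f j) * MvPolynomial.X j - 1 ∈ RingHom.ker Φ := by
      rw [RingHom.mem_ker]
      change MvPolynomial.eval₂Hom ι _ _ = 0
      rw [map_sub, map_mul, MvPolynomial.eval₂Hom_C, MvPolynomial.eval₂Hom_X', map_one,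
        mul_inv_cancel₀ hne, sub_self]
    have h1 := Ideal.Quotient.eq_zero_iff_mem.mpr (hle hmem)
    rw [map_sub, map_mul, hj, zero_mul, map_one, zero_sub, neg_eq_zero] at h1
    exact one_ne_zero h1

end Groth.Agent.Lib.Helper85
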