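import Mathlib

/-! Two-branch `A_{2δ-1}` singularity ring `O ⊂ k⟦X⟧ × k⟦X⟧` and rank-one modules `J i` (helper85). -/

set_option autoImplicit false
universe u
open PowerSeries

namespace Groth.Agent.Lib.Helper85.AOdd

noncomputable section

variable {k : Type u} [Field k]

/-- division by `X^n` (shift of coefficients) -/
noncomputable def dv (n : ℕ) (f : k⟦X⟧) : k⟦X⟧ := PowerSeries.mk fun i => coeff (i + n) f

lemma dv_mul (n : ℕ) (f : k⟦X⟧) : dv n (X ^ n * f) = f := by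
  ext i
  simp only [dv, coeff_mk]
  exact PowerSeries.coeff_X_pow_mul f n i

lemma dv_add (n : ℕ) (f g : k⟦X⟧) : dv n (f + g) = dv n f + dv n g := by
  ext i; simp [dv]

lemma dv_neg (n : ℕ) (f : k⟦X⟧) : dv n (-f) = - dv n f := by
  ext i; simp [dv]

lemma dv_zero (n : ℕ) : dv n (0 : k⟦X⟧) = 0 := by
  ext i; simp [dv]

lemma mul_dv {n : ℕ} {f : k⟦X⟧} (h : X ^ n ∣ f) : X ^ n * dv n f = f := by
  obtain ⟨g, rfl⟩ := h
  rw [dv_mul]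

lemma dv_mul_left {n : ℕ} {f : k⟦X⟧} (h : X ^ n ∣ f) (r : k⟦X⟧) : dv n (r * f) = r * dv n f := by
  obtain ⟨g, rfl⟩ := h
  rw [dv_mul, show r * (X ^ n * g) = X ^ n * (r * g) by ring, dv_mul]

lemma Xpow_cancel {n : ℕ} {f g : k⟦X⟧} (h : X ^ n * f = X ^ n * g) : f = g :=
  mul_left_cancel₀ (pow_ne_zero n PowerSeries.X_ne_zero) h

/-- hypothesis describing the ring `O` -/
def IsO (δ : ℕ) (O : Subalgebra k (k⟦X⟧ × k⟦X⟧)) : Prop :=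
  ∀ f : k⟦X⟧ × k⟦X⟧, f ∈ O ↔ X ^ δ ∣ f.1 - f.2

lemma isO_of_order {δ : ℕ} {O : Subalgebra k (k⟦X⟧ × k⟦X⟧)}
    (hO : ∀ f : (k⟦X⟧ × k⟦X⟧), f ∈ O ↔ (δ : ℕ∞) ≤ PowerSeries.order (f.1 - f.2)) : IsO δ O := by
  intro f
  rw [hO f, PowerSeries.X_pow_dvd_iff]
  constructor
  · intro h m hm
    exact PowerSeries.coeff_of_lt_order m (lt_of_lt_of_le (by exact_mod_cast hm) h)
  · intro h
    exact PowerSeries.nat_le_order _ _ h

variable {δ : ℕ} {O : Subalgebra k (k⟦X⟧ × k⟦X⟧)}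

/-- diagonal element -/
def dg (h : IsO δ O) (r : k⟦X⟧) : O := ⟨(r, r), by rw [h]; simp⟩

/-- the element `(X^δ, 0)` -/
def ep (h : IsO δ O) : O := ⟨(X ^ δ, 0), by rw [h]; simp⟩

lemma mem_dvd (h : IsO δ O) (a : O) : X ^ δ ∣ (a : k⟦X⟧ × k⟦X⟧).1 - (a : k⟦X⟧ × k⟦X⟧).2 :=
  (h _).mp a.2

lemma smul_fst (a : O) (b : k⟦X⟧ × k⟦X⟧) : (a • b).1 = (a : k⟦X⟧ × k⟦X⟧).1 * b.1 := rfl
lemma smul_snd (a : O) (b : k⟦X⟧ × k⟦X⟧) : (a • b).2 = (a : k⟦X⟧ × k⟦X⟧).2 * b.2 := rfl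

/-- the module `J i = {(f,g) : X^i ∣ g, X^δ ∣ f - g}` -/
def J (h : IsO δ O) (i : ℕ) : Submodule O (k⟦X⟧ × k⟦X⟧) where
  carrier := {p | X ^ i ∣ p.2 ∧ X ^ δ ∣ p.1 - p.2}
  add_mem' := by
    rintro p q ⟨hp1, hp2⟩ ⟨hq1, hq2⟩
    refine ⟨dvd_add hp1 hq1, ?_⟩
    have : (p + q).1 - (p + q).2 = (p.1 - p.2) + (q.1 - q.2) := by
      simp only [Prod.fst_add, Prod.snd_add]; ring
    rw [this]
    exact dvd_add hp2 hq2
  zero_mem' := by simp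
  smul_mem' := by
    rintro a p ⟨hp1, hp2⟩
    refine ⟨?_, ?_⟩
    · rw [smul_snd]; exact Dvd.dvd.mul_left hp1 _
    · rw [smul_fst, smul_snd]
      have : (a : k⟦X⟧ × k⟦X⟧).1 * p.1 - (a : k⟦X⟧ × k⟦X⟧).2 * p.2
          = (a : k⟦X⟧ × k⟦X⟧).1 * (p.1 - p.2)
            + ((a : k⟦X⟧ × k⟦X⟧).1 - (a : k⟦X⟧ × k⟦X⟧).2) * p.2 := by ring
      rw [this]
      exact dvd_add (Dvd.dvd.mul_left hp2 _) (Dvd.dvd.mul_right (mem_dvd h a) _)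

instance instModJ (h : IsO δ O) (i : ℕ) : Module O (J h i) := Submodule.module _
instance instSMulJ (h : IsO δ O) (i : ℕ) : SMul O (J h i) := Submodule.smul _

lemma mem_J (h : IsO δ O) (i : ℕ) (p : k⟦X⟧ × k⟦X⟧) :
    p ∈ J h i ↔ X ^ i ∣ p.2 ∧ X ^ δ ∣ p.1 - p.2 := Iff.rfl

lemma J_decomp (h : IsO δ O) (i : ℕ) {p : k⟦X⟧ × k⟦X⟧} (hp : p ∈ J h i) :
    p = dg h (dv i p.2) • ((X : k⟦X⟧) ^ i, (X : k⟦X⟧) ^ i)
      + dg h (dv δ (p.1 - p.2)) • ((X : k⟦X⟧) ^ δ, (0 : k⟦X⟧)) := by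
  obtain ⟨h1, h2⟩ := hp
  apply Prod.ext
  · simp only [Prod.fst_add, smul_fst, dg]
    rw [mul_comm _ (X ^ i), mul_dv h1, mul_comm _ (X ^ δ), mul_dv h2]
    ring
  · simp only [Prod.snd_add, smul_snd, dg]
    rw [mul_comm _ (X ^ i), mul_dv h1]
    ring

lemma span_eq_J (h : IsO δ O) (i : ℕ) :
    Submodule.span O ({((X : k⟦X⟧) ^ i, (X : k⟦X⟧) ^ i), ((X : k⟦X⟧) ^ δ, 0)} :
      Set (k⟦X⟧ × k⟦X⟧)) = J h i := by
  apply le_antisymm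
  · rw [Submodule.span_le]
    rintro p (rfl | rfl)
    · exact ⟨dvd_refl _, by simp⟩
    · exact ⟨dvd_zero _, by simp⟩
  · intro p hp
    rw [J_decomp h i hp]
    apply Submodule.add_mem
    · exact Submodule.smul_mem _ _ (Submodule.subset_span (by simp))
    · exact Submodule.smul_mem _ _ (Submodule.subset_span (by simp))

end

end Groth.Agent.Lib.Helper85.AOdd
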