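import Mathlib
import Groth.Agent.Lib.Helper85.AOdd1

/-! Presentation of `J i` and its kernel (helper85). -/

set_option autoImplicit false
universe u
open PowerSeries

namespace Groth.Agent.Lib.Helper85.AOdd

noncomputable section

variable {k : Type u} [Field k] {δ : ℕ} {O : Subalgebra k (k⟦X⟧ × k⟦X⟧)}

local notation "P" => (k⟦X⟧ × k⟦X⟧)

/-- first generator -/
def e1 (h : IsO δ O) (i : ℕ) : J h i := ⟨((X : k⟦X⟧) ^ i, (X : k⟦X⟧) ^ i), ⟨dvd_refl _, by simp⟩⟩
/-- second generator -/
def e2 (h : IsO δ O) (i : ℕ) : J h i := ⟨((X : k⟦X⟧) ^ δ, 0), ⟨dvd_zero _, by simp⟩⟩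

/-- the presentation `O² → J i` -/
def pres (h : IsO δ O) (i : ℕ) : (O × O) →ₗ[O] J h i :=
  (LinearMap.toSpanSingleton O (J h i) (e1 h i)).coprod
    (LinearMap.toSpanSingleton O (J h i) (e2 h i))

lemma pres_apply (h : IsO δ O) (i : ℕ) (w : O × O) :
    pres h i w = w.1 • e1 h i + w.2 • e2 h i := by
  simp [pres, LinearMap.coprod_apply, LinearMap.toSpanSingleton_apply]

lemma pres_fst (h : IsO δ O) (i : ℕ) (w : O × O) :
    ((pres h i w : J h i) : P).1 = (w.1 : P).1 * X ^ i + (w.2 : P).1 * X ^ δ := by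
  rw [pres_apply]
  simp only [Submodule.coe_add, Submodule.coe_smul, Prod.fst_add, smul_fst, e1, e2]

lemma pres_snd (h : IsO δ O) (i : ℕ) (w : O × O) :
    ((pres h i w : J h i) : P).2 = (w.1 : P).2 * X ^ i := by
  rw [pres_apply]
  simp only [Submodule.coe_add, Submodule.coe_smul, Prod.snd_add, smul_snd, e1, e2, mul_zero,
    add_zero]

lemma pres_surjective (h : IsO δ O) (i : ℕ) : Function.Surjective (pres h i) := by
  rintro ⟨p, hp⟩
  refine ⟨(dg h (dv i p.2), dg h (dv δ (p.1 - p.2))), ?_⟩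
  apply Subtype.ext
  rw [pres_apply]
  simp only [Submodule.coe_add, Submodule.coe_smul, e1, e2]
  exact (J_decomp h i hp).symm

lemma ker_snd_zero (h : IsO δ O) (i : ℕ) {w : O × O} (hw : pres h i w = 0) :
    (w.1 : P).2 = 0 := by
  have := congrArg (fun z : J h i => (z : P).2) hw
  simp only [pres_snd, Submodule.coe_zero, Prod.snd_zero] at this
  rcases mul_eq_zero.mp this with h0 | h0
  · exact h0
  · exact absurd h0 (pow_ne_zero i PowerSeries.X_ne_zero)

lemma ker_fst (h : IsO δ O) (i : ℕ) {w : O × O} (hw : pres h i w = 0) :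
    (w.1 : P).1 * X ^ i + (w.2 : P).1 * X ^ δ = 0 := by
  have := congrArg (fun z : J h i => (z : P).1) hw
  simpa only [pres_fst, Submodule.coe_zero, Prod.fst_zero] using this

instance instModKer (h : IsO δ O) (i : ℕ) : Module O (LinearMap.ker (pres h i)) :=
  Submodule.module _
instance instSMulKer (h : IsO δ O) (i : ℕ) : SMul O (LinearMap.ker (pres h i)) :=
  Submodule.smul _

/-- first kernel generator `(-ε, X^i)` -/
def kap1 (h : IsO δ O) (i : ℕ) : LinearMap.ker (pres h i) :=
  ⟨(-ep h, dg h (X ^ i)), by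
    rw [LinearMap.mem_ker]
    apply Subtype.ext
    apply Prod.ext
    · rw [pres_fst]
      simp only [ep, dg, Subalgebra.coe_neg, Prod.fst_neg, Submodule.coe_zero, Prod.fst_zero]
      ring
    · rw [pres_snd]
      simp only [ep, Subalgebra.coe_neg, Prod.snd_neg, Submodule.coe_zero, Prod.snd_zero]
      ring⟩

/-- second kernel generator `(0, ε - X^δ)` -/
def kap2 (h : IsO δ O) (i : ℕ) : LinearMap.ker (pres h i) :=
  ⟨(0, ep h - dg h (X ^ δ)), by
    rw [LinearMap.mem_ker]
    apply Subtype.ext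
    apply Prod.ext
    · rw [pres_fst]
      simp only [ep, dg, Subalgebra.coe_sub, Prod.fst_sub, Submodule.coe_zero, Prod.fst_zero,
        Subalgebra.coe_zero]
      ring
    · rw [pres_snd]
      simp only [Submodule.coe_zero, Prod.snd_zero, Subalgebra.coe_zero]
      ring⟩

lemma ker_decomp (h : IsO δ O) (i : ℕ) (w : LinearMap.ker (pres h i)) :
    w = dg h (- dv δ ((w.1.1 : P).1)) • kap1 h i
      + dg h (dv δ ((w.1.2 : P).1 - (w.1.2 : P).2)) • kap2 h i := by
  have hw : pres h i w.1 = 0 := w.2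
  have h2 := ker_snd_zero h i hw
  have h1 := ker_fst h i hw
  have hu : X ^ δ ∣ (w.1.1 : P).1 := by
    have := mem_dvd h w.1.1
    rwa [h2, sub_zero] at this
  have hv := mem_dvd h w.1.2
  have hu' := mul_dv hu
  have hv' := mul_dv hv
  set α' := dv δ ((w.1.1 : P).1) with hα
  set β := dv δ ((w.1.2 : P).1 - (w.1.2 : P).2) with hβ
  -- v1 = - α' X^i
  have hv1 : (w.1.2 : P).1 = - α' * X ^ i := by
    apply Xpow_cancel (n := δ)
    have : X ^ δ * (w.1.2 : P).1 = - ((w.1.1 : P).1 * X ^ i) := by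
      linear_combination h1
    rw [this, ← hu']
    ring
  have hv2 : (w.1.2 : P).2 = - α' * X ^ i - X ^ δ * β := by rw [hv', hv1]; ring
  apply Subtype.ext
  apply Prod.ext
  · apply Subtype.ext
    apply Prod.ext
    · simp only [kap1, kap2, dg, ep, Submodule.coe_add, Submodule.coe_smul, Prod.fst_add,
        Prod.smul_fst, smul_eq_mul, Subalgebra.coe_add, Subalgebra.coe_mul, Subalgebra.coe_neg,
        Subalgebra.coe_sub, Subalgebra.coe_zero, Prod.mk_mul_mk, Prod.mk_add_mk, Prod.mk_sub_mk,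
        Prod.neg_mk, Prod.mk_zero_zero, mul_zero, add_zero, neg_zero]
      rw [← hu']
      ring
    · simp only [kap1, kap2, dg, ep, Submodule.coe_add, Submodule.coe_smul, Prod.fst_add,
        Prod.smul_fst, smul_eq_mul, Subalgebra.coe_add, Subalgebra.coe_mul, Subalgebra.coe_neg,
        Subalgebra.coe_sub, Subalgebra.coe_zero, Prod.mk_mul_mk, Prod.mk_add_mk, Prod.mk_sub_mk,
        Prod.neg_mk, Prod.mk_zero_zero, mul_zero, add_zero, neg_zero]
      exact h2
  · apply Subtype.ext
    apply Prod.ext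
    · simp only [kap1, kap2, dg, ep, Submodule.coe_add, Submodule.coe_smul, Prod.snd_add,
        Prod.smul_snd, smul_eq_mul, Subalgebra.coe_add, Subalgebra.coe_mul, Subalgebra.coe_neg,
        Subalgebra.coe_sub, Subalgebra.coe_zero, Prod.mk_mul_mk, Prod.mk_add_mk, Prod.mk_sub_mk,
        Prod.neg_mk, Prod.mk_zero_zero, mul_zero, add_zero, neg_zero]
      rw [hv1]
      ring
    · simp only [kap1, kap2, dg, ep, Submodule.coe_add, Submodule.coe_smul, Prod.snd_add,
        Prod.smul_snd, smul_eq_mul, Subalgebra.coe_add, Subalgebra.coe_mul, Subalgebra.coe_neg,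
        Subalgebra.coe_sub, Subalgebra.coe_zero, Prod.mk_mul_mk, Prod.mk_add_mk, Prod.mk_sub_mk,
        Prod.neg_mk, Prod.mk_zero_zero, mul_zero, add_zero, neg_zero]
      rw [hv2]
      ring

end

end Groth.Agent.Lib.Helper85.AOdd
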