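import Mathlib
import Groth.Agent.Lib.Helper85.AOdd2

/-! Homomorphisms `ker(pres i) → J j` (helper85). -/

set_option autoImplicit false
universe u
open PowerSeries

namespace Groth.Agent.Lib.Helper85.AOdd

noncomputable section

variable {k : Type u} [Field k] {δ : ℕ} {O : Subalgebra k (k⟦X⟧ × k⟦X⟧)}

local notation "P" => (k⟦X⟧ × k⟦X⟧)

lemma ep_smul_kap2 (h : IsO δ O) (i : ℕ) : ep h • kap2 h i = 0 := by
  apply Subtype.ext
  apply Prod.ext
  · apply Subtype.ext
    apply Prod.ext <;>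
    simp only [kap2, dg, ep, Submodule.coe_smul, Prod.smul_fst, smul_eq_mul, Subalgebra.coe_mul,
      Subalgebra.coe_zero, Submodule.coe_zero, Prod.fst_zero, Prod.snd_zero, mul_zero,
      Prod.mk_zero_zero]
  · apply Subtype.ext
    apply Prod.ext <;>
    simp only [kap2, dg, ep, Submodule.coe_smul, Prod.smul_snd, smul_eq_mul, Subalgebra.coe_mul,
      Subalgebra.coe_sub, Subalgebra.coe_zero, Submodule.coe_zero, Prod.snd_zero, Prod.mk_mul_mk,
      Prod.mk_sub_mk, sub_self, mul_zero, zero_mul, Prod.mk_zero_zero, Prod.fst_zero]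

lemma ep_smul_kap1 (h : IsO δ O) (i : ℕ) :
    ep h • kap1 h i = dg h (X ^ δ) • kap1 h i + dg h (X ^ i) • kap2 h i := by
  apply Subtype.ext
  apply Prod.ext
  · apply Subtype.ext
    apply Prod.ext <;>
    simp only [kap1, kap2, dg, ep, Submodule.coe_smul, Submodule.coe_add, Prod.smul_fst,
      Prod.fst_add, smul_eq_mul, Subalgebra.coe_mul, Subalgebra.coe_add, Subalgebra.coe_neg,
      Subalgebra.coe_zero, Prod.mk_mul_mk, Prod.mk_add_mk, Prod.neg_mk, mul_zero, add_zero,
      neg_zero, Prod.mk_zero_zero] <;> ring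
  · apply Subtype.ext
    apply Prod.ext <;>
    simp only [kap1, kap2, dg, ep, Submodule.coe_smul, Submodule.coe_add, Prod.smul_snd,
      Prod.snd_add, smul_eq_mul, Subalgebra.coe_mul, Subalgebra.coe_add, Subalgebra.coe_sub,
      Prod.mk_mul_mk, Prod.mk_add_mk, Prod.mk_sub_mk, mul_zero, zero_mul, zero_sub] <;> ring

section Hom

variable (h : IsO δ O) (i j : ℕ) (φ : LinearMap.ker (pres h i) →ₗ[O] J h j)

lemma hom_y1 : ((φ (kap2 h i) : J h j) : P).1 = 0 := by
  have h1 : ep h • φ (kap2 h i) = 0 := by rw [← map_smul, ep_smul_kap2, map_zero]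
  have h2 := congrArg (fun z : J h j => (z : P).1) h1
  simp only [Submodule.coe_smul, smul_fst, ep, Submodule.coe_zero, Prod.fst_zero] at h2
  rcases mul_eq_zero.mp h2 with h0 | h0
  · exact absurd h0 (pow_ne_zero δ PowerSeries.X_ne_zero)
  · exact h0

lemma hom_rel : X ^ δ * ((φ (kap1 h i) : J h j) : P).2
    + X ^ i * ((φ (kap2 h i) : J h j) : P).2 = 0 := by
  have h1 : ep h • φ (kap1 h i) = dg h (X ^ δ) • φ (kap1 h i) + dg h (X ^ i) • φ (kap2 h i) := by
    rw [← map_smul, ep_smul_kap1, map_add, map_smul, map_smul]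
  have h2 := congrArg (fun z : J h j => (z : P).2) h1
  simp only [Submodule.coe_smul, Submodule.coe_add, Prod.snd_add, smul_snd, ep, dg,
    zero_mul] at h2
  exact h2.symm

lemma hom_y2_dvd : X ^ δ ∣ ((φ (kap2 h i) : J h j) : P).2 := by
  have := (φ (kap2 h i)).2.2
  rw [hom_y1, zero_sub] at this
  exact (dvd_neg).mp this

lemma hom_y2 : ((φ (kap2 h i) : J h j) : P).2
    = X ^ δ * dv δ (((φ (kap2 h i) : J h j) : P).2) := (mul_dv (hom_y2_dvd h i j φ)).symm

lemma hom_x2 : ((φ (kap1 h i) : J h j) : P).2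
    = - X ^ i * dv δ (((φ (kap2 h i) : J h j) : P).2) := by
  apply Xpow_cancel (n := δ)
  have h1 := hom_rel h i j φ
  have h2 := hom_y2 h i j φ
  linear_combination h1 - X ^ i * h2

lemma hom_c_dvd : X ^ (j - i) ∣ dv δ (((φ (kap2 h i) : J h j) : P).2) := by
  rcases Nat.lt_or_ge i j with hij | hij
  · have h1 : X ^ j ∣ ((φ (kap1 h i) : J h j) : P).2 := (φ (kap1 h i)).2.1
    rw [hom_x2] at h1
    obtain ⟨g, hg⟩ := h1
    refine ⟨-g, ?_⟩
    apply Xpow_cancel (n := i)
    have : (X : k⟦X⟧) ^ j = X ^ i * X ^ (j - i) := by rw [← pow_add]; congr 1; omega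
    rw [this] at hg
    linear_combination - hg
  · have : j - i = 0 := by omega
    rw [this, pow_zero]
    exact one_dvd _

lemma hom_y2_dvd' : X ^ (δ + (j - i)) ∣ ((φ (kap2 h i) : J h j) : P).2 := by
  rw [hom_y2, pow_add]
  exact mul_dvd_mul_left _ (hom_c_dvd h i j φ)

lemma hom_z_dvd : X ^ δ ∣ ((φ (kap1 h i) : J h j) : P).1 - ((φ (kap1 h i) : J h j) : P).2 :=
  (φ (kap1 h i)).2.2

end Hom

end

end Groth.Agent.Lib.Helper85.AOdd
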