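import Mathlib
import Groth.Agent.Lib.Helper85.AOdd3

/-! The map `Ψ : Hom(ker, J j) → (R/X^m)²` (helper85). -/

set_option autoImplicit false
universe u
open PowerSeries

namespace Groth.Agent.Lib.Helper85.AOdd

noncomputable section

variable {k : Type u} [Field k] {δ : ℕ} {O : Subalgebra k (k⟦X⟧ × k⟦X⟧)}

local notation "P" => (k⟦X⟧ × k⟦X⟧)

/-- first projection `O → k⟦X⟧` -/
def pr1 (O : Subalgebra k (k⟦X⟧ × k⟦X⟧)) : O →+* k⟦X⟧ :=
  (RingHom.fst k⟦X⟧ k⟦X⟧).comp (O.val : O →+* (k⟦X⟧ × k⟦X⟧))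

lemma pr1_apply (a : O) : pr1 O a = (a : P).1 := rfl

/-- `k⟦X⟧` as an `O`-algebra via the first projection -/
@[reducible] def algR (O : Subalgebra k (k⟦X⟧ × k⟦X⟧)) : Algebra O k⟦X⟧ := (pr1 O).toAlgebra

attribute [local instance] algR

lemma algebraMap_apply (a : O) : algebraMap O k⟦X⟧ a = (a : P).1 := rfl

lemma smul_R (a : O) (f : k⟦X⟧) : a • f = (a : P).1 * f := by
  rw [Algebra.smul_def, algebraMap_apply]

lemma algebraMap_surjective (h : IsO δ O) : Function.Surjective (algebraMap O k⟦X⟧) := by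
  intro r
  exact ⟨dg h r, rfl⟩

/-- the ideal `(X^m)` as power of the maximal ideal -/
def Im (k : Type u) [Field k] (m : ℕ) : Ideal k⟦X⟧ := (IsLocalRing.maximalIdeal k⟦X⟧) ^ m

lemma mem_Im (m : ℕ) (f : k⟦X⟧) : f ∈ Im k m ↔ X ^ m ∣ f := by
  rw [Im, PowerSeries.maximalIdeal_eq_span_X, Ideal.span_singleton_pow, Ideal.mem_span_singleton]

lemma mk_eq_zero_iff (m : ℕ) (f : k⟦X⟧) :
    (Submodule.Quotient.mk f : k⟦X⟧ ⧸ Im k m) = 0 ↔ X ^ m ∣ f := by
  rw [Submodule.Quotient.mk_eq_zero, mem_Im]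

lemma mk_eq_mk_iff (m : ℕ) (f g : k⟦X⟧) :
    (Submodule.Quotient.mk f : k⟦X⟧ ⧸ Im k m) = Submodule.Quotient.mk g ↔ X ^ m ∣ f - g := by
  rw [Submodule.Quotient.eq, mem_Im]

lemma smul_mk (m : ℕ) (a : O) (f : k⟦X⟧) :
    a • (Submodule.Quotient.mk f : k⟦X⟧ ⧸ Im k m) = Submodule.Quotient.mk ((a : P).1 * f) := by
  rw [← Submodule.Quotient.mk_smul, smul_R]

section Psi

variable (h : IsO δ O) (i j : ℕ)

/-- the map `Ψ` -/
def Psi (hi : i ≤ δ) (hj : j ≤ δ) :
    (LinearMap.ker (pres h i) →ₗ[O] J h j) →ₗ[O]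
      ((k⟦X⟧ ⧸ Im k (min i j)) × (k⟦X⟧ ⧸ Im k (min i j))) where
  toFun φ := (Submodule.Quotient.mk (dv (δ + (j - i)) (((φ (kap2 h i) : J h j) : P).2)),
    Submodule.Quotient.mk
      (dv δ (((φ (kap1 h i) : J h j) : P).1 - ((φ (kap1 h i) : J h j) : P).2)))
  map_add' φ ψ := by
    apply Prod.ext
    · simp only [LinearMap.add_apply, Submodule.coe_add, Prod.snd_add, dv_add, Prod.fst_add,
        Submodule.Quotient.mk_add]
    · simp only [LinearMap.add_apply, Submodule.coe_add, Prod.snd_add, Prod.fst_add, Prod.snd_add,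
        Submodule.Quotient.mk_add]
      rw [← Submodule.Quotient.mk_add, ← dv_add]
      congr 2
      ring
  map_smul' a φ := by
    have hmi : min i j ≤ i := min_le_left _ _
    have hmδ : min i j ≤ δ := le_trans hmi hi
    obtain ⟨γ, hγ⟩ := mem_dvd h a
    apply Prod.ext
    · simp only [LinearMap.smul_apply, Submodule.coe_smul, smul_snd, RingHom.id_apply,
        Prod.smul_fst]
      rw [dv_mul_left (hom_y2_dvd' h i j φ), smul_mk, mk_eq_mk_iff]
      have : (a : P).2 * dv (δ + (j - i)) (((φ (kap2 h i) : J h j) : P).2)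
          - (a : P).1 * dv (δ + (j - i)) (((φ (kap2 h i) : J h j) : P).2)
          = - (X ^ δ * γ) * dv (δ + (j - i)) (((φ (kap2 h i) : J h j) : P).2) := by
        rw [← hγ]; ring
      rw [this]
      apply Dvd.dvd.mul_right
      rw [dvd_neg]
      exact Dvd.dvd.mul_right (pow_dvd_pow _ hmδ) _
    · simp only [LinearMap.smul_apply, Submodule.coe_smul, smul_snd, smul_fst, RingHom.id_apply,
        Prod.smul_snd]
      rw [smul_mk, mk_eq_mk_iff]
      set x1 := ((φ (kap1 h i) : J h j) : P).1 with hx1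
      set x2 := ((φ (kap1 h i) : J h j) : P).2 with hx2
      have hz := hom_z_dvd h i j φ
      have e1 : (a : P).1 * x1 - (a : P).2 * x2 = (a : P).1 * (x1 - x2) + X ^ δ * (γ * x2) := by
        have : (a : P).1 * x1 - (a : P).2 * x2
            = (a : P).1 * (x1 - x2) + ((a : P).1 - (a : P).2) * x2 := by ring
        rw [this, hγ]; ring
      rw [e1, dv_add, dv_mul_left hz, dv_mul, add_sub_cancel_left]
      apply Dvd.dvd.mul_left
      rw [hx2, hom_x2]
      apply Dvd.dvd.mul_right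
      rw [dvd_neg]
      exact pow_dvd_pow _ hmi

end Psi

end

end Groth.Agent.Lib.Helper85.AOdd
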