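import Mathlib
import Groth.Agent.Lib.Helper85.AOdd4

/-! Construction of homomorphisms out of the kernel; surjectivity of `Ψ` (helper85). -/

set_option autoImplicit false
universe u
open PowerSeries

namespace Groth.Agent.Lib.Helper85.AOdd

noncomputable section

variable {k : Type u} [Field k] {δ : ℕ} {O : Subalgebra k (k⟦X⟧ × k⟦X⟧)}

local notation "P" => (k⟦X⟧ × k⟦X⟧)

lemma dv_self (n : ℕ) : dv n ((X : k⟦X⟧) ^ n) = 1 := by
  have := dv_mul n (1 : k⟦X⟧)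
  rwa [mul_one] at this

lemma ker_u_dvd (h : IsO δ O) (i : ℕ) (w : LinearMap.ker (pres h i)) :
    X ^ δ ∣ (w.1.1 : P).1 := by
  have h2 := ker_snd_zero h i (show pres h i w.1 = 0 from w.2)
  have := mem_dvd h w.1.1
  rwa [h2, sub_zero] at this

lemma ker_v1 (h : IsO δ O) (i : ℕ) (w : LinearMap.ker (pres h i)) :
    (w.1.2 : P).1 = - dv δ ((w.1.1 : P).1) * X ^ i := by
  have h1 := ker_fst h i (show pres h i w.1 = 0 from w.2)
  have hu' := mul_dv (ker_u_dvd h i w)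
  apply Xpow_cancel (n := δ)
  linear_combination h1 + X ^ i * hu'

lemma lin_fst (h : IsO δ O) (j : ℕ) (a b : k⟦X⟧) (x y : J h j) :
    ((dg h a • x + dg h b • y : J h j) : P).1 = a * (x : P).1 + b * (y : P).1 := by
  simp only [Submodule.coe_add, Submodule.coe_smul, Prod.fst_add, smul_fst, dg]

lemma lin_snd (h : IsO δ O) (j : ℕ) (a b : k⟦X⟧) (x y : J h j) :
    ((dg h a • x + dg h b • y : J h j) : P).2 = a * (x : P).2 + b * (y : P).2 := by
  simp only [Submodule.coe_add, Submodule.coe_smul, Prod.snd_add, smul_snd, dg]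

lemma smul_lin_fst (h : IsO δ O) (j : ℕ) (a : O) (A B : k⟦X⟧) (x y : J h j) :
    ((a • (dg h A • x + dg h B • y) : J h j) : P).1
      = (a : P).1 * (A * (x : P).1 + B * (y : P).1) := by
  rw [Submodule.coe_smul, smul_fst, lin_fst]

lemma smul_lin_snd (h : IsO δ O) (j : ℕ) (a : O) (A B : k⟦X⟧) (x y : J h j) :
    ((a • (dg h A • x + dg h B • y) : J h j) : P).2
      = (a : P).2 * (A * (x : P).2 + B * (y : P).2) := by
  rw [Submodule.coe_smul, smul_snd, lin_snd]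

section mk

variable (h : IsO δ O) (i j : ℕ)

/-- the homomorphism with prescribed values on `κ₁, κ₂` -/
def mkHom (x y : J h j) (c' : k⟦X⟧) (hy1 : (y : P).1 = 0) (hy2 : (y : P).2 = X ^ δ * c')
    (hx2 : (x : P).2 = - X ^ i * c') : LinearMap.ker (pres h i) →ₗ[O] J h j where
  toFun w := dg h (- dv δ ((w.1.1 : P).1)) • x
    + dg h (dv δ ((w.1.2 : P).1 - (w.1.2 : P).2)) • y
  map_add' w w' := by
    have e : ((w.1.2 : P).1 + (w'.1.2 : P).1 - ((w.1.2 : P).2 + (w'.1.2 : P).2))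
        = ((w.1.2 : P).1 - (w.1.2 : P).2) + ((w'.1.2 : P).1 - (w'.1.2 : P).2) := by ring
    apply Subtype.ext
    apply Prod.ext
    · simp only [Submodule.coe_add, Submodule.coe_smul, Prod.fst_add, Prod.snd_add,
        Subalgebra.coe_add, smul_fst, smul_snd, dg]
      rw [dv_add, e, dv_add]
      ring
    · simp only [Submodule.coe_add, Submodule.coe_smul, Prod.fst_add, Prod.snd_add,
        Subalgebra.coe_add, smul_fst, smul_snd, dg]
      rw [dv_add, e, dv_add]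
      ring
  map_smul' a w := by
    have hu := ker_u_dvd h i w
    have hv := mem_dvd h w.1.2
    have hv1 := ker_v1 h i w
    obtain ⟨γ, hγ⟩ := mem_dvd h a
    have hβ := mul_dv hv
    have hα := mul_dv hu
    have e1 : (a : P).1 * (w.1.2 : P).1 - (a : P).2 * (w.1.2 : P).2
        = X ^ δ * ((a : P).1 * dv δ ((w.1.2 : P).1 - (w.1.2 : P).2) + γ * (w.1.2 : P).2) := by
      linear_combination (a : P).1 * hβ.symm + (w.1.2 : P).2 * hγ
    have hv2 : (w.1.2 : P).2 = - dv δ ((w.1.1 : P).1) * X ^ i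
        - X ^ δ * dv δ ((w.1.2 : P).1 - (w.1.2 : P).2) := by
      rw [hβ, ← hv1]; ring
    have ha2 : (a : P).2 = (a : P).1 - X ^ δ * γ := by rw [← hγ]; ring
    apply Subtype.ext
    apply Prod.ext
    · show ((dg h (- dv δ ((a : P).1 * (w.1.1 : P).1)) • x
          + dg h (dv δ ((a : P).1 * (w.1.2 : P).1 - (a : P).2 * (w.1.2 : P).2)) • y : J h j) : P).1
        = ((a • (dg h (- dv δ ((w.1.1 : P).1)) • x
          + dg h (dv δ ((w.1.2 : P).1 - (w.1.2 : P).2)) • y) : J h j) : P).1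
      rw [smul_lin_fst, lin_fst, hy1, dv_mul_left hu]
      ring
    · show ((dg h (- dv δ ((a : P).1 * (w.1.1 : P).1)) • x
          + dg h (dv δ ((a : P).1 * (w.1.2 : P).1 - (a : P).2 * (w.1.2 : P).2)) • y : J h j) : P).2
        = ((a • (dg h (- dv δ ((w.1.1 : P).1)) • x
          + dg h (dv δ ((w.1.2 : P).1 - (w.1.2 : P).2)) • y) : J h j) : P).2
      rw [smul_lin_snd, lin_snd, dv_mul_left hu, e1, dv_mul, hx2, hy2]
      generalize dv δ ((w.1.2 : P).1 - (w.1.2 : P).2) = β at hv2 ⊢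
      generalize dv δ ((w.1.1 : P).1) = α' at hv2 ⊢
      rw [hv2, ha2]
      ring

variable {h i j}

lemma mkHom_apply (x y : J h j) (c' : k⟦X⟧) (hy1 : (y : P).1 = 0) (hy2 : (y : P).2 = X ^ δ * c')
    (hx2 : (x : P).2 = - X ^ i * c') (w : LinearMap.ker (pres h i)) :
    mkHom h i j x y c' hy1 hy2 hx2 w = dg h (- dv δ ((w.1.1 : P).1)) • x
    + dg h (dv δ ((w.1.2 : P).1 - (w.1.2 : P).2)) • y := rfl

lemma mkHom_kap1 (x y : J h j) (c' : k⟦X⟧) (hy1 : (y : P).1 = 0) (hy2 : (y : P).2 = X ^ δ * c')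
    (hx2 : (x : P).2 = - X ^ i * c') : mkHom h i j x y c' hy1 hy2 hx2 (kap1 h i) = x := by
  rw [mkHom_apply]
  have a1 : (((kap1 h i).1.1 : O) : P).1 = - X ^ δ := rfl
  have a2 : (((kap1 h i).1.2 : O) : P).1 = X ^ i := rfl
  have a3 : (((kap1 h i).1.2 : O) : P).2 = X ^ i := rfl
  apply Subtype.ext
  apply Prod.ext
  · rw [lin_fst, a1, a2, a3, dv_neg, dv_self, sub_self, dv_zero]; ring
  · rw [lin_snd, a1, a2, a3, dv_neg, dv_self, sub_self, dv_zero]; ring

lemma mkHom_kap2 (x y : J h j) (c' : k⟦X⟧) (hy1 : (y : P).1 = 0) (hy2 : (y : P).2 = X ^ δ * c')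
    (hx2 : (x : P).2 = - X ^ i * c') : mkHom h i j x y c' hy1 hy2 hx2 (kap2 h i) = y := by
  rw [mkHom_apply]
  have a1 : (((kap2 h i).1.1 : O) : P).1 = 0 := rfl
  have a2 : (((kap2 h i).1.2 : O) : P).1 = X ^ δ - X ^ δ := rfl
  have a3 : (((kap2 h i).1.2 : O) : P).2 = 0 - X ^ δ := rfl
  apply Subtype.ext
  apply Prod.ext
  · rw [lin_fst, a1, a2, a3, dv_zero, show (X : k⟦X⟧) ^ δ - X ^ δ - (0 - X ^ δ) = X ^ δ by ring,
      dv_self]; ring
  · rw [lin_snd, a1, a2, a3, dv_zero, show (X : k⟦X⟧) ^ δ - X ^ δ - (0 - X ^ δ) = X ^ δ by ring,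
      dv_self]; ring

end mk

lemma Psi_apply (h : IsO δ O) (i j : ℕ) (hi : i ≤ δ) (hj : j ≤ δ)
    (φ : LinearMap.ker (pres h i) →ₗ[O] J h j) :
    Psi h i j hi hj φ = (Submodule.Quotient.mk (dv (δ + (j - i)) (((φ (kap2 h i) : J h j) : P).2)),
    Submodule.Quotient.mk
      (dv δ (((φ (kap1 h i) : J h j) : P).1 - ((φ (kap1 h i) : J h j) : P).2))) := rfl

lemma Psi_surjective (h : IsO δ O) (i j : ℕ) (hi : i ≤ δ) (hj : j ≤ δ) :
    Function.Surjective (Psi h i j hi hj) := by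
  rintro ⟨q1, q2⟩
  obtain ⟨c'', rfl⟩ := Submodule.Quotient.mk_surjective _ q1
  obtain ⟨z', rfl⟩ := Submodule.Quotient.mk_surjective _ q2
  set c' : k⟦X⟧ := X ^ (j - i) * c'' with hc'
  have hjle : (X : k⟦X⟧) ^ j ∣ X ^ i * X ^ (j - i) := by
    rw [← pow_add]; exact pow_dvd_pow _ (by omega)
  let y : J h j := ⟨(0, X ^ δ * c'), by
    refine ⟨Dvd.dvd.mul_right (pow_dvd_pow _ hj) _, ?_⟩
    simp only [zero_sub, dvd_neg]
    exact Dvd.intro _ rfl⟩
  let x : J h j := ⟨(- X ^ i * c' + X ^ δ * z', - X ^ i * c'), by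
    refine ⟨?_, ?_⟩
    · show X ^ j ∣ - X ^ i * c'
      rw [hc', show - (X : k⟦X⟧) ^ i * (X ^ (j - i) * c'') = (X ^ i * X ^ (j - i)) * (- c'') by ring]
      exact Dvd.dvd.mul_right hjle _
    · show X ^ δ ∣ (- X ^ i * c' + X ^ δ * z') - (- X ^ i * c')
      rw [add_sub_cancel_left]
      exact Dvd.intro _ rfl⟩
  refine ⟨mkHom h i j x y c' rfl rfl rfl, ?_⟩
  rw [Psi_apply, mkHom_kap1, mkHom_kap2]
  apply Prod.ext
  · show Submodule.Quotient.mk (dv (δ + (j - i)) (X ^ δ * c')) = _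
    rw [hc', show (X : k⟦X⟧) ^ δ * (X ^ (j - i) * c'') = X ^ (δ + (j - i)) * c'' by
      rw [pow_add]; ring, dv_mul]
  · show Submodule.Quotient.mk (dv δ ((- X ^ i * c' + X ^ δ * z') - (- X ^ i * c'))) = _
    rw [add_sub_cancel_left, dv_mul]

end

end Groth.Agent.Lib.Helper85.AOdd
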