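import Mathlib
import Groth.Agent.Lib.Helper85.AOdd5
import Groth.Agent.Lib.Helper72.ExtPres

/-! Kernel of `Ψ` and the length of `Ext¹(J i, J j)` (helper85). -/

set_option autoImplicit false
universe u
open PowerSeries

namespace Groth.Agent.Lib.Helper85.AOdd

noncomputable section

variable {k : Type u} [Field k] {δ : ℕ} {O : Subalgebra k (k⟦X⟧ × k⟦X⟧)}

local notation "P" => (k⟦X⟧ × k⟦X⟧)

attribute [local instance] algR

lemma hom_ext' (h : IsO δ O) (i j : ℕ) (f g : LinearMap.ker (pres h i) →ₗ[O] J h j)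
    (h1 : f (kap1 h i) = g (kap1 h i)) (h2 : f (kap2 h i) = g (kap2 h i)) : f = g := by
  refine LinearMap.ext fun w => ?_
  have := ker_decomp h i w
  rw [congrArg f this, congrArg g this, map_add, map_add, map_smul, map_smul, map_smul, map_smul,
    h1, h2]

lemma J_fst_dvd (h : IsO δ O) (j : ℕ) (hj : j ≤ δ) (p : J h j) : X ^ j ∣ (p : P).1 := by
  have : (p : P).1 = (p : P).2 + ((p : P).1 - (p : P).2) := by ring
  rw [this]
  exact dvd_add p.2.1 (dvd_trans (pow_dvd_pow _ hj) p.2.2)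

lemma map_coords_fst (h : IsO δ O) (j : ℕ) (ψ : (O × O) →ₗ[O] J h j) (w : O × O) :
    ((ψ w : J h j) : P).1 = (w.1 : P).1 * ((ψ (1, 0) : J h j) : P).1
      + (w.2 : P).1 * ((ψ (0, 1) : J h j) : P).1 := by
  have hw : w = w.1 • ((1 : O), (0 : O)) + w.2 • ((0 : O), (1 : O)) := by
    apply Prod.ext <;> simp
  rw [congrArg ψ hw, map_add, map_smul, map_smul]
  simp only [Submodule.coe_add, Submodule.coe_smul, Prod.fst_add, smul_fst]

lemma map_coords_snd (h : IsO δ O) (j : ℕ) (ψ : (O × O) →ₗ[O] J h j) (w : O × O) :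
    ((ψ w : J h j) : P).2 = (w.1 : P).2 * ((ψ (1, 0) : J h j) : P).2
      + (w.2 : P).2 * ((ψ (0, 1) : J h j) : P).2 := by
  have hw : w = w.1 • ((1 : O), (0 : O)) + w.2 • ((0 : O), (1 : O)) := by
    apply Prod.ext <;> simp
  rw [congrArg ψ hw, map_add, map_smul, map_smul]
  simp only [Submodule.coe_add, Submodule.coe_smul, Prod.snd_add, smul_snd]

lemma kap1_coords (h : IsO δ O) (i : ℕ) :
    (((kap1 h i).1.1 : O) : P) = (- X ^ δ, - 0) ∧ (((kap1 h i).1.2 : O) : P) = (X ^ i, X ^ i) :=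
  ⟨rfl, rfl⟩

lemma kap2_coords (h : IsO δ O) (i : ℕ) :
    (((kap2 h i).1.1 : O) : P) = (0, 0) ∧
      (((kap2 h i).1.2 : O) : P) = (X ^ δ - X ^ δ, 0 - X ^ δ) :=
  ⟨rfl, rfl⟩

lemma Psi_eq_zero_iff (h : IsO δ O) (i j : ℕ) (hi : i ≤ δ) (hj : j ≤ δ)
    (φ : LinearMap.ker (pres h i) →ₗ[O] J h j) :
    Psi h i j hi hj φ = 0 ↔
      ∃ ψ : (O × O) →ₗ[O] J h j, ψ ∘ₗ (LinearMap.ker (pres h i)).subtype = φ := by
  have hmi : min i j ≤ i := min_le_left _ _
  have hmj : min i j ≤ j := min_le_right _ _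
  constructor
  · intro hΨ
    rw [Psi_apply, Prod.mk_eq_zero, mk_eq_zero_iff, mk_eq_zero_iff] at hΨ
    obtain ⟨⟨g, hg⟩, ⟨z'', hz''⟩⟩ := hΨ
    have hy1 := hom_y1 h i j φ
    have hy2 := hom_y2 h i j φ
    have hx2 := hom_x2 h i j φ
    have hy2' := mul_dv (hom_y2_dvd' h i j φ)
    have hz := mul_dv (hom_z_dvd h i j φ)
    set c' := dv δ (((φ (kap2 h i) : J h j) : P).2) with hc'
    set z' := dv δ (((φ (kap1 h i) : J h j) : P).1 - ((φ (kap1 h i) : J h j) : P).2) with hz'
    -- c' = X^j * g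
    have hc'g : c' = X ^ j * g := by
      apply Xpow_cancel (n := δ)
      rw [← hy2, ← hy2', hg]
      have : (X : k⟦X⟧) ^ δ * X ^ j = X ^ (δ + (j - i)) * X ^ (min i j) := by
        rw [← pow_add, ← pow_add]; congr 1; omega
      calc X ^ (δ + (j - i)) * (X ^ min i j * g) = (X ^ (δ + (j - i)) * X ^ (min i j)) * g := by
            ring
        _ = X ^ δ * (X ^ j * g) := by rw [← this]; ring
    -- choose ρ and p1
    obtain ⟨ρ, p1, hp1, hρ⟩ : ∃ ρ p1 : k⟦X⟧, X ^ j ∣ p1 ∧ X ^ i * ρ - p1 = z' := by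
      rcases le_total i j with hij | hij
      · refine ⟨z'', 0, dvd_zero _, ?_⟩
        rw [sub_zero, hz'', min_eq_left hij]
      · refine ⟨0, - z', ?_, by ring⟩
        rw [dvd_neg, hz'', min_eq_right hij]
        exact Dvd.intro _ rfl
    let r : J h j := ⟨(- c' + X ^ δ * ρ, - c'), by
      refine ⟨?_, ?_⟩
      · show X ^ j ∣ - c'
        rw [dvd_neg, hc'g]; exact Dvd.intro _ rfl
      · show X ^ δ ∣ (- c' + X ^ δ * ρ) - (- c')
        rw [add_sub_cancel_left]; exact Dvd.intro _ rfl⟩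
    let p : J h j := ⟨(p1, p1), ⟨hp1, by simp⟩⟩
    let ψ : (O × O) →ₗ[O] J h j :=
      (LinearMap.toSpanSingleton O (J h j) p).coprod (LinearMap.toSpanSingleton O (J h j) r)
    have hψ1 : ψ (1, 0) = p := by
      simp [ψ, LinearMap.coprod_apply, LinearMap.toSpanSingleton_apply]
    have hψ2 : ψ (0, 1) = r := by
      simp [ψ, LinearMap.coprod_apply, LinearMap.toSpanSingleton_apply]
    refine ⟨ψ, ?_⟩
    apply hom_ext' h i j
    · apply Subtype.ext
      apply Prod.ext
      · rw [LinearMap.comp_apply, Submodule.subtype_apply, map_coords_fst, hψ1, hψ2,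
          (kap1_coords h i).1, (kap1_coords h i).2]
        show - X ^ δ * p1 + X ^ i * (- c' + X ^ δ * ρ) = _
        have : ((φ (kap1 h i) : J h j) : P).1 = ((φ (kap1 h i) : J h j) : P).2 + X ^ δ * z' := by
          rw [hz]; ring
        rw [this, hx2, ← hρ]
        ring
      · rw [LinearMap.comp_apply, Submodule.subtype_apply, map_coords_snd, hψ1, hψ2,
          (kap1_coords h i).1, (kap1_coords h i).2]
        show - 0 * p1 + X ^ i * (- c') = _
        rw [hx2]
        ring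
    · apply Subtype.ext
      apply Prod.ext
      · rw [LinearMap.comp_apply, Submodule.subtype_apply, map_coords_fst, hψ1, hψ2,
          (kap2_coords h i).1, (kap2_coords h i).2]
        show 0 * p1 + (X ^ δ - X ^ δ) * (- c' + X ^ δ * ρ) = _
        rw [hy1]
        ring
      · rw [LinearMap.comp_apply, Submodule.subtype_apply, map_coords_snd, hψ1, hψ2,
          (kap2_coords h i).1, (kap2_coords h i).2]
        show 0 * p1 + (0 - X ^ δ) * (- c') = _
        rw [hy2]
        ring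
  · rintro ⟨ψ, rfl⟩
    rw [Psi_apply, Prod.mk_eq_zero, mk_eq_zero_iff, mk_eq_zero_iff]
    set p := ψ (1, 0) with hp
    set r := ψ (0, 1) with hr
    obtain ⟨r2', hr2'⟩ : X ^ j ∣ (r : P).2 := r.2.1
    obtain ⟨ρ, hρ⟩ : X ^ δ ∣ (r : P).1 - (r : P).2 := r.2.2
    obtain ⟨p1', hp1'⟩ := J_fst_dvd h j hj p
    constructor
    · rw [LinearMap.comp_apply, Submodule.subtype_apply, map_coords_snd, ← hp, ← hr,
        (kap2_coords h i).1, (kap2_coords h i).2]
      show X ^ min i j ∣ dv (δ + (j - i)) (0 * (p : P).2 + (0 - X ^ δ) * (r : P).2)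
      have : (0 : k⟦X⟧) * (p : P).2 + (0 - X ^ δ) * (r : P).2
          = X ^ (δ + (j - i)) * (- X ^ (min i j) * r2') := by
        have e : (X : k⟦X⟧) ^ δ * X ^ j = X ^ (δ + (j - i)) * X ^ (min i j) := by
          rw [← pow_add, ← pow_add]; congr 1; omega
        rw [hr2']
        calc (0 : k⟦X⟧) * (p : P).2 + (0 - X ^ δ) * (X ^ j * r2') = - (X ^ δ * X ^ j) * r2' := by
              ring
          _ = _ := by rw [e]; ring
      rw [this, dv_mul]
      exact ⟨- r2', by ring⟩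
    · rw [LinearMap.comp_apply, Submodule.subtype_apply, map_coords_fst, map_coords_snd, ← hp,
        ← hr, (kap1_coords h i).1, (kap1_coords h i).2]
      show X ^ min i j ∣ dv δ ((- X ^ δ * (p : P).1 + X ^ i * (r : P).1)
        - (- 0 * (p : P).2 + X ^ i * (r : P).2))
      have : (- X ^ δ * (p : P).1 + X ^ i * (r : P).1) - (- 0 * (p : P).2 + X ^ i * (r : P).2)
          = X ^ δ * (- (p : P).1 + X ^ i * ρ) := by
        have : (r : P).1 = (r : P).2 + X ^ δ * ρ := by rw [← hρ]; ring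
        rw [this]; ring
      rw [this, dv_mul]
      apply dvd_add
      · rw [dvd_neg, hp1']
        exact Dvd.dvd.mul_right (pow_dvd_pow _ hmj) _
      · exact Dvd.dvd.mul_right (pow_dvd_pow _ hmi) _

open CategoryTheory in
set_option maxHeartbeats 1600000 in
set_option synthInstance.maxHeartbeats 400000 in
/-- **Length of `Ext¹(J i, J j)`** over the `A_{2δ-1}` ring. -/
theorem length_ext (h : IsO δ O) (i j : ℕ) (hi : i ≤ δ) (hj : j ≤ δ) :
    Module.length O (Abelian.Ext (ModuleCat.of O (J h i)) (ModuleCat.of O (J h j)) 1)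
      = ((2 * min i j : ℕ) : ℕ∞) := by
  have e0 := @Groth.Agent.Lib.Helper72.ExtPres.length_ext_one O _ (O × O) (J h i) (J h j)
    _ _ _ _ _ _ _ (pres h i) (pres_surjective h i)
  have e1 := e0 (Psi h i j hi hj) (Psi_surjective h i j hi hj) (Psi_eq_zero_iff h i j hi hj)
  have e2 : Module.length O (k⟦X⟧ ⧸ Im k (min i j)) = ((min i j : ℕ) : ℕ∞) := by
    have e3 : Module.length O (k⟦X⟧ ⧸ Im k (min i j))
        = Module.length k⟦X⟧ (k⟦X⟧ ⧸ Im k (min i j)) :=
      Module.length_eq_of_surjective (algebraMap_surjective h)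
    rw [e3]
    exact IsDiscreteValuationRing.length_quotient_pow_maximalIdeal k⟦X⟧ (min i j)
  rw [e1, Module.length_prod, e2]
  push_cast
  ring

end

end Groth.Agent.Lib.Helper85.AOdd
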