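import Mathlib

/-!
# Maximal admissible irreducible closed subsets through the origin (abstract form)

`X` a space, `G` a group of "rational points" `pt : G → X` with translations, dense in every
closed set, countable avoidance and ACC for irreducible closed sets.
-/

set_option linter.unusedSectionVars false

namespace Groth.Agent.Lib.Helper85.Admissible

open TopologicalSpace

section

variable {X : Type*} [TopologicalSpace X] {G : Type*} [Group G] (pt : G → X)
  (R L : G → X → X) (hRc : ∀ y, Continuous (R y)) (hLc : ∀ x, Continuous (L x))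
  (hR : ∀ x y, R y (pt x) = pt (x * y)) (hL : ∀ x y, L x (pt y) = pt (x * y))
  (hd : ∀ F F' : Set X, IsClosed F → IsClosed F' → (∀ g, pt g ∈ F → pt g ∈ F') → F ⊆ F')
  (havoid : ∀ T : Set X, IsIrreducible T → IsClosed T → ∀ C : ℕ → Closeds X,
    (∀ n, ¬ T ⊆ (C n : Set X)) → ∃ g, pt g ∈ T ∧ ∀ n, pt g ∉ (C n : Set X))
  (hacc : ∀ 𝒞 : Set (Closeds X), (∀ T ∈ 𝒞, IsIrreducible (T : Set X)) → ∀ T₀ ∈ 𝒞,
    ∃ T ∈ 𝒞, T₀ ≤ T ∧ ∀ T' ∈ 𝒞, T ≤ T' → T' = T)
  (hcl : ∀ g, IsClosed ({pt g} : Set X))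
  (K : Subgroup G) (Z : ℕ → Closeds X) (hK : ∀ x, x ∈ K ↔ pt x ∈ ⋃ n, (Z n : Set X))

/-- admissible closed sets. -/
def Adm (T : Closeds X) : Prop := IsIrreducible (T : Set X) ∧ ∀ x, pt x ∈ (T : Set X) → x ∈ K

include havoid hK in
theorem adm_sub {T : Closeds X} (hT : Adm pt K T) : ∃ n, (T : Set X) ⊆ (Z n : Set X) := by
  by_contra hcon
  push Not at hcon
  obtain ⟨g, hgT, hgZ⟩ := havoid T hT.1 T.isClosed Z hcon
  have := (hK g).mp (hT.2 g hgT)
  obtain ⟨n, hn⟩ := Set.mem_iUnion.mp this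
  exact hgZ n hn

include hK in
theorem adm_of_sub {T : Closeds X} (hT : IsIrreducible (T : Set X)) {n : ℕ}
    (hn : (T : Set X) ⊆ (Z n : Set X)) : Adm pt K T :=
  ⟨hT, fun x hx => (hK x).mpr (Set.mem_iUnion.mpr ⟨n, hn hx⟩)⟩

include hacc in
theorem exists_max {T₀ : Closeds X} (hT₀ : Adm pt K T₀) :
    ∃ T, Maximal (Adm pt K) T ∧ T₀ ≤ T := by
  obtain ⟨T, hT, hle, hmax⟩ := hacc {T | Adm pt K T} (fun T hT => hT.1) T₀ hT₀
  exact ⟨T, ⟨hT, fun T' hT' hTT' => (hmax T' hT' hTT').le⟩, hle⟩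

include hRc hR hd in
theorem RR_sub (T : Closeds X) (y : G) : R y⁻¹ '' (R y '' (T : Set X)) ⊆ (T : Set X) := by
  have h1 : (T : Set X) ⊆ (fun t => R y⁻¹ (R y t)) ⁻¹' (T : Set X) := by
    apply hd _ _ T.isClosed (T.isClosed.preimage ((hRc y⁻¹).comp (hRc y)))
    intro g hg
    show R y⁻¹ (R y (pt g)) ∈ (T : Set X)
    rw [hR, hR, mul_inv_cancel_right]
    exact hg
  rintro _ ⟨_, ⟨t, ht, rfl⟩, rfl⟩
  exact h1 ht

/-- the translate of a closed set. -/
def trans (T : Closeds X) (y : G) : Closeds X := ⟨closure (R y '' (T : Set X)), isClosed_closure⟩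

include hRc in
theorem R_mem_trans (T : Closeds X) (y : G) {t : X} (ht : t ∈ (T : Set X)) :
    R y t ∈ (trans R T y : Set X) := subset_closure ⟨t, ht, rfl⟩

include hRc hR hd in
theorem adm_trans {T : Closeds X} (hT : Adm pt K T) {y : G} (hy : y ∈ K) :
    Adm pt K (trans R T y) := by
  refine ⟨?_, ?_⟩
  · exact (hT.1.image (R y) (hRc y).continuousOn).closure
  · intro z hz
    have h1 : R y⁻¹ (pt z) ∈ closure (R y⁻¹ '' (R y '' (T : Set X))) :=
      image_closure_subset_closure_image (hRc y⁻¹) ⟨pt z, hz, rfl⟩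
    have h2 : closure (R y⁻¹ '' (R y '' (T : Set X))) ⊆ (T : Set X) :=
      T.isClosed.closure_subset_iff.mpr (RR_sub pt R hRc hR hd T y)
    have h3 := h2 h1
    rw [hR] at h3
    have h4 := hT.2 _ h3
    have h5 := K.mul_mem h4 hy
    rwa [inv_mul_cancel_right] at h5

include hRc hLc hR hL hd havoid hK in
theorem max_unique {T1 T2 : Closeds X} (h1 : Maximal (Adm pt K) T1)
    (he1 : pt 1 ∈ (T1 : Set X)) (h2 : Maximal (Adm pt K) T2) (he2 : pt 1 ∈ (T2 : Set X)) :
    T1 = T2 := by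
  -- the closed sets `B F`
  have hBclosed : ∀ F : Set X, IsClosed F →
      IsClosed ((T2 : Set X) ∩ ⋂ x : {x : G // pt x ∈ (T1 : Set X)}, (L x.1) ⁻¹' F) := by
    intro F hF
    exact T2.isClosed.inter (isClosed_iInter fun x => hF.preimage (hLc x.1))
  -- step 1: a single `N`
  obtain ⟨N, hN⟩ : ∃ N, (T2 : Set X) ⊆
      (T2 : Set X) ∩ ⋂ x : {x : G // pt x ∈ (T1 : Set X)}, (L x.1) ⁻¹' (Z N : Set X) := by
    by_contra hcon
    push Not at hcon
    obtain ⟨y, hyT, hyG⟩ := havoid T2 h2.prop.1 T2.isClosed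
      (fun n => ⟨_, hBclosed (Z n) (Z n).isClosed⟩) hcon
    have hyK : y ∈ K := h2.prop.2 y hyT
    obtain ⟨n, hn⟩ := adm_sub pt havoid K Z hK (adm_trans pt R hRc hR hd K h1.prop hyK)
    apply hyG n
    refine ⟨hyT, Set.mem_iInter.mpr fun x => ?_⟩
    show L x.1 (pt y) ∈ (Z n : Set X)
    rw [hL, ← hR]
    exact hn (R_mem_trans R hRc T1 y x.2)
  -- the product set
  set Pi : Set X := {z | ∃ x y, pt x ∈ (T1 : Set X) ∧ pt y ∈ (T2 : Set X) ∧ z = pt (x * y)}
    with hPi
  have hPiF : ∀ F : Set X, (∀ y, pt y ∈ (T2 : Set X) → ∀ x, pt x ∈ (T1 : Set X) →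
      pt (x * y) ∈ F) → Pi ⊆ F := by
    rintro F hF _ ⟨x, y, hx, hy, rfl⟩
    exact hF y hy x hx
  have hPiZ : Pi ⊆ (Z N : Set X) := by
    apply hPiF
    intro y hy x hx
    have := (hN hy).2
    rw [Set.mem_iInter] at this
    have h3 := this ⟨x, hx⟩
    rw [Set.mem_preimage, hL] at h3
    exact h3
  let W : Closeds X := ⟨closure Pi, isClosed_closure⟩
  have hWZ : (W : Set X) ⊆ (Z N : Set X) := (Z N).isClosed.closure_subset_iff.mpr hPiZ
  have hWne : (W : Set X).Nonempty := ⟨pt (1 * 1), subset_closure ⟨1, 1, he1, he2, rfl⟩⟩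
  have hWirr : IsIrreducible (W : Set X) := by
    refine ⟨hWne, ?_⟩
    rw [isPreirreducible_iff_isClosed_union_isClosed]
    intro F1 F2 hF1 hF2 hW
    have hstep : ∀ y, pt y ∈ (T2 : Set X) →
        (∀ x, pt x ∈ (T1 : Set X) → pt (x * y) ∈ F1) ∨
          (∀ x, pt x ∈ (T1 : Set X) → pt (x * y) ∈ F2) := by
      intro y hy
      have hcov : (T1 : Set X) ⊆ (R y) ⁻¹' F1 ∪ (R y) ⁻¹' F2 := by
        apply hd _ _ T1.isClosed ((hF1.preimage (hRc y)).union (hF2.preimage (hRc y)))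
        intro g hg
        have : pt (g * y) ∈ F1 ∪ F2 := hW (subset_closure ⟨g, y, hg, hy, rfl⟩)
        rcases this with h | h
        · left; show R y (pt g) ∈ F1; rw [hR]; exact h
        · right; show R y (pt g) ∈ F2; rw [hR]; exact h
      have hirr := h1.prop.1.2
      rw [isPreirreducible_iff_isClosed_union_isClosed] at hirr
      rcases hirr _ _ (hF1.preimage (hRc y)) (hF2.preimage (hRc y)) hcov with h | h
      · left
        intro x hx
        have := h hx
        rwa [Set.mem_preimage, hR] at this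
      · right
        intro x hx
        have := h hx
        rwa [Set.mem_preimage, hR] at this
    have hcov2 : (T2 : Set X) ⊆
        ((T2 : Set X) ∩ ⋂ x : {x : G // pt x ∈ (T1 : Set X)}, (L x.1) ⁻¹' F1) ∪
        ((T2 : Set X) ∩ ⋂ x : {x : G // pt x ∈ (T1 : Set X)}, (L x.1) ⁻¹' F2) := by
      apply hd _ _ T2.isClosed ((hBclosed F1 hF1).union (hBclosed F2 hF2))
      intro y hy
      rcases hstep y hy with h | h
      · left
        refine ⟨hy, Set.mem_iInter.mpr fun x => ?_⟩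
        show L x.1 (pt y) ∈ F1
        rw [hL]
        exact h x.1 x.2
      · right
        refine ⟨hy, Set.mem_iInter.mpr fun x => ?_⟩
        show L x.1 (pt y) ∈ F2
        rw [hL]
        exact h x.1 x.2
    have hirr2 := h2.prop.1.2
    rw [isPreirreducible_iff_isClosed_union_isClosed] at hirr2
    rcases hirr2 _ _ (hBclosed F1 hF1) (hBclosed F2 hF2) hcov2 with h | h
    · left
      apply hF1.closure_subset_iff.mpr
      apply hPiF
      intro y hy x hx
      have := (h hy).2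
      rw [Set.mem_iInter] at this
      have h3 := this ⟨x, hx⟩
      rwa [Set.mem_preimage, hL] at h3
    · right
      apply hF2.closure_subset_iff.mpr
      apply hPiF
      intro y hy x hx
      have := (h hy).2
      rw [Set.mem_iInter] at this
      have h3 := this ⟨x, hx⟩
      rwa [Set.mem_preimage, hL] at h3
  have hWadm : Adm pt K W := adm_of_sub pt K Z hK hWirr hWZ
  have hT1W : T1 ≤ W := by
    show (T1 : Set X) ⊆ (W : Set X)
    apply hd _ _ T1.isClosed W.isClosed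
    intro g hg
    exact subset_closure ⟨g, 1, hg, he2, (mul_one g).symm ▸ rfl⟩
  have hT2W : T2 ≤ W := by
    show (T2 : Set X) ⊆ (W : Set X)
    apply hd _ _ T2.isClosed W.isClosed
    intro g hg
    exact subset_closure ⟨1, g, he1, hg, (one_mul g).symm ▸ rfl⟩
  have e1 : T1 = W := le_antisymm hT1W (h1.2 hWadm hT1W)
  have e2 : T2 = W := le_antisymm hT2W (h2.2 hWadm hT2W)
  rw [e1, e2]

include hRc hLc hR hL hd havoid hacc hcl hK in
theorem main_pt :
    (∃! T : Closeds X, Maximal (Adm pt K) T ∧ pt 1 ∈ (T : Set X)) ∧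
    ∀ T : Closeds X, Maximal (Adm pt K) T → pt 1 ∈ (T : Set X) →
      (∃ n, (T : Set X) ⊆ (Z n : Set X)) ∧
      ∀ x y : G, pt x ∈ (T : Set X) → pt y ∈ (T : Set X) → pt (x * y⁻¹) ∈ (T : Set X) := by
  have hex : ∃ T : Closeds X, Maximal (Adm pt K) T ∧ pt 1 ∈ (T : Set X) := by
    have h0 : Adm pt K ⟨{pt 1}, hcl 1⟩ := by
      refine ⟨isIrreducible_singleton, ?_⟩
      intro x hx
      have hx' : pt x = pt 1 := hx
      rw [hK, hx', ← hK]
      exact K.one_mem
    obtain ⟨T, hT, hle⟩ := exists_max pt hacc K h0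
    exact ⟨T, hT, hle (Set.mem_singleton _)⟩
  refine ⟨?_, ?_⟩
  · obtain ⟨T, hT, he⟩ := hex
    exact ⟨T, ⟨hT, he⟩, fun T' hT' =>
      max_unique pt R L hRc hLc hR hL hd havoid K Z hK hT'.1 hT'.2 hT he⟩
  · intro T hT he
    refine ⟨adm_sub pt havoid K Z hK hT.prop, ?_⟩
    intro x y hx hy
    have hyK : y ∈ K := hT.prop.2 y hy
    have hadm := adm_trans pt R hRc hR hd K hT.prop (K.inv_mem hyK)
    obtain ⟨T'', hT'', hle⟩ := exists_max pt hacc K hadm
    have he'' : pt 1 ∈ (T'' : Set X) := by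
      apply hle
      have := R_mem_trans R hRc T y⁻¹ hy
      rwa [hR, mul_inv_cancel] at this
    have heq : T'' = T := max_unique pt R L hRc hLc hR hL hd havoid K Z hK hT'' he'' hT he
    have := hle (R_mem_trans R hRc T y⁻¹ hx)
    rw [hR, heq] at this
    exact this

include hRc hLc hR hL hd havoid hacc hcl hK in
/-- the form with the sets `S x = {pt x}`. -/
theorem main (S : G → Set X) (hS : ∀ g, S g = {pt g}) :
    (∃! T : Closeds X,
      Maximal (fun T : Closeds X => IsIrreducible (T : Set X) ∧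
        ∀ x : G, S x ⊆ (T : Set X) → x ∈ K) T ∧ S 1 ⊆ (T : Set X)) ∧
    ∀ T : Closeds X,
      Maximal (fun T : Closeds X => IsIrreducible (T : Set X) ∧
        ∀ x : G, S x ⊆ (T : Set X) → x ∈ K) T → S 1 ⊆ (T : Set X) →
      (∃ n, (T : Set X) ⊆ (Z n : Set X)) ∧
      ∀ x y : G, S x ⊆ (T : Set X) → S y ⊆ (T : Set X) → S (x * y⁻¹) ⊆ (T : Set X) := by
  have hP : (fun T : Closeds X => IsIrreducible (T : Set X) ∧
        ∀ x : G, S x ⊆ (T : Set X) → x ∈ K) = Adm pt K := by
    funext T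
    simp only [hS, Set.singleton_subset_iff]
    rfl
  simp only [hP, hS, Set.singleton_subset_iff]
  exact main_pt pt R L hRc hLc hR hL hd havoid hacc hcl K Z hK

end

end Groth.Agent.Lib.Helper85.Admissible
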