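import Mathlib
import Groth.Agent.Lib.Helper85.UncountableNSS

/-!
# Closed points avoiding countably many closed subsets (uncountable algebraically closed field)
-/

universe u

open AlgebraicGeometry CategoryTheory TopologicalSpace

namespace Groth.Agent.Lib.Helper85

/-- Over an uncountable algebraically closed field, an irreducible closed subset `T` of a scheme
locally of finite type which is contained in none of countably many closed subsets `Z n` has, in
every open set meeting it, a closed point lying in none of the `Z n`. -/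
theorem exists_closedPoint_avoiding {k : Type u} [Field k] [IsAlgClosed k] [Uncountable k]
    (X : Scheme.{u}) (sX : X ⟶ Spec (CommRingCat.of k)) [LocallyOfFiniteType sX]
    (T : Set X) (hT : IsIrreducible T) (hTc : IsClosed T)
    (Z : ℕ → Closeds X) (hZ : ∀ n, ¬ T ⊆ (Z n : Set X))
    (U : Set X) (hU : IsOpen U) (hUT : (U ∩ T).Nonempty) :
    ∃ x ∈ U ∩ T, IsClosed ({x} : Set X) ∧ ∀ n, x ∉ Z n := by
  classical
  have hJ : JacobsonSpace X := LocallyOfFiniteType.jacobsonSpace sX
  -- the generic point
  have hη := hT.isGenericPoint_genericPoint hTc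
  set η := hT.genericPoint with hηdef
  have hηU : η ∈ U := (hη.mem_open_set_iff hU).mpr (by rwa [Set.inter_comm])
  have hηT : η ∈ T := hη.mem
  have hηZ : ∀ n, η ∉ Z n := by
    intro n hn
    apply hZ n
    rw [← hη.def]
    exact (Z n).isClosed.closure_subset_iff.mpr (Set.singleton_subset_iff.mpr hn)
  -- an affine open neighbourhood inside `U`
  obtain ⟨_, ⟨W, hW, rfl⟩, hηW, hWU⟩ := X.isBasis_affineOpens.exists_subset_of_mem_open hηU hU
  have hW : IsAffineOpen W := hW
  -- finite type
  let φ := Spec.preimage (hW.fromSpec ≫ sX)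
  have hφ1 : LocallyOfFiniteType (Spec.map φ) := by
    rw [Spec.map_preimage]; infer_instance
  have hφ : φ.hom.FiniteType := HasRingHomProperty.Spec_iff.mp hφ1
  algebraize [φ.hom]
  -- the point of `Spec A` above `η`
  have hrange : Set.range hW.fromSpec = (W : Set X) := hW.range_fromSpec
  obtain ⟨y, hy⟩ : η ∈ Set.range hW.fromSpec := by rw [hrange]; exact hηW
  have hcont : Continuous hW.fromSpec := hW.fromSpec.continuous
  have hfn : ∀ n, ∃ f : Γ(X, W), f ∉ y.asIdeal ∧
      ∀ z : Spec Γ(X, W), f ∉ z.asIdeal → hW.fromSpec z ∉ Z n := by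
    intro n
    have hopen : IsOpen (hW.fromSpec ⁻¹' ((Z n : Set X)ᶜ)) :=
      (Z n).isClosed.isOpen_compl.preimage hcont
    have hymem : y ∈ hW.fromSpec ⁻¹' ((Z n : Set X)ᶜ) := by
      change hW.fromSpec y ∉ Z n
      rw [hy]; exact hηZ n
    obtain ⟨_, ⟨f, rfl⟩, hyf, hsub⟩ :=
      PrimeSpectrum.isTopologicalBasis_basic_opens.exists_subset_of_mem_open hymem hopen
    refine ⟨f, hyf, fun z hz => ?_⟩
    exact hsub hz
  choose f hfy hfz using hfn
  obtain ⟨m, hm, hpm, hfm⟩ := exists_maximal_avoiding (k := k) y.asIdeal f hfy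
  let z : Spec Γ(X, W) := ⟨m, hm.isPrime⟩
  refine ⟨hW.fromSpec z, ⟨hWU ?_, ?_⟩, ?_, fun n => hfz n z (hfm n)⟩
  · rw [← hrange]; exact ⟨z, rfl⟩
  · have hspec : y ⤳ z := (PrimeSpectrum.le_iff_specializes y z).mp hpm
    have := hspec.map hcont
    rw [hy] at this
    exact this.mem_closed hTc hηT
  · have hz : z ∈ closedPoints (Spec Γ(X, W)) :=
      (PrimeSpectrum.isClosed_singleton_iff_isMaximal z).mpr hm
    rw [← hW.fromSpec.isOpenEmbedding.preimage_closedPoints] at hz
    exact hz

end Groth.Agent.Lib.Helper85
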