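import Mathlib

/-!
# Ascending chain condition for irreducible closed subsets of a locally Noetherian scheme
-/

universe u

open AlgebraicGeometry CategoryTheory TopologicalSpace

namespace Groth.Agent.Lib.Helper85

/-- In a locally Noetherian scheme, every member of a family of irreducible closed subsets lies
below a maximal member of the family. -/
theorem exists_maximal_irreducible_ge {X : Scheme.{u}} [IsLocallyNoetherian X]
    (C : Set (Closeds X)) (hC : ∀ T ∈ C, IsIrreducible (T : Set X)) (T₀ : Closeds X)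
    (hT₀ : T₀ ∈ C) :
    ∃ T ∈ C, T₀ ≤ T ∧ ∀ T' ∈ C, T ≤ T' → T' = T := by
  classical
  have hη₀ := (hC T₀ hT₀).isGenericPoint_genericPoint T₀.isClosed
  set η₀ := (hC T₀ hT₀).genericPoint
  obtain ⟨_, ⟨W, hW, rfl⟩, hηW, -⟩ :=
    X.isBasis_affineOpens.exists_subset_of_mem_open (Set.mem_univ η₀) isOpen_univ
  have hW : IsAffineOpen W := hW
  have hNoeth : IsNoetherianRing Γ(X, W) := IsLocallyNoetherian.component_noetherian ⟨W, hW⟩
  have hrange : Set.range hW.fromSpec = (W : Set X) := hW.range_fromSpec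
  have hind := hW.fromSpec.isOpenEmbedding.isInducing
  obtain ⟨y₀, hy₀⟩ : ∃ y₀ : PrimeSpectrum Γ(X, W), hW.fromSpec y₀ = η₀ := by
    have : η₀ ∈ Set.range hW.fromSpec := by rw [hrange]; exact hηW
    exact this
  let D : Set (PrimeSpectrum Γ(X, W)) :=
    {y | ∃ T ∈ C, T₀ ≤ T ∧ IsGenericPoint (hW.fromSpec y) (T : Set X)}
  have hy₀D : y₀ ∈ D := ⟨T₀, hT₀, le_rfl, by rw [hy₀]; exact hη₀⟩
  obtain ⟨_, ⟨y, hyD, rfl⟩, hmin⟩ :=
    (wellFounded_lt (α := ℕ∞)).has_min (Order.height '' D) ⟨_, ⟨y₀, hy₀D, rfl⟩⟩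
  obtain ⟨T, hTC, hT₀T, hgen⟩ := hyD
  refine ⟨T, hTC, hT₀T, fun T' hT'C hTT' => ?_⟩
  have hη' := (hC T' hT'C).isGenericPoint_genericPoint T'.isClosed
  set η' := (hC T' hT'C).genericPoint
  have hη₀T' : η₀ ∈ (T' : Set X) := hTT' (hT₀T hη₀.mem)
  have hη'W : η' ∈ (W : Set X) :=
    (hη'.mem_open_set_iff W.isOpen).mpr ⟨η₀, hη₀T', hηW⟩
  obtain ⟨y', hy'⟩ : ∃ y' : PrimeSpectrum Γ(X, W), hW.fromSpec y' = η' := by
    have : η' ∈ Set.range hW.fromSpec := by rw [hrange]; exact hη'W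
    exact this
  have hy'D : y' ∈ D := ⟨T', hT'C, hT₀T.trans hTT', by rw [hy']; exact hη'⟩
  have hspec : hW.fromSpec y' ⤳ hW.fromSpec y := by
    rw [specializes_iff_mem_closure, hy', hη'.def]
    exact hTT' hgen.mem
  have hle : y' ≤ y := (PrimeSpectrum.le_iff_specializes y' y).mpr (hind.specializes_iff.mp hspec)
  rcases eq_or_lt_of_le hle with heq | hlt
  · apply SetLike.coe_injective
    rw [← hη'.def, ← hgen.def, ← hy', heq]
  · exfalso
    have hfin : Order.height y' < ⊤ := by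
      rw [← PrimeSpectrum.height_eq_orderHeight]
      exact Ideal.height_lt_top_of_isPrime
    exact hmin _ ⟨y', hy'D, rfl⟩ (Order.height_strictMono hlt hfin)

end Groth.Agent.Lib.Helper85
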