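import Mathlib
import Groth.Agent.Lib.Helper85.AdmissibleAbstract
import Groth.Agent.Lib.Helper85.CountableUnion
import Groth.Agent.Lib.Helper85.IrrACC

/-!
# `k`-points of a group scheme over an algebraically closed field: translations and density
-/

set_option linter.unusedSectionVars false

universe u

open CategoryTheory MonoidalCategory CartesianMonoidalCategory MonObj GrpObj AlgebraicGeometry
open TopologicalSpace

namespace Groth.Agent.Lib.Helper85.AdmissibleScheme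

variable {k : Type u} [Field k] [IsAlgClosed k] (A : Over (Spec (CommRingCat.of k))) [GrpObj A]
  [LocallyOfFiniteType A.hom]

/-- the image point of a `k`-point. -/
noncomputable def pt (x : 𝟙_ (Over (Spec (CommRingCat.of k))) ⟶ A) : ↥A.left :=
  x.left.base (IsLocalRing.closedPoint k)

theorem range_eq (x : 𝟙_ (Over (Spec (CommRingCat.of k))) ⟶ A) :
    Set.range ⇑x.left.base = {pt A x} := by
  apply Set.eq_singleton_iff_unique_mem.mpr
  refine ⟨⟨IsLocalRing.closedPoint k, rfl⟩, ?_⟩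
  rintro _ ⟨c, rfl⟩
  have hc : c = (IsLocalRing.closedPoint k : ↥(Spec (CommRingCat.of k))) :=
    @Subsingleton.elim ↥(Spec (CommRingCat.of k)) inferInstance _ _
  rw [hc]
  rfl

theorem isClosed_pt (x : 𝟙_ (Over (Spec (CommRingCat.of k))) ⟶ A) :
    IsClosed ({pt A x} : Set ↥A.left) := by
  have hw : x.left ≫ A.hom = 𝟙 _ := Over.w x
  exact (pointEquivClosedPoint A.hom ⟨x.left, hw⟩).2

theorem exists_pt_eq (a : ↥A.left) (ha : IsClosed ({a} : Set ↥A.left)) :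
    ∃ x : 𝟙_ (Over (Spec (CommRingCat.of k))) ⟶ A, pt A x = a := by
  have hcomp := pointOfClosedPoint_comp A.hom a ha
  refine ⟨Over.homMk (U := 𝟙_ (Over (Spec (CommRingCat.of k)))) (V := A)
    (pointOfClosedPoint A.hom a ha) hcomp, ?_⟩
  exact pointOfClosedPoint_apply A.hom a ha _

/-- right translation. -/
noncomputable def RR (y : 𝟙_ (Over (Spec (CommRingCat.of k))) ⟶ A) : ↥A.left → ↥A.left :=
  fun a => (GrpObj.mulRight y).hom.left.base a

/-- left translation. -/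
noncomputable def LL (x : 𝟙_ (Over (Spec (CommRingCat.of k))) ⟶ A) : ↥A.left → ↥A.left :=
  fun a => (lift (toUnit A ≫ x) (𝟙 A) ≫ μ).left.base a

theorem continuous_RR (y : 𝟙_ (Over (Spec (CommRingCat.of k))) ⟶ A) : Continuous (RR A y) :=
  (GrpObj.mulRight y).hom.left.continuous

theorem continuous_LL (x : 𝟙_ (Over (Spec (CommRingCat.of k))) ⟶ A) : Continuous (LL A x) :=
  (lift (toUnit A ≫ x) (𝟙 A) ≫ μ).left.continuous

theorem pt_comp (x : 𝟙_ (Over (Spec (CommRingCat.of k))) ⟶ A) (f : A ⟶ A) :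
    pt A (x ≫ f) = f.left.base (pt A x) := rfl

theorem RR_pt (x y : 𝟙_ (Over (Spec (CommRingCat.of k))) ⟶ A) :
    RR A y (pt A x) = pt A (x * y) := by
  have h : x ≫ (GrpObj.mulRight y).hom = x * y := by
    simp [GrpObj.mulRight, Hom.mul_def, comp_lift_assoc]
  rw [← h, pt_comp]
  rfl

theorem LL_pt (x y : 𝟙_ (Over (Spec (CommRingCat.of k))) ⟶ A) :
    LL A x (pt A y) = pt A (x * y) := by
  have h : y ≫ (lift (toUnit A ≫ x) (𝟙 A) ≫ μ) = x * y := by
    simp [Hom.mul_def, comp_lift_assoc]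
  rw [← h, pt_comp]
  rfl

theorem main_scheme [Uncountable k]
    (K : Subgroup (𝟙_ (Over (Spec (CommRingCat.of k))) ⟶ A))
    (Z : ℕ → TopologicalSpace.Closeds ↥A.left)
    (hK : ∀ x : 𝟙_ (Over (Spec (CommRingCat.of k))) ⟶ A,
      x ∈ K ↔ Set.range ⇑x.left.base ⊆ ⋃ n, (Z n : Set ↥A.left)) :
    (∃! T : TopologicalSpace.Closeds ↥A.left,
      Maximal (fun T : TopologicalSpace.Closeds ↥A.left => IsIrreducible (T : Set ↥A.left) ∧
        ∀ x : 𝟙_ (Over (Spec (CommRingCat.of k))) ⟶ A,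
          Set.range ⇑x.left.base ⊆ (T : Set ↥A.left) → x ∈ K) T ∧
      Set.range ⇑(1 : 𝟙_ (Over (Spec (CommRingCat.of k))) ⟶ A).left.base ⊆ (T : Set ↥A.left)) ∧
    ∀ T : TopologicalSpace.Closeds ↥A.left,
      Maximal (fun T : TopologicalSpace.Closeds ↥A.left => IsIrreducible (T : Set ↥A.left) ∧
        ∀ x : 𝟙_ (Over (Spec (CommRingCat.of k))) ⟶ A,
          Set.range ⇑x.left.base ⊆ (T : Set ↥A.left) → x ∈ K) T →
      Set.range ⇑(1 : 𝟙_ (Over (Spec (CommRingCat.of k))) ⟶ A).left.base ⊆ (T : Set ↥A.left) →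
      (∃ n, (T : Set ↥A.left) ⊆ (Z n : Set ↥A.left)) ∧
      ∀ x y : 𝟙_ (Over (Spec (CommRingCat.of k))) ⟶ A,
        Set.range ⇑x.left.base ⊆ (T : Set ↥A.left) → Set.range ⇑y.left.base ⊆ (T : Set ↥A.left) →
        Set.range ⇑(x * y⁻¹).left.base ⊆ (T : Set ↥A.left) := by
  haveI : JacobsonSpace ↥A.left := LocallyOfFiniteType.jacobsonSpace A.hom
  haveI : IsLocallyNoetherian A.left := LocallyOfFiniteType.isLocallyNoetherian A.hom
  have hd : ∀ F F' : Set ↥A.left, IsClosed F → IsClosed F' →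
      (∀ g, pt A g ∈ F → pt A g ∈ F') → F ⊆ F' := by
    intro F F' hF hF' h
    rw [← closure_inter_closedPoints hF]
    apply hF'.closure_subset_iff.mpr
    rintro a ⟨haF, hac⟩
    obtain ⟨x, rfl⟩ := exists_pt_eq A a hac
    exact h x haF
  have havoid : ∀ T : Set ↥A.left, IsIrreducible T → IsClosed T →
      ∀ C : ℕ → Closeds ↥A.left, (∀ n, ¬ T ⊆ (C n : Set ↥A.left)) →
      ∃ g, pt A g ∈ T ∧ ∀ n, pt A g ∉ (C n : Set ↥A.left) := by
    intro T hT hTc C hC
    obtain ⟨a, ⟨-, haT⟩, hacl, haC⟩ := exists_closedPoint_avoiding A.left A.hom T hT hTc C hC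
      Set.univ isOpen_univ (by simpa using hT.nonempty)
    obtain ⟨x, rfl⟩ := exists_pt_eq A a hacl
    exact ⟨x, haT, haC⟩
  have hacc : ∀ 𝒞 : Set (Closeds ↥A.left), (∀ T ∈ 𝒞, IsIrreducible (T : Set ↥A.left)) →
      ∀ T₀ ∈ 𝒞, ∃ T ∈ 𝒞, T₀ ≤ T ∧ ∀ T' ∈ 𝒞, T ≤ T' → T' = T :=
    fun 𝒞 h𝒞 T₀ hT₀ => exists_maximal_irreducible_ge 𝒞 h𝒞 T₀ hT₀
  have hK' : ∀ x, x ∈ K ↔ pt A x ∈ ⋃ n, (Z n : Set ↥A.left) := by
    intro x
    rw [hK, range_eq, Set.singleton_subset_iff]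
  exact Groth.Agent.Lib.Helper85.Admissible.main (pt A) (RR A) (LL A) (continuous_RR A)
    (continuous_LL A) (RR_pt A) (LL_pt A) hd havoid hacc (isClosed_pt A) K Z hK'
    (fun x => Set.range ⇑x.left.base) (range_eq A)

end Groth.Agent.Lib.Helper85.AdmissibleScheme
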