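import Mathlib

/-!
# Matrix lemmas for the Quillen–Horrocks assembly (helper85)

Partial isomorphisms between idempotent matrices, block stabilisation, extraction, and the
passage from matrices back to modules.
-/

open Polynomial

namespace Groth.Agent.Lib.Helper85.Horrocks

universe u v w

section Retract

variable {R : Type u} [CommRing R] {M1 : Type v} {M2 : Type w} [AddCommGroup M1] [Module R M1]
  [AddCommGroup M2] [Module R M2] {r1 r2 : Type*} [Fintype r1] [DecidableEq r1] [Fintype r2]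
  [DecidableEq r2]

/-- Two retracts of free modules whose idempotents are related by a partial isomorphism
`(α, β)` are isomorphic. -/
theorem linearEquiv_of_partialIso
    (f1 : (r1 → R) →ₗ[R] M1) (g1 : M1 →ₗ[R] (r1 → R)) (h1 : f1 ∘ₗ g1 = LinearMap.id)
    (f2 : (r2 → R) →ₗ[R] M2) (g2 : M2 →ₗ[R] (r2 → R)) (h2 : f2 ∘ₗ g2 = LinearMap.id)
    (α : Matrix r2 r1 R) (β : Matrix r1 r2 R)
    (hβα : β * α = LinearMap.toMatrix' (g1 ∘ₗ f1))
    (hαβ : α * β = LinearMap.toMatrix' (g2 ∘ₗ f2)) : Nonempty (M1 ≃ₗ[R] M2) := by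
  have hβα' : Matrix.toLin' β ∘ₗ Matrix.toLin' α = g1 ∘ₗ f1 := by
    rw [← Matrix.toLin'_mul, hβα, Matrix.toLin'_toMatrix']
  have hαβ' : Matrix.toLin' α ∘ₗ Matrix.toLin' β = g2 ∘ₗ f2 := by
    rw [← Matrix.toLin'_mul, hαβ, Matrix.toLin'_toMatrix']
  have k1 : ∀ x, f1 (g1 x) = x := fun x => LinearMap.congr_fun h1 x
  have k2 : ∀ x, f2 (g2 x) = x := fun x => LinearMap.congr_fun h2 x
  have kβα : ∀ v, Matrix.toLin' β (Matrix.toLin' α v) = g1 (f1 v) := fun v =>
    LinearMap.congr_fun hβα' v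
  have kαβ : ∀ v, Matrix.toLin' α (Matrix.toLin' β v) = g2 (f2 v) := fun v =>
    LinearMap.congr_fun hαβ' v
  refine ⟨LinearEquiv.ofLinear (f2 ∘ₗ Matrix.toLin' α ∘ₗ g1) (f1 ∘ₗ Matrix.toLin' β ∘ₗ g2) ?_ ?_⟩
  · ext x
    simp only [LinearMap.coe_comp, Function.comp_apply, LinearMap.id_coe, id_eq]
    -- f2 α g1 f1 β g2 x = f2 α (β α) β g2 x = f2 (g2 f2)(g2 f2) g2 x
    rw [← kβα, kαβ, kαβ, k2, k2, k2]
  · ext x
    simp only [LinearMap.coe_comp, Function.comp_apply, LinearMap.id_coe, id_eq]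
    rw [← kαβ, kβα, kβα, k1, k1, k1]

end Retract

section Blocks

variable {R : Type u} [CommRing R] {r : Type*} [Fintype r] [DecidableEq r]

/-- Stabilised conjugacy from a partial isomorphism. -/
theorem block_conj (e e0 α β : Matrix r r R) (hαe : α * e = α) (he0α : e0 * α = α)
    (heβ : e * β = β) (hβe0 : β * e0 = β) (hβα : β * α = e) (hαβ : α * β = e0) :
    ∃ σ σ' : Matrix (r ⊕ r) (r ⊕ r) R, σ * σ' = 1 ∧
      σ * Matrix.fromBlocks e 0 0 0 * σ' = Matrix.fromBlocks e0 0 0 0 := by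
  have hee : e * e = e := by
    calc e * e = β * (α * β) * α := by rw [← hβα]; simp only [mul_assoc]
      _ = e := by rw [hαβ, hβe0, hβα]
  have he0e0 : e0 * e0 = e0 := by
    calc e0 * e0 = α * (β * α) * β := by rw [← hαβ]; simp only [mul_assoc]
      _ = e0 := by rw [hβα, hαe, hαβ]
  refine ⟨Matrix.fromBlocks α (1 - e0) (1 - e) β, Matrix.fromBlocks β (1 - e) (1 - e0) α, ?_, ?_⟩
  · rw [Matrix.fromBlocks_multiply, ← Matrix.fromBlocks_one]
    congr 1
    · rw [hαβ]; noncomm_ring; rw [he0e0]; abel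
    · noncomm_ring; rw [hαe, he0α]; abel
    · noncomm_ring; rw [heβ, hβe0]; abel
    · rw [hβα]; noncomm_ring; rw [hee]; abel
  · rw [Matrix.fromBlocks_multiply, Matrix.fromBlocks_multiply]
    congr 1
    · simp [hαe, hαβ]
    · simp only [mul_zero, add_zero, zero_mul]
      rw [hαe]; noncomm_ring; rw [hαe]; abel
    · simp only [mul_zero, add_zero, zero_mul]
      have : (1 - e) * e = 0 := by noncomm_ring; rw [hee]; abel
      rw [this, zero_mul]
    · simp only [mul_zero, add_zero, zero_mul]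
      have : (1 - e) * e = 0 := by noncomm_ring; rw [hee]; abel
      rw [this, zero_mul]

/-- Extracting a partial isomorphism from a stabilised conjugacy. -/
theorem partialIso_of_block_conj (e e0 : Matrix r r R) (hee : e * e = e) (he0e0 : e0 * e0 = e0)
    (σ σ' : Matrix (r ⊕ r) (r ⊕ r) R) (h1 : σ * σ' = 1)
    (h2 : σ * Matrix.fromBlocks e 0 0 0 * σ' = Matrix.fromBlocks e0 0 0 0) :
    ∃ α β : Matrix r r R, β * α = e ∧ α * β = e0 := by
  have h1' : σ' * σ = 1 := mul_eq_one_comm.mp h1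
  set E : Matrix (r ⊕ r) (r ⊕ r) R := Matrix.fromBlocks e 0 0 0 with hE
  set E0 : Matrix (r ⊕ r) (r ⊕ r) R := Matrix.fromBlocks e0 0 0 0 with hE0
  have hEE : E * E = E := by
    rw [hE, Matrix.fromBlocks_multiply]; simp [hee]
  have hE0E0 : E0 * E0 = E0 := by
    rw [hE0, Matrix.fromBlocks_multiply]; simp [he0e0]
  have hσE : σ * E = E0 * σ := by
    calc σ * E = σ * E * (σ' * σ) := by rw [h1', mul_one]
      _ = (σ * E * σ') * σ := by simp only [mul_assoc]
      _ = E0 * σ := by rw [h2]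
  have hEσ' : E * σ' = σ' * E0 := by
    calc E * σ' = (σ' * σ) * E * σ' := by rw [h1', one_mul]
      _ = σ' * (σ * E * σ') := by simp only [mul_assoc]
      _ = σ' * E0 := by rw [h2]
  have k1 : (E * σ' * E0) * (E0 * σ * E) = E := by
    calc (E * σ' * E0) * (E0 * σ * E) = E * σ' * (E0 * E0) * σ * E := by simp only [mul_assoc]
      _ = E * σ' * (E0 * σ) * E := by rw [hE0E0]; simp only [mul_assoc]
      _ = E * (σ' * σ) * E * E := by rw [← hσE]; simp only [mul_assoc]
      _ = E := by rw [h1', mul_one, hEE, hEE]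
  have k2 : (E0 * σ * E) * (E * σ' * E0) = E0 := by
    calc (E0 * σ * E) * (E * σ' * E0) = E0 * σ * (E * E) * σ' * E0 := by simp only [mul_assoc]
      _ = E0 * (σ * E * σ') * E0 := by rw [hEE]; simp only [mul_assoc]
      _ = E0 := by rw [h2, hE0E0, hE0E0]
  have b1 : E0 * σ * E = Matrix.fromBlocks (e0 * σ.toBlocks₁₁ * e) 0 0 0 := by
    conv_lhs => rw [← Matrix.fromBlocks_toBlocks σ]
    rw [hE, hE0, Matrix.fromBlocks_multiply, Matrix.fromBlocks_multiply]
    simp
  have b2 : E * σ' * E0 = Matrix.fromBlocks (e * σ'.toBlocks₁₁ * e0) 0 0 0 := by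
    conv_lhs => rw [← Matrix.fromBlocks_toBlocks σ']
    rw [hE, hE0, Matrix.fromBlocks_multiply, Matrix.fromBlocks_multiply]
    simp
  refine ⟨e0 * σ.toBlocks₁₁ * e, e * σ'.toBlocks₁₁ * e0, ?_, ?_⟩
  · rw [b1, b2, Matrix.fromBlocks_multiply, hE] at k1
    have := (Matrix.fromBlocks_inj.mp k1).1
    simpa using this
  · rw [b1, b2, Matrix.fromBlocks_multiply, hE0] at k2
    have := (Matrix.fromBlocks_inj.mp k2).1
    simpa using this

end Blocks

section Factor

variable {R : Type u} [CommRing R] {r : Type w} [Fintype r] [DecidableEq r]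

/-- If the range of an idempotent matrix is free, the matrix factors through a free module. -/
theorem exists_factor_of_free (e : Matrix r r R) (hee : e * e = e)
    [Module.Free R (LinearMap.range (Matrix.toLin' e))] :
    ∃ (κ : Type (max w u)) (_ : Fintype κ) (_ : DecidableEq κ) (Bm : Matrix r κ R)
      (U : Matrix κ r R),
      Bm * U = e ∧ U * Bm = 1 := by
  classical
  let Rg := LinearMap.range (Matrix.toLin' e)
  haveI : Module.Finite R Rg := Module.Finite.range _
  let b := Module.Free.chooseBasis R Rg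
  have hmem : ∀ j, e.mulVec (Pi.single j 1) ∈ Rg := fun j => ⟨Pi.single j 1, by simp⟩
  have hfix : ∀ v : Rg, e.mulVec (v : r → R) = v := by
    rintro ⟨v, w, rfl⟩
    simp only [Matrix.toLin'_apply, Matrix.mulVec_mulVec, hee]
  refine ⟨Module.Free.ChooseBasisIndex R Rg, inferInstance, inferInstance,
    Matrix.of fun i k => (b k : r → R) i,
    Matrix.of fun k j => b.repr ⟨e.mulVec (Pi.single j 1), hmem j⟩ k, ?_, ?_⟩
  · refine Matrix.ext fun i j => ?_
    simp only [Matrix.mul_apply, Matrix.of_apply]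
    have := congrArg (fun v : Rg => (v : r → R) i) (b.sum_repr ⟨e.mulVec (Pi.single j 1), hmem j⟩)
    simp only [Submodule.coe_sum, Submodule.coe_smul, Finset.sum_apply, Pi.smul_apply,
      smul_eq_mul] at this
    have hval : e.mulVec (Pi.single j 1) i = e i j := by
      rw [Matrix.mulVec_single_one]; rfl
    rw [← hval, ← this]
    exact Finset.sum_congr rfl fun k _ => mul_comm _ _
  · refine Matrix.ext fun k l => ?_
    simp only [Matrix.mul_apply, Matrix.of_apply]
    -- Σ_j repr(e e_j)_k * (b l)_j = repr(e (b l))_k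
    have h1 : (⟨e.mulVec (b l : r → R), ⟨(b l : r → R), by simp⟩⟩ : Rg) =
        ∑ j, (b l : r → R) j • (⟨e.mulVec (Pi.single j 1), hmem j⟩ : Rg) := by
      apply Subtype.ext
      simp only [Submodule.coe_sum, Submodule.coe_smul]
      funext i
      simp only [Finset.sum_apply, Pi.smul_apply, smul_eq_mul, Matrix.mulVec_single_one]
      simp only [Matrix.mulVec, dotProduct, Matrix.col_apply]
      exact Finset.sum_congr rfl fun j _ => mul_comm _ _
    have h2 : (⟨e.mulVec (b l : r → R), ⟨(b l : r → R), by simp⟩⟩ : Rg) = b l := by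
      apply Subtype.ext; exact hfix (b l)
    have h3 := congrArg (fun v => b.repr v k) (h1.symm.trans h2)
    simp only [map_sum, map_smul, Finsupp.coe_finsetSum, Finsupp.coe_smul, Finset.sum_apply,
      Pi.smul_apply, smul_eq_mul, Module.Basis.repr_self] at h3
    rw [Matrix.one_apply, ← h3.trans (by simp [Finsupp.single_apply, eq_comm] :
      (Finsupp.single l (1 : R)) k = if k = l then 1 else 0)]
    exact Finset.sum_congr rfl fun j _ => mul_comm _ _

end Factor

section Poly

variable {B : Type u} [CommRing B] {r : Type*} [Fintype r] [DecidableEq r]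
  {κ : Type*} [Fintype κ] [DecidableEq κ]

/-- From a factorisation `e = Bm * U`, `U * Bm = 1` over `B[X]`, a partial isomorphism between
`e` and its constant term. -/
theorem partialIso_of_factor (e : Matrix r r B[X]) (Bm : Matrix r κ B[X]) (U : Matrix κ r B[X])
    (h1 : Bm * U = e) (h2 : U * Bm = 1) :
    ∃ α β : Matrix r r B[X],
      α * e = α ∧ ((C : B →+* B[X]).comp (evalRingHom 0)).mapMatrix e * α = α ∧
      e * β = β ∧ β * ((C : B →+* B[X]).comp (evalRingHom 0)).mapMatrix e = β ∧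
      β * α = e ∧ α * β = ((C : B →+* B[X]).comp (evalRingHom 0)).mapMatrix e := by
  set ev : B[X] →+* B[X] := (C : B →+* B[X]).comp (evalRingHom 0) with hev
  set Bm0 : Matrix r κ B[X] := Bm.map ev with hBm0
  set U0 : Matrix κ r B[X] := U.map ev with hU0
  have k1 : Bm0 * U0 = ev.mapMatrix e := by
    rw [hBm0, hU0, ← Matrix.map_mul, h1]; rfl
  have k2 : U0 * Bm0 = 1 := by
    rw [hBm0, hU0, ← Matrix.map_mul, h2]
    exact Matrix.map_one ev (map_zero ev) (map_one ev)
  refine ⟨Bm0 * U, Bm * U0, ?_, ?_, ?_, ?_, ?_, ?_⟩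
  · rw [← h1]
    calc Bm0 * U * (Bm * U) = Bm0 * (U * Bm) * U := by simp only [Matrix.mul_assoc]
      _ = Bm0 * U := by rw [h2, Matrix.mul_one]
  · rw [← k1]
    calc Bm0 * U0 * (Bm0 * U) = Bm0 * (U0 * Bm0) * U := by simp only [Matrix.mul_assoc]
      _ = Bm0 * U := by rw [k2, Matrix.mul_one]
  · rw [← h1]
    calc Bm * U * (Bm * U0) = Bm * (U * Bm) * U0 := by simp only [Matrix.mul_assoc]
      _ = Bm * U0 := by rw [h2, Matrix.mul_one]
  · rw [← k1]
    calc Bm * U0 * (Bm0 * U0) = Bm * (U0 * Bm0) * U0 := by simp only [Matrix.mul_assoc]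
      _ = Bm * U0 := by rw [k2, Matrix.mul_one]
  · calc Bm * U0 * (Bm0 * U) = Bm * (U0 * Bm0) * U := by simp only [Matrix.mul_assoc]
      _ = e := by rw [k2, Matrix.mul_one, h1]
  · calc Bm0 * U * (Bm * U0) = Bm0 * (U * Bm) * U0 := by simp only [Matrix.mul_assoc]
      _ = ev.mapMatrix e := by rw [h2, Matrix.mul_one, k1]

end Poly

end Groth.Agent.Lib.Helper85.Horrocks
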