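import Mathlib

/-!
# Quillen patching for matrices, in Vaserstein's form (helper85)

For a square matrix `e` over `A[X]`: if for every maximal ideal `𝔪` the matrix `e` is conjugate
over `A_𝔪[X]` to its constant term `e(0)`, then `e` is conjugate to `e(0)` over `A[X]`.
-/

open Polynomial

namespace Groth.Agent.Lib.Helper85.Horrocks

universe u v

section Homs

variable (R : Type u) [CommRing R]

/-- `p(t) ↦ p(t)` as a polynomial in `t, u` (`t = C X` inner, `u = X` outer). -/
noncomputable def inc : R[X] →+* R[X][X] := C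

variable {R}

/-- `p(t) ↦ p(t + a u)`. -/
noncomputable def sh (a : R) : R[X] →+* R[X][X] :=
  eval₂RingHom ((C : R[X] →+* R[X][X]).comp C) (C X + C (C a) * X)

/-- `q(t,u) ↦ q(t, c u)`. -/
noncomputable def scale (c : R) : R[X][X] →+* R[X][X] :=
  eval₂RingHom (C : R[X] →+* R[X][X]) (C (C c) * X)

/-- `q(t,u) ↦ q(t + b u, u)`. -/
noncomputable def shift2 (b : R) : R[X][X] →+* R[X][X] :=
  eval₂RingHom (sh b) X

variable (R)

/-- `q(t,u) ↦ q(0,u)`. -/
noncomputable def ev0 : R[X][X] →+* R[X] := mapRingHom (evalRingHom 0)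

/-- `q(t,u) ↦ q(t,0)`. -/
noncomputable def evu0 : R[X][X] →+* R[X] := evalRingHom 0

variable {R}

@[simp] lemma inc_apply (p : R[X]) : inc R p = C p := rfl
@[simp] lemma sh_C (a b : R) : sh a (C b) = C (C b) := by simp [sh]
@[simp] lemma sh_X (a : R) : sh a X = C X + C (C a) * X := by simp [sh]
@[simp] lemma scale_C (c : R) (p : R[X]) : scale c (C p) = C p := by simp [scale]
@[simp] lemma scale_X (c : R) : scale c X = C (C c) * X := by simp [scale]
@[simp] lemma shift2_C (b : R) (p : R[X]) : shift2 b (C p) = sh b p := by simp [shift2]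
@[simp] lemma shift2_X (b : R) : shift2 b X = X := by simp [shift2]
@[simp] lemma ev0_C (p : R[X]) : ev0 R (C p) = C (p.eval 0) := by simp [ev0]
@[simp] lemma ev0_X : ev0 R X = X := by simp [ev0]
@[simp] lemma evu0_C (p : R[X]) : evu0 R (C p) = p := by simp [evu0]
@[simp] lemma evu0_X : evu0 R X = 0 := by simp [evu0]

lemma sh_zero : sh (0 : R) = inc R := by
  apply ringHom_ext <;> simp

lemma scale_comp_sh (c a : R) : (scale c).comp (sh a) = sh (c * a) := by
  apply ringHom_ext
  · intro b; simp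
  · simp only [RingHom.comp_apply, sh_X, map_add, map_mul, scale_C, scale_X, C_mul]; ring

lemma scale_comp_inc (c : R) : (scale c).comp (inc R) = inc R := by
  apply ringHom_ext <;> simp

lemma shift2_comp_sh (b a : R) : (shift2 b).comp (sh a) = sh (a + b) := by
  apply ringHom_ext
  · intro c; simp
  · simp only [RingHom.comp_apply, sh_X, map_add, map_mul, shift2_C, shift2_X, sh_C, C_add]; ring

lemma shift2_comp_inc (b : R) : (shift2 b).comp (inc R) = sh b := by
  apply ringHom_ext <;> simp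

lemma ev0_comp_sh_one : (ev0 R).comp (sh 1) = RingHom.id _ := by
  apply ringHom_ext <;> simp

lemma ev0_comp_inc : (ev0 R).comp (inc R) = (C : R →+* R[X]).comp (evalRingHom 0) := by
  apply ringHom_ext <;> simp

lemma evu0_comp_sh (a : R) : (evu0 R).comp (sh a) = RingHom.id _ := by
  apply ringHom_ext <;> simp

lemma evu0_comp_inc : (evu0 R).comp (inc R) = RingHom.id _ := by
  apply ringHom_ext <;> simp

lemma evu0_comp_scale (c : R) : (evu0 R).comp (scale c) = evu0 R := by
  apply ringHom_ext <;> simp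

lemma scale_comp_scale (c d : R) : (scale c).comp (scale d) = scale (c * d) := by
  apply ringHom_ext
  · intro p; simp
  · simp only [RingHom.comp_apply, scale_X, map_mul, scale_C, C_mul]; ring

lemma sh_comp_C (a : R) : (sh a).comp C = (inc R).comp C := by
  ext b; simp

section Nat

variable {S : Type v} [CommRing S] (φ : R →+* S)

lemma map_comp_sh (a : R) :
    (mapRingHom (mapRingHom φ)).comp (sh a) = (sh (φ a)).comp (mapRingHom φ) := by
  apply ringHom_ext <;> simp

lemma map_comp_inc :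
    (mapRingHom (mapRingHom φ)).comp (inc R) = (inc S).comp (mapRingHom φ) := by
  apply ringHom_ext <;> simp

lemma map_comp_scale (c : R) :
    (mapRingHom (mapRingHom φ)).comp (scale c) = (scale (φ c)).comp (mapRingHom (mapRingHom φ)) := by
  apply ringHom_ext <;> simp

lemma map_comp_evu0 :
    (mapRingHom φ).comp (evu0 R) = (evu0 S).comp (mapRingHom (mapRingHom φ)) := by
  apply ringHom_ext <;> simp

end Nat

end Homs


lemma mapMatrix_mapMatrix {n : Type*} [Fintype n] [DecidableEq n] {α β γ : Type*} [NonAssocSemiring α]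
    [NonAssocSemiring β] [NonAssocSemiring γ] (f : β →+* γ) (g : α →+* β) (M : Matrix n n α) :
    f.mapMatrix (g.mapMatrix M) = (f.comp g).mapMatrix M := by
  ext i j; simp

section Q

variable {A : Type u} [CommRing A] {n : Type v} [Fintype n] [DecidableEq n]

/-- Vaserstein's set: `a` such that `e(t + a u)` is conjugate to `e(t)` over `A[t,u]`. -/
def QSet (e : Matrix n n A[X]) : Set A :=
  {a | ∃ ψ ψ' : Matrix n n A[X][X], ψ * ψ' = 1 ∧
    ψ * (sh a).mapMatrix e * ψ' = (inc A).mapMatrix e}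

lemma zero_mem_Q (e : Matrix n n A[X]) : (0 : A) ∈ QSet e :=
  ⟨1, 1, by simp, by simp [sh_zero]⟩

lemma mul_mem_Q {e : Matrix n n A[X]} {a : A} (c : A) (ha : a ∈ QSet e) : c * a ∈ QSet e := by
  obtain ⟨ψ, ψ', h1, h2⟩ := ha
  refine ⟨(scale c).mapMatrix ψ, (scale c).mapMatrix ψ', ?_, ?_⟩
  · rw [← map_mul, h1, map_one]
  · have := congrArg (scale c).mapMatrix h2
    rw [map_mul, map_mul, mapMatrix_mapMatrix, mapMatrix_mapMatrix, scale_comp_sh,
      scale_comp_inc] at this
    exact this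

lemma add_mem_Q {e : Matrix n n A[X]} {a b : A} (ha : a ∈ QSet e) (hb : b ∈ QSet e) :
    a + b ∈ QSet e := by
  obtain ⟨ψa, ψa', ha1, ha2⟩ := ha
  obtain ⟨ψb, ψb', hb1, hb2⟩ := hb
  have h3 := congrArg (shift2 b).mapMatrix ha2
  rw [map_mul, map_mul, mapMatrix_mapMatrix, mapMatrix_mapMatrix, shift2_comp_sh,
    shift2_comp_inc] at h3
  have h4 : (shift2 b).mapMatrix ψa * (shift2 b).mapMatrix ψa' = 1 := by
    rw [← map_mul, ha1, map_one]
  refine ⟨ψb * (shift2 b).mapMatrix ψa, (shift2 b).mapMatrix ψa' * ψb', ?_, ?_⟩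
  · calc ψb * (shift2 b).mapMatrix ψa * ((shift2 b).mapMatrix ψa' * ψb')
        = ψb * ((shift2 b).mapMatrix ψa * (shift2 b).mapMatrix ψa') * ψb' := by
          simp only [mul_assoc]
      _ = 1 := by rw [h4, mul_one, hb1]
  · calc ψb * (shift2 b).mapMatrix ψa * (sh (a + b)).mapMatrix e *
          ((shift2 b).mapMatrix ψa' * ψb')
        = ψb * ((shift2 b).mapMatrix ψa * (sh (a + b)).mapMatrix e *
            (shift2 b).mapMatrix ψa') * ψb' := by simp only [mul_assoc]
      _ = (inc A).mapMatrix e := by rw [h3, hb2]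

/-- Vaserstein's ideal. -/
def Q (e : Matrix n n A[X]) : Ideal A where
  carrier := QSet e
  add_mem' := add_mem_Q
  zero_mem' := zero_mem_Q e
  smul_mem' c _ ha := mul_mem_Q c ha

lemma mem_Q_iff {e : Matrix n n A[X]} {a : A} : a ∈ Q e ↔ a ∈ QSet e := Iff.rfl

lemma conj_of_one_mem_Q {e : Matrix n n A[X]} (h : (1 : A) ∈ QSet e) :
    ∃ σ σ' : Matrix n n A[X], σ * σ' = 1 ∧
      σ * e * σ' = ((C : A →+* A[X]).comp (evalRingHom 0)).mapMatrix e := by
  obtain ⟨ψ, ψ', h1, h2⟩ := h
  refine ⟨(ev0 A).mapMatrix ψ, (ev0 A).mapMatrix ψ', by rw [← map_mul, h1, map_one], ?_⟩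
  have := congrArg (ev0 A).mapMatrix h2
  rw [map_mul, map_mul, mapMatrix_mapMatrix, mapMatrix_mapMatrix, ev0_comp_sh_one,
    ev0_comp_inc] at this
  simpa using this

end Q

section Descent

variable {A : Type u} [CommRing A] (S : Submonoid A) (B : Type u) [CommRing B] [Algebra A B]
  [IsLocalization S B]

attribute [local instance] Polynomial.algebra

lemma isLoc2 : IsLocalization ((S.map (C : A →+* A[X])).map (C : A[X] →+* A[X][X])) B[X][X] :=
  haveI := Polynomial.isLocalization S B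
  Polynomial.isLocalization (S.map (C : A →+* A[X])) B[X]

lemma mem_S2 {m : A[X][X]} (hm : m ∈ (S.map (C : A →+* A[X])).map (C : A[X] →+* A[X][X])) :
    ∃ s ∈ S, m = C (C s) := by
  obtain ⟨p, hp, rfl⟩ := Submonoid.mem_map.mp hm
  obtain ⟨s, hs, rfl⟩ := Submonoid.mem_map.mp hp
  exact ⟨s, hs, rfl⟩

lemma exists_lift_fam {κ : Type*} [Finite κ] (f : κ → B[X][X]) :
    ∃ s ∈ S, ∀ i, ∃ z : A[X][X],
      mapRingHom (mapRingHom (algebraMap A B)) z = C (C (algebraMap A B s)) * f i := by
  haveI := isLoc2 S B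
  obtain ⟨b, hb⟩ := IsLocalization.exist_integer_multiples_of_finite
    ((S.map (C : A →+* A[X])).map (C : A[X] →+* A[X][X])) f
  obtain ⟨s, hs, hbs⟩ := mem_S2 S b.2
  refine ⟨s, hs, fun i => ?_⟩
  obtain ⟨z, hz⟩ := hb i
  refine ⟨z, ?_⟩
  rw [Algebra.smul_def, hbs] at hz
  simpa using hz

lemma exists_kill_fam {κ : Type*} [Finite κ] (z : κ → A[X][X])
    (h : ∀ i, mapRingHom (mapRingHom (algebraMap A B)) (z i) = 0) :
    ∃ s ∈ S, ∀ i, C (C s) * z i = 0 := by
  classical
  haveI := isLoc2 S B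
  haveI := Fintype.ofFinite κ
  have : ∀ i, ∃ m : ((S.map (C : A →+* A[X])).map (C : A[X] →+* A[X][X])),
      (m : A[X][X]) * z i = 0 := fun i =>
    (IsLocalization.map_eq_zero_iff _ B[X][X] (z i)).mp (by simpa using h i)
  choose m hm using this
  obtain ⟨s, hs, hms⟩ := mem_S2 S (∏ i, m i).2
  refine ⟨s, hs, fun i => ?_⟩
  rw [← hms]
  have hdvd : (m i : A[X][X]) ∣ ((∏ j, m j : _) : A[X][X]) := by
    rw [Submonoid.coe_finset_prod]
    exact Finset.dvd_prod_of_mem _ (Finset.mem_univ i)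
  obtain ⟨c, hc⟩ := hdvd
  rw [hc, mul_comm (m i : A[X][X]), mul_assoc, hm i, mul_zero]

variable {n : Type v} [Fintype n] [DecidableEq n]

lemma eq_X_smul_divX {R : Type*} [CommRing R] (Z : Matrix n n R[X])
    (h : (evalRingHom (0 : R)).mapMatrix Z = 0) : Z = (X : R[X]) • Z.map divX := by
  ext i j
  have h0 : (Z i j).coeff 0 = 0 := by
    rw [coeff_zero_eq_eval_zero]
    have := congrFun (congrFun h i) j
    simpa using this
  have := X_mul_divX_add (Z i j)
  rw [h0, C_0, add_zero] at this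
  simp [this]

lemma exists_scale_kill (Δ : Matrix n n A[X][X]) (h0 : (evu0 A).mapMatrix Δ = 0)
    (hL : (mapRingHom (mapRingHom (algebraMap A B))).mapMatrix Δ = 0) :
    ∃ s ∈ S, (scale s).mapMatrix Δ = 0 := by
  have hΔ := eq_X_smul_divX Δ h0
  have hκ : ∀ ij : n × n,
      mapRingHom (mapRingHom (algebraMap A B)) (divX (Δ ij.1 ij.2)) = 0 := by
    rintro ⟨i, j⟩
    have h1 := congrFun (congrFun hL i) j
    have h2 := congrFun (congrFun hΔ i) j
    simp only [RingHom.mapMatrix_apply, Matrix.map_apply, Matrix.zero_apply, Matrix.smul_apply,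
      smul_eq_mul] at h1 h2
    rw [h2, map_mul] at h1
    have hX : mapRingHom (mapRingHom (algebraMap A B)) (X : A[X][X]) = X := by simp
    rw [hX] at h1
    exact (monic_X (R := B[X])).isRegular.left (by simpa using h1)
  obtain ⟨s, hs, hkill⟩ := exists_kill_fam S B (fun ij : n × n => divX (Δ ij.1 ij.2)) hκ
  refine ⟨s, hs, ?_⟩
  refine Matrix.ext fun i j => ?_
  have h2 := congrFun (congrFun hΔ i) j
  simp only [Matrix.smul_apply, Matrix.map_apply, smul_eq_mul] at h2
  simp only [RingHom.mapMatrix_apply, Matrix.map_apply, Matrix.zero_apply]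
  rw [h2, map_mul, scale_X]
  have := congrArg (scale s) (hkill (i, j))
  rw [map_mul, scale_C, map_zero] at this
  calc C (C s) * X * scale s (divX (Δ i j)) = X * (C (C s) * scale s (divX (Δ i j))) := by ring
    _ = 0 := by rw [this, mul_zero]

end Descent

lemma mapMatrix_smul' {n : Type*} [Fintype n] [DecidableEq n] {α β : Type*} [Semiring α]
    [Semiring β] (f : α →+* β) (r : α) (M : Matrix n n α) :
    f.mapMatrix (r • M) = f r • f.mapMatrix M := by
  ext i j; simp

section Local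

variable {A : Type u} [CommRing A] (S : Submonoid A) (B : Type u) [CommRing B] [Algebra A B]
  [IsLocalization S B] {n : Type v} [Fintype n] [DecidableEq n]

theorem mem_Q_of_local (e : Matrix n n A[X]) (σ σ' : Matrix n n B[X]) (h1 : σ * σ' = 1)
    (h2 : σ * (mapRingHom (algebraMap A B)).mapMatrix e * σ' =
      (mapRingHom (algebraMap A B)).mapMatrix
        (((C : A →+* A[X]).comp (evalRingHom 0)).mapMatrix e)) :
    ∃ s ∈ S, s ∈ QSet e := by
  set L1 := mapRingHom (algebraMap A B) with hL1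
  set L2 := mapRingHom L1 with hL2
  set eB := L1.mapMatrix e with heB
  set e0B := L1.mapMatrix (((C : A →+* A[X]).comp (evalRingHom 0)).mapMatrix e) with he0B
  have h1' : σ' * σ = 1 := mul_eq_one_comm.mp h1
  have hconst : (sh (1 : B)).mapMatrix e0B = (inc B).mapMatrix e0B := by
    refine Matrix.ext fun i j => ?_
    simp [he0B, hL1]
  have hσeσ : σ' * e0B * σ = eB := by
    rw [← h2]
    calc σ' * (σ * eB * σ') * σ = (σ' * σ) * eB * (σ' * σ) := by simp only [mul_assoc]
      _ = eB := by rw [h1', one_mul, mul_one]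
  set T := (inc B).mapMatrix σ' * (sh 1).mapMatrix σ with hT
  set T' := (sh 1).mapMatrix σ' * (inc B).mapMatrix σ with hT'
  have hTT' : T * T' = 1 := by
    calc T * T' = (inc B).mapMatrix σ' * ((sh 1).mapMatrix σ * (sh 1).mapMatrix σ') *
          (inc B).mapMatrix σ := by simp only [hT, hT', mul_assoc]
      _ = 1 := by rw [← map_mul, h1, map_one, mul_one, ← map_mul, h1', map_one]
  have hT0 : (evu0 B).mapMatrix T = 1 := by
    rw [hT, map_mul, mapMatrix_mapMatrix, mapMatrix_mapMatrix, evu0_comp_inc, evu0_comp_sh,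
      RingHom.mapMatrix_id, RingHom.id_apply, RingHom.id_apply]
    exact h1'
  have hT0' : (evu0 B).mapMatrix T' = 1 := by
    rw [hT', map_mul, mapMatrix_mapMatrix, mapMatrix_mapMatrix, evu0_comp_inc, evu0_comp_sh,
      RingHom.mapMatrix_id, RingHom.id_apply, RingHom.id_apply]
    exact h1'
  have hconj : T * (sh 1).mapMatrix eB * T' = (inc B).mapMatrix eB := by
    calc T * (sh 1).mapMatrix eB * T' = (inc B).mapMatrix σ' *
          ((sh 1).mapMatrix σ * (sh 1).mapMatrix eB * (sh 1).mapMatrix σ') *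
          (inc B).mapMatrix σ := by simp only [hT, hT', mul_assoc]
      _ = (inc B).mapMatrix σ' * (sh 1).mapMatrix e0B * (inc B).mapMatrix σ := by
          rw [← map_mul, ← map_mul, h2]
      _ = (inc B).mapMatrix (σ' * e0B * σ) := by rw [hconst, map_mul, map_mul]
      _ = _ := by rw [hσeσ]
  -- Step 1: write T = 1 + u ρ
  set ρ := (T - 1).map divX with hρdef
  set ρ' := (T' - 1).map divX with hρ'def
  have hρ : T = 1 + (X : B[X][X]) • ρ := by
    have := eq_X_smul_divX (T - 1) (by
      rw [map_sub, map_one]; show (evu0 B).mapMatrix T - 1 = 0; rw [hT0, sub_self])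
    rw [← hρdef] at this
    rw [← this]; abel
  have hρ' : T' = 1 + (X : B[X][X]) • ρ' := by
    have := eq_X_smul_divX (T' - 1) (by
      rw [map_sub, map_one]; show (evu0 B).mapMatrix T' - 1 = 0; rw [hT0', sub_self])
    rw [← hρ'def] at this
    rw [← this]; abel
  obtain ⟨s1, hs1, hlift⟩ := exists_lift_fam S B
    (fun x : (n × n) ⊕ (n × n) => Sum.elim (fun ij => ρ ij.1 ij.2) (fun ij => ρ' ij.1 ij.2) x)
  choose z hz using hlift
  set c1 := algebraMap A B s1 with hc1
  let ρt : Matrix n n A[X][X] := Matrix.of fun i j => z (Sum.inl (i, j))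
  let ρt' : Matrix n n A[X][X] := Matrix.of fun i j => z (Sum.inr (i, j))
  have hρt : L2.mapMatrix ρt = (C (C c1) : B[X][X]) • ρ := by
    refine Matrix.ext fun i j => ?_
    have := hz (Sum.inl (i, j))
    simp only [RingHom.mapMatrix_apply, Matrix.map_apply, Matrix.smul_apply, smul_eq_mul, ρt,
      Matrix.of_apply]
    exact this
  have hρt' : L2.mapMatrix ρt' = (C (C c1) : B[X][X]) • ρ' := by
    refine Matrix.ext fun i j => ?_
    have := hz (Sum.inr (i, j))
    simp only [RingHom.mapMatrix_apply, Matrix.map_apply, Matrix.smul_apply, smul_eq_mul, ρt',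
      Matrix.of_apply]
    exact this
  set ψ1 : Matrix n n A[X][X] := 1 + (X : A[X][X]) • (scale s1).mapMatrix ρt with hψ1
  set ψ1' : Matrix n n A[X][X] := 1 + (X : A[X][X]) • (scale s1).mapMatrix ρt' with hψ1'
  have hL2X : L2 (X : A[X][X]) = X := by simp [hL2]
  have hLψ1 : L2.mapMatrix ψ1 = (scale c1).mapMatrix T := by
    rw [hρ, hψ1, map_add, map_one, map_add, map_one, mapMatrix_smul', mapMatrix_smul',
      mapMatrix_mapMatrix, hL2, hL1, map_comp_scale, ← mapMatrix_mapMatrix, ← hL1, ← hL2, hρt,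
      mapMatrix_smul', scale_C, scale_X, hL2X, smul_smul, mul_comm]
  have hLψ1' : L2.mapMatrix ψ1' = (scale c1).mapMatrix T' := by
    rw [hρ', hψ1', map_add, map_one, map_add, map_one, mapMatrix_smul', mapMatrix_smul',
      mapMatrix_mapMatrix, hL2, hL1, map_comp_scale, ← mapMatrix_mapMatrix, ← hL1, ← hL2, hρt',
      mapMatrix_smul', scale_C, scale_X, hL2X, smul_smul, mul_comm]
  have hev1 : (evu0 A).mapMatrix ψ1 = 1 := by
    rw [hψ1, map_add, map_one, mapMatrix_smul', evu0_X, zero_smul, add_zero]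
  have hev1' : (evu0 A).mapMatrix ψ1' = 1 := by
    rw [hψ1', map_add, map_one, mapMatrix_smul', evu0_X, zero_smul, add_zero]
  set Δa := ψ1 * ψ1' - 1 with hΔa
  set Δb := ψ1 * (sh s1).mapMatrix e * ψ1' - (inc A).mapMatrix e with hΔb
  have hΔa0 : (evu0 A).mapMatrix Δa = 0 := by
    rw [hΔa, map_sub, map_mul, hev1, hev1', map_one, one_mul, sub_self]
  have hΔaL : L2.mapMatrix Δa = 0 := by
    rw [hΔa, map_sub, map_mul, hLψ1, hLψ1', ← map_mul, hTT', map_one, map_one, sub_self]
  have hΔb0 : (evu0 A).mapMatrix Δb = 0 := by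
    rw [hΔb, map_sub, map_mul, map_mul, hev1, hev1', mapMatrix_mapMatrix, mapMatrix_mapMatrix,
      evu0_comp_sh, evu0_comp_inc, one_mul, mul_one, sub_self]
  have hΔbL : L2.mapMatrix Δb = 0 := by
    have e1 : L2.mapMatrix ((sh s1).mapMatrix e) = (scale c1).mapMatrix ((sh 1).mapMatrix eB) := by
      rw [mapMatrix_mapMatrix, mapMatrix_mapMatrix, heB, mapMatrix_mapMatrix, hL2, hL1,
        map_comp_sh, scale_comp_sh, mul_one]
    have e2 : L2.mapMatrix ((inc A).mapMatrix e) = (scale c1).mapMatrix ((inc B).mapMatrix eB) := by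
      rw [mapMatrix_mapMatrix, mapMatrix_mapMatrix, heB, mapMatrix_mapMatrix, hL2, hL1,
        map_comp_inc, scale_comp_inc]
    rw [hΔb, map_sub, map_mul, map_mul, hLψ1, hLψ1', e1, e2, ← map_mul, ← map_mul, hconj,
      sub_self]
  obtain ⟨s2, hs2, hk2⟩ := exists_scale_kill S B Δa hΔa0 hΔaL
  obtain ⟨s3, hs3, hk3⟩ := exists_scale_kill S B Δb hΔb0 hΔbL
  refine ⟨s3 * s2 * s1, S.mul_mem (S.mul_mem hs3 hs2) hs1, (scale (s3 * s2)).mapMatrix ψ1,
    (scale (s3 * s2)).mapMatrix ψ1', ?_, ?_⟩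
  · have : (scale (s3 * s2)).mapMatrix Δa = 0 := by
      rw [← scale_comp_scale, ← mapMatrix_mapMatrix, hk2, map_zero]
    rw [hΔa, map_sub, map_mul, map_one] at this
    exact sub_eq_zero.mp this
  · have : (scale (s3 * s2)).mapMatrix Δb = 0 := by
      rw [mul_comm s3 s2, ← scale_comp_scale, ← mapMatrix_mapMatrix, hk3, map_zero]
    rw [hΔb, map_sub, map_mul, map_mul, mapMatrix_mapMatrix, mapMatrix_mapMatrix,
      scale_comp_sh, scale_comp_inc] at this
    exact sub_eq_zero.mp this

end Local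

section Main

variable {A : Type u} [CommRing A] {n : Type v} [Fintype n] [DecidableEq n]

/-- **Quillen patching** for conjugacy classes of matrices over `A[X]` (Vaserstein's form). -/
theorem patching (e : Matrix n n A[X])
    (hloc : ∀ (𝔪 : Ideal A) [𝔪.IsMaximal],
      ∃ σ σ' : Matrix n n (Localization.AtPrime 𝔪)[X], σ * σ' = 1 ∧
        σ * (mapRingHom (algebraMap A (Localization.AtPrime 𝔪))).mapMatrix e * σ' =
          (mapRingHom (algebraMap A (Localization.AtPrime 𝔪))).mapMatrix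
            (((C : A →+* A[X]).comp (evalRingHom 0)).mapMatrix e)) :
    ∃ σ σ' : Matrix n n A[X], σ * σ' = 1 ∧
      σ * e * σ' = ((C : A →+* A[X]).comp (evalRingHom 0)).mapMatrix e := by
  apply conj_of_one_mem_Q
  rw [← mem_Q_iff, ← Ideal.eq_top_iff_one]
  by_contra hne
  obtain ⟨𝔪, h𝔪, hle⟩ := Ideal.exists_le_maximal _ hne
  obtain ⟨σ, σ', h1, h2⟩ := hloc 𝔪
  obtain ⟨s, hs, hsQ⟩ := mem_Q_of_local 𝔪.primeCompl (Localization.AtPrime 𝔪) e σ σ' h1 h2
  exact hs (hle hsQ)

end Main

end Groth.Agent.Lib.Helper85.Horrocks
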