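import Mathlib
import Groth.Agent.Lib.Helper85.HorrocksPatch
import Groth.Agent.Lib.Helper85.HorrocksMat

/-!
# Quillen patching for projective modules: locally free over `A_𝔪[X]` ⇒ extended (helper85)
-/

open Polynomial TensorProduct

namespace Groth.Agent.Lib.Helper85.Horrocks

universe u v

section

variable {A : Type u} [CommRing A] {M : Type v} [AddCommGroup M] [Module A[X] M] {r : ℕ}

/-- The constant-term idempotent over `A`. -/
noncomputable def e00 (e : Matrix (Fin r) (Fin r) A[X]) : Matrix (Fin r) (Fin r) A :=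
  (evalRingHom (0 : A)).mapMatrix e

/-- Retract presentation of `A[X] ⊗ range(e00)`. -/
theorem exists_presentation_baseChange (e : Matrix (Fin r) (Fin r) A[X]) (hee : e * e = e) :
    ∃ (f2 : (Fin r → A[X]) →ₗ[A[X]] (A[X] ⊗[A] LinearMap.range (Matrix.toLin' (e00 e))))
      (g2 : (A[X] ⊗[A] LinearMap.range (Matrix.toLin' (e00 e))) →ₗ[A[X]] (Fin r → A[X])),
      f2 ∘ₗ g2 = LinearMap.id ∧
      LinearMap.toMatrix' (g2 ∘ₗ f2) = ((C : A →+* A[X]).comp (evalRingHom 0)).mapMatrix e := by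
  classical
  have h00 : e00 e * e00 e = e00 e := by
    rw [e00, ← map_mul, hee]
  let P := LinearMap.range (Matrix.toLin' (e00 e))
  let i0 : P →ₗ[A] (Fin r → A) := P.subtype
  let q0 : (Fin r → A) →ₗ[A] P := (Matrix.toLin' (e00 e)).rangeRestrict
  have hqi : q0 ∘ₗ i0 = LinearMap.id := by
    ext ⟨v, w, rfl⟩ : 1
    apply Subtype.ext
    simp only [LinearMap.coe_comp, Function.comp_apply, LinearMap.id_coe, id_eq, q0, i0,
      LinearMap.codRestrict_apply, Submodule.subtype_apply, LinearMap.rangeRestrict]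
    rw [← LinearMap.comp_apply, ← Matrix.toLin'_mul, h00]
  have hiq : i0 ∘ₗ q0 = Matrix.toLin' (e00 e) := by
    apply LinearMap.ext; intro v; rfl
  let pi := TensorProduct.piScalarRight A A[X] A[X] (Fin r)
  refine ⟨(q0.baseChange A[X]) ∘ₗ pi.symm.toLinearMap, pi.toLinearMap ∘ₗ (i0.baseChange A[X]),
    ?_, ?_⟩
  · apply LinearMap.ext; intro x
    simp only [LinearMap.coe_comp, LinearEquiv.coe_coe, Function.comp_apply,
      LinearEquiv.symm_apply_apply, LinearMap.id_coe, id_eq]
    rw [← LinearMap.comp_apply, ← LinearMap.baseChange_comp, hqi, LinearMap.baseChange_id,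
      LinearMap.id_apply]
  · refine Matrix.ext fun i j => ?_
    rw [LinearMap.toMatrix'_apply]
    simp only [LinearMap.coe_comp, LinearEquiv.coe_coe, Function.comp_apply]
    rw [TensorProduct.piScalarRight_symm_single, LinearMap.baseChange_tmul,
      LinearMap.baseChange_tmul, ← LinearMap.comp_apply, hiq, TensorProduct.piScalarRight_apply,
      TensorProduct.piScalarRightHom_tmul]
    simp only [Matrix.toLin'_apply, Matrix.mulVec_single_one, RingHom.mapMatrix_apply,
      Matrix.map_apply, RingHom.comp_apply, coe_evalRingHom]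
    simp [e00, Algebra.smul_def]

end

section

variable {A : Type u} [CommRing A] {M : Type u} [AddCommGroup M] [Module A[X] M] {r : ℕ}

/-- **Quillen patching, module form**: a retract `M` of `A[X]^r` whose localisations at all
maximal ideals of `A` are free over `A_𝔪[X]` is extended from `A`. -/
theorem extended_of_locally_free
    (f : (Fin r → A[X]) →ₗ[A[X]] M) (g : M →ₗ[A[X]] (Fin r → A[X])) (hfg : f ∘ₗ g = LinearMap.id)
    (hloc : ∀ (𝔪 : Ideal A) [𝔪.IsMaximal],
      Module.Free (Localization.AtPrime 𝔪)[X]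
        (LinearMap.range (Matrix.toLin'
          ((mapRingHom (algebraMap A (Localization.AtPrime 𝔪))).mapMatrix
            (LinearMap.toMatrix' (g ∘ₗ f)))))) :
    ∃ (P : Type u) (_ : AddCommGroup P) (_ : Module A P),
      Nonempty (M ≃ₗ[A[X]] (A[X] ⊗[A] P)) := by
  classical
  set e := LinearMap.toMatrix' (g ∘ₗ f) with he
  have hee : e * e = e := by
    rw [he, ← LinearMap.toMatrix'_comp]
    congr 1
    calc (g ∘ₗ f) ∘ₗ (g ∘ₗ f) = g ∘ₗ (f ∘ₗ g) ∘ₗ f := by simp only [LinearMap.comp_assoc]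
      _ = g ∘ₗ f := by rw [hfg, LinearMap.id_comp]
  set ev : A[X] →+* A[X] := (C : A →+* A[X]).comp (evalRingHom 0) with hev
  have he0e0 : ev.mapMatrix e * ev.mapMatrix e = ev.mapMatrix e := by rw [← map_mul, hee]
  -- patching
  obtain ⟨σ, σ', hσ1, hσ2⟩ := patching (Matrix.fromBlocks e 0 0 0 :
      Matrix (Fin r ⊕ Fin r) (Fin r ⊕ Fin r) A[X]) (by
    intro 𝔪 _
    set L1 := mapRingHom (algebraMap A (Localization.AtPrime 𝔪)) with hL1
    set eB := L1.mapMatrix e with heB
    have heeB : eB * eB = eB := by rw [heB, ← map_mul, hee]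
    haveI := hloc 𝔪
    obtain ⟨κ, _, _, Bm, U, hBU, hUB⟩ := exists_factor_of_free eB heeB
    obtain ⟨α, β, h1, h2, h3, h4, h5, h6⟩ := partialIso_of_factor eB Bm U hBU hUB
    obtain ⟨τ, τ', hτ1, hτ2⟩ := block_conj eB _ α β h1 h2 h3 h4 h5 h6
    refine ⟨τ, τ', hτ1, ?_⟩
    have e1 : L1.mapMatrix (Matrix.fromBlocks e 0 0 0 :
        Matrix (Fin r ⊕ Fin r) (Fin r ⊕ Fin r) A[X]) = Matrix.fromBlocks eB 0 0 0 := by
      rw [RingHom.mapMatrix_apply, Matrix.fromBlocks_map]
      simp [heB]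
    have hcomm : L1.comp ev = ((C : _ →+* (Localization.AtPrime 𝔪)[X]).comp (evalRingHom 0)).comp
        L1 := by
      apply ringHom_ext <;> simp [hev, hL1]
    have e2 : L1.mapMatrix (ev.mapMatrix (Matrix.fromBlocks e 0 0 0 :
        Matrix (Fin r ⊕ Fin r) (Fin r ⊕ Fin r) A[X])) =
        Matrix.fromBlocks (((C : _ →+* (Localization.AtPrime 𝔪)[X]).comp
          (evalRingHom 0)).mapMatrix eB) 0 0 0 := by
      rw [mapMatrix_mapMatrix, hcomm, ← mapMatrix_mapMatrix, e1, RingHom.mapMatrix_apply,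
        Matrix.fromBlocks_map]
      simp
    rw [e1, e2]
    exact hτ2)
  have hσ2' : σ * Matrix.fromBlocks e 0 0 0 * σ' = Matrix.fromBlocks (ev.mapMatrix e) 0 0 0 := by
    rw [hσ2, RingHom.mapMatrix_apply, RingHom.mapMatrix_apply, Matrix.fromBlocks_map]
    simp only [Matrix.map_zero _ (map_zero _)]
    rfl
  obtain ⟨α, β, hβα, hαβ⟩ := partialIso_of_block_conj e (ev.mapMatrix e) hee he0e0 σ σ' hσ1 hσ2'
  obtain ⟨f2, g2, h2, hm2⟩ := exists_presentation_baseChange e hee
  exact ⟨LinearMap.range (Matrix.toLin' (e00 e)), inferInstance, inferInstance,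
    linearEquiv_of_partialIso f g hfg f2 g2 h2 α β hβα (hαβ.trans hm2.symm)⟩

end

end Groth.Agent.Lib.Helper85.Horrocks
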