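import Mathlib

/-!
# Frames at infinity for modules over `B[X]` (helper85)

A *frame* on a `B[X]`-module `P` is a monic `g` and a linearly independent family `p : ι → P`
with `g • P ⊆ span p`.  Coordinates `c x` of `g • x` in the frame; degree filtration
`Low m` ("sections of `E(-m)`") and leading coefficient maps `lead m`.
Used for the elementary proof of the local Horrocks theorem.
-/

open Polynomial

namespace Groth.Agent.Lib.Helper85.Horrocks

universe u v w

section DegLE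

variable {B : Type u} [CommRing B]

/-- `DegLE r D m`: "`deg r + m ≤ D`" (with `deg 0 = -∞`), phrased through coefficients. -/
def DegLE (r : B[X]) (D m : ℕ) : Prop := ∀ j, D < j + m → r.coeff j = 0

lemma degLE_zero (D m : ℕ) : DegLE (0 : B[X]) D m := fun _ _ => by simp

lemma DegLE.add {r s : B[X]} {D m : ℕ} (hr : DegLE r D m) (hs : DegLE s D m) :
    DegLE (r + s) D m := fun j hj => by simp [hr j hj, hs j hj]

lemma DegLE.sub {r s : B[X]} {D m : ℕ} (hr : DegLE r D m) (hs : DegLE s D m) :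
    DegLE (r - s) D m := fun j hj => by simp [hr j hj, hs j hj]

lemma DegLE.C_mul {r : B[X]} {D m : ℕ} (hr : DegLE r D m) (a : B) :
    DegLE (C a * r) D m := fun j hj => by simp [hr j hj]

lemma degLE_of_natDegree_le {r : B[X]} {D m : ℕ} (h : r.natDegree + m ≤ D) : DegLE r D m :=
  fun j hj => coeff_eq_zero_of_natDegree_lt (by omega)

lemma DegLE.natDegree_le {r : B[X]} {D m : ℕ} (h : DegLE r D m) (hr : r ≠ 0) :
    r.natDegree + m ≤ D := by
  by_contra hlt
  have := h r.natDegree (by omega)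
  exact hr (leadingCoeff_eq_zero.mp this)

lemma DegLE.natDegree_le' {r : B[X]} {D m : ℕ} (h : DegLE r D m) (hm : m ≤ D) :
    r.natDegree ≤ D - m := by
  by_cases hr : r = 0
  · simp [hr]
  · have := h.natDegree_le hr; omega

lemma DegLE.eq_zero {r : B[X]} {D m : ℕ} (h : DegLE r D m) (hm : D < m) : r = 0 := by
  ext j; simpa using h j (by omega)

lemma DegLE.mono {r : B[X]} {D m m' : ℕ} (h : DegLE r D m) (hm : m' ≤ m) : DegLE r D m' :=
  fun j hj => h j (by omega)

lemma DegLE.map {C' : Type*} [CommRing C'] (φ : B →+* C') {r : B[X]} {D m : ℕ}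
    (h : DegLE r D m) : DegLE (r.map φ) D m := fun j hj => by simp [h j hj]

lemma DegLE.mul {r s : B[X]} {D D' m m' : ℕ} (hr : DegLE r D m) (hs : DegLE s D' m') :
    DegLE (r * s) (D + D') (m + m') := by
  intro j hj
  rw [coeff_mul]
  apply Finset.sum_eq_zero
  intro ab hab
  have hab := Finset.HasAntidiagonal.mem_antidiagonal.mp hab
  by_cases h1 : D < ab.1 + m
  · rw [hr _ h1, zero_mul]
  · rw [hs ab.2 (by omega), mul_zero]

lemma DegLE.of_monic_mul {g r : B[X]} (hg : g.Monic) {E m : ℕ}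
    (h : DegLE (g * r) (g.natDegree + E) m) : DegLE r E m := by
  by_cases hr : r = 0
  · subst hr; exact degLE_zero _ _
  · have hne : g * r ≠ 0 := by
      intro h0
      exact hr ((hg.isRegular.left) (by simpa using h0))
    have := h.natDegree_le hne
    rw [hg.natDegree_mul' hr] at this
    exact degLE_of_natDegree_le (by omega)

end DegLE

section Frame

variable (B : Type u) [CommRing B] (P : Type v) [AddCommGroup P] [Module B[X] P]
  (ι : Type w)

/-- A frame: monic `g`, linearly independent `p` with `g • P ⊆ span p`. -/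
structure Frame where
  g : B[X]
  monic : g.Monic
  p : ι → P
  li : LinearIndependent B[X] p
  span : ∀ x : P, g • x ∈ Submodule.span B[X] (Set.range p)

end Frame

namespace Frame

variable {B : Type u} [CommRing B] {P : Type v} [AddCommGroup P] [Module B[X] P]
  {ι : Type w} [Fintype ι] [DecidableEq ι] (𝔉 : Frame B P ι)

/-- Coordinates of `g • x` in the frame. -/
noncomputable def c : P →ₗ[B[X]] (ι → B[X]) :=
  (Finsupp.linearEquivFunOnFinite B[X] B[X] ι).toLinearMap ∘ₗ 𝔉.li.repr ∘ₗ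
    (LinearMap.codRestrict (Submodule.span B[X] (Set.range 𝔉.p)) (LinearMap.lsmul B[X] P 𝔉.g)
      𝔉.span)

lemma sum_c (x : P) : ∑ i, 𝔉.c x i • 𝔉.p i = 𝔉.g • x := by
  have h := 𝔉.li.linearCombination_repr
    ⟨𝔉.g • x, 𝔉.span x⟩
  rw [Finsupp.linearCombination_apply, Finsupp.sum_fintype _ _ (by simp)] at h
  exact h

lemma c_eq_of_sum {x : P} {r : ι → B[X]} (h : ∑ i, r i • 𝔉.p i = 𝔉.g • x) : 𝔉.c x = r := by
  have h0 : ∑ i, (𝔉.c x i - r i) • 𝔉.p i = 0 := by
    simp only [sub_smul, Finset.sum_sub_distrib, 𝔉.sum_c, h, sub_self]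
  have := Fintype.linearIndependent_iff.mp 𝔉.li _ h0
  funext i
  exact sub_eq_zero.mp (this i)

lemma c_p (i : ι) : 𝔉.c (𝔉.p i) = Pi.single i 𝔉.g := by
  apply 𝔉.c_eq_of_sum
  rw [Finset.sum_eq_single i]
  · simp
  · intro j _ hj; simp [Pi.single_eq_of_ne hj]
  · intro h; exact absurd (Finset.mem_univ i) h

/-- `D`: the degree of the frame's monic. -/
noncomputable def D : ℕ := 𝔉.g.natDegree

lemma g_isSMulRegular [Module.Flat B[X] P] : IsSMulRegular P 𝔉.g :=
  Module.Flat.isSMulRegular_of_isRegular 𝔉.monic.isRegular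

lemma c_injective [Module.Flat B[X] P] : Function.Injective 𝔉.c := by
  rw [← LinearMap.ker_eq_bot, LinearMap.ker_eq_bot']
  intro x hx
  have := 𝔉.sum_c x
  rw [hx] at this
  simp only [Pi.zero_apply, zero_smul, Finset.sum_const_zero] at this
  exact 𝔉.g_isSMulRegular (by simpa using this.symm)

/-- Elements of "degree ≤ -m at infinity". -/
def Low (m : ℕ) : Set P := {x | ∀ i, DegLE (𝔉.c x i) 𝔉.D m}

/-- Coefficient of degree `-m` at infinity. -/
noncomputable def lead (m : ℕ) (x : P) : ι → B := fun i => (𝔉.c x i).coeff (𝔉.D - m)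

/-- `lead m : Low m → B^ι` is onto. -/
def Surj (m : ℕ) : Prop := ∀ v : ι → B, ∃ x ∈ 𝔉.Low m, 𝔉.lead m x = v

lemma zero_mem_Low (m : ℕ) : (0 : P) ∈ 𝔉.Low m := fun i => by
  simp only [map_zero, Pi.zero_apply]; exact degLE_zero _ _

lemma Low_eq_zero [Module.Flat B[X] P] {m : ℕ} (hm : 𝔉.D < m) {x : P} (hx : x ∈ 𝔉.Low m) :
    x = 0 := by
  apply 𝔉.c_injective
  rw [map_zero]
  funext i
  exact (hx i).eq_zero hm

lemma not_surj_of_lt [Module.Flat B[X] P] [Nontrivial B] [Nonempty ι] {m : ℕ} (hm : 𝔉.D < m) :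
    ¬ 𝔉.Surj m := by
  intro h
  obtain ⟨x, hx, hv⟩ := h (fun _ => 1)
  have := 𝔉.Low_eq_zero hm hx
  subst this
  have i := Classical.arbitrary ι
  have := congrFun hv i
  simp [lead] at this

/-- Comparison of two frames on the same module: if the members of `𝔉'` have `𝔉`-degree `≤ -1`
and leading matrix `W`, then `Low 𝔉' m ⊆ Low 𝔉 (m+1)` and `lead 𝔉 (m+1) = W * lead 𝔉' m`. -/
lemma low_of_low [Module.Flat B[X] P] (𝔉' : Frame B P ι)
    (h : ∀ l, 𝔉'.p l ∈ 𝔉.Low 1) {m : ℕ} {x : P} (hx : x ∈ 𝔉'.Low m) :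
    x ∈ 𝔉.Low (m + 1) := by
  intro i
  -- g' • c x = Σ c' x l • c (p' l)
  have key : 𝔉'.g * 𝔉.c x i = ∑ l, 𝔉'.c x l * 𝔉.c (𝔉'.p l) i := by
    have := congrArg (fun y => 𝔉.c y i) (𝔉'.sum_c x)
    simp only [map_sum, map_smul, Finset.sum_apply, Pi.smul_apply, smul_eq_mul] at this
    exact this.symm
  have hsum : DegLE (∑ l, 𝔉'.c x l * 𝔉.c (𝔉'.p l) i) (𝔉'.D + 𝔉.D) (m + 1) := by
    have : ∀ s : Finset ι, DegLE (∑ l ∈ s, 𝔉'.c x l * 𝔉.c (𝔉'.p l) i) (𝔉'.D + 𝔉.D) (m + 1) := by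
      intro s
      induction s using Finset.induction_on with
      | empty => simpa using degLE_zero _ _
      | insert a s ha ih =>
        rw [Finset.sum_insert ha]
        exact ((hx a).mul (h a i)).add ih
    exact this _
  rw [← key] at hsum
  exact DegLE.of_monic_mul 𝔉'.monic hsum

lemma lead_of_low [Module.Flat B[X] P] (𝔉' : Frame B P ι)
    (h : ∀ l, 𝔉'.p l ∈ 𝔉.Low 1) {m : ℕ} {x : P} (hx : x ∈ 𝔉'.Low m) :
    𝔉.lead (m + 1) x = fun i => ∑ l, 𝔉'.lead m x l * 𝔉.lead 1 (𝔉'.p l) i := by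
  funext i
  by_cases hx0 : x = 0
  · subst hx0; simp [lead]
  have hxlow := 𝔉.low_of_low 𝔉' h hx
  -- m ≤ D' and m + 1 ≤ D
  have hc' : 𝔉'.c x ≠ 0 := fun h0 => hx0 (𝔉'.c_injective (by simpa using h0))
  have hc : 𝔉.c x ≠ 0 := fun h0 => hx0 (𝔉.c_injective (by simpa using h0))
  obtain ⟨l0, hl0⟩ : ∃ l, 𝔉'.c x l ≠ 0 := by
    by_contra hcon; push Not at hcon; exact hc' (funext hcon)
  obtain ⟨i0, hi0⟩ : ∃ i, 𝔉.c x i ≠ 0 := by
    by_contra hcon; push Not at hcon; exact hc (funext hcon)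
  have hmD' : m ≤ 𝔉'.D := by have := (hx l0).natDegree_le hl0; omega
  have hmD : m + 1 ≤ 𝔉.D := by have := (hxlow i0).natDegree_le hi0; omega
  have key : 𝔉'.g * 𝔉.c x i = ∑ l, 𝔉'.c x l * 𝔉.c (𝔉'.p l) i := by
    have := congrArg (fun y => 𝔉.c y i) (𝔉'.sum_c x)
    simp only [map_sum, map_smul, Finset.sum_apply, Pi.smul_apply, smul_eq_mul] at this
    exact this.symm
  have e1 : (𝔉'.g * 𝔉.c x i).coeff (𝔉'.D + (𝔉.D - (m + 1))) = (𝔉.c x i).coeff (𝔉.D - (m + 1)) := by
    have h1 := coeff_mul_add_eq_of_natDegree_le (f := 𝔉'.g) (df := 𝔉'.D) (le_refl _)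
      ((hxlow i).natDegree_le' hmD)
    have : 𝔉'.g.coeff 𝔉'.D = 1 := 𝔉'.monic.coeff_natDegree
    rw [h1, this, one_mul]
  have e2 : ∀ l, (𝔉'.c x l * 𝔉.c (𝔉'.p l) i).coeff (𝔉'.D - m + (𝔉.D - 1)) =
      (𝔉'.c x l).coeff (𝔉'.D - m) * (𝔉.c (𝔉'.p l) i).coeff (𝔉.D - 1) := by
    intro l
    exact coeff_mul_add_eq_of_natDegree_le ((hx l).natDegree_le' hmD')
      ((h l i).natDegree_le' (by omega))
  have e3 : 𝔉'.D + (𝔉.D - (m + 1)) = 𝔉'.D - m + (𝔉.D - 1) := by omega
  simp only [lead]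
  rw [← e1, key, finsetSum_coeff, e3]
  exact Finset.sum_congr rfl fun l _ => e2 l

end Frame

end Groth.Agent.Lib.Helper85.Horrocks
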