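import Mathlib

/-!
# Frame at `X = 0` for the range of an idempotent matrix over `B[X]`, `B` local (helper85)
-/

open Polynomial

namespace Groth.Agent.Lib.Helper85.Horrocks

universe u w

section

variable {B : Type u} [CommRing B] {s : Type w} [Fintype s] [DecidableEq s]

/-- Evaluation at `0`, coordinatewise. -/
noncomputable def evv (w : s → B[X]) : s → B := fun i => (w i).eval 0

lemma evv_mulVec (e : Matrix s s B[X]) (w : s → B[X]) :
    evv (e.mulVec w) = ((evalRingHom (0 : B)).mapMatrix e).mulVec (evv w) := by
  funext i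
  exact RingHom.map_mulVec (evalRingHom (0 : B)) e w i

lemma evv_C (v : s → B) : evv (fun i => C (v i)) = v := by
  funext i; simp [evv]

lemma evv_sum_smul {κ : Type*} [Fintype κ] (p : κ → B[X]) (ν : κ → s → B[X]) :
    evv (∑ k, p k • ν k) = ∑ k, (p k).eval 0 • evv (ν k) := by
  funext i
  simp [evv, eval_finsetSum]

lemma eq_zero_of_X_smul (w : s → B[X]) (h : (X : B[X]) • w = 0) : w = 0 := by
  funext i
  have := congrFun h i
  simp only [Pi.smul_apply, smul_eq_mul, Pi.zero_apply] at this
  exact (monic_X (R := B)).isRegular.left (by simpa using this)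

/-- Linear independence over `B[X]` from linear independence of the values at `0`. -/
lemma linearIndependent_of_evv {κ : Type*} [Fintype κ] (ν : κ → s → B[X])
    (h0 : ∀ q : κ → B, ∑ k, q k • evv (ν k) = 0 → ∀ k, q k = 0) :
    LinearIndependent B[X] ν := by
  rw [Fintype.linearIndependent_iff]
  have key : ∀ d : ℕ, ∀ p : κ → B[X], (∀ k, (p k).natDegree ≤ d) → ∑ k, p k • ν k = 0 →
      ∀ k, p k = 0 := by
    intro d
    induction d with
    | zero =>
      intro p hd hp k
      have h1 := h0 (fun k => (p k).eval 0) (by rw [← evv_sum_smul, hp]; funext i; simp [evv])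
      have hk := eq_C_of_natDegree_eq_zero (Nat.le_zero.mp (hd k))
      rw [hk, coeff_zero_eq_eval_zero, h1 k, C_0]
    | succ d ih =>
      intro p hd hp k
      have h1 := h0 (fun k => (p k).eval 0) (by rw [← evv_sum_smul, hp]; funext i; simp [evv])
      have hpk : ∀ k, p k = X * divX (p k) := by
        intro k
        have := X_mul_divX_add (p k)
        rw [coeff_zero_eq_eval_zero, h1 k, C_0, add_zero] at this
        exact this.symm
      have h2 : ∑ k, divX (p k) • ν k = 0 := by
        apply eq_zero_of_X_smul
        rw [Finset.smul_sum, ← hp]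
        refine Finset.sum_congr rfl fun k _ => ?_
        rw [smul_smul, ← hpk k]
      have h3 := ih (fun k => divX (p k)) (fun k => by
        rw [natDegree_divX_eq_natDegree_tsub_one]; have := hd k; omega) h2 k
      rw [hpk k, h3, mul_zero]
  intro p hp k
  exact key (Finset.univ.sup fun k => (p k).natDegree) p
    (fun k => Finset.le_sup (f := fun k => (p k).natDegree) (Finset.mem_univ k)) hp k

end

section Local

variable {B : Type u} [CommRing B] [IsLocalRing B] {s : Type w} [Fintype s] [DecidableEq s]

/-- A frame at `X = 0` for the range of an idempotent matrix over `B[X]`. -/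
theorem exists_frame_at_zero (eN : Matrix s s B[X]) (hee : eN * eN = eN) :
    ∃ (κ : Type (max w u)) (_ : Fintype κ) (ν : κ → s → B[X]) (g : B[X]),
      g.coeff 0 = 1 ∧ (∀ k, eN.mulVec (ν k) = ν k) ∧ LinearIndependent B[X] ν ∧
      ∀ w, eN.mulVec w = w → g • w ∈ Submodule.span B[X] (Set.range ν) := by
  classical
  set e0 : Matrix s s B := (evalRingHom (0 : B)).mapMatrix eN with he0
  have he0e0 : e0 * e0 = e0 := by rw [he0, ← map_mul, hee]
  let N0 := LinearMap.range (Matrix.toLin' e0)
  have hfix0 : ∀ v : N0, e0.mulVec (v : s → B) = v := by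
    rintro ⟨v, w, rfl⟩
    simp only [Matrix.toLin'_apply, Matrix.mulVec_mulVec, he0e0]
  haveI : Module.Finite B N0 := Module.Finite.range _
  haveI : Module.Projective B N0 := by
    refine Module.Projective.of_split N0.subtype (Matrix.toLin' e0).rangeRestrict ?_
    apply LinearMap.ext
    rintro ⟨v, hv⟩
    apply Subtype.ext
    exact hfix0 ⟨v, hv⟩
  haveI : Module.Free B N0 := Module.free_of_flat_of_isLocalRing
  let c := Module.Free.chooseBasis B N0
  let κ := Module.Free.ChooseBasisIndex B N0
  let ν : κ → s → B[X] := fun k => eN.mulVec (fun i => C ((c k : s → B) i))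
  have hνfix : ∀ k, eN.mulVec (ν k) = ν k := fun k => by
    simp only [ν, Matrix.mulVec_mulVec, hee]
  have hν0 : ∀ k, evv (ν k) = (c k : s → B) := fun k => by
    simp only [ν]
    rw [evv_mulVec, evv_C, ← he0]
    exact hfix0 (c k)
  have hli : LinearIndependent B[X] ν := by
    apply linearIndependent_of_evv
    intro q hq k
    have h1 : ∑ k, q k • c k = 0 := by
      apply Subtype.ext
      simp only [Submodule.coe_sum, Submodule.coe_smul, Submodule.coe_zero]
      rw [← hq]
      exact Finset.sum_congr rfl fun k _ => by rw [hν0 k]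
    exact Fintype.linearIndependent_iff.mp c.linearIndependent q h1 k
  -- Nakayama
  set V := Submodule.span B[X] (Set.range ν) with hV
  set NN := LinearMap.range (Matrix.toLin' eN) with hNN
  have hNNfg : NN.FG := by
    rw [hNN, LinearMap.range_eq_map]
    exact Submodule.FG.map _ Module.Finite.fg_top
  have hle : NN ≤ V ⊔ (Ideal.span {(X : B[X])}) • NN := by
    rintro w ⟨w', rfl⟩
    simp only [Matrix.toLin'_apply]
    -- w' = C ∘ evv w' + X • w''
    set w0 : s → B := evv w' with hw0
    have hdecomp : w' = (fun i => C (w0 i)) + (X : B[X]) • (fun i => divX (w' i)) := by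
      funext i
      simp only [Pi.add_apply, Pi.smul_apply, smul_eq_mul, hw0, evv]
      have := X_mul_divX_add (w' i)
      rw [coeff_zero_eq_eval_zero] at this
      rw [add_comm]; exact this.symm
    -- e0 w0 ∈ N0, expand in the basis
    have hmem : e0.mulVec w0 ∈ N0 := ⟨w0, by simp⟩
    have hrep := c.sum_repr ⟨e0.mulVec w0, hmem⟩
    -- eN (C ∘ w0) = eN (C ∘ (e0 w0)) + eN (C∘w0 - C∘(e0 w0)); the second term is X-divisible
    have hsplit : eN.mulVec w' = eN.mulVec (fun i => C ((e0.mulVec w0) i)) +
        (X : B[X]) • eN.mulVec (fun i => divX ((eN.mulVec w' - eN.mulVec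
          (fun i => C ((e0.mulVec w0) i))) i)) := by
      have hz : evv (eN.mulVec w' - eN.mulVec (fun i => C ((e0.mulVec w0) i))) = 0 := by
        have h1 : evv (eN.mulVec w') = e0.mulVec w0 := by rw [evv_mulVec]
        have h2 : evv (eN.mulVec (fun i => C ((e0.mulVec w0) i))) = e0.mulVec w0 := by
          rw [evv_mulVec, evv_C, ← he0, Matrix.mulVec_mulVec, he0e0]
        funext i
        have e1 := congrFun h1 i
        have e2 := congrFun h2 i
        simp only [evv, Pi.sub_apply, eval_sub, Pi.zero_apply] at *
        rw [e1, e2, sub_self]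
      set z := eN.mulVec w' - eN.mulVec (fun i => C ((e0.mulVec w0) i)) with hzdef
      have hzX : z = (X : B[X]) • (fun i => divX (z i)) := by
        funext i
        have := X_mul_divX_add (z i)
        have h0 : (z i).coeff 0 = 0 := by
          rw [coeff_zero_eq_eval_zero]; exact congrFun hz i
        rw [h0, C_0, add_zero] at this
        simp only [Pi.smul_apply, smul_eq_mul]
        exact this.symm
      have hez : eN.mulVec z = z := by
        rw [hzdef, Matrix.mulVec_sub, Matrix.mulVec_mulVec, Matrix.mulVec_mulVec, hee]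
      have : eN.mulVec w' = eN.mulVec (fun i => C ((e0.mulVec w0) i)) + z := by
        rw [hzdef]; abel
      rw [this]
      congr 1
      conv_lhs => rw [← hez, hzX, Matrix.mulVec_smul]
    rw [hsplit]
    apply Submodule.add_mem_sup
    · -- in V
      have : (fun i => C ((e0.mulVec w0) i)) = ∑ k, C (c.repr ⟨e0.mulVec w0, hmem⟩ k) •
          (fun i => C ((c k : s → B) i)) := by
        have := congrArg (fun v : N0 => (v : s → B)) hrep
        simp only [Submodule.coe_sum, Submodule.coe_smul] at this
        funext i
        have hi := congrFun this i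
        simp only [Finset.sum_apply, Pi.smul_apply, smul_eq_mul] at hi ⊢
        rw [← hi, map_sum]
        exact Finset.sum_congr rfl fun k _ => by rw [C_mul]
      rw [this, Matrix.mulVec_sum]
      apply Submodule.sum_mem
      intro k _
      rw [Matrix.mulVec_smul]
      exact Submodule.smul_mem _ _ (Submodule.subset_span ⟨k, rfl⟩)
    · apply Submodule.smul_mem_smul (Ideal.mem_span_singleton_self _)
      exact LinearMap.mem_range.mpr ⟨_, Matrix.toLin'_apply _ _⟩
  obtain ⟨g, hg1, hg2⟩ := Submodule.exists_sub_one_mem_and_smul_le_of_fg_of_le_sup hNNfg le_rfl hle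
  refine ⟨κ, inferInstance, ν, g, ?_, hνfix, hli, ?_⟩
  · obtain ⟨q, hq⟩ := Ideal.mem_span_singleton.mp hg1
    have : g = 1 + X * q := by rw [← hq]; ring
    rw [this]; simp
  · intro w hw
    apply hg2
    exact Submodule.smul_mem_pointwise_smul _ _ _ ⟨w, by simpa using hw⟩

end Local

end Groth.Agent.Lib.Helper85.Horrocks
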