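import Mathlib
import Groth.Agent.Lib.Helper85.HorrocksFrame
import Groth.Agent.Lib.Helper85.HorrocksGlueA

/-!
# Transport of a frame at `X = 0` on the chart at infinity to a frame at infinity (helper85)
-/

open Polynomial LaurentPolynomial

namespace Groth.Agent.Lib.Helper85.Horrocks

universe u w

section

variable {B : Type u} [CommRing B]

local notation "ι" => (Polynomial.toLaurent : B[X] →+* B[T;T⁻¹])

lemma exists_T_pow_fam {κ : Type*} [Finite κ] (a : κ → B[T;T⁻¹]) :
    ∃ K : ℕ, ∀ k, ∃ q : B[X], toLaurent q = a k * T (K : ℤ) := by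
  classical
  haveI := Fintype.ofFinite κ
  choose n f hf using fun k => LaurentPolynomial.exists_T_pow (a k)
  refine ⟨Finset.univ.sup n, fun k => ⟨X ^ (Finset.univ.sup n - n k) * f k, ?_⟩⟩
  have hle : n k ≤ Finset.univ.sup n := Finset.le_sup (Finset.mem_univ k)
  rw [map_mul, toLaurent_X_pow, hf k]
  have : ((Finset.univ.sup n : ℕ) : ℤ) = ((Finset.univ.sup n - n k : ℕ) : ℤ) + (n k : ℤ) := by
    rw [Nat.cast_sub hle]; ring
  rw [this, T_add]; ring

lemma T_mul_eq_zero {a : B[T;T⁻¹]} {n : ℤ} (h : a * T n = 0) : a = 0 := by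
  calc a = a * (T n * T (-n)) := by rw [← T_add, add_neg_cancel, T_zero, mul_one]
    _ = a * T n * T (-n) := by rw [mul_assoc]
    _ = 0 := by rw [h, zero_mul]

variable {s : Type w} [Fintype s] [DecidableEq s]

lemma toLaurent_comp_injective {v v' : s → B[X]} (h : (fun i => toLaurent (v i)) =
    fun i => toLaurent (v' i)) : v = v' := by
  funext i; exact toLaurent_injective (congrFun h i)

lemma toLaurent_mulVec (e : Matrix s s B[X]) (v : s → B[X]) :
    (fun i => toLaurent ((e.mulVec v) i)) = (e.map ι).mulVec (fun i => toLaurent (v i)) := by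
  funext i
  exact RingHom.map_mulVec ι e v i

lemma mem_span_toLaurent {κ : Type*} (ν : κ → s → B[X]) {x : s → B[X]}
    (hx : x ∈ Submodule.span B[X] (Set.range ν)) :
    (fun i => toLaurent (x i)) ∈
      Submodule.span B[T;T⁻¹] (Set.range fun k => fun i => toLaurent (ν k i)) := by
  induction hx using Submodule.span_induction with
  | mem x hx =>
    obtain ⟨k, rfl⟩ := hx
    exact Submodule.subset_span ⟨k, rfl⟩
  | zero =>
    have : (fun i => toLaurent ((0 : s → B[X]) i)) = 0 := by funext i; simp
    rw [this]; exact Submodule.zero_mem _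
  | add x y _ _ hx hy =>
    have : (fun i => toLaurent ((x + y) i)) =
        (fun i => toLaurent (x i)) + fun i => toLaurent (y i) := by
      funext i; simp
    rw [this]; exact Submodule.add_mem _ hx hy
  | smul a x _ hx =>
    have : (fun i => toLaurent ((a • x) i)) = toLaurent a • fun i => toLaurent (x i) := by
      funext i; simp
    rw [this]; exact Submodule.smul_mem _ _ hx

/-- Lemma B1: linear independence over the Laurent ring. -/
lemma li_toLaurent {κ : Type*} [Fintype κ] (ν : κ → s → B[X]) (hν : LinearIndependent B[X] ν) :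
    LinearIndependent B[T;T⁻¹] (fun k => fun i => toLaurent (ν k i)) := by
  rw [Fintype.linearIndependent_iff]
  intro a ha k
  obtain ⟨K, hK⟩ := exists_T_pow_fam a
  choose q hq using hK
  have h1 : ∑ k, q k • ν k = 0 := by
    apply toLaurent_comp_injective
    funext i
    have := congrFun ha i
    simp only [Finset.sum_apply, Pi.smul_apply, smul_eq_mul, Pi.zero_apply, map_sum, map_mul,
      map_zero] at this ⊢
    calc ∑ k, toLaurent (q k) * toLaurent (ν k i) = (∑ k, a k * toLaurent (ν k i)) * T K := by
          rw [Finset.sum_mul]; exact Finset.sum_congr rfl fun k _ => by rw [hq k]; ring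
      _ = 0 := by rw [this, zero_mul]
  have h2 := Fintype.linearIndependent_iff.mp hν q h1 k
  have h3 := hq k
  rw [h2, map_zero] at h3
  exact T_mul_eq_zero h3.symm

/-- Lemma B2: spanning over the Laurent ring. -/
lemma span_toLaurent {κ : Type*} (ν : κ → s → B[X]) (eN : Matrix s s B[X]) (g : B[X])
    (hspan : ∀ w, eN.mulVec w = w → g • w ∈ Submodule.span B[X] (Set.range ν))
    (w : s → B[T;T⁻¹]) (hw : (eN.map ι).mulVec w = w) :
    toLaurent g • w ∈ Submodule.span B[T;T⁻¹] (Set.range fun k => fun i => toLaurent (ν k i)) := by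
  obtain ⟨K, hK⟩ := exists_T_pow_fam w
  choose w0 hw0 using hK
  have hw0' : (fun i => toLaurent (w0 i)) = (T (K : ℤ) : B[T;T⁻¹]) • w := by
    funext i; rw [hw0 i]; simp [mul_comm]
  have h1 : eN.mulVec w0 = w0 := by
    apply toLaurent_comp_injective
    rw [toLaurent_mulVec, hw0', Matrix.mulVec_smul, hw]
  have h2 := mem_span_toLaurent ν (hspan w0 h1)
  have h3 : toLaurent g • w = (T (-(K : ℤ)) : B[T;T⁻¹]) • (fun i => toLaurent ((g • w0) i)) := by
    funext i
    simp only [Pi.smul_apply, smul_eq_mul, map_mul, hw0 i]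
    calc toLaurent g * w i = T (-(K : ℤ) + K) * (toLaurent g * w i) := by simp
      _ = _ := by rw [T_add]; ring
  rw [h3]
  exact Submodule.smul_mem _ _ h2

end

section Transport

variable {B : Type u} [CommRing B] {r : Type w} [Fintype r] [DecidableEq r]
  {s : Type w} [Fintype s] [DecidableEq s]

local notation "ι" => (Polynomial.toLaurent : B[X] →+* B[T;T⁻¹])
local notation "inv" => (LaurentPolynomial.invert (R := B) : B[T;T⁻¹] ≃ₐ[B] B[T;T⁻¹])

lemma invert_mulVec (Z : Matrix r s B[T;T⁻¹]) (v : s → B[T;T⁻¹]) :
    (fun i => invert ((Z.mulVec v) i)) = (Z.map inv).mulVec (fun i => invert (v i)) := by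
  funext i
  exact RingHom.map_mulVec (inv : B[T;T⁻¹] →+* B[T;T⁻¹]) Z v i

lemma invert_invert_vec (v : s → B[T;T⁻¹]) : (fun i => invert (invert (v i))) = v := by
  funext i; exact LaurentPolynomial.involutive_invert (v i)

variable (eM : Matrix r r B[X]) (eN : Matrix s s B[X]) (heN : eN * eN = eN)
  (H : Matrix s r B[T;T⁻¹]) (H' : Matrix r s B[T;T⁻¹])
  (h3 : H' * H = eM.map (Polynomial.toLaurent : B[X] →+* B[T;T⁻¹]))
  (h4 : H * H' = (eN.map (Polynomial.toLaurent : B[X] →+* B[T;T⁻¹])).map
    (LaurentPolynomial.invert (R := B) : B[T;T⁻¹] ≃ₐ[B] B[T;T⁻¹]))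
  (h5 : H * H' * H = H) (h6 : H' * H * H' = H')

include h3 h6 in
lemma transport_fix (w : s → B[T;T⁻¹]) :
    (eM.map ι).mulVec (H'.mulVec w) = H'.mulVec w := by
  rw [Matrix.mulVec_mulVec, ← h3, h6]

include heN h4 in
/-- Lemma C1. -/
lemma transport_li {κ : Type*} [Fintype κ] (ν : κ → s → B[X]) (hνfix : ∀ k, eN.mulVec (ν k) = ν k)
    (hν : LinearIndependent B[X] ν) :
    LinearIndependent B[T;T⁻¹]
      (fun k => H'.mulVec (fun i => invert (toLaurent (ν k i)))) := by
  rw [Fintype.linearIndependent_iff]
  intro a ha k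
  -- apply H
  have h1 := congrArg H.mulVec ha
  rw [Matrix.mulVec_sum, Matrix.mulVec_zero] at h1
  have h2 : ∀ k, H.mulVec (a k • H'.mulVec (fun i => invert (toLaurent (ν k i)))) =
      a k • (fun i => invert (toLaurent (ν k i))) := by
    intro k
    rw [Matrix.mulVec_smul, Matrix.mulVec_mulVec, h4, ← invert_mulVec, ← toLaurent_mulVec,
      hνfix k]
  simp only [h2] at h1
  -- apply invert
  have h5' : ∑ k, invert (a k) • (fun i => toLaurent (ν k i)) = 0 := by
    funext i
    have := congrArg (invert (R := B)) (congrFun h1 i)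
    simp only [Finset.sum_apply, Pi.smul_apply, smul_eq_mul, map_sum, map_mul, Pi.zero_apply,
      map_zero] at this ⊢
    rw [← this]
    exact Finset.sum_congr rfl fun k _ => by
      rw [LaurentPolynomial.involutive_invert]
  have := Fintype.linearIndependent_iff.mp (li_toLaurent ν hν) _ h5' k
  have h7 := congrArg (invert (R := B)) this
  rwa [LaurentPolynomial.involutive_invert, map_zero] at h7

include h3 h4 h5 in
/-- Lemma C2. -/
lemma transport_span {κ : Type*} (ν : κ → s → B[X]) (g : B[X])
    (hspan : ∀ w, eN.mulVec w = w → g • w ∈ Submodule.span B[X] (Set.range ν))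
    (v : r → B[T;T⁻¹]) (hv : (eM.map ι).mulVec v = v) :
    invert (toLaurent g) • v ∈ Submodule.span B[T;T⁻¹]
      (Set.range fun k => H'.mulVec (fun i => invert (toLaurent (ν k i)))) := by
  set z := H.mulVec v with hz
  have hz1 : ((eN.map ι).map inv).mulVec z = z := by
    rw [hz, Matrix.mulVec_mulVec, ← h4, h5]
  set w : s → B[T;T⁻¹] := fun i => invert (z i) with hw
  have hw1 : (eN.map ι).mulVec w = w := by
    have := congrArg (fun u : s → B[T;T⁻¹] => fun i => invert (u i)) hz1
    beta_reduce at this
    rw [invert_mulVec] at this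
    have hmm : ((eN.map ι).map inv).map inv = eN.map ι := by
      refine Matrix.ext fun i j => ?_
      simp only [Matrix.map_apply]
      exact LaurentPolynomial.involutive_invert (R := B) _
    rw [hmm] at this
    exact this
  have h1 := span_toLaurent ν eN g hspan w hw1
  -- apply the semilinear map u ↦ H' (invert u)
  have key : ∀ u : s → B[T;T⁻¹],
      u ∈ Submodule.span B[T;T⁻¹] (Set.range fun k => fun i => toLaurent (ν k i)) →
      H'.mulVec (fun i => invert (u i)) ∈ Submodule.span B[T;T⁻¹]
        (Set.range fun k => H'.mulVec (fun i => invert (toLaurent (ν k i)))) := by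
    intro u hu
    induction hu using Submodule.span_induction with
    | mem x hx =>
      obtain ⟨k, rfl⟩ := hx
      exact Submodule.subset_span ⟨k, rfl⟩
    | zero =>
      have : (fun i => invert ((0 : s → B[T;T⁻¹]) i)) = 0 := by funext i; simp
      rw [this, Matrix.mulVec_zero]; exact Submodule.zero_mem _
    | add x y _ _ hx hy =>
      have : (fun i => invert ((x + y) i)) = (fun i => invert (x i)) + fun i => invert (y i) := by
        funext i; simp
      rw [this, Matrix.mulVec_add]; exact Submodule.add_mem _ hx hy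
    | smul a x _ hx =>
      have : (fun i => invert ((a • x) i)) = invert a • fun i => invert (x i) := by
        funext i; simp
      rw [this, Matrix.mulVec_smul]; exact Submodule.smul_mem _ _ hx
  have h2 := key _ h1
  have h3' : H'.mulVec (fun i => invert ((toLaurent g • w) i)) = invert (toLaurent g) • v := by
    have : (fun i => invert ((toLaurent g • w) i)) = invert (toLaurent g) • z := by
      funext i
      simp only [Pi.smul_apply, smul_eq_mul, map_mul, hw]
      rw [LaurentPolynomial.involutive_invert]
    rw [this, Matrix.mulVec_smul, hz, Matrix.mulVec_mulVec, h3, hv]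
  rw [← h3']
  exact h2

end Transport

end Groth.Agent.Lib.Helper85.Horrocks
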