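import Mathlib
import Groth.Agent.Lib.Helper85.HorrocksFrame

/-!
# Reduction of a frame along a surjection `A → k` (helper85)
-/

open Polynomial TensorProduct

namespace Groth.Agent.Lib.Helper85.Horrocks

universe u v w

attribute [local instance] Polynomial.algebra

variable {A : Type u} [CommRing A] {k : Type u} [CommRing k] [Algebra A k]
  {P : Type v} [AddCommGroup P] [Module A[X] P] {ι : Type w} [Fintype ι] [DecidableEq ι]

namespace Frame

variable (𝔉 : Frame A P ι)

variable (k) in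
/-- Base change of the `i`-th coordinate functional. -/
noncomputable def cbar (i : ι) : (k[X] ⊗[A[X]] P) →ₗ[k[X]] k[X] :=
  (TensorProduct.AlgebraTensorModule.rid A[X] k[X] k[X]).toLinearMap ∘ₗ
    ((LinearMap.proj i ∘ₗ 𝔉.c).baseChange k[X])

lemma cbar_tmul (i : ι) (a : k[X]) (x : P) :
    𝔉.cbar k i (a ⊗ₜ x) = a * (𝔉.c x i).map (algebraMap A k) := by
  simp [cbar, Algebra.smul_def, mul_comm]

lemma tmul_smul_one (r : A[X]) (x : P) :
    (1 : k[X]) ⊗ₜ[A[X]] (r • x) = (r.map (algebraMap A k)) ⊗ₜ[A[X]] x := by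
  rw [← TensorProduct.smul_tmul, Algebra.smul_def, mul_one]
  rfl

variable (k) in
/-- The reduced frame on `k[X] ⊗ P`. -/
noncomputable def red : Frame k (k[X] ⊗[A[X]] P) ι where
  g := 𝔉.g.map (algebraMap A k)
  monic := 𝔉.monic.map _
  p i := 1 ⊗ₜ 𝔉.p i
  li := by
    rw [Fintype.linearIndependent_iff]
    intro r h i
    have h2 := congrArg (𝔉.cbar k i) h
    simp only [map_sum, map_smul, cbar_tmul, map_zero, one_mul, 𝔉.c_p, smul_eq_mul] at h2
    rw [Finset.sum_eq_single i] at h2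
    · simp only [Pi.single_eq_same] at h2
      exact (𝔉.monic.map (algebraMap A k)).isRegular.right (by simpa using h2)
    · intro j _ hj; simp [Pi.single_eq_of_ne' hj]
    · intro h; exact absurd (Finset.mem_univ i) h
  span := by
    intro ξ
    induction ξ using TensorProduct.induction_on with
    | zero => simp
    | tmul a x =>
      have h1 : (𝔉.g.map (algebraMap A k)) • (a ⊗ₜ[A[X]] x) = a • ((1 : k[X]) ⊗ₜ[A[X]] (𝔉.g • x)) := by
        rw [tmul_smul_one, TensorProduct.smul_tmul', TensorProduct.smul_tmul', smul_eq_mul,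
          smul_eq_mul, mul_comm]
      rw [h1]
      apply Submodule.smul_mem
      have h2 : (TensorProduct.mk A[X] k[X] P 1) (𝔉.g • x) ∈
          Submodule.span A[X] (Set.range fun i => (1 : k[X]) ⊗ₜ[A[X]] 𝔉.p i) := by
        have := Submodule.mem_map_of_mem (f := TensorProduct.mk A[X] k[X] P 1) (𝔉.span x)
        rw [Submodule.map_span, ← Set.range_comp] at this
        exact this
      exact Submodule.span_subset_span A[X] k[X] _ h2
    | add x y hx hy =>
      rw [smul_add]; exact Submodule.add_mem _ hx hy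

@[simp] lemma red_g : (𝔉.red k).g = 𝔉.g.map (algebraMap A k) := rfl
@[simp] lemma red_p (i : ι) : (𝔉.red k).p i = 1 ⊗ₜ 𝔉.p i := rfl

lemma red_D [Nontrivial k] : (𝔉.red k).D = 𝔉.D := by
  simp only [D, red_g]
  exact 𝔉.monic.natDegree_map _

lemma red_c (x : P) :
    (𝔉.red k).c ((1 : k[X]) ⊗ₜ[A[X]] x) = fun i => (𝔉.c x i).map (algebraMap A k) := by
  apply (𝔉.red k).c_eq_of_sum
  simp only [red_p, red_g]
  have : ∀ i, (𝔉.c x i).map (algebraMap A k) • ((1 : k[X]) ⊗ₜ[A[X]] 𝔉.p i) =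
      (1 : k[X]) ⊗ₜ[A[X]] (𝔉.c x i • 𝔉.p i) := by
    intro i
    rw [tmul_smul_one, TensorProduct.smul_tmul', smul_eq_mul, mul_one]
  simp only [this]
  rw [← TensorProduct.tmul_sum, 𝔉.sum_c, tmul_smul_one, TensorProduct.smul_tmul', smul_eq_mul,
    mul_one]

lemma red_surjective (hk : Function.Surjective (algebraMap A k)) (ξ : k[X] ⊗[A[X]] P) :
    ∃ x : P, (1 : k[X]) ⊗ₜ[A[X]] x = ξ := by
  induction ξ using TensorProduct.induction_on with
  | zero => exact ⟨0, by simp⟩
  | tmul a y =>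
    obtain ⟨a', rfl⟩ := Polynomial.map_surjective _ hk a
    exact ⟨a' • y, tmul_smul_one a' y⟩
  | add x y hx hy =>
    obtain ⟨x', rfl⟩ := hx
    obtain ⟨y', rfl⟩ := hy
    exact ⟨x' + y', TensorProduct.tmul_add _ _ _⟩

lemma mem_red_Low [Nontrivial k] {m : ℕ} {x : P} (hx : x ∈ 𝔉.Low m) :
    (1 : k[X]) ⊗ₜ[A[X]] x ∈ (𝔉.red k).Low m := by
  intro i
  rw [red_c, red_D]
  exact (hx i).map _

lemma red_lead [Nontrivial k] (m : ℕ) (x : P) :
    (𝔉.red k).lead m ((1 : k[X]) ⊗ₜ[A[X]] x) = fun i => algebraMap A k (𝔉.lead m x i) := by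
  funext i
  simp only [lead, red_c, red_D, coeff_map]

end Frame

/-- Splitting a polynomial whose reduction has small degree. -/
lemma exists_split [Nontrivial k] (r : A[X]) {D m : ℕ} (h : DegLE (r.map (algebraMap A k)) D m) :
    ∃ r' r'' : A[X], r = r' + r'' ∧ r''.map (algebraMap A k) = 0 ∧ DegLE r' D m := by
  have : Nontrivial A := (algebraMap A k).domain_nontrivial
  by_cases hm : D < m
  · exact ⟨0, r, by simp, h.eq_zero hm, degLE_zero _ _⟩
  push Not at hm
  refine ⟨r %ₘ X ^ (D - m + 1), X ^ (D - m + 1) * (r /ₘ X ^ (D - m + 1)),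
    (modByMonic_add_div r _).symm, ?_, ?_⟩
  · rw [Polynomial.map_mul, map_divByMonic _ (monic_X_pow _)]
    have : (r.map (algebraMap A k)) /ₘ (X ^ (D - m + 1)).map (algebraMap A k) = 0 := by
      rw [divByMonic_eq_zero_iff ((monic_X_pow _).map _)]
      rw [Polynomial.map_pow, map_X, degree_X_pow]
      have h1 := h.natDegree_le' hm
      calc (r.map (algebraMap A k)).degree ≤ (r.map (algebraMap A k)).natDegree := degree_le_natDegree
        _ < ((D - m + 1 : ℕ) : WithBot ℕ) := by exact_mod_cast Nat.lt_succ_of_le h1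
    rw [this, mul_zero]
  · intro j hj
    apply coeff_eq_zero_of_degree_lt
    have := degree_modByMonic_lt r (monic_X_pow (R := A) (D - m + 1))
    rw [degree_X_pow] at this
    refine this.trans_le ?_
    exact_mod_cast (by omega : D - m + 1 ≤ j)

namespace Frame

variable (𝔉 : Frame A P ι)

/-- Step S: lifting elements of `Low m` (`m ≤ 1`) from the reduction. -/
lemma exists_lift_low [Nontrivial k] (hk : Function.Surjective (algebraMap A k)) {m : ℕ}
    (hm : m ≤ 1) {ξ : k[X] ⊗[A[X]] P} (hξ : ξ ∈ (𝔉.red k).Low m) :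
    ∃ x ∈ 𝔉.Low m, (1 : k[X]) ⊗ₜ[A[X]] x = ξ := by
  have : Nontrivial A := (algebraMap A k).domain_nontrivial
  obtain ⟨x0, rfl⟩ := red_surjective (P := P) hk ξ
  have h0 : ∀ i, DegLE ((𝔉.c x0 i).map (algebraMap A k)) 𝔉.D m := by
    intro i
    have := hξ i
    rwa [red_c, red_D] at this
  choose r' r'' hr hr'' hr' using fun i => exists_split (k := k) (𝔉.c x0 i) (h0 i)
  refine ⟨x0 - ∑ i, (r'' i /ₘ 𝔉.g) • 𝔉.p i, ?_, ?_⟩
  · intro j
    have hc : 𝔉.c (x0 - ∑ i, (r'' i /ₘ 𝔉.g) • 𝔉.p i) j = r' j + r'' j %ₘ 𝔉.g := by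
      simp only [map_sub, map_sum, map_smul, 𝔉.c_p, Pi.sub_apply, Finset.sum_apply, Pi.smul_apply,
        smul_eq_mul]
      rw [Finset.sum_eq_single j]
      · simp only [Pi.single_eq_same]
        rw [hr j]
        have := modByMonic_add_div (r'' j) 𝔉.g
        linear_combination (-1 : A[X]) * this
      · intro i _ hi; simp [Pi.single_eq_of_ne' hi]
      · intro h; exact absurd (Finset.mem_univ j) h
    rw [hc]
    refine (hr' j).add ?_
    have h1 : DegLE (r'' j %ₘ 𝔉.g) 𝔉.D 1 := by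
      intro l hl
      apply coeff_eq_zero_of_degree_lt
      refine (degree_modByMonic_lt _ 𝔉.monic).trans_le ?_
      rw [degree_eq_natDegree 𝔉.monic.ne_zero]
      have : 𝔉.g.natDegree ≤ l := by unfold D at hl; omega
      exact_mod_cast this
    exact h1.mono hm
  · rw [TensorProduct.tmul_sub, TensorProduct.tmul_sum]
    have : ∀ i, (1 : k[X]) ⊗ₜ[A[X]] ((r'' i /ₘ 𝔉.g) • 𝔉.p i) = 0 := by
      intro i
      rw [tmul_smul_one, map_divByMonic _ 𝔉.monic, hr'' i, zero_divByMonic, TensorProduct.zero_tmul]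
    simp [this]

end Frame

end Groth.Agent.Lib.Helper85.Horrocks
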