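import Mathlib
import Groth.Agent.Lib.Helper85.HorrocksRed

/-!
# Local Horrocks: auxiliary lemmas (helper85)
-/

open Polynomial TensorProduct

namespace Groth.Agent.Lib.Helper85.Horrocks

universe u v w

/-- Determinant of a polynomial matrix with entries of degree `≤ E`. -/
lemma det_natDegree_le {B : Type u} [CommRing B] {ι : Type w} [Fintype ι] [DecidableEq ι]
    (M : Matrix ι ι B[X]) (E : ℕ) (h : ∀ i j, (M i j).natDegree ≤ E) :
    (M.det).natDegree ≤ Fintype.card ι * E ∧
      (M.det).coeff (Fintype.card ι * E) = (Matrix.of fun i j => (M i j).coeff E).det := by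
  have hprod : ∀ σ : Equiv.Perm ι, (∏ i, M (σ i) i).natDegree ≤ Fintype.card ι * E := by
    intro σ
    refine (natDegree_prod_le _ _).trans ?_
    calc ∑ i, (M (σ i) i).natDegree ≤ ∑ _i : ι, E := Finset.sum_le_sum fun i _ => h _ _
      _ = Fintype.card ι * E := by simp
  constructor
  · rw [Matrix.det_apply']
    apply natDegree_sum_le_of_forall_le
    intro σ _
    refine (natDegree_mul_le).trans ?_
    have : ((((Equiv.Perm.sign σ : ℤˣ) : ℤ) : B[X])).natDegree = 0 := by
      rw [← Polynomial.C_eq_intCast]; exact natDegree_C _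
    rw [this, zero_add]
    exact hprod σ
  · rw [Matrix.det_apply', Matrix.det_apply', finsetSum_coeff]
    apply Finset.sum_congr rfl
    intro σ _
    rw [← Polynomial.C_eq_intCast, coeff_C_mul]
    congr 1
    have := coeff_prod_of_natDegree_le (s := Finset.univ) (fun i => M (σ i) i) E
      (fun i _ => h _ _)
    simpa using this

section Unimod

variable {A : Type u} [CommRing A] [IsLocalRing A]
  {P : Type v} [AddCommGroup P] [Module A[X] P]

/-- If the order ideal of `x` contains a monic polynomial and an element congruent to `1`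
modulo the maximal ideal, then `x` is unimodular. -/
lemma exists_functional_eq_one (x : P) (l1 l2 : P →ₗ[A[X]] A[X]) (h1 : (l1 x).Monic)
    (h2 : (l2 x).map (IsLocalRing.residue A) = 1) : ∃ l : P →ₗ[A[X]] A[X], l x = 1 := by
  classical
  let I : Ideal A[X] := LinearMap.range (LinearMap.applyₗ (R := A[X]) (M₂ := A[X]) x)
  have hI : ∀ r, r ∈ I ↔ ∃ l : P →ₗ[A[X]] A[X], l x = r := by
    intro r; simp [I, LinearMap.mem_range]
  suffices h : (1 : A[X]) ∈ I from (hI 1).mp h
  have ha : l1 x ∈ I := (hI _).mpr ⟨l1, rfl⟩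
  have hb : l2 x ∈ I := (hI _).mpr ⟨l2, rfl⟩
  -- the quotient is a finite A-module
  have hle : Ideal.span {l1 x} ≤ I := (Ideal.span_singleton_le_iff_mem _).mpr ha
  haveI : Module.Finite A (A[X] ⧸ Ideal.span {l1 x}) := h1.finite_adjoinRoot
  haveI : Module.Finite A (A[X] ⧸ I) :=
    Module.Finite.of_surjective (Ideal.Quotient.factorₐ A hle).toLinearMap
      (Ideal.Quotient.factor_surjective hle)
  have htop : (⊤ : Submodule A (A[X] ⧸ I)) = ⊥ := by
    apply Submodule.eq_bot_of_le_smul_of_le_jacobson_bot (IsLocalRing.maximalIdeal A) ⊤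
      Module.Finite.fg_top
    · intro y _
      obtain ⟨r, rfl⟩ := Ideal.Quotient.mk_surjective y
      -- r = r * b - r * (b - 1)
      have hq : (r * (l2 x - 1)).map (IsLocalRing.residue A) = 0 := by
        rw [Polynomial.map_mul, Polynomial.map_sub, h2, Polynomial.map_one, sub_self, mul_zero]
      have hr : Ideal.Quotient.mk I r = - Ideal.Quotient.mk I (r * (l2 x - 1)) := by
        rw [← map_neg, Ideal.Quotient.eq]
        have : r - -(r * (l2 x - 1)) = r * l2 x := by ring
        rw [this]
        exact I.mul_mem_left _ hb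
      rw [hr]
      apply Submodule.neg_mem
      set q := r * (l2 x - 1) with hqdef
      rw [as_sum_range_C_mul_X_pow q, map_sum]
      apply Submodule.sum_mem
      intro j _
      have hcoef : q.coeff j ∈ IsLocalRing.maximalIdeal A := by
        rw [← IsLocalRing.residue_eq_zero_iff, ← coeff_map, hq, coeff_zero]
      have : Ideal.Quotient.mk I (C (q.coeff j) * X ^ j) =
          (q.coeff j) • Ideal.Quotient.mk I (X ^ j) := by
        rw [← Polynomial.smul_eq_C_mul]; rfl
      rw [this]
      exact Submodule.smul_mem_smul hcoef Submodule.mem_top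
    · rw [IsLocalRing.jacobson_eq_maximalIdeal ⊥ bot_ne_top]
  have : (Ideal.Quotient.mk I 1 : A[X] ⧸ I) ∈ (⊥ : Submodule A (A[X] ⧸ I)) := by
    rw [← htop]; exact Submodule.mem_top
  rw [Submodule.mem_bot, Ideal.Quotient.eq_zero_iff_mem] at this
  exact this

end Unimod

end Groth.Agent.Lib.Helper85.Horrocks
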