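import Mathlib
import Groth.Agent.Lib.Helper85.HorrocksLocalA

/-!
# Local Horrocks: the two reduction steps and the splitting (helper85)
-/

open Polynomial TensorProduct

namespace Groth.Agent.Lib.Helper85.Horrocks

universe u v w

attribute [local instance] Polynomial.algebra

section Split

variable {B : Type u} [CommRing B] {P : Type v} [AddCommGroup P] [Module B[X] P]

/-- Projection onto the kernel of a functional `l` with `l x = 1`. -/
noncomputable def kerProj (l : P →ₗ[B[X]] B[X]) (x : P) (hl : l x = 1) :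
    P →ₗ[B[X]] LinearMap.ker l :=
  LinearMap.codRestrict (LinearMap.ker l)
    (LinearMap.id - (LinearMap.toSpanSingleton B[X] P x) ∘ₗ l)
    (fun y => by simp [LinearMap.mem_ker, hl])

lemma kerProj_coe (l : P →ₗ[B[X]] B[X]) (x : P) (hl : l x = 1) (y : P) :
    ((kerProj l x hl y : LinearMap.ker l) : P) = y - l y • x := by
  simp [kerProj]

lemma kerProj_self (l : P →ₗ[B[X]] B[X]) (x : P) (hl : l x = 1) : kerProj l x hl x = 0 := by
  apply Subtype.ext; simp [kerProj_coe, hl]

lemma kerProj_of_mem (l : P →ₗ[B[X]] B[X]) (x : P) (hl : l x = 1) (y : LinearMap.ker l) :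
    kerProj l x hl (y : P) = y := by
  apply Subtype.ext
  have : l (y : P) = 0 := y.2
  simp [kerProj_coe, this]

/-- `P ≃ B[X] × ker l`. -/
noncomputable def splitEquiv (l : P →ₗ[B[X]] B[X]) (x : P) (hl : l x = 1) :
    P ≃ₗ[B[X]] (B[X] × LinearMap.ker l) where
  toFun y := (l y, kerProj l x hl y)
  map_add' a b := by simp
  map_smul' r a := by simp
  invFun z := z.1 • x + (z.2 : P)
  left_inv y := by simp [kerProj_coe]
  right_inv z := by
    obtain ⟨r, z⟩ := z
    have hz : l (z : P) = 0 := z.2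
    apply Prod.ext
    · simp [hl, hz]
    · apply Subtype.ext
      simp [kerProj_coe, hl, hz]

lemma ker_finite_projective [Module.Finite B[X] P] [Module.Projective B[X] P]
    (l : P →ₗ[B[X]] B[X]) (x : P) (hl : l x = 1) :
    Module.Finite B[X] (LinearMap.ker l) ∧ Module.Projective B[X] (LinearMap.ker l) := by
  have hcomp : (kerProj l x hl) ∘ₗ (LinearMap.ker l).subtype = LinearMap.id := by
    ext y; simp [kerProj_of_mem]
  refine ⟨Module.Finite.of_surjective (kerProj l x hl) ?_,
    Module.Projective.of_split (LinearMap.ker l).subtype (kerProj l x hl) hcomp⟩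
  intro y; exact ⟨y, kerProj_of_mem l x hl y⟩

/-- Splitting off a unimodular element of degree `0` at infinity gives a frame on the kernel. -/
lemma split_frame {n : ℕ} (𝔉 : Frame B P (Fin (n + 1))) (x : P) (l : P →ₗ[B[X]] B[X])
    (i0 : Fin (n + 1)) (hl : l x = 1) (hdeg : DegLE (𝔉.c x i0) 𝔉.D 0)
    (hu : IsUnit ((𝔉.c x i0).coeff 𝔉.D)) :
    Nonempty (Frame B (LinearMap.ker l) (Fin n)) := by
  classical
  obtain ⟨w, hw⟩ := hu
  set a := 𝔉.c x i0 with ha
  set g0 : B[X] := C (↑w⁻¹ : B) * a with hg0def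
  have hg0 : g0.Monic := by
    apply monic_of_natDegree_le_of_coeff_eq_one 𝔉.D
    · exact (natDegree_C_mul_le _ _).trans (by simpa using hdeg.natDegree_le' (Nat.zero_le _))
    · rw [coeff_C_mul, ← hw]; simp
  have hag0 : a = C (w : B) * g0 := by
    rw [hg0def, ← mul_assoc, ← C_mul]; simp
  have hareg : ∀ s : B[X], s * a = 0 → s = 0 := by
    intro s hs
    rw [hag0, ← mul_assoc] at hs
    have h1 : s * C (w : B) = 0 := hg0.isRegular.right (by simpa using hs)
    have h2 : s * C (w : B) * C (↑w⁻¹ : B) = 0 := by rw [h1, zero_mul]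
    rwa [mul_assoc, ← C_mul, Units.mul_inv, C_1, mul_one] at h2
  set π := kerProj l x hl with hπ
  refine ⟨{ g := 𝔉.g * g0
            monic := 𝔉.monic.mul hg0
            p := fun j => π (𝔉.p (i0.succAbove j))
            li := ?_
            span := ?_ }⟩
  · rw [Fintype.linearIndependent_iff]
    intro r hr j
    have hr' : ∑ j, r j • (𝔉.p (i0.succAbove j) - l (𝔉.p (i0.succAbove j)) • x) = 0 := by
      have := congrArg (Subtype.val) hr
      simpa [hπ, kerProj_coe] using this
    set s := ∑ j, r j * l (𝔉.p (i0.succAbove j)) with hs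
    have h1 : ∑ j, r j • 𝔉.p (i0.succAbove j) = s • x := by
      simp only [smul_sub, Finset.sum_sub_distrib, smul_smul] at hr'
      rw [hs, Finset.sum_smul]
      exact sub_eq_zero.mp hr'
    have h2 : s * a = 0 := by
      have := congrArg (fun y => 𝔉.c y i0) h1
      simp only [map_sum, map_smul, 𝔉.c_p, Finset.sum_apply, Pi.smul_apply, smul_eq_mul] at this
      rw [Finset.sum_eq_zero] at this
      · exact this.symm
      · intro j _
        rw [Pi.single_eq_of_ne (Fin.succAbove_ne i0 j).symm, mul_zero]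
    have hs0 : s = 0 := hareg s h2
    have h3 : ∑ j, r j • 𝔉.p (i0.succAbove j) = 0 := by rw [h1, hs0, zero_smul]
    exact Fintype.linearIndependent_iff.mp (𝔉.li.comp _ Fin.succAbove_right_injective) r h3 j
  · rintro ⟨y, hy⟩
    have hy0 : l y = 0 := hy
    set y' : LinearMap.ker l := ⟨y, hy⟩ with hy'
    have hπy : π y = y' := kerProj_of_mem l x hl y'
    have E1 : 𝔉.g • y' = 𝔉.c y i0 • π (𝔉.p i0) +
        ∑ j, 𝔉.c y (i0.succAbove j) • π (𝔉.p (i0.succAbove j)) := by
      rw [← hπy, ← map_smul, ← 𝔉.sum_c y, map_sum, Fin.sum_univ_succAbove _ i0]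
      simp only [map_smul]
    have E2 : a • π (𝔉.p i0) = - ∑ j, 𝔉.c x (i0.succAbove j) • π (𝔉.p (i0.succAbove j)) := by
      have h0 : π (𝔉.g • x) = 0 := by rw [map_smul, hπ, kerProj_self, smul_zero]
      rw [← 𝔉.sum_c x, map_sum, Fin.sum_univ_succAbove _ i0] at h0
      simp only [map_smul] at h0
      exact eq_neg_of_add_eq_zero_left h0
    have E3 : a • (𝔉.g • y') = ∑ j, (a * 𝔉.c y (i0.succAbove j) -
        𝔉.c y i0 * 𝔉.c x (i0.succAbove j)) • π (𝔉.p (i0.succAbove j)) := by
      rw [E1, smul_add, smul_comm a (𝔉.c y i0), E2]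
      have hR : ∀ j, (a * 𝔉.c y (i0.succAbove j) -
          𝔉.c y i0 * 𝔉.c x (i0.succAbove j)) • π (𝔉.p (i0.succAbove j)) =
          a • (𝔉.c y (i0.succAbove j) • π (𝔉.p (i0.succAbove j))) -
          𝔉.c y i0 • (𝔉.c x (i0.succAbove j) • π (𝔉.p (i0.succAbove j))) := by
        intro j; module
      rw [Finset.sum_congr rfl (fun j _ => hR j), Finset.sum_sub_distrib, ← Finset.smul_sum,
        ← Finset.smul_sum]
      module
    have E4 : (𝔉.g * g0) • y' = C (↑w⁻¹ : B) • (a • (𝔉.g • y')) := by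
      rw [hg0def, smul_smul, smul_smul]; congr 1; ring
    rw [E4, E3]
    exact Submodule.smul_mem _ _ (Submodule.sum_mem _ fun j _ =>
      Submodule.smul_mem _ _ (Submodule.subset_span ⟨j, rfl⟩))

end Split

section Local

variable {A : Type u} [CommRing A] [IsLocalRing A]
  {P : Type v} [AddCommGroup P] [Module A[X] P] [Module.Finite A[X] P] [Module.Projective A[X] P]
  {ι : Type w} [Fintype ι] [DecidableEq ι]

local notation "𝕜" => IsLocalRing.ResidueField A

lemma hk : Function.Surjective (algebraMap A 𝕜) := IsLocalRing.residue_surjective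

/-- Step G0: if `lead 1` is not onto over the residue field, there is a unimodular element of
degree `0` at infinity with a unit leading coordinate. -/
lemma G0 (𝔉 : Frame A P ι) (hns : ¬ (𝔉.red 𝕜).Surj 1) :
    ∃ (x : P) (l : P →ₗ[A[X]] A[X]) (i0 : ι), l x = 1 ∧ DegLE (𝔉.c x i0) 𝔉.D 0 ∧
      IsUnit ((𝔉.c x i0).coeff 𝔉.D) := by
  classical
  set 𝔊 := 𝔉.red 𝕜 with h𝔊
  have hD : 𝔊.D = 𝔉.D := 𝔉.red_D
  simp only [Frame.Surj] at hns
  push Not at hns
  obtain ⟨v, hv⟩ := hns
  have hv0 : v ≠ 0 := by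
    rintro rfl
    exact hv 0 (𝔊.zero_mem_Low 1) (by funext i; simp [Frame.lead])
  obtain ⟨i0, hi0⟩ : ∃ i, v i ≠ 0 := by
    by_contra hcon; push Not at hcon; exact hv0 (funext hcon)
  let ξ0 : 𝕜[X] ⊗[A[X]] P := ∑ i, C (v i) • 𝔊.p i
  have hcξ : ∀ i, 𝔊.c ξ0 i = C (v i) * 𝔊.g := by
    intro i
    simp only [ξ0, map_sum, map_smul, 𝔊.c_p, Finset.sum_apply, Pi.smul_apply, smul_eq_mul]
    rw [Finset.sum_eq_single i]
    · simp
    · intro j _ hj; simp [Pi.single_eq_of_ne' hj]
    · intro h; exact absurd (Finset.mem_univ i) h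
  have hξ0 : ξ0 ≠ 0 := by
    intro h0
    have := hcξ i0
    rw [h0, map_zero] at this
    exact (mul_ne_zero (C_ne_zero.mpr hi0) 𝔊.monic.ne_zero) this.symm
  obtain ⟨lbar, hlbar⟩ : ∃ lbar : (𝕜[X] ⊗[A[X]] P) →ₗ[𝕜[X]] 𝕜[X], lbar ξ0 = 1 := by
    let b := Module.Free.chooseBasis 𝕜[X] (𝕜[X] ⊗[A[X]] P)
    set gg := Submodule.IsPrincipal.generator
      (Ideal.span (Set.range fun j => b.repr ξ0 j)) with hggdef
    have hgg : Ideal.span (Set.range fun j => b.repr ξ0 j) = Ideal.span {gg} :=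
      (Ideal.span_singleton_generator _).symm
    have hdiv : ∀ j, gg ∣ b.repr ξ0 j := fun j => by
      rw [← Ideal.mem_span_singleton, ← hgg]; exact Ideal.subset_span ⟨j, rfl⟩
    choose h hh using hdiv
    have hggmem : gg ∈ Ideal.span (Set.range fun j => b.repr ξ0 j) := by
      rw [hgg]; exact Ideal.mem_span_singleton_self gg
    obtain ⟨r, hr⟩ := Ideal.mem_span_range_iff_exists_fun.mp hggmem
    let η : 𝕜[X] ⊗[A[X]] P := ∑ j, h j • b j
    have hξη : ξ0 = gg • η := by
      conv_lhs => rw [← b.sum_repr ξ0]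
      simp only [η, Finset.smul_sum, smul_smul]
      exact Finset.sum_congr rfl fun j _ => by rw [hh j]
    have hgg0 : gg ≠ 0 := by
      intro h0; exact hξ0 (by rw [hξη, h0, zero_smul])
    let l0 : (𝕜[X] ⊗[A[X]] P) →ₗ[𝕜[X]] 𝕜[X] := ∑ j, r j • b.coord j
    have hl0 : l0 ξ0 = gg := by
      simp only [l0, LinearMap.sum_apply, LinearMap.smul_apply, Module.Basis.coord_apply,
        smul_eq_mul]
      exact hr
    have hl0η : l0 η = 1 := by
      have : gg * l0 η = gg * 1 := by
        rw [mul_one, ← smul_eq_mul, ← map_smul, ← hξη, hl0]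
      exact mul_left_cancel₀ hgg0 this
    by_cases hd : gg.natDegree = 0
    · obtain ⟨u, hu⟩ : ∃ u, gg = C u := ⟨gg.coeff 0, eq_C_of_natDegree_eq_zero hd⟩
      have hu0 : u ≠ 0 := by rintro rfl; exact hgg0 (by simpa using hu)
      refine ⟨C u⁻¹ • l0, ?_⟩
      rw [LinearMap.smul_apply, hl0, hu, smul_eq_mul, ← C_mul, inv_mul_cancel₀ hu0, C_1]
    · exfalso
      set d := gg.natDegree with hd'
      have hd1 : 1 ≤ d := Nat.one_le_iff_ne_zero.mpr hd
      let η' : 𝕜[X] ⊗[A[X]] P := (C gg.leadingCoeff * X ^ (d - 1)) • η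
      have hcη : ∀ i, gg * 𝔊.c η i = C (v i) * 𝔊.g := by
        intro i; rw [← hcξ i, hξη, map_smul]; rfl
      have key : ∀ i, DegLE (𝔊.c η' i) 𝔊.D 1 ∧ (𝔊.c η' i).coeff (𝔊.D - 1) = v i := by
        intro i
        have hc' : 𝔊.c η' i = C gg.leadingCoeff * X ^ (d - 1) * 𝔊.c η i := by
          simp only [η', map_smul, Pi.smul_apply, smul_eq_mul]
        rw [hc']
        by_cases hvi : v i = 0
        · have : 𝔊.c η i = 0 := by
            have := hcη i
            rw [hvi, C_0, zero_mul] at this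
            exact (mul_eq_zero.mp this).resolve_left hgg0
          rw [this, mul_zero]
          exact ⟨degLE_zero _ _, by simp [hvi]⟩
        · set q := 𝔊.c η i with hq
          have hq0 : q ≠ 0 := by
            intro h0
            have := hcη i
            rw [← hq, h0, mul_zero] at this
            exact (mul_ne_zero (C_ne_zero.mpr hvi) 𝔊.monic.ne_zero) this.symm
          have hdeg : d + q.natDegree = 𝔊.D := by
            have := congrArg natDegree (hcη i)
            rw [natDegree_mul hgg0 hq0, natDegree_C_mul hvi] at this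
            exact this
          have hlc : gg.leadingCoeff * q.leadingCoeff = v i := by
            have := congrArg leadingCoeff (hcη i)
            rw [leadingCoeff_mul, leadingCoeff_mul, leadingCoeff_C, 𝔊.monic.leadingCoeff,
              mul_one] at this
            exact this
          constructor
          · apply degLE_of_natDegree_le
            have h1 : (C gg.leadingCoeff * X ^ (d - 1) * q).natDegree ≤ (d - 1) + q.natDegree := by
              rw [mul_assoc]
              refine (natDegree_C_mul_le _ _).trans ?_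
              refine natDegree_mul_le.trans ?_
              rw [natDegree_X_pow]
            omega
          · rw [mul_assoc, coeff_C_mul, coeff_X_pow_mul', if_pos (by omega)]
            have : 𝔊.D - 1 - (d - 1) = q.natDegree := by omega
            rw [this]; exact hlc
      exact hv η' (fun i => (key i).1) (funext fun i => (key i).2)
  have hξlow : ξ0 ∈ 𝔊.Low 0 := by
    intro i
    rw [hcξ]
    apply degLE_of_natDegree_le
    rw [add_zero]
    exact natDegree_C_mul_le _ _
  obtain ⟨x, hxlow, hx⟩ := 𝔉.exists_lift_low hk (Nat.zero_le 1) hξlow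
  have hlead : algebraMap A 𝕜 ((𝔉.c x i0).coeff 𝔉.D) = v i0 := by
    have := congrFun (𝔉.red_lead (k := 𝕜) 0 x) i0
    rw [hx] at this
    simp only [Frame.lead, Nat.sub_zero] at this
    rw [← this, hcξ, coeff_C_mul]
    have : 𝔊.g.coeff 𝔊.D = 1 := 𝔊.monic.coeff_natDegree
    rw [this, mul_one]
  have hunit : IsUnit ((𝔉.c x i0).coeff 𝔉.D) := by
    rw [← IsLocalRing.notMem_maximalIdeal, ← IsLocalRing.residue_eq_zero_iff]
    intro h0
    apply hi0
    rw [← hlead]
    exact h0
  obtain ⟨l2, hl2⟩ := Module.projective_lifting_property (Algebra.linearMap A[X] 𝕜[X])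
    ((lbar.restrictScalars A[X]).comp (TensorProduct.mk A[X] 𝕜[X] P 1))
    (fun y => Polynomial.map_surjective _ hk y)
  have h2 : (l2 x).map (IsLocalRing.residue A) = 1 := by
    have := LinearMap.congr_fun hl2 x
    simp only [LinearMap.coe_comp, Function.comp_apply, Algebra.linearMap_apply,
      LinearMap.coe_restrictScalars, TensorProduct.mk_apply] at this
    rw [hx, hlbar] at this
    exact this
  obtain ⟨w, hw⟩ := hunit
  let l1 : P →ₗ[A[X]] A[X] := C (↑w⁻¹ : A) • (LinearMap.proj i0 ∘ₗ 𝔉.c)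
  have h1 : (l1 x).Monic := by
    simp only [l1, LinearMap.smul_apply, LinearMap.coe_comp, Function.comp_apply,
      LinearMap.proj_apply, smul_eq_mul]
    apply monic_of_natDegree_le_of_coeff_eq_one 𝔉.D
    · exact (natDegree_C_mul_le _ _).trans (by simpa using (hxlow i0).natDegree_le' (Nat.zero_le _))
    · rw [coeff_C_mul, ← hw]; simp
  obtain ⟨l, hl⟩ := exists_functional_eq_one x l1 l2 h1 h2
  exact ⟨x, l, i0, hl, hxlow i0, ⟨w, hw⟩⟩

/-- Step G1: if `lead 1` is onto over the residue field, twist the frame down by one. -/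
lemma G1 [Nonempty ι] (𝔉 : Frame A P ι) (hs : (𝔉.red 𝕜).Surj 1) :
    ∃ 𝔉' : Frame A P ι, (∀ l, 𝔉'.p l ∈ 𝔉.Low 1) ∧
      ∀ l, (𝔉.red 𝕜).lead 1 ((𝔉'.red 𝕜).p l) = Pi.single l 1 := by
  classical
  set 𝔊 := 𝔉.red 𝕜 with h𝔊
  have hD : 𝔊.D = 𝔉.D := 𝔉.red_D
  choose η hηlow hηlead using fun l => hs (Pi.single l 1)
  choose y hylow hy using fun l => 𝔉.exists_lift_low hk le_rfl (hηlow l)
  let 𝒜 : Matrix ι ι A[X] := Matrix.of fun i l => 𝔉.c (y l) i
  have hD1 : 1 ≤ 𝔉.D := by
    have l := Classical.arbitrary ι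
    have h1 := congrFun (hηlead l) l
    simp only [Frame.lead, Pi.single_eq_same] at h1
    have hne : 𝔊.c (η l) l ≠ 0 := by
      intro h0; rw [h0, coeff_zero] at h1; exact zero_ne_one h1
    have := (hηlow l l).natDegree_le hne
    omega
  set E := 𝔉.D - 1 with hE
  have hdeg : ∀ i l, (𝒜 i l).natDegree ≤ E := fun i l => (hylow l i).natDegree_le' hD1
  obtain ⟨hdet1, hdet2⟩ := det_natDegree_le 𝒜 E hdeg
  set W : Matrix ι ι A := Matrix.of fun i l => (𝒜 i l).coeff E with hWdef
  have hW : W.map (algebraMap A 𝕜) = 1 := by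
    ext i l
    have := congrFun (𝔉.red_lead (k := 𝕜) 1 (y l)) i
    rw [hy l, hηlead l] at this
    simp only [Frame.lead] at this
    rw [Matrix.map_apply, Matrix.one_apply, ← Pi.single_apply, this]
    rfl
  have hWu : IsUnit W.det := by
    have h1 : algebraMap A 𝕜 W.det = 1 := by
      rw [RingHom.map_det, RingHom.mapMatrix_apply, hW, Matrix.det_one]
    rw [← IsLocalRing.notMem_maximalIdeal, ← IsLocalRing.residue_eq_zero_iff]
    intro h0
    have : (algebraMap A 𝕜) W.det = 0 := h0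
    rw [h1] at this
    exact one_ne_zero this
  obtain ⟨u, hu⟩ := hWu
  set g1 : A[X] := C (↑u⁻¹ : A) * 𝒜.det with hg1def
  have hg1 : g1.Monic := by
    apply monic_of_natDegree_le_of_coeff_eq_one (Fintype.card ι * E)
    · exact (natDegree_C_mul_le _ _).trans hdet1
    · rw [coeff_C_mul, hdet2]
      show (↑u⁻¹ : A) * W.det = 1
      rw [← hu]; simp
  have hdetA : 𝒜.det = C (u : A) * g1 := by
    rw [hg1def, ← mul_assoc, ← C_mul]; simp
  have hdetreg : ∀ r : A[X], 𝒜.det * r = 0 → r = 0 := by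
    intro r hr
    rw [hdetA, mul_assoc] at hr
    have h1 : C (↑u⁻¹ : A) * (C (u : A) * (g1 * r)) = 0 := by rw [hr, mul_zero]
    rw [← mul_assoc, ← C_mul, Units.inv_mul, C_1, one_mul] at h1
    exact hg1.isRegular.left (by simpa using h1)
  have hmulVec : ∀ s : ι → A[X], ∀ i, 𝔉.c (∑ l, s l • y l) i = (𝒜.mulVec s) i := by
    intro s i
    simp only [map_sum, map_smul, Finset.sum_apply, Pi.smul_apply, smul_eq_mul, Matrix.mulVec,
      dotProduct, 𝒜, Matrix.of_apply]
    exact Finset.sum_congr rfl fun l _ => mul_comm _ _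
  refine ⟨{ g := g1, monic := hg1, p := y, li := ?_, span := ?_ }, hylow, fun l => ?_⟩
  · rw [Fintype.linearIndependent_iff]
    intro r hr l
    have h1 : 𝒜.mulVec r = 0 := by
      funext i
      rw [← hmulVec r i, hr, map_zero]
    have h2 : 𝒜.det • r = 0 := by
      have := congrArg (𝒜.adjugate.mulVec) h1
      rw [Matrix.mulVec_mulVec, Matrix.adjugate_mul, Matrix.smul_mulVec, Matrix.one_mulVec,
        Matrix.mulVec_zero] at this
      exact this
    have := congrFun h2 l
    exact hdetreg _ (by simpa using this)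
  · intro x
    have hx : 𝒜.det • x = ∑ l, (𝒜.adjugate.mulVec (𝔉.c x)) l • y l := by
      apply 𝔉.c_injective
      funext i
      rw [hmulVec, Matrix.mulVec_mulVec, Matrix.mul_adjugate, Matrix.smul_mulVec,
        Matrix.one_mulVec, map_smul]
    have : g1 • x = C (↑u⁻¹ : A) • (𝒜.det • x) := by
      rw [hg1def, mul_smul]
    rw [this, hx]
    exact Submodule.smul_mem _ _ (Submodule.sum_mem _ fun l _ =>
      Submodule.smul_mem _ _ (Submodule.subset_span ⟨l, rfl⟩))
  · show 𝔊.lead 1 ((1 : 𝕜[X]) ⊗ₜ[A[X]] y l) = Pi.single l 1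
    rw [hy l, hηlead l]

lemma not_surj_succ (𝔉 𝔉' : Frame A P ι) (h1 : ∀ l, 𝔉'.p l ∈ 𝔉.Low 1)
    (h2 : ∀ l, (𝔉.red 𝕜).lead 1 ((𝔉'.red 𝕜).p l) = Pi.single l 1) {m : ℕ}
    (hns : ¬ (𝔉.red 𝕜).Surj (m + 2)) : ¬ (𝔉'.red 𝕜).Surj (m + 1) := by
  classical
  intro hs
  apply hns
  intro v
  obtain ⟨ξ, hξ, hv⟩ := hs v
  have hp : ∀ l, (𝔉'.red 𝕜).p l ∈ (𝔉.red 𝕜).Low 1 := fun l => 𝔉.mem_red_Low (h1 l)
  refine ⟨ξ, (𝔉.red 𝕜).low_of_low (𝔉'.red 𝕜) hp hξ, ?_⟩
  rw [(𝔉.red 𝕜).lead_of_low (𝔉'.red 𝕜) hp hξ]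
  funext i
  simp only [h2, hv, Pi.single_apply]
  rw [Finset.sum_eq_single i]
  · simp
  · intro j _ hj; simp [hj.symm]
  · intro h; exact absurd (Finset.mem_univ i) h

end Local

end Groth.Agent.Lib.Helper85.Horrocks
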