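import Mathlib
import Groth.Agent.Lib.Helper85.HorrocksLocalB

/-!
# Local Horrocks theorem (helper85)

`A` local, `P` a finitely generated projective `A[X]`-module carrying a frame (a monic `g` and a
linearly independent family `p` with `g • P ⊆ span p`, i.e. `P_g` is free with a basis in `P`).
Then `P` is free.
-/

open Polynomial TensorProduct

namespace Groth.Agent.Lib.Helper85.Horrocks

universe u v w

attribute [local instance] Polynomial.algebra

variable {A : Type u} [CommRing A] [IsLocalRing A]

local notation "𝕜" => IsLocalRing.ResidueField A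

theorem free_of_frame_fin : ∀ (n : ℕ) (P : Type v) [AddCommGroup P] [Module A[X] P]
    [Module.Finite A[X] P] [Module.Projective A[X] P], Frame A P (Fin n) → Module.Free A[X] P := by
  intro n
  induction n with
  | zero =>
    intro P _ _ _ _ 𝔉
    have h0 : ∀ x : P, x = 0 := fun x => by
      have := 𝔉.span x
      have hr : Set.range 𝔉.p = ∅ := Set.range_eq_empty _
      rw [hr, Submodule.span_empty, Submodule.mem_bot] at this
      exact 𝔉.g_isSMulRegular (by simpa using this)
    have : Subsingleton P := ⟨fun a b => by rw [h0 a, h0 b]⟩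
    exact Module.Free.of_subsingleton _ _
  | succ n ih =>
    intro P _ _ _ _ 𝔉
    have G0route : ∀ 𝔉 : Frame A P (Fin (n + 1)), ¬ (𝔉.red 𝕜).Surj 1 → Module.Free A[X] P := by
      intro 𝔉 hns
      obtain ⟨x, l, i0, hl, hdeg, hu⟩ := G0 𝔉 hns
      obtain ⟨𝔉'⟩ := split_frame 𝔉 x l i0 hl hdeg hu
      obtain ⟨hfin, hproj⟩ := ker_finite_projective l x hl
      haveI := hfin
      haveI := hproj
      haveI : Module.Free A[X] (LinearMap.ker l) := ih (LinearMap.ker l) 𝔉'
      exact Module.Free.of_equiv (splitEquiv l x hl).symm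
    have claim : ∀ m : ℕ, ∀ 𝔉 : Frame A P (Fin (n + 1)), ¬ (𝔉.red 𝕜).Surj (m + 1) →
        Module.Free A[X] P := by
      intro m
      induction m with
      | zero => exact fun 𝔉 h => G0route 𝔉 h
      | succ m ihm =>
        intro 𝔉 hns
        by_cases h1 : (𝔉.red 𝕜).Surj 1
        · obtain ⟨𝔉', h1', h2'⟩ := G1 𝔉 h1
          exact ihm 𝔉' (not_surj_succ 𝔉 𝔉' h1' h2' hns)
        · exact G0route 𝔉 h1
    exact claim (𝔉.red 𝕜).D 𝔉 ((𝔉.red 𝕜).not_surj_of_lt (Nat.lt_succ_self _))

/-- Reindexing a frame. -/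
def Frame.reindex {B : Type u} [CommRing B] {P : Type v} [AddCommGroup P] [Module B[X] P]
    {ι : Type w} {ι' : Type*} (𝔉 : Frame B P ι) (e : ι ≃ ι') : Frame B P ι' where
  g := 𝔉.g
  monic := 𝔉.monic
  p := 𝔉.p ∘ e.symm
  li := 𝔉.li.comp _ e.symm.injective
  span x := by
    rw [e.symm.surjective.range_comp]
    exact 𝔉.span x

/-- **Local Horrocks theorem** (frame form). -/
theorem free_of_frame {ι : Type w} [Finite ι] (P : Type v) [AddCommGroup P] [Module A[X] P]
    [Module.Finite A[X] P] [Module.Projective A[X] P] (𝔉 : Frame A P ι) : Module.Free A[X] P := by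
  classical
  haveI := Fintype.ofFinite ι
  exact free_of_frame_fin _ P (𝔉.reindex (Fintype.equivFin ι))

end Groth.Agent.Lib.Helper85.Horrocks
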