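import Mathlib
import Groth.Agent.Lib.Helper85.HorrocksGlueB
import Groth.Agent.Lib.Helper85.HorrocksLocal

/-!
# Local Horrocks in gluing form (helper85)

Over a local ring `B`: idempotent matrices `eM`, `eN` over `B[X]` (the two charts of a vector
bundle on the projective line) and gluing matrices `H`, `H'` over `B[T;T⁻¹]` (semilinear for
`T ↦ T⁻¹`).  Then the range of `eM` is a free `B[X]`-module.
-/

open Polynomial LaurentPolynomial

namespace Groth.Agent.Lib.Helper85.Horrocks

universe u w

section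

variable {B : Type u} [CommRing B] [IsLocalRing B] {r : Type w} [Fintype r] [DecidableEq r]
  {s : Type w} [Fintype s] [DecidableEq s]

theorem exists_frame_of_glue (eM : Matrix r r B[X]) (heM : eM * eM = eM)
    (eN : Matrix s s B[X]) (heN : eN * eN = eN)
    (H : Matrix s r B[T;T⁻¹]) (H' : Matrix r s B[T;T⁻¹])
    (h3 : H' * H = eM.map (Polynomial.toLaurent : B[X] →+* B[T;T⁻¹]))
    (h4 : H * H' = (eN.map (Polynomial.toLaurent : B[X] →+* B[T;T⁻¹])).map
      (LaurentPolynomial.invert (R := B) : B[T;T⁻¹] ≃ₐ[B] B[T;T⁻¹]))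
    (h5 : H * H' * H = H) (h6 : H' * H * H' = H') :
    ∃ (κ : Type (max w u)) (_ : Fintype κ),
      Nonempty (Frame B (LinearMap.range (Matrix.toLin' eM)) κ) := by
  classical
  obtain ⟨κ, _, ν, g, hg0, hνfix, hνli, hνspan⟩ := exists_frame_at_zero eN heN
  set y : κ → r → B[T;T⁻¹] := fun k => H'.mulVec (fun i => invert (toLaurent (ν k i))) with hy
  have hyli : LinearIndependent B[T;T⁻¹] y := transport_li eN heN H H' h4 ν hνfix hνli
  have hyspan := transport_span eM eN H H' h3 h4 h5 ν g hνspan
  have hyfix : ∀ k, (eM.map (Polynomial.toLaurent : B[X] →+* B[T;T⁻¹])).mulVec (y k) = y k :=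
    fun k => transport_fix eM H H' h3 h6 _
  obtain ⟨K0, hK0⟩ := exists_T_pow_fam (fun kr : κ × r => y kr.1 kr.2)
  choose p0 hp0 using hK0
  set p : κ → r → B[X] := fun k i => p0 (k, i) with hp
  have hpy : ∀ k, (fun i => toLaurent (p k i)) = (T (K0 : ℤ) : B[T;T⁻¹]) • y k := by
    intro k; funext i
    simp only [hp, hp0 (k, i), Pi.smul_apply, smul_eq_mul, mul_comm]
  have hpfix : ∀ k, eM.mulVec (p k) = p k := by
    intro k
    apply toLaurent_comp_injective
    rw [toLaurent_mulVec, hpy k, Matrix.mulVec_smul, hyfix k]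
  have hfixP : ∀ x : LinearMap.range (Matrix.toLin' eM), eM.mulVec (x : r → B[X]) = x := by
    rintro ⟨x, w, rfl⟩
    simp only [Matrix.toLin'_apply, Matrix.mulVec_mulVec, heM]
  set f0 := g.reverse with hf0
  have hf0m : f0.Monic := by
    apply monic_of_natDegree_le_of_coeff_eq_one g.natDegree (reverse_natDegree_le g)
    rw [coeff_reverse, revAt_le le_rfl]; simpa using hg0
  have hf0L : toLaurent f0 = invert (toLaurent g) * T (g.natDegree : ℤ) := toLaurent_reverse g
  -- (D1)
  have D1 : ∀ x : r → B[X], eM.mulVec x = x → ∃ (K : ℕ) (c : κ → B[X]),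
      (X ^ K * f0) • x = ∑ k, c k • p k := by
    intro x hx
    set v : r → B[T;T⁻¹] := fun i => toLaurent (x i) with hv
    have hvfix : (eM.map (Polynomial.toLaurent : B[X] →+* B[T;T⁻¹])).mulVec v = v := by
      rw [hv, ← toLaurent_mulVec, hx]
    obtain ⟨a, ha⟩ := (Submodule.mem_span_range_iff_exists_fun _).mp (hyspan v hvfix)
    obtain ⟨K2, hK2⟩ := exists_T_pow_fam (fun k => a k * T (-(K0 : ℤ)))
    choose q hq using hK2
    refine ⟨K2, fun k => X ^ g.natDegree * q k, ?_⟩
    apply toLaurent_comp_injective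
    funext i
    have hai := congrFun ha i
    simp only [Finset.sum_apply, Pi.smul_apply, smul_eq_mul] at hai
    have hpi : ∀ k, toLaurent (p k i) = T (K0 : ℤ) * y k i := fun k => congrFun (hpy k) i
    simp only [Finset.sum_apply, Pi.smul_apply, smul_eq_mul, map_sum, map_mul, toLaurent_X_pow,
      hf0L, hq, hpi]
    calc T (K2 : ℤ) * (invert (toLaurent g) * T (g.natDegree : ℤ)) * toLaurent (x i)
        = T (g.natDegree : ℤ) * T (K2 : ℤ) * (invert (toLaurent g) * v i) := by
          simp only [hv]; ring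
      _ = T (g.natDegree : ℤ) * T (K2 : ℤ) * ∑ k, a k * y k i := by rw [hai]
      _ = ∑ k, T (g.natDegree : ℤ) * (a k * T (-(K0 : ℤ)) * T (K2 : ℤ)) * (T (K0 : ℤ) * y k i) := by
          rw [Finset.mul_sum]
          refine Finset.sum_congr rfl fun k _ => ?_
          have : (T (-(K0 : ℤ)) : B[T;T⁻¹]) * T (K0 : ℤ) = 1 := by
            rw [← T_add, neg_add_cancel, T_zero]
          calc T (g.natDegree : ℤ) * T (K2 : ℤ) * (a k * y k i)
              = T (g.natDegree : ℤ) * T (K2 : ℤ) * (a k * y k i) * (T (-(K0 : ℤ)) * T (K0 : ℤ)) := by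
                rw [this, mul_one]
            _ = _ := by ring
  -- (D2) uniform exponent
  have hgen : ∀ j : r, eM.mulVec (eM.mulVec (Pi.single j 1)) = eM.mulVec (Pi.single j 1) := by
    intro j; rw [Matrix.mulVec_mulVec, heM]
  choose Kj cj hcj using fun j => D1 _ (hgen j)
  set K1 := Finset.univ.sup Kj with hK1
  have D2 : ∀ x : r → B[X], eM.mulVec x = x → ∃ c : κ → B[X],
      (X ^ K1 * f0) • x = ∑ k, c k • p k := by
    intro x hx
    refine ⟨fun k => ∑ j, x j * X ^ (K1 - Kj j) * cj j k, ?_⟩
    have hxsum : x = ∑ j, x j • eM.mulVec (Pi.single j 1) := by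
      conv_lhs => rw [← hx]
      funext i
      simp only [Finset.sum_apply, Pi.smul_apply, smul_eq_mul, Matrix.mulVec_single_one]
      simp only [Matrix.mulVec, dotProduct, Matrix.col_apply]
      exact Finset.sum_congr rfl fun j _ => mul_comm _ _
    have hj : ∀ j, (X ^ K1 * f0) • eM.mulVec (Pi.single j 1) =
        ∑ k, (X ^ (K1 - Kj j) * cj j k) • p k := by
      intro j
      have hle : Kj j ≤ K1 := Finset.le_sup (Finset.mem_univ j)
      have : (X ^ K1 * f0 : B[X]) = X ^ (K1 - Kj j) * (X ^ Kj j * f0) := by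
        rw [← mul_assoc, ← pow_add, Nat.sub_add_cancel hle]
      rw [this, mul_smul, hcj j, Finset.smul_sum]
      exact Finset.sum_congr rfl fun k _ => by rw [smul_smul]
    conv_lhs => rw [hxsum]
    rw [Finset.smul_sum]
    simp only [smul_comm _ (x _), hj, Finset.smul_sum, smul_smul]
    rw [Finset.sum_comm]
    refine Finset.sum_congr rfl fun k _ => ?_
    rw [Finset.sum_smul]
    exact Finset.sum_congr rfl fun j _ => by rw [mul_assoc]
  refine ⟨κ, inferInstance, ⟨{
    g := X ^ K1 * f0
    monic := (monic_X_pow K1).mul hf0m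
    p := fun k => ⟨p k, ⟨p k, by rw [Matrix.toLin'_apply]; exact hpfix k⟩⟩
    li := ?_
    span := ?_ }⟩⟩
  · rw [Fintype.linearIndependent_iff]
    intro c hc k
    have h1 : ∑ k, c k • p k = 0 := by
      have := congrArg (fun z : LinearMap.range (Matrix.toLin' eM) => (z : r → B[X])) hc
      simpa using this
    have h2 : ∑ k, (toLaurent (c k) * T (K0 : ℤ)) • y k = 0 := by
      funext i
      have := congrArg (toLaurent (R := B)) (congrFun h1 i)
      simp only [Finset.sum_apply, Pi.smul_apply, smul_eq_mul, map_sum, map_mul, Pi.zero_apply,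
        map_zero] at this ⊢
      rw [← this]
      refine Finset.sum_congr rfl fun k _ => ?_
      rw [congrFun (hpy k) i]
      simp only [Pi.smul_apply, smul_eq_mul]; ring
    have h3' := Fintype.linearIndependent_iff.mp hyli _ h2 k
    have h4' := T_mul_eq_zero h3'
    exact toLaurent_injective (by rw [h4', map_zero])
  · intro x
    obtain ⟨c, hc⟩ := D2 (x : r → B[X]) (hfixP x)
    refine (Submodule.mem_span_range_iff_exists_fun _).mpr ⟨c, ?_⟩
    apply Subtype.ext
    simp only [Submodule.coe_sum, Submodule.coe_smul]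
    exact hc.symm

/-- **Local Horrocks, gluing form.** -/
theorem free_of_glue (eM : Matrix r r B[X]) (heM : eM * eM = eM)
    (eN : Matrix s s B[X]) (heN : eN * eN = eN)
    (H : Matrix s r B[T;T⁻¹]) (H' : Matrix r s B[T;T⁻¹])
    (h3 : H' * H = eM.map (Polynomial.toLaurent : B[X] →+* B[T;T⁻¹]))
    (h4 : H * H' = (eN.map (Polynomial.toLaurent : B[X] →+* B[T;T⁻¹])).map
      (LaurentPolynomial.invert (R := B) : B[T;T⁻¹] ≃ₐ[B] B[T;T⁻¹]))
    (h5 : H * H' * H = H) (h6 : H' * H * H' = H') :
    Module.Free B[X] (LinearMap.range (Matrix.toLin' eM)) := by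
  classical
  obtain ⟨κ, _, ⟨𝔉⟩⟩ := exists_frame_of_glue eM heM eN heN H H' h3 h4 h5 h6
  haveI : Module.Finite B[X] (LinearMap.range (Matrix.toLin' eM)) := Module.Finite.range _
  haveI : Module.Projective B[X] (LinearMap.range (Matrix.toLin' eM)) := by
    refine Module.Projective.of_split (LinearMap.range (Matrix.toLin' eM)).subtype
      (Matrix.toLin' eM).rangeRestrict ?_
    apply LinearMap.ext
    rintro ⟨v, w, rfl⟩
    apply Subtype.ext
    simp only [LinearMap.coe_comp, Function.comp_apply, Submodule.subtype_apply,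
      LinearMap.codRestrict_apply, LinearMap.rangeRestrict, LinearMap.id_coe, id_eq,
      Matrix.toLin'_apply, Matrix.mulVec_mulVec, heM]
  exact free_of_frame _ 𝔉

end

end Groth.Agent.Lib.Helper85.Horrocks
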