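import Mathlib
import Groth.Agent.Lib.Helper85.HorrocksGlue
import Groth.Agent.Lib.Helper85.HorrocksAffine

/-!
# Affine Horrocks theorem, matrix-gluing form (helper85)

`M` a retract of `A[X]^n` (any commutative ring `A`), extended to the projective line by an
idempotent `eN` on the chart at infinity and gluing matrices `H`, `H'` over `A[T;T⁻¹]`.
Then `M` is extended from `A`.
-/

open Polynomial LaurentPolynomial TensorProduct

namespace Groth.Agent.Lib.Helper85.Horrocks

universe u

section LL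

variable {A : Type u} [CommRing A] {B : Type u} [CommRing B] (φ : A →+* B)

/-- The map of Laurent polynomial rings induced by `φ`. -/
noncomputable def LL : A[T;T⁻¹] →+* B[T;T⁻¹] := AddMonoidAlgebra.mapRingHom ℤ φ

lemma LL_comp_toLaurent :
    (LL φ).comp (Polynomial.toLaurent : A[X] →+* A[T;T⁻¹]) =
      (Polynomial.toLaurent : B[X] →+* B[T;T⁻¹]).comp (mapRingHom φ) := by
  apply Polynomial.ringHom_ext
  · intro a
    simp only [RingHom.comp_apply, Polynomial.toLaurent_C, coe_mapRingHom, Polynomial.map_C]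
    rw [← LaurentPolynomial.single_eq_C, ← LaurentPolynomial.single_eq_C]
    exact AddMonoidAlgebra.mapRingHom_single φ 0 a
  · simp only [RingHom.comp_apply, Polynomial.toLaurent_X, coe_mapRingHom, Polynomial.map_X]
    have : (T 1 : A[T;T⁻¹]) = AddMonoidAlgebra.single (1 : ℤ) (1 : A) := rfl
    rw [this]
    have h2 := AddMonoidAlgebra.mapRingHom_single φ (1 : ℤ) (1 : A)
    rw [map_one] at h2
    exact h2

lemma LL_invert (x : A[T;T⁻¹]) : LL φ (invert x) = invert (LL φ x) := by
  ext n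
  simp [LL, LaurentPolynomial.invert_apply]

end LL

section Main

variable {A : Type u} [CommRing A] {M : Type u} [AddCommGroup M] [Module A[X] M] {n n' : ℕ}

/-- **Affine Horrocks theorem** (Quillen), matrix-gluing form. -/
theorem extended_of_glue
    (f : (Fin n → A[X]) →ₗ[A[X]] M) (g : M →ₗ[A[X]] (Fin n → A[X])) (hfg : f ∘ₗ g = LinearMap.id)
    (eN : Matrix (Fin n') (Fin n') A[X]) (heN : eN * eN = eN)
    (H : Matrix (Fin n') (Fin n) A[T;T⁻¹]) (H' : Matrix (Fin n) (Fin n') A[T;T⁻¹])
    (h3 : H' * H = (LinearMap.toMatrix' (g ∘ₗ f)).map (Polynomial.toLaurent : A[X] →+* A[T;T⁻¹]))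
    (h4 : H * H' = (eN.map (Polynomial.toLaurent : A[X] →+* A[T;T⁻¹])).map
      (LaurentPolynomial.invert (R := A) : A[T;T⁻¹] ≃ₐ[A] A[T;T⁻¹]))
    (h5 : H * H' * H = H) (h6 : H' * H * H' = H') :
    ∃ (P : Type u) (_ : AddCommGroup P) (_ : Module A P),
      Nonempty (M ≃ₗ[A[X]] (A[X] ⊗[A] P)) := by
  classical
  apply extended_of_locally_free f g hfg
  intro 𝔪 _
  set e := LinearMap.toMatrix' (g ∘ₗ f) with he
  have hee : e * e = e := by
    rw [he, ← LinearMap.toMatrix'_comp]
    congr 1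
    calc (g ∘ₗ f) ∘ₗ (g ∘ₗ f) = g ∘ₗ (f ∘ₗ g) ∘ₗ f := by simp only [LinearMap.comp_assoc]
      _ = g ∘ₗ f := by rw [hfg, LinearMap.id_comp]
  set φ := algebraMap A (Localization.AtPrime 𝔪) with hφ
  set L1 := mapRingHom φ with hL1
  have hLι : ∀ x : A[X], LL φ (toLaurent x) = toLaurent (L1 x) := fun x =>
    RingHom.congr_fun (LL_comp_toLaurent φ) x
  apply free_of_glue (L1.mapMatrix e) (by rw [← map_mul, hee]) (L1.mapMatrix eN)
    (by rw [← map_mul, heN]) (H.map (LL φ)) (H'.map (LL φ))
  · rw [← Matrix.map_mul, h3]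
    refine Matrix.ext fun i j => ?_
    simp only [Matrix.map_apply, RingHom.mapMatrix_apply]
    exact hLι _
  · rw [← Matrix.map_mul, h4]
    refine Matrix.ext fun i j => ?_
    simp only [Matrix.map_apply, RingHom.mapMatrix_apply]
    rw [LL_invert, hLι]
  · rw [← Matrix.map_mul, ← Matrix.map_mul, h5]
  · rw [← Matrix.map_mul, ← Matrix.map_mul, h6]

end Main

end Groth.Agent.Lib.Helper85.Horrocks
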