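import Mathlib
import Groth.Agent.Lib.Helper85.HorrocksGlobal

/-!
# Affine Horrocks, matrix form (helper85)

Matrix-level versions of `extended_of_locally_free` / `extended_of_glue`: an idempotent matrix
`e` over `A[X]` which extends to the projective line is partially isomorphic to its constant term.
-/

open Polynomial LaurentPolynomial

namespace Groth.Agent.Lib.Helper85.Horrocks

universe u w

section

variable {A : Type u} [CommRing A] {r : Type w} [Fintype r] [DecidableEq r]

/-- **Quillen patching, matrix form.** -/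
theorem partialIso_of_locally_free (e : Matrix r r A[X]) (hee : e * e = e)
    (hloc : ∀ (𝔪 : Ideal A) [𝔪.IsMaximal],
      Module.Free (Localization.AtPrime 𝔪)[X]
        (LinearMap.range (Matrix.toLin'
          ((mapRingHom (algebraMap A (Localization.AtPrime 𝔪))).mapMatrix e)))) :
    ∃ α β : Matrix r r A[X], β * α = e ∧
      α * β = ((C : A →+* A[X]).comp (evalRingHom 0)).mapMatrix e := by
  classical
  set ev : A[X] →+* A[X] := (C : A →+* A[X]).comp (evalRingHom 0) with hev
  have he0e0 : ev.mapMatrix e * ev.mapMatrix e = ev.mapMatrix e := by rw [← map_mul, hee]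
  obtain ⟨σ, σ', hσ1, hσ2⟩ := patching (Matrix.fromBlocks e 0 0 0 :
      Matrix (r ⊕ r) (r ⊕ r) A[X]) (by
    intro 𝔪 _
    set L1 := mapRingHom (algebraMap A (Localization.AtPrime 𝔪)) with hL1
    set eB := L1.mapMatrix e with heB
    have heeB : eB * eB = eB := by rw [heB, ← map_mul, hee]
    haveI := hloc 𝔪
    obtain ⟨κ, _, _, Bm, U, hBU, hUB⟩ := exists_factor_of_free eB heeB
    obtain ⟨α, β, h1, h2, h3, h4, h5, h6⟩ := partialIso_of_factor eB Bm U hBU hUB
    obtain ⟨τ, τ', hτ1, hτ2⟩ := block_conj eB _ α β h1 h2 h3 h4 h5 h6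
    refine ⟨τ, τ', hτ1, ?_⟩
    have e1 : L1.mapMatrix (Matrix.fromBlocks e 0 0 0 :
        Matrix (r ⊕ r) (r ⊕ r) A[X]) = Matrix.fromBlocks eB 0 0 0 := by
      rw [RingHom.mapMatrix_apply, Matrix.fromBlocks_map]
      simp [heB]
    have hcomm : L1.comp ev = ((C : _ →+* (Localization.AtPrime 𝔪)[X]).comp (evalRingHom 0)).comp
        L1 := by
      apply ringHom_ext <;> simp [hev, hL1]
    have e2 : L1.mapMatrix (ev.mapMatrix (Matrix.fromBlocks e 0 0 0 :
        Matrix (r ⊕ r) (r ⊕ r) A[X])) =
        Matrix.fromBlocks (((C : _ →+* (Localization.AtPrime 𝔪)[X]).comp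
          (evalRingHom 0)).mapMatrix eB) 0 0 0 := by
      rw [mapMatrix_mapMatrix, hcomm, ← mapMatrix_mapMatrix, e1, RingHom.mapMatrix_apply,
        Matrix.fromBlocks_map]
      simp
    rw [e1, e2]
    exact hτ2)
  have hσ2' : σ * Matrix.fromBlocks e 0 0 0 * σ' = Matrix.fromBlocks (ev.mapMatrix e) 0 0 0 := by
    rw [hσ2, RingHom.mapMatrix_apply, RingHom.mapMatrix_apply, Matrix.fromBlocks_map]
    simp only [Matrix.map_zero _ (map_zero _)]
    rfl
  exact partialIso_of_block_conj e (ev.mapMatrix e) hee he0e0 σ σ' hσ1 hσ2'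

variable {s : Type w} [Fintype s] [DecidableEq s]

/-- **Affine Horrocks theorem** (Quillen), pure matrix form: an idempotent matrix over `A[X]`
that glues over `A[T;T⁻¹]` with an idempotent matrix over the chart at infinity is partially
isomorphic to its constant term. -/
theorem partialIso_of_glue (e : Matrix r r A[X]) (hee : e * e = e)
    (eN : Matrix s s A[X]) (heN : eN * eN = eN)
    (H : Matrix s r A[T;T⁻¹]) (H' : Matrix r s A[T;T⁻¹])
    (h3 : H' * H = e.map (Polynomial.toLaurent : A[X] →+* A[T;T⁻¹]))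
    (h4 : H * H' = (eN.map (Polynomial.toLaurent : A[X] →+* A[T;T⁻¹])).map
      (LaurentPolynomial.invert (R := A) : A[T;T⁻¹] ≃ₐ[A] A[T;T⁻¹]))
    (h5 : H * H' * H = H) (h6 : H' * H * H' = H') :
    ∃ α β : Matrix r r A[X], β * α = e ∧
      α * β = ((C : A →+* A[X]).comp (evalRingHom 0)).mapMatrix e := by
  classical
  apply partialIso_of_locally_free e hee
  intro 𝔪 _
  set φ := algebraMap A (Localization.AtPrime 𝔪) with hφ
  set L1 := mapRingHom φ with hL1
  have hLι : ∀ x : A[X], LL φ (toLaurent x) = toLaurent (L1 x) := fun x =>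
    RingHom.congr_fun (LL_comp_toLaurent φ) x
  apply free_of_glue (L1.mapMatrix e) (by rw [← map_mul, hee]) (L1.mapMatrix eN)
    (by rw [← map_mul, heN]) (H.map (LL φ)) (H'.map (LL φ))
  · rw [← Matrix.map_mul, h3]
    refine Matrix.ext fun i j => ?_
    simp only [Matrix.map_apply, RingHom.mapMatrix_apply]
    exact hLι _
  · rw [← Matrix.map_mul, h4]
    refine Matrix.ext fun i j => ?_
    simp only [Matrix.map_apply, RingHom.mapMatrix_apply]
    rw [LL_invert, hLι]
  · rw [← Matrix.map_mul, ← Matrix.map_mul, h5]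
  · rw [← Matrix.map_mul, ← Matrix.map_mul, h6]

end

end Groth.Agent.Lib.Helper85.Horrocks
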