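import Mathlib
import Groth.Agent.Lib.Helper85.HorrocksMatrixForm

/-!
# Descent of isomorphisms from `A(t)` to `A` via affine Horrocks (helper85)
-/

set_option autoImplicit false
open Polynomial LaurentPolynomial

namespace Groth.Agent.Lib.Helper85.Horrocks

universe u

section Reflect

variable {A : Type u} [CommRing A]

/-- `t ↦ T⁻¹`. -/
noncomputable def tau : A[X] →+* A[T;T⁻¹] :=
  ((LaurentPolynomial.invert (R := A) : A[T;T⁻¹] ≃ₐ[A] A[T;T⁻¹]) : A[T;T⁻¹] →+* A[T;T⁻¹]).comp
    Polynomial.toLaurent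

lemma tau_apply (p : A[X]) : tau p = LaurentPolynomial.invert (Polynomial.toLaurent p) := rfl

lemma tau_C (a : A) : tau (Polynomial.C a) = LaurentPolynomial.C a := by
  rw [tau_apply, Polynomial.toLaurent_C, LaurentPolynomial.invert_C]

lemma toLaurent_reflect (N : ℕ) (p : A[X]) (hp : p.natDegree ≤ N) :
    Polynomial.toLaurent (reflect N p) = T (N : ℤ) * tau p := by
  refine induction_with_natDegree_le
    (fun p => Polynomial.toLaurent (reflect N p) = T (N : ℤ) * tau p) N ?_ ?_ ?_ p hp
  · simp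
  · intro n r _ hnN
    rw [reflect_C_mul_X_pow, revAt_le hnN, tau_apply, Polynomial.toLaurent_C_mul_X_pow,
      Polynomial.toLaurent_C_mul_X_pow, map_mul, invert_C, invert_T, mul_left_comm, ← T_add]
    congr 2
    omega
  · intro f g _ _ hf hg
    rw [reflect_add, map_add, map_add, mul_add, hf, hg]

lemma eval_zero_reflect (N : ℕ) (p : A[X]) : (reflect N p).eval 0 = p.coeff N := by
  rw [← coeff_zero_eq_eval_zero, coeff_reflect, revAt_zero]

lemma eval_one_reflect (N : ℕ) (p : A[X]) (hp : p.natDegree ≤ N) :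
    (reflect N p).eval 1 = p.eval 1 := by
  let _ : Invertible (1 : A) := invertibleOne
  have := eval₂_reflect_mul_pow (RingHom.id A) (1 : A) N p hp
  simpa [eval₂_id] using this

lemma exists_bezout_of_coeff_zero (g : A[X]) (hg : g.coeff 0 = 1) (N : ℕ) :
    ∃ u v : A[X], u * g + v * X ^ N = 1 := by
  set w : A[X] := -(divX g * X) with hw
  have hgw : 1 - w = g := by
    have := divX_mul_X_add g
    rw [hg, map_one] at this
    rw [hw, sub_neg_eq_add, add_comm]
    exact this
  have h1 := geom_sum_mul_neg w N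
  rw [hgw] at h1
  refine ⟨∑ i ∈ Finset.range N, w ^ i, (-divX g) ^ N, ?_⟩
  rw [h1, hw, ← mul_pow]
  ring

end Reflect

section MatLemmas

variable {R S : Type*} [CommRing R] [CommRing S] {m n l : Type*} [Fintype n]

lemma map_smul_ringHom (f : R →+* S) (c : R) (M : Matrix m n R) :
    (c • M).map f = f c • M.map f := by
  ext i j
  simp

lemma smul_mul_smul' (c₁ c₂ : R) (M₁ : Matrix m n R) (M₂ : Matrix n l R) :
    (c₁ • M₁) * (c₂ • M₂) = (c₁ * c₂) • (M₁ * M₂) := by
  rw [Matrix.smul_mul, Matrix.mul_smul, smul_smul]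

end MatLemmas

section PIso

variable {R : Type*} [CommRing R] {n₁ n₂ n₃ : Type*} [Fintype n₁] [Fintype n₂] [Fintype n₃]
/-- Partial isomorphism of idempotent matrices (isomorphism of their ranges). -/
def PIso (e₁ : Matrix n₁ n₁ R) (e₂ : Matrix n₂ n₂ R) : Prop :=
  ∃ (x : Matrix n₂ n₁ R) (y : Matrix n₁ n₂ R), y * x = e₁ ∧ x * y = e₂

lemma PIso.symm {e₁ : Matrix n₁ n₁ R} {e₂ : Matrix n₂ n₂ R} (h : PIso e₁ e₂) : PIso e₂ e₁ := by
  obtain ⟨x, y, h1, h2⟩ := h
  exact ⟨y, x, h2, h1⟩

lemma PIso.trans {e₁ : Matrix n₁ n₁ R} {e₂ : Matrix n₂ n₂ R} {e₃ : Matrix n₃ n₃ R}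
    (h₁ : e₁ * e₁ = e₁) (h₃ : e₃ * e₃ = e₃)
    (h : PIso e₁ e₂) (h' : PIso e₂ e₃) : PIso e₁ e₃ := by
  obtain ⟨x, y, h1, h2⟩ := h
  obtain ⟨x', y', h1', h2'⟩ := h'
  refine ⟨x' * x, y * y', ?_, ?_⟩
  · calc y * y' * (x' * x) = y * (y' * x') * x := by simp only [Matrix.mul_assoc]
      _ = y * (x * y) * x := by rw [h1', h2]
      _ = (y * x) * (y * x) := by simp only [Matrix.mul_assoc]
      _ = e₁ := by rw [h1, h₁]
  · calc x' * x * (y * y') = x' * (x * y) * y' := by simp only [Matrix.mul_assoc]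
      _ = x' * (y' * x') * y' := by rw [h2, h1']
      _ = (x' * y') * (x' * y') := by simp only [Matrix.mul_assoc]
      _ = e₃ := by rw [h2', h₃]

end PIso

section Main

variable {A : Type u} [CommRing A] {n n' : Type} [Fintype n] [DecidableEq n] [Fintype n']
  [DecidableEq n']

set_option maxHeartbeats 1600000 in
/-- Key consequence of affine Horrocks: if constant idempotent matrices `e`, `e'` over `A` become
partially isomorphic over `A[X]` after inverting a monic polynomial `F`, then they are partially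
isomorphic over `A`. -/
theorem pIso_of_monic (e : Matrix n n A) (e' : Matrix n' n' A) (hee : e * e = e)
    (hee' : e' * e' = e') (U : Matrix n' n A[X]) (V : Matrix n n' A[X]) (F : A[X]) (hF : F.Monic)
    (hVU : V * U = F • e.map (Polynomial.C : A →+* A[X]))
    (hUV : U * V = F • e'.map (Polynomial.C : A →+* A[X]))
    (he'U : e'.map (Polynomial.C : A →+* A[X]) * U = U)
    (hVe' : V * e'.map (Polynomial.C : A →+* A[X]) = V) : PIso e e' := by
  obtain ⟨d, hd⟩ : ∃ d : ℕ, d = F.natDegree := ⟨_, rfl⟩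
  obtain ⟨k, hk1, hUdeg⟩ : ∃ k : ℕ, 1 ≤ k ∧ ∀ i j, (U i j).natDegree < k :=
    ⟨Finset.univ.sup (fun ij : n' × n => (U ij.1 ij.2).natDegree) + 1, Nat.le_add_left _ _,
      fun i j => Nat.lt_succ_of_le (Finset.le_sup
        (f := fun ij : n' × n => (U ij.1 ij.2).natDegree) (Finset.mem_univ (i, j)))⟩
  obtain ⟨j', hVdeg⟩ : ∃ k : ℕ, ∀ i j, (V i j).natDegree < k :=
    ⟨Finset.univ.sup (fun ij : n × n' => (V ij.1 ij.2).natDegree) + 1, fun i j =>
      Nat.lt_succ_of_le (Finset.le_sup (f := fun ij : n × n' => (V ij.1 ij.2).natDegree)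
        (Finset.mem_univ (i, j)))⟩
  obtain ⟨g, hg⟩ : ∃ g : A[X], g = reflect d F := ⟨_, rfl⟩
  have hg0 : g.coeff 0 = 1 := by
    rw [hg, coeff_reflect, revAt_zero, hd]
    exact hF.coeff_natDegree
  obtain ⟨u, v, huv⟩ := exists_bezout_of_coeff_zero g hg0 (j' + k)
  set a : Matrix n' n A[X] := U.map (reflect k) with ha
  set b : Matrix n n' A[X] := V.map (reflect (j' + d)) with hb
  set ec : Matrix n n A[X] := e.map (Polynomial.C : A →+* A[X]) with hec
  set ec' : Matrix n' n' A[X] := e'.map (Polynomial.C : A →+* A[X]) with hec'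
  have hecec' : ec' * ec' = ec' := by rw [hec', ← Matrix.map_mul, hee']
  set E : Matrix (n ⊕ n') (n ⊕ n') A[X] :=
    Matrix.fromBlocks ((u * g) • ec) (v • b) (u • a) ((v * X ^ (j' + k)) • ec') with hE
  -- Laurent side
  set tl : A[X] →+* A[T;T⁻¹] := Polynomial.toLaurent with htl
  set αL : Matrix n' n A[T;T⁻¹] := U.map tau with hαL
  set βL : Matrix n n' A[T;T⁻¹] := V.map tau with hβL
  set eL : Matrix n n A[T;T⁻¹] := e.map (LaurentPolynomial.C : A →+* A[T;T⁻¹]) with heL
  set eL' : Matrix n' n' A[T;T⁻¹] := e'.map (LaurentPolynomial.C : A →+* A[T;T⁻¹]) with heL'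
  have fec : ec.map tl = eL := by
    refine Matrix.ext fun i j' => ?_
    simp [hec, heL, htl]
  have fec' : ec'.map tl = eL' := by
    refine Matrix.ext fun i j' => ?_
    simp [hec', heL', htl]
  have tec : ec.map tau = eL := by
    refine Matrix.ext fun i j' => ?_
    simp [hec, heL, tau_C]
  have tec' : ec'.map tau = eL' := by
    refine Matrix.ext fun i j' => ?_
    simp [hec', heL', tau_C]
  have fa : a.map tl = (T (k : ℤ) : A[T;T⁻¹]) • αL := by
    refine Matrix.ext fun i j => ?_
    simp only [ha, hαL, Matrix.map_apply, Matrix.smul_apply, smul_eq_mul, htl]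
    exact toLaurent_reflect k (U i j) (hUdeg i j).le
  have fb : b.map tl = (T ((j' + d : ℕ) : ℤ) : A[T;T⁻¹]) • βL := by
    refine Matrix.ext fun i j => ?_
    simp only [hb, hβL, Matrix.map_apply, Matrix.smul_apply, smul_eq_mul, htl]
    exact toLaurent_reflect (j' + d) (V i j) ((hVdeg i j).le.trans (Nat.le_add_right _ _))
  have fg : tl g = T (d : ℤ) * tau F := by rw [hg]; exact toLaurent_reflect d F hd.ge
  have hβα : βL * αL = tau F • eL := by
    rw [hβL, hαL, ← Matrix.map_mul, hVU, map_smul_ringHom, tec]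
  have hαβ : αL * βL = tau F • eL' := by
    rw [hβL, hαL, ← Matrix.map_mul, hUV, map_smul_ringHom, tec']
  have he'α : eL' * αL = αL := by
    rw [← tec', hαL, ← Matrix.map_mul, he'U]
  have hβe' : βL * eL' = βL := by
    rw [← tec', hβL, ← Matrix.map_mul, hVe']
  have heLeL' : eL' * eL' = eL' := by
    rw [← tec', ← Matrix.map_mul, hecec']
  have hbez : tl u * tl g + tl v * T ((j' + k : ℕ) : ℤ) = 1 := by
    have := congrArg tl huv
    rw [map_add, map_mul, map_mul, map_one, htl, Polynomial.toLaurent_X_pow] at this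
    exact this
  set Hm : Matrix n' (n ⊕ n') A[T;T⁻¹] :=
    Matrix.fromCols (tl u • αL) ((tl v * T (j' : ℤ)) • eL') with hHm
  set Hm' : Matrix (n ⊕ n') n' A[T;T⁻¹] := Matrix.fromRows ((T (d : ℤ) : A[T;T⁻¹]) • βL) ((T (k : ℤ) : A[T;T⁻¹]) • eL')
    with hHm'
  have h3 : Hm' * Hm = E.map tl := by
    rw [hHm, hHm', Matrix.fromRows_mul_fromCols, hE, Matrix.fromBlocks_map]
    congr 1
    · rw [smul_mul_smul', hβα, smul_smul, map_smul_ringHom, fec, map_mul, fg]
      congr 1
      ring
    · rw [smul_mul_smul', hβe', map_smul_ringHom, fb, smul_smul]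
      congr 1
      rw [Nat.cast_add, T_add]
      ring
    · rw [smul_mul_smul', he'α, map_smul_ringHom, fa, smul_smul]
      congr 1
      ring
    · rw [smul_mul_smul', heLeL', map_smul_ringHom, fec', map_mul, htl,
        Polynomial.toLaurent_X_pow, Nat.cast_add, T_add]
      congr 1
      ring
  have h4' : Hm * Hm' = eL' := by
    rw [hHm, hHm', Matrix.fromCols_mul_fromRows, smul_mul_smul', smul_mul_smul', hαβ, heLeL',
      smul_smul, ← add_smul]
    have : tl u * T (d : ℤ) * tau F + tl v * T (j' : ℤ) * T (k : ℤ) = 1 := by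
      rw [← hbez, fg, Nat.cast_add, T_add]
      ring
    rw [this, one_smul]
  have h4 : Hm * Hm' = (ec'.map (Polynomial.toLaurent : A[X] →+* A[T;T⁻¹])).map
      (LaurentPolynomial.invert (R := A) : A[T;T⁻¹] ≃ₐ[A] A[T;T⁻¹]) := by
    rw [h4']
    refine Matrix.ext fun i j => ?_
    simp [hec', heL']
  have h5 : Hm * Hm' * Hm = Hm := by
    rw [h4', hHm, Matrix.mul_fromCols, Matrix.mul_smul, Matrix.mul_smul, he'α, heLeL']
  have h6 : Hm' * Hm * Hm' = Hm' := by
    rw [Matrix.mul_assoc, h4', hHm', Matrix.fromRows_mul, Matrix.smul_mul, Matrix.smul_mul, hβe',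
      heLeL']
  have hEE : E * E = E := by
    have hinj : Function.Injective (fun M : Matrix (n ⊕ n') (n ⊕ n') A[X] => M.map tl) :=
      Matrix.map_injective Polynomial.toLaurent_injective
    apply hinj
    change (E * E).map tl = E.map tl
    rw [Matrix.map_mul, ← h3]
    rw [Matrix.mul_assoc, ← Matrix.mul_assoc Hm, h5]
  have key : ∃ α' β' : Matrix (n ⊕ n') (n ⊕ n') A[X], β' * α' = E ∧
      α' * β' = ((Polynomial.C : A →+* A[X]).comp (evalRingHom 0)).mapMatrix E := by
    rw [htl] at h3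
    clear_value E Hm Hm' ec'
    exact partialIso_of_glue E hEE ec' hecec' Hm Hm' h3 h4 h5 h6
  obtain ⟨α', β', hβα', hαβ'⟩ := key
  -- the constant term of `E`
  have hev0 : ∀ a : A, ((Polynomial.C : A →+* A[X]).comp (evalRingHom 0)) (Polynomial.C a) =
      Polynomial.C a := fun a => by simp
  have hu0 : ((Polynomial.C : A →+* A[X]).comp (evalRingHom 0)) (u * g) = 1 := by
    have := congrArg (fun p : A[X] => p.eval 0) huv
    simp only [eval_add, eval_mul, eval_pow, eval_X, eval_one] at this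
    rw [zero_pow (by omega), mul_zero, add_zero] at this
    simp only [RingHom.comp_apply, coe_evalRingHom, eval_mul, this, map_one]
  have hE0 : ((Polynomial.C : A →+* A[X]).comp (evalRingHom 0)).mapMatrix E =
      Matrix.fromBlocks ec 0 0 0 := by
    rw [hE, RingHom.mapMatrix_apply, Matrix.fromBlocks_map]
    congr 1
    · rw [map_smul_ringHom, hu0, one_smul, hec]
      refine Matrix.ext fun i j => ?_
      simp
    · rw [map_smul_ringHom]
      have : b.map ((Polynomial.C : A →+* A[X]).comp (evalRingHom 0)) = 0 := by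
        refine Matrix.ext fun i j => ?_
        simp only [hb, Matrix.map_apply, RingHom.comp_apply, coe_evalRingHom, Matrix.zero_apply,
          eval_zero_reflect]
        rw [coeff_eq_zero_of_natDegree_lt ((hVdeg i j).trans_le (Nat.le_add_right _ _)), map_zero]
      rw [this, smul_zero]
    · rw [map_smul_ringHom]
      have : a.map ((Polynomial.C : A →+* A[X]).comp (evalRingHom 0)) = 0 := by
        refine Matrix.ext fun i j => ?_
        simp only [ha, Matrix.map_apply, RingHom.comp_apply, coe_evalRingHom, Matrix.zero_apply,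
          eval_zero_reflect]
        rw [coeff_eq_zero_of_natDegree_lt (hUdeg i j), map_zero]
      rw [this, smul_zero]
    · rw [map_smul_ringHom]
      have : ((Polynomial.C : A →+* A[X]).comp (evalRingHom 0)) (v * X ^ (j' + k)) = 0 := by
        simp only [RingHom.comp_apply, coe_evalRingHom, eval_mul, eval_pow, eval_X]
        rw [zero_pow (by omega), mul_zero, map_zero]
      rw [this, zero_smul]
  -- evaluation at `1`
  set ε : A[X] →+* A := evalRingHom 1 with hε
  have hεC : ∀ a : A, ε (Polynomial.C a) = a := fun a => by simp [hε]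
  set u₁ : A := ε u with hu₁
  set v₁ : A := ε v with hv₁
  set F₁ : A := ε F with hF₁
  set U1 : Matrix n' n A := U.map ε with hU1
  set V1 : Matrix n n' A := V.map ε with hV1
  have hecε : ec.map ε = e := by
    refine Matrix.ext fun i j => ?_
    simp [hec, hεC]
  have hecε' : ec'.map ε = e' := by
    refine Matrix.ext fun i j => ?_
    simp [hec', hεC]
  have hg1 : ε g = F₁ := by
    rw [hg, hF₁, hε, coe_evalRingHom]
    exact eval_one_reflect d F hd.ge
  have hbez1 : u₁ * F₁ + v₁ = 1 := by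
    have := congrArg ε huv
    rw [map_add, map_mul, map_mul, map_pow, map_one, hg1] at this
    have hX : ε X = 1 := by simp [hε]
    rw [hX, one_pow, mul_one] at this
    exact this
  have hVU1 : V1 * U1 = F₁ • e := by
    rw [hV1, hU1, ← Matrix.map_mul, hVU, map_smul_ringHom, hecε]
  have hUV1 : U1 * V1 = F₁ • e' := by
    rw [hV1, hU1, ← Matrix.map_mul, hUV, map_smul_ringHom, hecε']
  have he'U1 : e' * U1 = U1 := by
    rw [← hecε', hU1, ← Matrix.map_mul, he'U]
  have hVe'1 : V1 * e' = V1 := by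
    rw [← hecε', hV1, ← Matrix.map_mul, hVe']
  have hE1 : ε.mapMatrix E = Matrix.fromBlocks ((u₁ * F₁) • e) (v₁ • V1) (u₁ • U1) (v₁ • e') := by
    rw [hE, RingHom.mapMatrix_apply, Matrix.fromBlocks_map]
    congr 1
    · rw [map_smul_ringHom, hecε, map_mul, hg1]
    · rw [map_smul_ringHom]
      congr 1
      refine Matrix.ext fun i j => ?_
      simp only [hb, hV1, Matrix.map_apply, hε, coe_evalRingHom]
      exact eval_one_reflect _ _ ((hVdeg i j).le.trans (Nat.le_add_right _ _))
    · rw [map_smul_ringHom]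
      congr 1
      refine Matrix.ext fun i j => ?_
      simp only [ha, hU1, Matrix.map_apply, hε, coe_evalRingHom]
      exact eval_one_reflect _ _ (hUdeg i j).le
    · rw [map_smul_ringHom, hecε', map_mul, map_pow]
      have hX : ε X = 1 := by simp [hε]
      rw [hX, one_pow, mul_one]
  -- the three partial isomorphisms
  have p1 : PIso e (Matrix.fromBlocks e 0 0 0 : Matrix (n ⊕ n') (n ⊕ n') A) := by
    refine ⟨Matrix.fromRows e 0, Matrix.fromCols e 0, ?_, ?_⟩
    · rw [Matrix.fromCols_mul_fromRows, hee, Matrix.zero_mul, add_zero]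
    · rw [Matrix.fromRows_mul_fromCols, hee, Matrix.zero_mul, Matrix.zero_mul, Matrix.mul_zero]
  have p2 : PIso (Matrix.fromBlocks e 0 0 0 : Matrix (n ⊕ n') (n ⊕ n') A) (ε.mapMatrix E) := by
    refine ⟨ε.mapMatrix β', ε.mapMatrix α', ?_, ?_⟩
    · rw [← map_mul, hαβ', hE0, RingHom.mapMatrix_apply, Matrix.fromBlocks_map, hecε]
      simp
    · rw [← map_mul, hβα']
  have p3 : PIso (ε.mapMatrix E) e' := by
    refine ⟨Matrix.fromCols (u₁ • U1) (v₁ • e'), Matrix.fromRows V1 e', ?_, ?_⟩
    · rw [hE1, Matrix.fromRows_mul_fromCols, Matrix.mul_smul, Matrix.mul_smul, Matrix.mul_smul,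
        Matrix.mul_smul, hVU1, hVe'1, he'U1, hee', smul_smul]
    · rw [Matrix.fromCols_mul_fromRows, Matrix.smul_mul, Matrix.smul_mul, hUV1, hee', smul_smul,
        ← add_smul, hbez1, one_smul]
  have hE1E1 : ε.mapMatrix E * ε.mapMatrix E = ε.mapMatrix E := by rw [← map_mul, hEE]
  exact PIso.trans hee hee' (PIso.trans hee hE1E1 p1 p2) p3

end Main

end Groth.Agent.Lib.Helper85.Horrocks
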