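import Mathlib
import Groth.Agent.Lib.Helper85.HorrocksDescent

/-!
# Finite projective modules isomorphic over `A(t)` are isomorphic (helper85)
-/

set_option autoImplicit false
open Polynomial LaurentPolynomial
open scoped TensorProduct

namespace Groth.Agent.Lib.Helper85.Horrocks

universe u

section Bridge

variable {A : Type*} [CommRing A] (S : Type*) [CommRing S] [Algebra A S]
  {n m : Type*} [Fintype n] [DecidableEq n] [Fintype m] [DecidableEq m]

/-- Base change of a linear map between finite free modules, in coordinates. -/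
noncomputable def bcLin (h : (n → A) →ₗ[A] (m → A)) : (n → S) →ₗ[S] (m → S) :=
  (TensorProduct.piScalarRight A S S m).toLinearMap ∘ₗ h.baseChange S ∘ₗ
    (TensorProduct.piScalarRight A S S n).symm.toLinearMap

lemma toMatrix'_bcLin (h : (n → A) →ₗ[A] (m → A)) :
    LinearMap.toMatrix' (bcLin S h) = (LinearMap.toMatrix' h).map (algebraMap A S) := by
  refine Matrix.ext fun i j => ?_
  rw [LinearMap.toMatrix'_apply, bcLin]
  simp only [LinearMap.coe_comp, LinearEquiv.coe_coe, Function.comp_apply]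
  rw [TensorProduct.piScalarRight_symm_single, LinearMap.baseChange_tmul,
    TensorProduct.piScalarRight_apply, TensorProduct.piScalarRightHom_tmul]
  simp [LinearMap.toMatrix'_apply, Algebra.smul_def]

end Bridge

section Bridge2

variable {A : Type u} [CommRing A] (S : Type u) [CommRing S] [Algebra A S]
  {P P' : Type u} [AddCommGroup P] [Module A P] [AddCommGroup P'] [Module A P']
  {n n' : ℕ}

/-- Matrices of an isomorphism between base changes of two retracts of finite free modules. -/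
theorem exists_matrices_of_baseChange_equiv
    (f : (Fin n → A) →ₗ[A] P) (g : P →ₗ[A] (Fin n → A)) (hfg : f ∘ₗ g = LinearMap.id)
    (f' : (Fin n' → A) →ₗ[A] P') (g' : P' →ₗ[A] (Fin n' → A)) (hfg' : f' ∘ₗ g' = LinearMap.id)
    (ψ : S ⊗[A] P ≃ₗ[S] S ⊗[A] P') :
    ∃ (U : Matrix (Fin n') (Fin n) S) (V : Matrix (Fin n) (Fin n') S),
      V * U = (LinearMap.toMatrix' (g ∘ₗ f)).map (algebraMap A S) ∧
      U * V = (LinearMap.toMatrix' (g' ∘ₗ f')).map (algebraMap A S) ∧
      (LinearMap.toMatrix' (g' ∘ₗ f')).map (algebraMap A S) * U = U ∧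
      V * (LinearMap.toMatrix' (g' ∘ₗ f')).map (algebraMap A S) = V := by
  set Φ : (Fin n → S) →ₗ[S] (Fin n' → S) :=
    (TensorProduct.piScalarRight A S S (Fin n')).toLinearMap ∘ₗ g'.baseChange S ∘ₗ ψ.toLinearMap ∘ₗ f.baseChange S ∘ₗ (TensorProduct.piScalarRight A S S (Fin n)).symm.toLinearMap
    with hΦ
  set Φ' : (Fin n' → S) →ₗ[S] (Fin n → S) :=
    (TensorProduct.piScalarRight A S S (Fin n)).toLinearMap ∘ₗ g.baseChange S ∘ₗ ψ.symm.toLinearMap ∘ₗ f'.baseChange S ∘ₗ
      (TensorProduct.piScalarRight A S S (Fin n')).symm.toLinearMap with hΦ'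
  have hbc : ∀ y, f.baseChange S (g.baseChange S y) = y := fun y => by
    rw [← LinearMap.comp_apply, ← LinearMap.baseChange_comp, hfg, LinearMap.baseChange_id]
    rfl
  have hbc' : ∀ y, f'.baseChange S (g'.baseChange S y) = y := fun y => by
    rw [← LinearMap.comp_apply, ← LinearMap.baseChange_comp, hfg', LinearMap.baseChange_id]
    rfl
  have k1 : Φ' ∘ₗ Φ = bcLin S (g ∘ₗ f) := by
    apply LinearMap.ext; intro x
    simp only [hΦ, hΦ', bcLin, LinearMap.coe_comp, LinearEquiv.coe_coe, Function.comp_apply,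
      LinearEquiv.symm_apply_apply, hbc', LinearMap.baseChange_comp]
  have k2 : Φ ∘ₗ Φ' = bcLin S (g' ∘ₗ f') := by
    apply LinearMap.ext; intro x
    simp only [hΦ, hΦ', bcLin, LinearMap.coe_comp, LinearEquiv.coe_coe, Function.comp_apply,
      LinearEquiv.symm_apply_apply, LinearEquiv.apply_symm_apply, hbc, LinearMap.baseChange_comp]
  have k3 : bcLin S (g' ∘ₗ f') ∘ₗ Φ = Φ := by
    apply LinearMap.ext; intro x
    simp only [hΦ, bcLin, LinearMap.coe_comp, LinearEquiv.coe_coe, Function.comp_apply,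
      LinearEquiv.symm_apply_apply, hbc', LinearMap.baseChange_comp]
  have k4 : Φ' ∘ₗ bcLin S (g' ∘ₗ f') = Φ' := by
    apply LinearMap.ext; intro x
    simp only [hΦ', bcLin, LinearMap.coe_comp, LinearEquiv.coe_coe, Function.comp_apply,
      LinearEquiv.symm_apply_apply, hbc', LinearMap.baseChange_comp]
  refine ⟨LinearMap.toMatrix' Φ, LinearMap.toMatrix' Φ', ?_, ?_, ?_, ?_⟩
  · rw [← LinearMap.toMatrix'_comp, k1, toMatrix'_bcLin]
  · rw [← LinearMap.toMatrix'_comp, k2, toMatrix'_bcLin]
  · rw [← toMatrix'_bcLin, ← LinearMap.toMatrix'_comp, k3]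
  · rw [← toMatrix'_bcLin, ← LinearMap.toMatrix'_comp, k4]

end Bridge2

section Clear

variable {R : Type*} [CommRing R] (M : Submonoid R) {S : Type*} [CommRing S] [Algebra R S]
  [IsLocalization M S] {ι κ ι' κ' : Type*} [Finite ι] [Finite κ] [Finite ι'] [Finite κ']

lemma exists_clear_denominators (U : Matrix ι κ S) (V : Matrix ι' κ' S) :
    ∃ (b : M) (U₀ : Matrix ι κ R) (V₀ : Matrix ι' κ' R),
      U₀.map (algebraMap R S) = algebraMap R S b • U ∧
      V₀.map (algebraMap R S) = algebraMap R S b • V := by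
  obtain ⟨b, hb⟩ := IsLocalization.exist_integer_multiples_of_finite M
    (Sum.elim (fun p : ι × κ => U p.1 p.2) (fun p : ι' × κ' => V p.1 p.2))
  have h1 : ∀ i j, ∃ y : R, algebraMap R S y = algebraMap R S b * U i j := fun i j => by
    obtain ⟨y, hy⟩ := hb (Sum.inl (i, j))
    exact ⟨y, by rw [hy, Algebra.smul_def]; rfl⟩
  have h2 : ∀ i j, ∃ y : R, algebraMap R S y = algebraMap R S b * V i j := fun i j => by
    obtain ⟨y, hy⟩ := hb (Sum.inr (i, j))
    exact ⟨y, by rw [hy, Algebra.smul_def]; rfl⟩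
  choose U₀ hU₀ using h1
  choose V₀ hV₀ using h2
  refine ⟨b, Matrix.of U₀, Matrix.of V₀, ?_, ?_⟩
  · refine Matrix.ext fun i j => ?_
    simp [hU₀]
  · refine Matrix.ext fun i j => ?_
    simp [hV₀]

end Clear

section Final

variable (A : Type u) [CommRing A] (M : Submonoid A[X]) (hM : ∀ f ∈ M, f.Monic)
  (At : Type u) [CommRing At] [Algebra A[X] At] [IsLocalization M At] [Algebra A At]
  [IsScalarTower A A[X] At]
  (P P' : Type u) [AddCommGroup P] [Module A P] [Module.Finite A P] [Module.Projective A P]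
  [AddCommGroup P'] [Module A P'] [Module.Finite A P'] [Module.Projective A P']

include hM in
/-- Finitely generated projective `A`-modules which become isomorphic over a localisation of
`A[X]` at a set of monic polynomials are isomorphic (consequence of affine Horrocks). -/
theorem nonempty_linearEquiv_of_monic_localization (ψ : At ⊗[A] P ≃ₗ[At] At ⊗[A] P') :
    Nonempty (P ≃ₗ[A] P') := by
  obtain ⟨n, f, g, -, -, hfg⟩ := Module.Finite.exists_comp_eq_id_of_projective A P
  obtain ⟨n', f', g', -, -, hfg'⟩ := Module.Finite.exists_comp_eq_id_of_projective A P'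
  obtain ⟨e, he⟩ : ∃ e, e = LinearMap.toMatrix' (g ∘ₗ f) := ⟨_, rfl⟩
  obtain ⟨e', he'⟩ : ∃ e', e' = LinearMap.toMatrix' (g' ∘ₗ f') := ⟨_, rfl⟩
  have hee : e * e = e := by
    rw [he, ← LinearMap.toMatrix'_comp]
    congr 1
    calc (g ∘ₗ f) ∘ₗ (g ∘ₗ f) = g ∘ₗ (f ∘ₗ g) ∘ₗ f := by simp only [LinearMap.comp_assoc]
      _ = g ∘ₗ f := by rw [hfg, LinearMap.id_comp]
  have hee' : e' * e' = e' := by
    rw [he', ← LinearMap.toMatrix'_comp]
    congr 1
    calc (g' ∘ₗ f') ∘ₗ (g' ∘ₗ f') = g' ∘ₗ (f' ∘ₗ g') ∘ₗ f' := by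
          simp only [LinearMap.comp_assoc]
      _ = g' ∘ₗ f' := by rw [hfg', LinearMap.id_comp]
  obtain ⟨Ut, Vt, h1, h2, h3, h4⟩ := exists_matrices_of_baseChange_equiv At f g hfg f' g' hfg' ψ
  rw [← he] at h1
  rw [← he'] at h2 h3 h4
  obtain ⟨b, U₀, V₀, hU₀, hV₀⟩ := exists_clear_denominators M Ut Vt
  have hinj : Function.Injective (algebraMap A[X] At) :=
    IsLocalization.injective At (fun x hx => (hM x hx).mem_nonZeroDivisors)
  have hC : ∀ {ι κ : Type} (N : Matrix ι κ A),
      (N.map (Polynomial.C : A →+* A[X])).map (algebraMap A[X] At) = N.map (algebraMap A At) := by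
    intro ι κ N
    refine Matrix.ext fun i j => ?_
    simp only [Matrix.map_apply]
    rw [IsScalarTower.algebraMap_apply A A[X] At]
    rfl
  obtain ⟨β, hβ⟩ : ∃ β, β = algebraMap A[X] At b := ⟨_, rfl⟩
  rw [← hβ] at hU₀ hV₀
  have hF : ((b : A[X]) * b).Monic := (hM b b.2).mul (hM b b.2)
  have hFβ : algebraMap A[X] At ((b : A[X]) * b) = β * β := by rw [map_mul, hβ]
  have hVU : V₀ * U₀ = ((b : A[X]) * b) • e.map (Polynomial.C : A →+* A[X]) := by
    have hi : Function.Injective (fun N : Matrix (Fin n) (Fin n) A[X] =>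
        N.map (algebraMap A[X] At)) := Matrix.map_injective hinj
    apply hi
    change (V₀ * U₀).map (algebraMap A[X] At) = _
    rw [Matrix.map_mul, hU₀, hV₀, smul_mul_smul', h1]
    change _ = (((b : A[X]) * b) • e.map (Polynomial.C : A →+* A[X])).map (algebraMap A[X] At)
    rw [map_smul_ringHom, hC, hFβ]
  have hUV : U₀ * V₀ = ((b : A[X]) * b) • e'.map (Polynomial.C : A →+* A[X]) := by
    have hi : Function.Injective (fun N : Matrix (Fin n') (Fin n') A[X] =>
        N.map (algebraMap A[X] At)) := Matrix.map_injective hinj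
    apply hi
    change (U₀ * V₀).map (algebraMap A[X] At) = _
    rw [Matrix.map_mul, hU₀, hV₀, smul_mul_smul', h2]
    change _ = (((b : A[X]) * b) • e'.map (Polynomial.C : A →+* A[X])).map (algebraMap A[X] At)
    rw [map_smul_ringHom, hC, hFβ]
  have he'U : e'.map (Polynomial.C : A →+* A[X]) * U₀ = U₀ := by
    have hi : Function.Injective (fun N : Matrix (Fin n') (Fin n) A[X] =>
        N.map (algebraMap A[X] At)) := Matrix.map_injective hinj
    apply hi
    change (e'.map (Polynomial.C : A →+* A[X]) * U₀).map (algebraMap A[X] At) =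
      U₀.map (algebraMap A[X] At)
    rw [Matrix.map_mul, hC, hU₀, Matrix.mul_smul, h3]
  have hVe' : V₀ * e'.map (Polynomial.C : A →+* A[X]) = V₀ := by
    have hi : Function.Injective (fun N : Matrix (Fin n) (Fin n') A[X] =>
        N.map (algebraMap A[X] At)) := Matrix.map_injective hinj
    apply hi
    change (V₀ * e'.map (Polynomial.C : A →+* A[X])).map (algebraMap A[X] At) =
      V₀.map (algebraMap A[X] At)
    rw [Matrix.map_mul, hC, hV₀, Matrix.smul_mul, h4]
  obtain ⟨x, y, hyx, hxy⟩ := pIso_of_monic e e' hee hee' U₀ V₀ _ hF hVU hUV he'U hVe'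
  exact linearEquiv_of_partialIso f g hfg f' g' hfg' x y (hyx.trans he) (hxy.trans he')

end Final

end Groth.Agent.Lib.Helper85.Horrocks
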