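import Mathlib
import Groth.Agent.Lib.Helper85.HorrocksDescentMod

/-!
# Approximation of matrices along a dense ring map `L → K` (helper85)

Abstract setting: `L → K` a ring map, `O ⊆ K` a subring, `τ ∈ O` a unit of `K` with
`K = ⋃ τ^(-c) O`, `L` dense in `K` for the `τ`-adic topology defined by `O`, every `l : L` with
image in `1 + τ O` a unit of `L`, and `1 + τ O ⊆ Kˣ`. Then finite projective `L`-modules which
become isomorphic over `K` are isomorphic, and stably free `K`-modules descend to `L`.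
-/

set_option autoImplicit false
universe u

open Groth.Agent.Lib.Helper85.Horrocks
open scoped TensorProduct

namespace Groth.Agent.Lib.Helper85.Approx

/-- the approximation data -/
structure Data (L K : Type*) [CommRing L] [CommRing K] [Algebra L K] where
  O : Subring K
  τ : Kˣ
  τ_mem : (τ : K) ∈ O
  exists_pow_mul_mem : ∀ z : K, ∃ c : ℕ, (τ : K) ^ c * z ∈ O
  dense : ∀ (z : K) (k : ℕ), ∃ l : L, ∃ w ∈ O, z - algebraMap L K l = (τ : K) ^ k * w
  isUnit_of_one_add : ∀ l : L, (∃ w ∈ O, algebraMap L K l = 1 + (τ : K) * w) → IsUnit l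
  isUnit_one_add : ∀ w ∈ O, IsUnit (1 + (τ : K) * w)

section Small

variable {L K : Type*} [CommRing L] [CommRing K] [Algebra L K] (D : Data L K)

/-- entries in `τ^k O` -/
def Small {m n : Type*} (k : ℤ) (Z : Matrix m n K) : Prop :=
  ∀ i j, ∃ w ∈ D.O, Z i j = ((D.τ ^ k : Kˣ) : K) * w

variable {D}

lemma pow_mem (a : ℕ) : (((D.τ ^ (a : ℤ) : Kˣ) : K)) ∈ D.O := by
  rw [zpow_natCast, Units.val_pow_eq_pow_val]
  exact D.O.pow_mem D.τ_mem a

lemma Small.add {m n : Type*} {k : ℤ} {Z₁ Z₂ : Matrix m n K} (h₁ : Small D k Z₁)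
    (h₂ : Small D k Z₂) : Small D k (Z₁ + Z₂) := by
  intro i j
  obtain ⟨w₁, hw₁, e₁⟩ := h₁ i j
  obtain ⟨w₂, hw₂, e₂⟩ := h₂ i j
  exact ⟨w₁ + w₂, D.O.add_mem hw₁ hw₂, by rw [Matrix.add_apply, e₁, e₂, mul_add]⟩

lemma Small.neg {m n : Type*} {k : ℤ} {Z : Matrix m n K} (h : Small D k Z) : Small D k (-Z) := by
  intro i j
  obtain ⟨w, hw, e⟩ := h i j
  exact ⟨-w, D.O.neg_mem hw, by rw [Matrix.neg_apply, e, mul_neg]⟩

lemma Small.sub {m n : Type*} {k : ℤ} {Z₁ Z₂ : Matrix m n K} (h₁ : Small D k Z₁)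
    (h₂ : Small D k Z₂) : Small D k (Z₁ - Z₂) := by
  rw [sub_eq_add_neg]
  exact h₁.add h₂.neg

lemma Small.mul {l m n : Type*} [Fintype m] {a b : ℤ} {Z₁ : Matrix l m K} {Z₂ : Matrix m n K}
    (h₁ : Small D a Z₁) (h₂ : Small D b Z₂) : Small D (a + b) (Z₁ * Z₂) := by
  classical
  intro i j
  choose w₁ hw₁ e₁ using h₁
  choose w₂ hw₂ e₂ using h₂
  refine ⟨∑ s, w₁ i s * w₂ s j, D.O.sum_mem (fun s _ => D.O.mul_mem (hw₁ i s) (hw₂ s j)), ?_⟩
  rw [Matrix.mul_apply, Finset.mul_sum]
  refine Finset.sum_congr rfl (fun s _ => ?_)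
  rw [e₁, e₂, zpow_add, Units.val_mul]
  ring

lemma Small.mono {m n : Type*} {a b : ℤ} (hab : a ≤ b) {Z : Matrix m n K} (h : Small D b Z) :
    Small D a Z := by
  intro i j
  obtain ⟨w, hw, e⟩ := h i j
  obtain ⟨d, hd⟩ := Int.le.dest hab
  refine ⟨((D.τ ^ (d : ℤ) : Kˣ) : K) * w, D.O.mul_mem (pow_mem d) hw, ?_⟩
  rw [e, ← hd, zpow_add, Units.val_mul]
  ring

lemma small_one {n : Type*} [DecidableEq n] : Small D 0 (1 : Matrix n n K) := by
  intro i j
  refine ⟨(1 : Matrix n n K) i j, ?_, by simp⟩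
  by_cases h : i = j
  · subst h
    rw [Matrix.one_apply_eq]
    exact D.O.one_mem
  · rw [Matrix.one_apply_ne h]
    exact D.O.zero_mem

lemma exists_small {m n : Type*} [Fintype m] [Fintype n] (Z : Matrix m n K) :
    ∃ c : ℕ, Small D (-(c : ℤ)) Z := by
  classical
  have h : ∀ p : m × n, ∃ c : ℕ, (D.τ : K) ^ c * Z p.1 p.2 ∈ D.O := fun p =>
    D.exists_pow_mul_mem _
  choose c hc using h
  refine ⟨Finset.univ.sup c, ?_⟩
  intro i j
  have hle : c (i, j) ≤ Finset.univ.sup c := Finset.le_sup (Finset.mem_univ _)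
  obtain ⟨d, hd⟩ := Nat.exists_eq_add_of_le hle
  refine ⟨(D.τ : K) ^ d * ((D.τ : K) ^ c (i, j) * Z i j),
    D.O.mul_mem (D.O.pow_mem D.τ_mem d) (hc (i, j)), ?_⟩
  have key : ((D.τ ^ (-((c (i, j) + d : ℕ) : ℤ)) : Kˣ) : K) *
      ((D.τ : K) ^ d * (D.τ : K) ^ c (i, j)) = 1 := by
    rw [← pow_add, add_comm d, ← Units.val_pow_eq_pow_val, ← Units.val_mul, zpow_neg,
      zpow_natCast, inv_mul_cancel, Units.val_one]
  rw [hd]
  calc Z i j = 1 * Z i j := (one_mul _).symm
    _ = _ := by rw [← key]; ring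

lemma exists_approx {m n : Type*} (Z : Matrix m n K) (k : ℕ) :
    ∃ Z₀ : Matrix m n L, Small D (k : ℤ) (Z₀.map (algebraMap L K) - Z) := by
  have h : ∀ i j, ∃ l : L, ∃ w ∈ D.O, Z i j - algebraMap L K l = (D.τ : K) ^ k * w := fun i j =>
    D.dense _ _
  choose l w hw e using h
  refine ⟨Matrix.of l, fun i j => ⟨-w i j, D.O.neg_mem (hw i j), ?_⟩⟩
  rw [Matrix.sub_apply, Matrix.map_apply, Matrix.of_apply, zpow_natCast, Units.val_pow_eq_pow_val,
    mul_neg, ← e]
  ring

/-- a matrix congruent to `1` modulo `τ` has determinant in `1 + τ O` -/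
lemma det_of_small {n : Type*} [Fintype n] [DecidableEq n] (H : Matrix n n K)
    (h : Small D 1 (H - 1)) : ∃ w ∈ D.O, H.det = 1 + (D.τ : K) * w := by
  choose w hw e using h
  obtain ⟨Wo, hWo⟩ : ∃ Wo : Matrix n n D.O, Wo = fun i j => ⟨w i j, hw i j⟩ := ⟨_, rfl⟩
  obtain ⟨τo, hτo⟩ : ∃ τo : D.O, τo = ⟨(D.τ : K), D.τ_mem⟩ := ⟨_, rfl⟩
  have hH : H = (1 + τo • Wo).map D.O.subtype := by
    refine Matrix.ext fun i j => ?_
    have := e i j
    rw [Matrix.sub_apply, zpow_one] at this
    rw [Matrix.map_apply, Matrix.add_apply, Matrix.smul_apply, map_add, hWo, hτo, smul_eq_mul,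
      map_mul]
    simp only [Subring.subtype_apply]
    rw [← this]
    by_cases hij : i = j
    · subst hij
      simp
    · simp [Matrix.one_apply_ne hij]
  have hq : Ideal.Quotient.mk (Ideal.span {τo}) ((1 + τo • Wo).det) = 1 := by
    have hq0 : Ideal.Quotient.mk (Ideal.span {τo}) τo = 0 :=
      Ideal.Quotient.eq_zero_iff_mem.2 (Ideal.mem_span_singleton_self τo)
    have hm : (1 + τo • Wo).map (Ideal.Quotient.mk (Ideal.span {τo})) = 1 := by
      refine Matrix.ext fun i j => ?_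
      rw [Matrix.map_apply, Matrix.add_apply, Matrix.smul_apply, smul_eq_mul, map_add, map_mul,
        hq0, zero_mul, add_zero]
      by_cases hij : i = j
      · subst hij
        simp
      · simp [Matrix.one_apply_ne hij]
    rw [RingHom.map_det, RingHom.mapMatrix_apply, hm, Matrix.det_one]
  have hmem : (1 + τo • Wo).det - 1 ∈ Ideal.span {τo} := by
    rw [← Ideal.Quotient.eq_zero_iff_mem, map_sub, hq, map_one, sub_self]
  obtain ⟨a, ha⟩ := Ideal.mem_span_singleton'.1 hmem
  refine ⟨(a : K), a.2, ?_⟩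
  have h2 : H.det = D.O.subtype ((1 + τo • Wo).det) := by
    rw [hH, RingHom.map_det, RingHom.mapMatrix_apply]
  rw [h2]
  have h3 : (1 + τo • Wo).det = 1 + τo * a := by
    rw [mul_comm, ha]
    ring
  rw [h3, map_add, map_one, map_mul, hτo]
  rfl

lemma isUnit_of_small {n : Type*} [Fintype n] [DecidableEq n] (H : Matrix n n K)
    (h : Small D 1 (H - 1)) : IsUnit H := by
  obtain ⟨w, hw, e⟩ := det_of_small H h
  rw [Matrix.isUnit_iff_isUnit_det, e]
  exact D.isUnit_one_add w hw

lemma isUnit_of_small_map {n : Type*} [Fintype n] [DecidableEq n] (H : Matrix n n L)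
    (h : Small D 1 (H.map (algebraMap L K) - 1)) : IsUnit H := by
  obtain ⟨w, hw, e⟩ := det_of_small _ h
  rw [Matrix.isUnit_iff_isUnit_det]
  apply D.isUnit_of_one_add
  refine ⟨w, hw, ?_⟩
  rw [← e, RingHom.map_det, RingHom.mapMatrix_apply]

end Small

section RectAlgebra

variable {R : Type*} [CommRing R] {n n' : Type*} [Fintype n] [DecidableEq n] [Fintype n']
  [DecidableEq n']

/-- correcting an approximate partial isomorphism -/
lemma rect_algebra (e : Matrix n n R) (e' : Matrix n' n' R) (x : Matrix n' n R)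
    (y : Matrix n n' R) (hi : Matrix n n R) (hi' : Matrix n' n' R)
    (hee : e * e = e) (hee' : e' * e' = e') (hxe : x * e = x) (hex : e' * x = x)
    (hye : y * e' = y)
    (h1 : hi * (y * x + (1 - e)) = 1)
    (h4 : (x * y + (1 - e')) * hi' = 1) :
    (hi * y) * x = e ∧ x * (hi * y) = e' := by
  have a1 : (y * x + (1 - e)) * e = y * x := by
    rw [Matrix.add_mul, Matrix.sub_mul, Matrix.one_mul, hee, sub_self, add_zero, Matrix.mul_assoc,
      hxe]
  have a3 : hi * (y * x) = e := by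
    rw [← a1, ← Matrix.mul_assoc, h1, Matrix.one_mul]
  have b2 : e' * (x * y + (1 - e')) = x * y := by
    rw [Matrix.mul_add, Matrix.mul_sub, Matrix.mul_one, hee', sub_self, add_zero,
      ← Matrix.mul_assoc, hex]
  refine ⟨by rw [Matrix.mul_assoc, a3], ?_⟩
  have c1 : x * (hi * y) * (x * y) = x * y := by
    calc x * (hi * y) * (x * y) = x * (hi * (y * x)) * y := by simp only [Matrix.mul_assoc]
      _ = x * y := by rw [a3, hxe]
  have c2 : x * (hi * y) * e' = x * (hi * y) := by
    rw [Matrix.mul_assoc, Matrix.mul_assoc, hye]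
  have c3 : x * (hi * y) * (x * y + (1 - e')) = e' * (x * y + (1 - e')) := by
    calc x * (hi * y) * (x * y + (1 - e'))
        = (x * (hi * y) * e') * (x * y + (1 - e')) := by rw [c2]
      _ = x * (hi * y) * (e' * (x * y + (1 - e'))) := by rw [Matrix.mul_assoc]
      _ = x * y := by rw [b2, c1]
      _ = _ := b2.symm
  calc x * (hi * y) = x * (hi * y) * ((x * y + (1 - e')) * hi') := by rw [h4, Matrix.mul_one]
    _ = (x * (hi * y) * (x * y + (1 - e'))) * hi' := by simp only [Matrix.mul_assoc]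
    _ = e' * ((x * y + (1 - e')) * hi') := by rw [c3, Matrix.mul_assoc]
    _ = e' := by rw [h4, Matrix.mul_one]

end RectAlgebra

section Core

variable {L K : Type*} [CommRing L] [CommRing K] [Algebra L K] (D : Data L K)
  {n n' : Type*} [Fintype n] [DecidableEq n] [Fintype n'] [DecidableEq n']

include D in
set_option maxHeartbeats 800000 in
/-- idempotent matrices over `L` which are partially isomorphic over `K` are partially isomorphic
over `L`. -/
theorem pIso_of_pIso_map (e : Matrix n n L) (e' : Matrix n' n' L) (hee : e * e = e)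
    (hee' : e' * e' = e') (U : Matrix n' n K) (V : Matrix n n' K)
    (h1 : V * U = e.map (algebraMap L K)) (h2 : U * V = e'.map (algebraMap L K))
    (h3 : e'.map (algebraMap L K) * U = U) (h4 : V * e'.map (algebraMap L K) = V) :
    PIso e e' := by
  obtain ⟨E, hE⟩ : ∃ E, E = e.map (algebraMap L K) := ⟨_, rfl⟩
  obtain ⟨E', hE'⟩ : ∃ E', E' = e'.map (algebraMap L K) := ⟨_, rfl⟩
  rw [← hE] at h1
  rw [← hE'] at h2 h3 h4
  have h5 : U * E = U := by rw [← h1, ← Matrix.mul_assoc, h2, h3]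
  have h6 : E * V = V := by rw [← h1, Matrix.mul_assoc, h2, h4]
  obtain ⟨c1, hc1⟩ := exists_small (D := D) U
  obtain ⟨c2, hc2⟩ := exists_small (D := D) V
  obtain ⟨c3, hc3⟩ := exists_small (D := D) E
  obtain ⟨c4, hc4⟩ := exists_small (D := D) E'
  obtain ⟨c, hc⟩ : ∃ c : ℕ, c = c1 + c2 + c3 + c4 := ⟨_, rfl⟩
  have sU : Small D (-(c : ℤ)) U := hc1.mono (by rw [hc]; push_cast; omega)
  have sV : Small D (-(c : ℤ)) V := hc2.mono (by rw [hc]; push_cast; omega)
  have sE : Small D (-(c : ℤ)) E := hc3.mono (by rw [hc]; push_cast; omega)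
  have sE' : Small D (-(c : ℤ)) E' := hc4.mono (by rw [hc]; push_cast; omega)
  obtain ⟨x₀, hx₀⟩ := exists_approx (D := D) U (3 * c + 1)
  obtain ⟨y₀, hy₀⟩ := exists_approx (D := D) V (3 * c + 1)
  obtain ⟨x, hx⟩ : ∃ x, x = e' * x₀ * e := ⟨_, rfl⟩
  obtain ⟨y, hy⟩ : ∃ y, y = e * y₀ * e' := ⟨_, rfl⟩
  have hxι : x.map (algebraMap L K) - U = E' * (x₀.map (algebraMap L K) - U) * E := by
    rw [hx, Matrix.map_mul, Matrix.map_mul, ← hE, ← hE', Matrix.mul_sub, Matrix.sub_mul, h3, h5]
  have hyι : y.map (algebraMap L K) - V = E * (y₀.map (algebraMap L K) - V) * E' := by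
    rw [hy, Matrix.map_mul, Matrix.map_mul, ← hE, ← hE', Matrix.mul_sub, Matrix.sub_mul, h6, h4]
  have sx : Small D ((c : ℤ) + 1) (x.map (algebraMap L K) - U) := by
    rw [hxι]
    exact ((sE'.mul hx₀).mul sE).mono (by push_cast; omega)
  have sy : Small D ((c : ℤ) + 1) (y.map (algebraMap L K) - V) := by
    rw [hyι]
    exact ((sE.mul hy₀).mul sE').mono (by push_cast; omega)
  have sxι : Small D (-(c : ℤ)) (x.map (algebraMap L K)) := by
    have : x.map (algebraMap L K) = U + (x.map (algebraMap L K) - U) := by abel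
    rw [this]
    exact sU.add (sx.mono (by omega))
  have syι : Small D (-(c : ℤ)) (y.map (algebraMap L K)) := by
    have : y.map (algebraMap L K) = V + (y.map (algebraMap L K) - V) := by abel
    rw [this]
    exact sV.add (sy.mono (by omega))
  have syx : Small D 1 ((y * x).map (algebraMap L K) - E) := by
    have : (y * x).map (algebraMap L K) - E =
        (y.map (algebraMap L K) - V) * x.map (algebraMap L K) +
          V * (x.map (algebraMap L K) - U) := by
      rw [Matrix.map_mul, ← h1, Matrix.sub_mul, Matrix.mul_sub]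
      abel
    rw [this]
    exact ((sy.mul sxι).mono (by omega)).add ((sV.mul sx).mono (by omega))
  have sxy : Small D 1 ((x * y).map (algebraMap L K) - E') := by
    have : (x * y).map (algebraMap L K) - E' =
        (x.map (algebraMap L K) - U) * y.map (algebraMap L K) +
          U * (y.map (algebraMap L K) - V) := by
      rw [Matrix.map_mul, ← h2, Matrix.sub_mul, Matrix.mul_sub]
      abel
    rw [this]
    exact ((sx.mul syι).mono (by omega)).add ((sU.mul sy).mono (by omega))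
  have hu : IsUnit (y * x + (1 - e)) := by
    apply isUnit_of_small_map (D := D)
    have : (y * x + (1 - e)).map (algebraMap L K) - 1 = (y * x).map (algebraMap L K) - E := by
      rw [Matrix.map_add _ (map_add _), Matrix.map_sub _ (map_sub _),
        Matrix.map_one _ (map_zero _) (map_one _), ← hE]
      abel
    rw [this]
    exact syx
  have hu' : IsUnit (x * y + (1 - e')) := by
    apply isUnit_of_small_map (D := D)
    have : (x * y + (1 - e')).map (algebraMap L K) - 1 = (x * y).map (algebraMap L K) - E' := by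
      rw [Matrix.map_add _ (map_add _), Matrix.map_sub _ (map_sub _),
        Matrix.map_one _ (map_zero _) (map_one _), ← hE']
      abel
    rw [this]
    exact sxy
  obtain ⟨hi, -, hhi⟩ := isUnit_iff_exists.1 hu
  obtain ⟨hi', hhi', -⟩ := isUnit_iff_exists.1 hu'
  have hxe : x * e = x := by rw [hx, Matrix.mul_assoc, hee]
  have hex : e' * x = x := by rw [hx, ← Matrix.mul_assoc, ← Matrix.mul_assoc, hee']
  have hye : y * e' = y := by rw [hy, Matrix.mul_assoc, hee']
  obtain ⟨r1, r2⟩ := rect_algebra e e' x y hi hi' hee hee' hxe hex hye hhi hhi'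
  exact ⟨x, hi * y, r1, r2⟩

variable {m : Type*} [Fintype m] [DecidableEq m]

include D in
set_option maxHeartbeats 800000 in
/-- a split surjection `K^m → K^n` is, up to an automorphism of `K^m`, defined and split over `L`. -/
theorem exists_lift_split (B : Matrix n m K) (C : Matrix m n K) (hBC : B * C = 1) :
    ∃ (B₀ : Matrix n m L) (C₁ : Matrix m n L) (u ui : Matrix m m K),
      B₀ * C₁ = 1 ∧ u * ui = 1 ∧ ui * u = 1 ∧ B₀.map (algebraMap L K) = B * u := by
  obtain ⟨c1, hc1⟩ := exists_small (D := D) B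
  obtain ⟨c2, hc2⟩ := exists_small (D := D) C
  obtain ⟨c, hc⟩ : ∃ c : ℕ, c = c1 + c2 := ⟨_, rfl⟩
  have sB : Small D (-(c : ℤ)) B := hc1.mono (by rw [hc]; push_cast; omega)
  have sC : Small D (-(c : ℤ)) C := hc2.mono (by rw [hc]; push_cast; omega)
  obtain ⟨B₀, hB₀⟩ := exists_approx (D := D) B (c + 1)
  obtain ⟨u, hu⟩ : ∃ u, u = 1 + C * (B₀.map (algebraMap L K) - B) := ⟨_, rfl⟩
  have su : Small D 1 (u - 1) := by
    have : u - 1 = C * (B₀.map (algebraMap L K) - B) := by rw [hu]; abel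
    rw [this]
    exact (sC.mul hB₀).mono (by push_cast; omega)
  have hBu : B₀.map (algebraMap L K) = B * u := by
    rw [hu, Matrix.mul_add, Matrix.mul_one, ← Matrix.mul_assoc, hBC, Matrix.one_mul]
    abel
  obtain ⟨ui, hui1, hui2⟩ := isUnit_iff_exists.1 (isUnit_of_small (D := D) u su)
  have sB₀ : Small D (-(c : ℤ)) (B₀.map (algebraMap L K)) := by
    have : B₀.map (algebraMap L K) = B + (B₀.map (algebraMap L K) - B) := by abel
    rw [this]
    exact sB.add (hB₀.mono (by push_cast; omega))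
  obtain ⟨C₀, hC₀⟩ := exists_approx (D := D) (ui * C) (c + 1)
  have hBC' : B₀.map (algebraMap L K) * (ui * C) = 1 := by
    rw [hBu, Matrix.mul_assoc, ← Matrix.mul_assoc u, hui1, Matrix.one_mul, hBC]
  have sD : Small D 1 ((B₀ * C₀).map (algebraMap L K) - 1) := by
    have : (B₀ * C₀).map (algebraMap L K) - 1 =
        B₀.map (algebraMap L K) * (C₀.map (algebraMap L K) - ui * C) := by
      rw [Matrix.map_mul, Matrix.mul_sub, hBC']
    rw [this]
    exact (sB₀.mul hC₀).mono (by push_cast; omega)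
  obtain ⟨Di, hDi, -⟩ := isUnit_iff_exists.1 (isUnit_of_small_map (D := D) (B₀ * C₀) sD)
  exact ⟨B₀, C₀ * Di, u, ui, by rw [← Matrix.mul_assoc, hDi], hui1, hui2, hBu⟩

end Core

end Groth.Agent.Lib.Helper85.Approx
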