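import Mathlib
import Groth.Agent.Lib.Helper85.ApproxCore

/-!
# Module-level consequences of the approximation data (helper85)
-/

set_option autoImplicit false
universe u

open Groth.Agent.Lib.Helper85.Horrocks
open scoped TensorProduct

namespace Groth.Agent.Lib.Helper85.Approx

section BaseChange

variable {A : Type u} [CommRing A] (S : Type u) [CommRing S] [Algebra A S]
  {P : Type u} [AddCommGroup P] [Module A P] {P' : Type u} [AddCommGroup P'] [Module S P']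
  {n n' : ℕ}

/-- the base change of a retract of `A^n` is isomorphic to a retract of `S^n'` as soon as the
idempotents are partially isomorphic -/
theorem baseChange_equiv_of_partialIso
    (f : (Fin n → A) →ₗ[A] P) (g : P →ₗ[A] (Fin n → A)) (hfg : f ∘ₗ g = LinearMap.id)
    (f' : (Fin n' → S) →ₗ[S] P') (g' : P' →ₗ[S] (Fin n' → S)) (hfg' : f' ∘ₗ g' = LinearMap.id)
    (x : Matrix (Fin n') (Fin n) S) (y : Matrix (Fin n) (Fin n') S)
    (hyx : y * x = (LinearMap.toMatrix' (g ∘ₗ f)).map (algebraMap A S))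
    (hxy : x * y = LinearMap.toMatrix' (g' ∘ₗ f')) : Nonempty (S ⊗[A] P ≃ₗ[S] P') := by
  obtain ⟨F, hF⟩ : ∃ F : (Fin n → S) →ₗ[S] S ⊗[A] P, F = f.baseChange S ∘ₗ
    (TensorProduct.piScalarRight A S S (Fin n)).symm.toLinearMap := ⟨_, rfl⟩
  obtain ⟨G, hG⟩ : ∃ G : S ⊗[A] P →ₗ[S] (Fin n → S), G =
    (TensorProduct.piScalarRight A S S (Fin n)).toLinearMap ∘ₗ g.baseChange S := ⟨_, rfl⟩
  have hbc : ∀ y, f.baseChange S (g.baseChange S y) = y := fun y => by
    rw [← LinearMap.comp_apply, ← LinearMap.baseChange_comp, hfg, LinearMap.baseChange_id]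
    rfl
  have hFG : F ∘ₗ G = LinearMap.id := by
    apply LinearMap.ext; intro z
    simp only [hF, hG, LinearMap.coe_comp, LinearEquiv.coe_coe, Function.comp_apply,
      LinearEquiv.symm_apply_apply, hbc, LinearMap.id_coe, id_eq]
  have hGF : G ∘ₗ F = bcLin S (g ∘ₗ f) := by
    apply LinearMap.ext; intro z
    simp only [hF, hG, bcLin, LinearMap.coe_comp, LinearEquiv.coe_coe, Function.comp_apply,
      LinearMap.baseChange_comp]
  refine linearEquiv_of_partialIso F G hFG f' g' hfg' x y ?_ hxy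
  rw [hyx, hGF, toMatrix'_bcLin]

end BaseChange

section Modules

variable {L K : Type u} [CommRing L] [CommRing K] [Algebra L K] (D : Data L K)

include D in
/-- finite projective `L`-modules which become isomorphic over `K` are isomorphic -/
theorem nonempty_linearEquiv_of_baseChange
    (M N : Type u) [AddCommGroup M] [Module L M] [Module.Finite L M] [Module.Projective L M]
    [AddCommGroup N] [Module L N] [Module.Finite L N] [Module.Projective L N]
    (ψ : K ⊗[L] M ≃ₗ[K] K ⊗[L] N) : Nonempty (M ≃ₗ[L] N) := by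
  obtain ⟨n, f, g, -, -, hfg⟩ := Module.Finite.exists_comp_eq_id_of_projective L M
  obtain ⟨n', f', g', -, -, hfg'⟩ := Module.Finite.exists_comp_eq_id_of_projective L N
  obtain ⟨e, he⟩ : ∃ e, e = LinearMap.toMatrix' (g ∘ₗ f) := ⟨_, rfl⟩
  obtain ⟨e', he'⟩ : ∃ e', e' = LinearMap.toMatrix' (g' ∘ₗ f') := ⟨_, rfl⟩
  have hee : e * e = e := by
    rw [he, ← LinearMap.toMatrix'_comp]
    congr 1
    calc (g ∘ₗ f) ∘ₗ (g ∘ₗ f) = g ∘ₗ (f ∘ₗ g) ∘ₗ f := by simp only [LinearMap.comp_assoc]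
      _ = g ∘ₗ f := by rw [hfg, LinearMap.id_comp]
  have hee' : e' * e' = e' := by
    rw [he', ← LinearMap.toMatrix'_comp]
    congr 1
    calc (g' ∘ₗ f') ∘ₗ (g' ∘ₗ f') = g' ∘ₗ (f' ∘ₗ g') ∘ₗ f' := by
          simp only [LinearMap.comp_assoc]
      _ = g' ∘ₗ f' := by rw [hfg', LinearMap.id_comp]
  obtain ⟨Ut, Vt, h1, h2, h3, h4⟩ := exists_matrices_of_baseChange_equiv K f g hfg f' g' hfg' ψ
  rw [← he] at h1
  rw [← he'] at h2 h3 h4
  obtain ⟨x, y, hyx, hxy⟩ := pIso_of_pIso_map D e e' hee hee' Ut Vt h1 h2 h3 h4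
  exact linearEquiv_of_partialIso f g hfg f' g' hfg' x y (hyx.trans he) (hxy.trans he')

include D in
set_option maxHeartbeats 800000 in
/-- stably free `K`-modules are base changes of stably free `L`-modules -/
theorem exists_stablyFree_lift (M' : Type u) [AddCommGroup M'] [Module K M'] (n m : ℕ)
    (Θ : (M' × (Fin n → K)) ≃ₗ[K] (Fin m → K)) :
    ∃ (M : Type u) (_ : AddCommGroup M) (_ : Module L M), Module.Finite L M ∧
      (∃ n m : ℕ, Nonempty ((M × (Fin n → L)) ≃ₗ[L] (Fin m → L))) ∧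
      Nonempty (K ⊗[L] M ≃ₗ[K] M') := by
  -- the retraction data of `M'`
  obtain ⟨g', hg'⟩ : ∃ g' : M' →ₗ[K] (Fin m → K), g' = Θ.toLinearMap ∘ₗ LinearMap.inl K M' _ :=
    ⟨_, rfl⟩
  obtain ⟨f', hf'⟩ : ∃ f' : (Fin m → K) →ₗ[K] M',
    f' = LinearMap.fst K M' (Fin n → K) ∘ₗ Θ.symm.toLinearMap := ⟨_, rfl⟩
  obtain ⟨βl, hβl⟩ : ∃ βl : (Fin m → K) →ₗ[K] (Fin n → K),
    βl = LinearMap.snd K M' (Fin n → K) ∘ₗ Θ.symm.toLinearMap := ⟨_, rfl⟩
  obtain ⟨γl, hγl⟩ : ∃ γl : (Fin n → K) →ₗ[K] (Fin m → K),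
    γl = Θ.toLinearMap ∘ₗ LinearMap.inr K M' (Fin n → K) := ⟨_, rfl⟩
  have hfg' : f' ∘ₗ g' = LinearMap.id := by
    rw [hf', hg']
    ext z
    simp
  have hβγ : βl ∘ₗ γl = LinearMap.id := by
    rw [hβl, hγl]
    ext z
    simp
  have hsum : g' ∘ₗ f' + γl ∘ₗ βl = LinearMap.id := by
    rw [hf', hg', hβl, hγl]
    apply LinearMap.ext
    intro z
    simp only [LinearMap.add_apply, LinearMap.coe_comp, LinearEquiv.coe_coe, Function.comp_apply,
      LinearMap.fst_apply, LinearMap.snd_apply, LinearMap.inl_apply, LinearMap.inr_apply,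
      LinearMap.id_coe, id_eq]
    rw [← map_add, Prod.mk_add_mk, add_zero, zero_add, Prod.mk.eta, LinearEquiv.apply_symm_apply]
  obtain ⟨B, hB⟩ : ∃ B, B = LinearMap.toMatrix' βl := ⟨_, rfl⟩
  obtain ⟨C, hC⟩ : ∃ C, C = LinearMap.toMatrix' γl := ⟨_, rfl⟩
  have hBC : B * C = 1 := by
    rw [hB, hC, ← LinearMap.toMatrix'_comp, hβγ, LinearMap.toMatrix'_id]
  have hE₂ : LinearMap.toMatrix' (g' ∘ₗ f') = 1 - C * B := by
    rw [hB, hC, ← LinearMap.toMatrix'_comp, ← LinearMap.toMatrix'_id, ← hsum, map_add]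
    abel
  obtain ⟨B₀, C₁, u, ui, h1, h2, h3, h4⟩ := exists_lift_split D B C hBC
  -- the module over `L`
  obtain ⟨p, hp⟩ : ∃ p : Matrix (Fin m) (Fin m) L, p = 1 - C₁ * B₀ := ⟨_, rfl⟩
  have hpp : p * p = p := by
    rw [hp, Matrix.mul_sub, Matrix.mul_one, Matrix.sub_mul, Matrix.one_mul]
    have : C₁ * B₀ * (C₁ * B₀) = C₁ * B₀ := by
      rw [Matrix.mul_assoc, ← Matrix.mul_assoc B₀, h1, Matrix.one_mul]
    rw [this]
    abel
  have hB₀p : B₀ * p = 0 := by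
    rw [hp, Matrix.mul_sub, Matrix.mul_one, ← Matrix.mul_assoc, h1, Matrix.one_mul, sub_self]
  have hpC₁ : p * C₁ = 0 := by
    rw [hp, Matrix.sub_mul, Matrix.one_mul, Matrix.mul_assoc, h1, Matrix.mul_one, sub_self]
  obtain ⟨Ms, hMs⟩ : ∃ Ms : Submodule L (Fin m → L), Ms = LinearMap.range (Matrix.toLin' p) :=
    ⟨_, rfl⟩
  have hpfix : ∀ y ∈ Ms, Matrix.toLin' p y = y := by
    intro y hy
    rw [hMs] at hy
    obtain ⟨z, rfl⟩ := hy
    rw [← LinearMap.comp_apply, ← Matrix.toLin'_mul, hpp]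
  have hpmem : ∀ z, Matrix.toLin' p z ∈ Ms := fun z => by
    rw [hMs]
    exact LinearMap.mem_range_self _ z
  obtain ⟨f₀, hf₀⟩ : ∃ f₀ : (Fin m → L) →ₗ[L] Ms,
      ∀ z, (f₀ z : Fin m → L) = Matrix.toLin' p z :=
    ⟨(Matrix.toLin' p).codRestrict Ms hpmem, fun z => rfl⟩
  have hfg₀ : f₀ ∘ₗ Ms.subtype = LinearMap.id := by
    ext y : 1
    apply Subtype.ext
    rw [LinearMap.comp_apply, hf₀, Submodule.subtype_apply, hpfix _ y.2]
    rfl
  have hgf₀ : LinearMap.toMatrix' (Ms.subtype ∘ₗ f₀) = p := by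
    have : Ms.subtype ∘ₗ f₀ = Matrix.toLin' p := by
      apply LinearMap.ext; intro z
      rw [LinearMap.comp_apply, Submodule.subtype_apply, hf₀]
    rw [this, LinearMap.toMatrix'_toLin']
  have hpsum : p + C₁ * B₀ = 1 := by rw [hp]; abel
  refine ⟨Ms, inferInstance, inferInstance, ?_, ⟨n, m, ?_⟩, ?_⟩
  · rw [hMs]
    exact Module.Finite.range _
  · -- `Ms × L^n ≃ L^m`
    refine ⟨LinearEquiv.ofLinearMap
      (LinearMap.coprod Ms.subtype (Matrix.toLin' C₁))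
      (LinearMap.prod f₀ (Matrix.toLin' B₀)) ?_ ?_⟩
    · apply LinearMap.ext; intro z
      show ((f₀ z : Ms) : Fin m → L) + Matrix.toLin' C₁ (Matrix.toLin' B₀ z) = z
      rw [hf₀, ← Matrix.toLin'_mul_apply, ← LinearMap.add_apply,
        ← map_add, hpsum, Matrix.toLin'_one, LinearMap.id_apply]
    · apply LinearMap.ext; intro yv
      obtain ⟨y, v⟩ := yv
      have hy : Matrix.toLin' p (y : Fin m → L) = y := hpfix _ y.2
      have hB₀y : Matrix.toLin' B₀ (y : Fin m → L) = 0 := by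
        rw [← hy, ← Matrix.toLin'_mul_apply, hB₀p, map_zero, LinearMap.zero_apply]
      rw [LinearMap.comp_apply, LinearMap.coprod_apply, Submodule.subtype_apply,
        LinearMap.prod_apply, LinearMap.id_apply]
      refine Prod.ext (Subtype.ext ?_) ?_
      · show ((f₀ ((y : Fin m → L) + Matrix.toLin' C₁ v) : Ms) : Fin m → L) = y
        rw [hf₀, map_add, hy, ← Matrix.toLin'_mul_apply, hpC₁, map_zero, LinearMap.zero_apply,
          add_zero]
      · show Matrix.toLin' B₀ ((y : Fin m → L) + Matrix.toLin' C₁ v) = v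
        rw [map_add, hB₀y, zero_add, ← Matrix.toLin'_mul_apply, h1, Matrix.toLin'_one,
          LinearMap.id_apply]
  · -- `K ⊗ Ms ≃ M'`
    obtain ⟨B₀ι, hB₀ι⟩ : ∃ B₀ι, B₀ι = B₀.map (algebraMap L K) := ⟨_, rfl⟩
    obtain ⟨C₁ι, hC₁ι⟩ : ∃ C₁ι, C₁ι = C₁.map (algebraMap L K) := ⟨_, rfl⟩
    have h1ι : B₀ι * C₁ι = 1 := by
      rw [hB₀ι, hC₁ι, ← Matrix.map_mul, h1, Matrix.map_one _ (map_zero _) (map_one _)]
    obtain ⟨E₁, hE₁⟩ : ∃ E₁ : Matrix (Fin m) (Fin m) K, E₁ = 1 - C₁ι * B₀ι := ⟨_, rfl⟩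
    obtain ⟨E₂, hE₂'⟩ : ∃ E₂ : Matrix (Fin m) (Fin m) K, E₂ = 1 - C * B := ⟨_, rfl⟩
    have hpι : p.map (algebraMap L K) = E₁ := by
      rw [hp, hE₁, hB₀ι, hC₁ι, Matrix.map_sub _ (map_sub _),
        Matrix.map_one _ (map_zero _) (map_one _), Matrix.map_mul]
    have hB₀E₁ : B₀ι * E₁ = 0 := by
      rw [hE₁, Matrix.mul_sub, Matrix.mul_one, ← Matrix.mul_assoc, h1ι, Matrix.one_mul, sub_self]
    have hBE₂ : B * E₂ = 0 := by
      rw [hE₂', Matrix.mul_sub, Matrix.mul_one, ← Matrix.mul_assoc, hBC, Matrix.one_mul, sub_self]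
    have h4' : B₀ι = B * u := by rw [hB₀ι, h4]
    have h5 : B₀ι * ui = B := by
      rw [h4', Matrix.mul_assoc, h2, Matrix.mul_one]
    have ha : E₂ * (u * E₁) = u * E₁ := by
      rw [hE₂', Matrix.sub_mul, Matrix.one_mul, Matrix.mul_assoc, ← Matrix.mul_assoc B, ← h4',
        hB₀E₁, Matrix.mul_zero, sub_zero]
    have hb : E₁ * (ui * E₂) = ui * E₂ := by
      rw [hE₁, Matrix.sub_mul, Matrix.one_mul, Matrix.mul_assoc, ← Matrix.mul_assoc B₀ι, h5,
        hBE₂, Matrix.mul_zero, sub_zero]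
    refine baseChange_equiv_of_partialIso K f₀ Ms.subtype hfg₀ f' g' hfg' (u * E₁) (ui * E₂) ?_ ?_
    · rw [hgf₀, hpι, Matrix.mul_assoc, ha, ← Matrix.mul_assoc, h3, Matrix.one_mul]
    · rw [hE₂, ← hE₂', Matrix.mul_assoc, hb, ← Matrix.mul_assoc, h2, Matrix.one_mul]

end Modules

end Groth.Agent.Lib.Helper85.Approx
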