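import Mathlib
import Groth.Agent.Lib.Helper85.ApproxMod

/-!
# The approximation data for `A[1/t] → Â[1/t]` (helper85)
-/

set_option autoImplicit false
universe u

namespace Groth.Agent.Lib.Helper85.Approx

section Adic

variable {A : Type u} [CommRing A] (t : A)

lemma span_fg : (Ideal.span {t}).FG := ⟨{t}, by simp⟩

/-- the kernel of `Â → A/t^n` is `t^n Â` -/
lemma exists_eq_pow_mul_of_evalₐ_eq_zero (n : ℕ) (α : AdicCompletion (Ideal.span {t}) A)
    (h : AdicCompletion.evalₐ (Ideal.span {t}) n α = 0) :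
    ∃ β : AdicCompletion (Ideal.span {t}) A,
      α = algebraMap A (AdicCompletion (Ideal.span {t}) A) t ^ n * β := by
  have h1 : α ∈ LinearMap.ker (AdicCompletion.eval (Ideal.span {t}) A n) := by
    have hle : Ideal.span {t} ^ n ≤ (Ideal.span {t} ^ n • ⊤ : Ideal A) := by simp
    rw [LinearMap.mem_ker, ← AdicCompletion.factor_evalₐ_eq_eval (Ideal.span {t}) α hle, h,
      map_zero]
  rw [← AdicCompletion.pow_smul_top_eq_ker_eval (span_fg t), Ideal.smul_top_eq_map,
    Submodule.restrictScalars_mem, Ideal.span_singleton_pow, Ideal.map_span, Set.image_singleton,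
    Ideal.mem_span_singleton] at h1
  obtain ⟨β, hβ⟩ := h1
  exact ⟨β, by rw [hβ, map_pow]⟩

lemma evalₐ_algebraMap (n : ℕ) (a : A) :
    AdicCompletion.evalₐ (Ideal.span {t}) n
      (algebraMap A (AdicCompletion (Ideal.span {t}) A) a) = Ideal.Quotient.mk _ a := by
  rw [AdicCompletion.algebraMap_apply, AdicCompletion.evalₐ_of]
  rfl

/-- `A` is dense in `Â` -/
lemma exists_approx_adic (n : ℕ) (α : AdicCompletion (Ideal.span {t}) A) :
    ∃ (a : A) (β : AdicCompletion (Ideal.span {t}) A),
      α = algebraMap A (AdicCompletion (Ideal.span {t}) A) a +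
        algebraMap A (AdicCompletion (Ideal.span {t}) A) t ^ n * β := by
  obtain ⟨a, ha⟩ := Ideal.Quotient.mk_surjective (AdicCompletion.evalₐ (Ideal.span {t}) n α)
  obtain ⟨β, hβ⟩ := exists_eq_pow_mul_of_evalₐ_eq_zero t n
    (α - algebraMap A (AdicCompletion (Ideal.span {t}) A) a)
    (by rw [map_sub, evalₐ_algebraMap, ha, sub_self])
  exact ⟨a, β, by rw [← hβ]; ring⟩

lemma isUnit_one_add_adic (ω : AdicCompletion (Ideal.span {t}) A) :
    IsUnit (1 + algebraMap A (AdicCompletion (Ideal.span {t}) A) t * ω) := by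
  have := AdicCompletion.isAdicComplete_self (Ideal.span {t}) (span_fg t)
  have h1 : algebraMap A (AdicCompletion (Ideal.span {t}) A) t ∈
      (⊥ : Ideal (AdicCompletion (Ideal.span {t}) A)).jacobson :=
    IsAdicComplete.le_jacobson_bot _
      (Ideal.mem_map_of_mem _ (Ideal.mem_span_singleton_self t))
  have := Ideal.mem_jacobson_bot.1 h1 ω
  rwa [add_comm] at this

end Adic

section DataA

variable {A : Type u} [CommRing A] (t : A) (ht : t ∈ (⊥ : Ideal A).jacobson)
  (L : Type u) [CommRing L] [Algebra A L] [IsLocalization.Away t L]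
  (K : Type u) [CommRing K] [Algebra (AdicCompletion (Ideal.span {t}) A) K]
  [IsLocalization.Away (algebraMap A (AdicCompletion (Ideal.span {t}) A) t) K]
  [Algebra L K]
  (hcomp : ∀ a : A, algebraMap L K (algebraMap A L a) =
    algebraMap (AdicCompletion (Ideal.span {t}) A) K
      (algebraMap A (AdicCompletion (Ideal.span {t}) A) a))

include ht hcomp in
lemma adic_isUnit_of_one_add (l : L) (ω : AdicCompletion (Ideal.span {t}) A)
    (hl : algebraMap L K l = 1 +
      algebraMap (AdicCompletion (Ideal.span {t}) A) K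
        (algebraMap A (AdicCompletion (Ideal.span {t}) A) t) *
      algebraMap (AdicCompletion (Ideal.span {t}) A) K ω) : IsUnit l := by
  obtain ⟨c, a, hla⟩ := IsLocalization.Away.surj t l
  -- in `Â[1/t]`
  have h1 : algebraMap (AdicCompletion (Ideal.span {t}) A) K
      (algebraMap A (AdicCompletion (Ideal.span {t}) A) a) =
      algebraMap (AdicCompletion (Ideal.span {t}) A) K
        ((1 + algebraMap A (AdicCompletion (Ideal.span {t}) A) t * ω) *
          algebraMap A (AdicCompletion (Ideal.span {t}) A) t ^ c) := by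
    rw [← hcomp, ← hla, map_mul, map_pow, hcomp, hl, map_mul, map_add, map_one, map_mul, map_pow]
  obtain ⟨j, hj⟩ := IsLocalization.Away.exists_of_eq
    (algebraMap A (AdicCompletion (Ideal.span {t}) A) t) h1
  obtain ⟨b, hb⟩ := Ideal.Quotient.mk_surjective
    (AdicCompletion.evalₐ (Ideal.span {t}) (j + c + 1) ω)
  have h2 := congrArg (AdicCompletion.evalₐ (Ideal.span {t}) (j + c + 1)) hj
  rw [← map_pow, map_mul, map_mul, map_mul, map_add, map_one, map_mul, ← map_pow,
    evalₐ_algebraMap, evalₐ_algebraMap, evalₐ_algebraMap, evalₐ_algebraMap, ← hb,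
    ← map_mul, ← map_mul, ← map_one (Ideal.Quotient.mk _), ← map_add, ← map_mul, ← map_mul,
    Ideal.Quotient.eq, Ideal.span_singleton_pow, Ideal.mem_span_singleton] at h2
  obtain ⟨d, hd⟩ := h2
  -- `t^j a = t^(j+c) (1 + t (b - d))`
  have h3 : t ^ j * a = t ^ (j + c) * (1 + t * (b + d)) := by
    have : t ^ j * a = t ^ j * ((1 + t * b) * t ^ c) + t ^ (j + c + 1) * d := by
      rw [← hd]; ring
    rw [this]; ring
  have hu : IsUnit (1 + t * (b + d)) := by
    have := Ideal.mem_jacobson_bot.1 ht (b + d)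
    rwa [add_comm] at this
  have hT : IsUnit (algebraMap A L t) := IsLocalization.Away.algebraMap_isUnit t
  have h4 : l * algebraMap A L t ^ (j + c) =
      algebraMap A L (1 + t * (b + d)) * algebraMap A L t ^ (j + c) := by
    have := congrArg (algebraMap A L) h3
    rw [map_mul, map_mul, ← hla, map_pow, map_pow] at this
    rw [mul_comm (algebraMap A L (1 + t * (b + d))), ← this, pow_add]
    ring
  rw [(hT.pow (j + c)).mul_left_inj] at h4
  rw [h4]
  exact hu.map _

/-- the approximation data of `A[1/t] → Â[1/t]` -/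
noncomputable def adicData : Data L K where
  O := (algebraMap (AdicCompletion (Ideal.span {t}) A) K).range
  τ := (IsLocalization.Away.algebraMap_isUnit
    (algebraMap A (AdicCompletion (Ideal.span {t}) A) t) (S := K)).unit
  τ_mem := ⟨_, rfl⟩
  exists_pow_mul_mem := fun z => by
    obtain ⟨c, α, hz⟩ := IsLocalization.Away.surj
      (algebraMap A (AdicCompletion (Ideal.span {t}) A) t) z
    exact ⟨c, α, by rw [← hz, IsUnit.unit_spec, mul_comm]⟩
  dense := fun z k => by
    obtain ⟨c, α, hz⟩ := IsLocalization.Away.surj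
      (algebraMap A (AdicCompletion (Ideal.span {t}) A) t) z
    obtain ⟨a, β, hβ⟩ := exists_approx_adic t (k + c) α
    have htc : t ^ c ∈ Submonoid.powers t := ⟨c, rfl⟩
    refine ⟨IsLocalization.mk' L a ⟨t ^ c, htc⟩,
      algebraMap (AdicCompletion (Ideal.span {t}) A) K β, ⟨β, rfl⟩, ?_⟩
    rw [IsUnit.unit_spec]
    have hu : IsUnit (algebraMap (AdicCompletion (Ideal.span {t}) A) K
        (algebraMap A (AdicCompletion (Ideal.span {t}) A) t) ^ c) :=
      (IsLocalization.Away.algebraMap_isUnit _).pow c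
    apply hu.mul_right_cancel
    have h1 : algebraMap L K (IsLocalization.mk' L a ⟨t ^ c, htc⟩) *
        algebraMap (AdicCompletion (Ideal.span {t}) A) K
          (algebraMap A (AdicCompletion (Ideal.span {t}) A) t) ^ c =
        algebraMap (AdicCompletion (Ideal.span {t}) A) K
          (algebraMap A (AdicCompletion (Ideal.span {t}) A) a) := by
      rw [← hcomp, ← map_pow, ← map_pow, ← map_mul, IsLocalization.mk'_spec, hcomp]
    rw [sub_mul, hz, h1, ← map_sub, hβ, add_sub_cancel_left, map_mul, map_pow, pow_add]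
    ring
  isUnit_of_one_add := fun l hl => by
    obtain ⟨w, ⟨ω, rfl⟩, hlw⟩ := hl
    rw [IsUnit.unit_spec] at hlw
    exact adic_isUnit_of_one_add t ht L K hcomp l ω hlw
  isUnit_one_add := fun w hw => by
    obtain ⟨ω, rfl⟩ := hw
    rw [IsUnit.unit_spec]
    have := (isUnit_one_add_adic t ω).map (algebraMap (AdicCompletion (Ideal.span {t}) A) K)
    rwa [map_add, map_one, map_mul] at this

end DataA

end Groth.Agent.Lib.Helper85.Approx
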