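import Mathlib
import Groth.Agent.Lib.Helper85.ApproxMod

/-!
# Descent of idempotent matrices along an approximation datum with quadratic solvability (helper85)
-/

set_option autoImplicit false
universe u

open Groth.Agent.Lib.Helper85.Horrocks
open scoped TensorProduct

namespace Groth.Agent.Lib.Helper85.Approx

section Idem

variable {L K : Type*} [CommRing L] [CommRing K] [Algebra L K] (D : Data L K)

/-- `1 + τ O` is a group -/
def HInv : Prop := ∀ w ∈ D.O, ∃ v ∈ D.O, (1 + (D.τ : K) * w) * (1 + (D.τ : K) * v) = 1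

/-- "Henselian" quadratic solvability in matrix rings -/
def HQ : Prop := ∀ (n k : ℕ) (η : Matrix (Fin n) (Fin n) L), 1 ≤ k →
    Small D (k : ℤ) (η.map (algebraMap L K)) →
    ∃ y : Matrix (Fin n) (Fin n) L, y * y + y + η = 0 ∧
      Small D (k : ℤ) (y.map (algebraMap L K)) ∧
      ∀ Z : Matrix (Fin n) (Fin n) L, Z * η = η * Z → Z * y = y * Z

variable {D}

lemma small_zero_of_mem {m n : Type*} {Z : Matrix m n K} (h : ∀ i j, Z i j ∈ D.O) :
    Small D 0 Z :=
  fun i j => ⟨Z i j, h i j, by simp⟩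

lemma mem_of_small_zero {m n : Type*} {Z : Matrix m n K} (h : Small D 0 Z) (i : m) (j : n) :
    Z i j ∈ D.O := by
  obtain ⟨w, hw, e⟩ := h i j
  rw [e]
  simpa using hw

lemma exists_inv_of_small (hinv : HInv D) {n : Type*} [Fintype n] [DecidableEq n]
    (H : Matrix n n K) (h : Small D 1 (H - 1)) :
    ∃ Hi : Matrix n n K, H * Hi = 1 ∧ Hi * H = 1 ∧ Small D 0 Hi := by
  obtain ⟨w, hw, e⟩ := det_of_small H h
  obtain ⟨v, hv, hwv⟩ := hinv w hw
  have hH0 : Small D 0 H := by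
    have : H = (H - 1) + 1 := by abel
    rw [this]
    exact (h.mono (by norm_num)).add small_one
  have hadj : ∀ i j, H.adjugate i j ∈ D.O := by
    obtain ⟨Ho, hHo⟩ : ∃ Ho : Matrix n n D.O, H = Ho.map D.O.subtype :=
      ⟨fun i j => ⟨H i j, mem_of_small_zero hH0 i j⟩, by ext; rfl⟩
    intro i j
    rw [hHo, ← RingHom.mapMatrix_apply, ← RingHom.map_adjugate]
    exact (Ho.adjugate i j).2
  refine ⟨(1 + (D.τ : K) * v) • H.adjugate, ?_, ?_, ?_⟩
  · rw [Matrix.mul_smul, Matrix.mul_adjugate, e, smul_smul, mul_comm, hwv, one_smul]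
  · rw [Matrix.smul_mul, Matrix.adjugate_mul, e, smul_smul, mul_comm, hwv, one_smul]
  · apply small_zero_of_mem
    intro i j
    rw [Matrix.smul_apply, smul_eq_mul]
    exact D.O.mul_mem (D.O.add_mem D.O.one_mem (D.O.mul_mem D.τ_mem hv)) (hadj i j)

/-- pure algebra: the corrected idempotent -/
lemma idem_algebra {R : Type*} [Ring R] (E₀ y Δ q η : R)
    (hΔ : Δ = E₀ * E₀ - E₀) (hq : q = 1 + (Δ + Δ + Δ + Δ))
    (hy : y * y + y + η = 0) (hqη : q * η = Δ) (hc : E₀ * y = y * E₀) :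
    (E₀ + (E₀ + E₀ - 1) * y) * (E₀ + (E₀ + E₀ - 1) * y) = E₀ + (E₀ + E₀ - 1) * y := by
  obtain ⟨u, hu⟩ : ∃ u, u = E₀ + E₀ - 1 := ⟨_, rfl⟩
  rw [← hu]
  have huE : u * E₀ = E₀ * u := by rw [hu]; noncomm_ring
  have huu : u * u = q := by rw [hq, hΔ, hu]; noncomm_ring
  have hyu : y * u = u * y := by
    rw [hu, mul_sub, mul_add, mul_one, ← hc, sub_mul, add_mul, one_mul]
  have h2 : E₀ * u + E₀ * u = q + u := by rw [← huu, hu]; noncomm_ring
  have s2 : (u * y) * E₀ = (E₀ * u) * y := by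
    rw [mul_assoc, ← hc, ← mul_assoc, huE]
  have s4 : (u * y) * (u * y) = q * (y * y) := by
    calc (u * y) * (u * y) = u * (y * u) * y := by simp only [mul_assoc]
      _ = u * (u * y) * y := by rw [hyu]
      _ = (u * u) * (y * y) := by simp only [mul_assoc]
      _ = q * (y * y) := by rw [huu]
  have hyy : y * y = -y - η := by
    have : y * y = (y * y + y + η) - y - η := by abel
    rw [this, hy]
    abel
  calc (E₀ + u * y) * (E₀ + u * y)
      = E₀ * E₀ + E₀ * (u * y) + (u * y) * E₀ + (u * y) * (u * y) := by noncomm_ring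
    _ = E₀ * E₀ + (E₀ * u + E₀ * u) * y + q * (y * y) := by
        rw [s2, s4, ← mul_assoc, add_mul]
        abel
    _ = E₀ * E₀ + (q + u) * y + q * (-y - η) := by rw [h2, hyy]
    _ = E₀ * E₀ - q * η + u * y := by noncomm_ring
    _ = E₀ + u * y := by rw [hqη, hΔ]; abel

/-- pure algebra: nearby idempotents are conjugate -/
lemma conj_algebra {R : Type*} [Ring R] (E E' W Wi : R) (hE : E * E = E) (hE' : E' * E' = E')
    (hW : W = E' * E + (1 - E') * (1 - E)) (h1 : W * Wi = 1) (h2 : Wi * W = 1) :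
    (W * E) * (Wi * E') = E' ∧ (Wi * E') * (W * E) = E := by
  have a1 : E' * W = E' * E := by
    have h0 : E' * (1 - E') = 0 := by rw [mul_sub, mul_one, hE', sub_self]
    rw [hW, mul_add, ← mul_assoc, hE', ← mul_assoc, h0, zero_mul, add_zero]
  have a2 : W * E = E' * E := by
    have h0 : (1 - E) * E = 0 := by rw [sub_mul, one_mul, hE, sub_self]
    rw [hW, add_mul, mul_assoc, hE, mul_assoc, h0, mul_zero, add_zero]
  constructor
  · calc (W * E) * (Wi * E') = (E' * W) * (Wi * E') := by rw [a2, a1]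
      _ = E' * (W * Wi) * E' := by simp only [mul_assoc]
      _ = E' := by rw [h1, mul_one, hE']
  · calc (Wi * E') * (W * E) = Wi * (E' * W) * E := by simp only [mul_assoc]
      _ = Wi * (W * E) * E := by rw [a1, a2]
      _ = (Wi * W) * (E * E) := by simp only [mul_assoc]
      _ = E := by rw [h2, one_mul, hE]

lemma conj_algebra_sub {R : Type*} [Ring R] (E E' : R) (hE' : E' * E' = E') :
    E' * E + (1 - E') * (1 - E) - 1 = (1 - E' - E') * (E' - E) := by
  have : (1 - E' - E') * (E' - E) = E' - E - E' * E' - E' * E' + E' * E + E' * E := by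
    noncomm_ring
  rw [this, hE']
  noncomm_ring

end Idem

section Descent

variable {L K : Type*} [CommRing L] [CommRing K] [Algebra L K] (D : Data L K)

include D in
set_option maxHeartbeats 1600000 in
/-- every idempotent matrix over `K` is equivalent to the image of an idempotent matrix over `L` -/
theorem exists_idempotent_descent (hinv : HInv D) (hq : HQ D) {n : ℕ}
    (E : Matrix (Fin n) (Fin n) K) (hE : E * E = E) :
    ∃ (E₁ : Matrix (Fin n) (Fin n) L) (x y : Matrix (Fin n) (Fin n) K), E₁ * E₁ = E₁ ∧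
      y * x = E₁.map (algebraMap L K) ∧ x * y = E := by
  obtain ⟨c, hc⟩ := exists_small (D := D) E
  obtain ⟨E₀, hE₀⟩ := exists_approx (D := D) E (3 * c + 1)
  obtain ⟨d₀, hd₀⟩ : ∃ d₀, d₀ = E₀.map (algebraMap L K) - E := ⟨_, rfl⟩
  rw [← hd₀] at hE₀
  have hE₀ι : E₀.map (algebraMap L K) = E + d₀ := by rw [hd₀]; abel
  have sd₀ : ∀ k : ℤ, k ≤ 3 * c + 1 → Small D k d₀ := fun k hk =>
    Small.mono (by push_cast; omega) hE₀
  have s1 : ∀ k : ℤ, k ≤ 0 → Small D k (1 : Matrix (Fin n) (Fin n) K) := fun k hk =>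
    small_one.mono hk
  obtain ⟨Δ, hΔ⟩ : ∃ Δ, Δ = E₀ * E₀ - E₀ := ⟨_, rfl⟩
  have hΔι : Δ.map (algebraMap L K) = E * d₀ + d₀ * E + d₀ * d₀ - d₀ := by
    rw [hΔ, Matrix.map_sub (hf := map_sub _), Matrix.map_mul, hE₀ι]
    have : (E + d₀) * (E + d₀) - (E + d₀) = (E * E - E) + (E * d₀ + d₀ * E + d₀ * d₀ - d₀) := by
      noncomm_ring
    rw [this, hE, sub_self, zero_add]
  have sΔ : Small D (2 * c + 1 : ℤ) (Δ.map (algebraMap L K)) := by
    rw [hΔι]
    refine (((?_ : Small D _ _).add ?_).add ?_).sub (sd₀ _ (by omega))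
    · exact (hc.mul (sd₀ (3 * c + 1) le_rfl)).mono (by omega)
    · exact ((sd₀ (3 * c + 1) le_rfl).mul hc).mono (by omega)
    · exact ((sd₀ (3 * c + 1) le_rfl).mul (sd₀ 0 (by omega))).mono (by omega)
  obtain ⟨q, hqd⟩ : ∃ q, q = 1 + (Δ + Δ + Δ + Δ) := ⟨_, rfl⟩
  have hqι : q.map (algebraMap L K) - 1 = Δ.map (algebraMap L K) + Δ.map (algebraMap L K) +
      Δ.map (algebraMap L K) + Δ.map (algebraMap L K) := by
    rw [hqd, Matrix.map_add (hf := map_add _), Matrix.map_add (hf := map_add _),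
      Matrix.map_add (hf := map_add _), Matrix.map_add (hf := map_add _),
      Matrix.map_one _ (map_zero _) (map_one _)]
    abel
  have sq : Small D 1 (q.map (algebraMap L K) - 1) := by
    rw [hqι]
    have := sΔ.mono (a := 1) (by omega)
    exact ((this.add this).add this).add this
  obtain ⟨⟨q', qi, hqqi, hqiq⟩, rfl⟩ := isUnit_of_small_map (D := D) q sq
  simp only at hqd hqι sq
  obtain ⟨V, hV1, hV2, sV⟩ := exists_inv_of_small hinv _ sq
  have hqiι : qi.map (algebraMap L K) = V := by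
    calc qi.map (algebraMap L K) = qi.map (algebraMap L K) * (q'.map (algebraMap L K) * V) := by
          rw [hV1, Matrix.mul_one]
      _ = (qi * q').map (algebraMap L K) * V := by rw [Matrix.map_mul, Matrix.mul_assoc]
      _ = V := by rw [hqiq, Matrix.map_one _ (map_zero _) (map_one _), Matrix.one_mul]
  obtain ⟨η, hη⟩ : ∃ η, η = Δ * qi := ⟨_, rfl⟩
  have sη : Small D ((2 * c + 1 : ℕ) : ℤ) (η.map (algebraMap L K)) := by
    rw [hη, Matrix.map_mul, hqiι]
    exact (sΔ.mul sV).mono (by push_cast; omega)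
  obtain ⟨y, hy, sy, hcomm⟩ := hq n (2 * c + 1) η (by omega) sη
  -- commutation
  have c1 : E₀ * Δ = Δ * E₀ := by rw [hΔ]; noncomm_ring
  have c2 : E₀ * q' = q' * E₀ := by
    rw [hqd, mul_add, add_mul, mul_add, mul_add, mul_add, add_mul, add_mul, add_mul, c1, mul_one,
      one_mul]
  have c2' : Δ * q' = q' * Δ := by rw [hqd]; noncomm_ring
  have c3 : E₀ * qi = qi * E₀ := by
    calc E₀ * qi = (qi * q') * E₀ * qi := by rw [hqiq, one_mul]
      _ = qi * (q' * E₀) * qi := by simp only [mul_assoc]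
      _ = qi * (E₀ * q') * qi := by rw [c2]
      _ = qi * E₀ * (q' * qi) := by simp only [mul_assoc]
      _ = qi * E₀ := by rw [hqqi, mul_one]
  have c4 : E₀ * η = η * E₀ := by
    rw [hη, ← mul_assoc, c1, mul_assoc, c3, mul_assoc]
  have c5 : E₀ * y = y * E₀ := hcomm E₀ c4
  have hqη : q' * η = Δ := by
    rw [hη, ← mul_assoc, ← c2', mul_assoc, hqqi, mul_one]
  obtain ⟨E₁, hE₁d⟩ : ∃ E₁, E₁ = E₀ + (E₀ + E₀ - 1) * y := ⟨_, rfl⟩
  have hE₁ : E₁ * E₁ = E₁ := by
    rw [hE₁d]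
    exact idem_algebra E₀ y Δ q' η hΔ hqd hy hqη c5
  -- `E₁` is close to `E`
  obtain ⟨E', hE'd⟩ : ∃ E', E' = E₁.map (algebraMap L K) := ⟨_, rfl⟩
  have hE'E' : E' * E' = E' := by rw [hE'd, ← Matrix.map_mul, hE₁]
  have su : Small D (-(c : ℤ)) ((E₀ + E₀ - 1).map (algebraMap L K)) := by
    rw [Matrix.map_sub (hf := map_sub _), Matrix.map_add (hf := map_add _),
      Matrix.map_one _ (map_zero _) (map_one _), hE₀ι]
    exact (((hc.add (sd₀ _ (by omega))).add (hc.add (sd₀ _ (by omega))))).sub (s1 _ (by omega))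
  have sd : Small D ((c : ℤ) + 1) (E' - E) := by
    have : E' - E = d₀ + (E₀ + E₀ - 1).map (algebraMap L K) * y.map (algebraMap L K) := by
      rw [hE'd, hE₁d, Matrix.map_add (hf := map_add _), Matrix.map_mul, hE₀ι]
      abel
    rw [this]
    exact (sd₀ _ (by omega)).add ((su.mul sy).mono (by push_cast; omega))
  have sE' : Small D (-(c : ℤ)) E' := by
    have : E' = E + (E' - E) := by abel
    rw [this]
    exact hc.add (sd.mono (by omega))
  obtain ⟨W, hW⟩ : ∃ W, W = E' * E + (1 - E') * (1 - E) := ⟨_, rfl⟩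
  have sW : Small D 1 (W - 1) := by
    rw [hW, conj_algebra_sub E E' hE'E']
    exact ((((s1 _ (by omega)).sub sE').sub sE').mul sd).mono (by omega)
  obtain ⟨⟨W', Wi, hWWi, hWiW⟩, rfl⟩ := isUnit_of_small (D := D) W sW
  simp only at hW
  obtain ⟨h1, h2⟩ := conj_algebra E E' W' Wi hE hE'E' hW hWWi hWiW
  exact ⟨E₁, Wi * E', W' * E, hE₁, by rw [h1, hE'd], h2⟩

end Descent

section ModulesIdem

variable {L K : Type u} [CommRing L] [CommRing K] [Algebra L K] (D : Data L K)

/-- the retract of `L^m` cut out by an idempotent matrix -/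
lemma exists_retract_of_idempotent {m : ℕ} (p : Matrix (Fin m) (Fin m) L) (hpp : p * p = p) :
    ∃ (Ms : Submodule L (Fin m → L)) (f₀ : (Fin m → L) →ₗ[L] Ms),
      f₀ ∘ₗ Ms.subtype = LinearMap.id ∧ LinearMap.toMatrix' (Ms.subtype ∘ₗ f₀) = p := by
  obtain ⟨Ms, hMs⟩ : ∃ Ms : Submodule L (Fin m → L), Ms = LinearMap.range (Matrix.toLin' p) :=
    ⟨_, rfl⟩
  have hpfix : ∀ y ∈ Ms, Matrix.toLin' p y = y := by
    intro y hy
    rw [hMs] at hy
    obtain ⟨z, rfl⟩ := hy
    rw [← LinearMap.comp_apply, ← Matrix.toLin'_mul, hpp]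
  have hpmem : ∀ z, Matrix.toLin' p z ∈ Ms := fun z => by
    rw [hMs]
    exact LinearMap.mem_range_self _ z
  obtain ⟨f₀, hf₀⟩ : ∃ f₀ : (Fin m → L) →ₗ[L] Ms,
      ∀ z, (f₀ z : Fin m → L) = Matrix.toLin' p z :=
    ⟨(Matrix.toLin' p).codRestrict Ms hpmem, fun z => rfl⟩
  refine ⟨Ms, f₀, ?_, ?_⟩
  · ext y : 1
    apply Subtype.ext
    rw [LinearMap.comp_apply, hf₀, Submodule.subtype_apply, hpfix _ y.2]
    rfl
  · have : Ms.subtype ∘ₗ f₀ = Matrix.toLin' p := by
      apply LinearMap.ext; intro z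
      rw [LinearMap.comp_apply, Submodule.subtype_apply, hf₀]
    rw [this, LinearMap.toMatrix'_toLin']

include D in
/-- finite projective `K`-modules descend to `L` -/
theorem exists_projective_lift (hinv : HInv D) (hq : HQ D)
    (M' : Type u) [AddCommGroup M'] [Module K M'] [Module.Finite K M'] [Module.Projective K M'] :
    ∃ (M : Type u) (_ : AddCommGroup M) (_ : Module L M), Module.Finite L M ∧
      Module.Projective L M ∧ Nonempty (K ⊗[L] M ≃ₗ[K] M') := by
  obtain ⟨n, f', g', -, -, hfg'⟩ := Module.Finite.exists_comp_eq_id_of_projective K M'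
  obtain ⟨E, hEd⟩ : ∃ E, E = LinearMap.toMatrix' (g' ∘ₗ f') := ⟨_, rfl⟩
  have hE : E * E = E := by
    rw [hEd, ← LinearMap.toMatrix'_comp]
    congr 1
    calc (g' ∘ₗ f') ∘ₗ (g' ∘ₗ f') = g' ∘ₗ (f' ∘ₗ g') ∘ₗ f' := by
          simp only [LinearMap.comp_assoc]
      _ = g' ∘ₗ f' := by rw [hfg', LinearMap.id_comp]
  obtain ⟨E₁, x, y, hE₁, hyx, hxy⟩ := exists_idempotent_descent D hinv hq E hE
  obtain ⟨Ms, f₀, hfg₀, hgf₀⟩ := exists_retract_of_idempotent E₁ hE₁
  refine ⟨Ms, inferInstance, inferInstance, ?_, ?_, ?_⟩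
  · exact Module.Finite.of_surjective f₀ (fun z => ⟨Ms.subtype z, by
      rw [← LinearMap.comp_apply, hfg₀, LinearMap.id_apply]⟩)
  · exact Module.Projective.of_split Ms.subtype f₀ hfg₀
  · exact baseChange_equiv_of_partialIso K f₀ Ms.subtype hfg₀ f' g' hfg' x y
      (by rw [hgf₀, hyx]) (by rw [hxy, hEd])

include D in
/-- idempotents of `K` come from unique idempotents of `L` -/
theorem existsUnique_idempotent_lift (hinv : HInv D) (hq : HQ D) (e : K) (he : e * e = e) :
    ∃! e₀ : L, e₀ * e₀ = e₀ ∧ algebraMap L K e₀ = e := by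
  obtain ⟨E₁, x, y, hE₁, hyx, hxy⟩ := exists_idempotent_descent D hinv hq
    (Matrix.of fun (_ _ : Fin 1) => e) (by
      refine Matrix.ext fun i j => ?_
      rw [Matrix.mul_apply, Fin.sum_univ_one]
      simp [he])
  refine ⟨E₁ 0 0, ⟨?_, ?_⟩, ?_⟩
  · have := congrFun (congrFun hE₁ 0) 0
    rwa [Matrix.mul_apply, Fin.sum_univ_one] at this
  · have h1 := congrFun (congrFun hyx 0) 0
    have h2 := congrFun (congrFun hxy 0) 0
    rw [Matrix.mul_apply, Fin.sum_univ_one] at h1 h2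
    rw [Matrix.map_apply] at h1
    rw [← h1, mul_comm, h2, Matrix.of_apply]
  · rintro e₁ ⟨he₁, he₁'⟩
    obtain ⟨e₀, he₀d⟩ : ∃ e₀, e₀ = E₁ 0 0 := ⟨_, rfl⟩
    have he₀ : e₀ * e₀ = e₀ := by
      have := congrFun (congrFun hE₁ 0) 0
      rwa [Matrix.mul_apply, Fin.sum_univ_one, ← he₀d] at this
    have he₀' : algebraMap L K e₀ = e := by
      have h1 := congrFun (congrFun hyx 0) 0
      have h2 := congrFun (congrFun hxy 0) 0
      rw [Matrix.mul_apply, Fin.sum_univ_one] at h1 h2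
      rw [Matrix.map_apply] at h1
      rw [he₀d, ← h1, mul_comm, h2, Matrix.of_apply]
    rw [← he₀d]
    obtain ⟨d, hd⟩ : ∃ d, d = e₁ - e₀ := ⟨_, rfl⟩
    have hd3 : d * (1 - d * d) = 0 := by
      rw [hd]
      linear_combination (-(e₁ + 1 - 3 * e₀)) * he₁ + (-(3 * e₁ - e₀ - 1)) * he₀
    have hdι : algebraMap L K d = 0 := by rw [hd, map_sub, he₁', he₀', sub_self]
    have hu : IsUnit (1 - d * d) := by
      apply D.isUnit_of_one_add
      refine ⟨0, D.O.zero_mem, ?_⟩
      rw [map_sub, map_one, map_mul, hdι, mul_zero, sub_zero, mul_zero, add_zero]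
    have : d = 0 := by
      obtain ⟨v, hv⟩ := hu.exists_right_inv
      calc d = d * ((1 - d * d) * v) := by rw [hv, mul_one]
        _ = (d * (1 - d * d)) * v := by rw [mul_assoc]
        _ = 0 := by rw [hd3, zero_mul]
    rw [hd, sub_eq_zero] at this
    exact this

end ModulesIdem

end Groth.Agent.Lib.Helper85.Approx
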