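import Mathlib
import Groth.Agent.Lib.Helper85.ApproxAdic
import Groth.Agent.Lib.Helper85.ApproxIdem
import Groth.Agent.Lib.Helper37.HenselHom

/-!
# `A[1/t] → Â[1/t]` for a Henselian pair `(A, tA)`: idempotent matrices descend (helper85)
-/

set_option autoImplicit false
universe u
open Polynomial
open scoped IsMulCommutative

namespace Groth.Agent.Lib.Helper85.Approx

theorem exists_quadratic_root {A : Type u} [CommRing A] (s : A)
    [HenselianRing A (Ideal.span {s})] {n : ℕ} (η' : Matrix (Fin n) (Fin n) A) :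
    ∃ y b : Matrix (Fin n) (Fin n) A, y * y + y + s • η' = 0 ∧ y = s • b ∧
      y ∈ Algebra.adjoin A ({η'} : Set (Matrix (Fin n) (Fin n) A)) := by
  classical
  have hint : Algebra.IsIntegral A (Algebra.adjoin A ({η'} : Set (Matrix (Fin n) (Fin n) A))) :=
    ⟨fun x => by
      have h1 : IsIntegral A (x : Matrix (Fin n) (Fin n) A) := Matrix.isIntegral _
      exact (isIntegral_algHom_iff (Algebra.adjoin A ({η'} : Set (Matrix (Fin n) (Fin n) A))).val
        Subtype.val_injective).1 h1⟩
  have hH := Groth.Agent.Lib.Helper37.henselianRing_map_of_isIntegral (Ideal.span {s})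
    (Algebra.adjoin A ({η'} : Set (Matrix (Fin n) (Fin n) A)))
  obtain ⟨ηS, hηS⟩ : ∃ ηS : Algebra.adjoin A ({η'} : Set (Matrix (Fin n) (Fin n) A)),
      (ηS : Matrix (Fin n) (Fin n) A) = η' :=
    ⟨⟨η', Algebra.subset_adjoin (Set.mem_singleton _)⟩, rfl⟩
  obtain ⟨f, hf⟩ : ∃ f : (Algebra.adjoin A ({η'} : Set (Matrix (Fin n) (Fin n) A)))[X],
      f = X ^ 2 + (X + C (algebraMap A _ s * ηS)) := ⟨_, rfl⟩
  have hmonic : f.Monic := by
    rw [hf]
    apply Polynomial.monic_X_pow_add
    exact lt_of_le_of_lt (degree_add_le _ _) (max_lt (lt_of_le_of_lt degree_X_le (by norm_num))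
      (lt_of_le_of_lt degree_C_le (by norm_num)))
  have h₁ : f.eval 0 ∈ (Ideal.span {s}).map
      (algebraMap A (Algebra.adjoin A ({η'} : Set (Matrix (Fin n) (Fin n) A)))) := by
    rw [hf]
    simp only [eval_add, eval_pow, eval_X, eval_C, ne_eq, OfNat.ofNat_ne_zero, not_false_eq_true,
      zero_pow, zero_add]
    exact Ideal.mul_mem_right _ _ (Ideal.mem_map_of_mem _ (Ideal.mem_span_singleton_self s))
  have h₂ : IsUnit (Ideal.Quotient.mk ((Ideal.span {s}).map
      (algebraMap A (Algebra.adjoin A ({η'} : Set (Matrix (Fin n) (Fin n) A)))))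
      (f.derivative.eval 0)) := by
    rw [hf]
    simp
  obtain ⟨yS, hroot, hmem⟩ := hH.is_henselian f hmonic 0 h₁ h₂
  rw [sub_zero, Ideal.map_span, Set.image_singleton, Ideal.mem_span_singleton] at hmem
  obtain ⟨bS, hbS⟩ := hmem
  refine ⟨(yS : Matrix (Fin n) (Fin n) A), (bS : Matrix (Fin n) (Fin n) A), ?_, ?_, yS.2⟩
  · rw [IsRoot.def, hf] at hroot
    simp only [eval_add, eval_pow, eval_X, eval_C] at hroot
    have := congrArg (Subtype.val) hroot
    simp only [Subalgebra.coe_add, Subalgebra.coe_pow, Subalgebra.coe_mul,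
      Subalgebra.coe_algebraMap, ZeroMemClass.coe_zero, hηS] at this
    rw [← this, pow_two, Algebra.smul_def]
    abel
  · rw [hbS, Subalgebra.coe_mul, Subalgebra.coe_algebraMap, Algebra.smul_def]

section AdicHens

variable {A : Type u} [CommRing A] (t : A)
  (L : Type u) [CommRing L] [Algebra A L] [IsLocalization.Away t L]
  (K : Type u) [CommRing K] [Algebra (AdicCompletion (Ideal.span {t}) A) K]
  [IsLocalization.Away (algebraMap A (AdicCompletion (Ideal.span {t}) A) t) K]
  [Algebra L K]
  (hcomp : ∀ a : A, algebraMap L K (algebraMap A L a) =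
    algebraMap (AdicCompletion (Ideal.span {t}) A) K
      (algebraMap A (AdicCompletion (Ideal.span {t}) A) a))

include hcomp in
/-- elements of `L` which are `τ^k`-small come from `t^k A` -/
lemma adic_small_lift (k : ℕ) (l : L) (ω : AdicCompletion (Ideal.span {t}) A)
    (hl : algebraMap L K l = algebraMap (AdicCompletion (Ideal.span {t}) A) K
        (algebraMap A (AdicCompletion (Ideal.span {t}) A) t) ^ k *
      algebraMap (AdicCompletion (Ideal.span {t}) A) K ω) :
    ∃ a : A, l = algebraMap A L (t ^ k * a) := by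
  obtain ⟨c, a₁, hla⟩ := IsLocalization.Away.surj t l
  have h1 : algebraMap (AdicCompletion (Ideal.span {t}) A) K
      (algebraMap A (AdicCompletion (Ideal.span {t}) A) a₁) =
      algebraMap (AdicCompletion (Ideal.span {t}) A) K
        (algebraMap A (AdicCompletion (Ideal.span {t}) A) t ^ (k + c) * ω) := by
    rw [← hcomp, ← hla, map_mul, map_pow, hcomp, hl, map_mul, map_pow, pow_add]
    ring
  obtain ⟨j, hj⟩ := IsLocalization.Away.exists_of_eq
    (algebraMap A (AdicCompletion (Ideal.span {t}) A) t) h1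
  have h2 := congrArg (AdicCompletion.evalₐ (Ideal.span {t}) (j + k + c)) hj
  have e1 : AdicCompletion.evalₐ (Ideal.span {t}) (j + k + c)
      (algebraMap A (AdicCompletion (Ideal.span {t}) A) t ^ j *
        algebraMap A (AdicCompletion (Ideal.span {t}) A) a₁) =
      Ideal.Quotient.mk _ (t ^ j * a₁) := by
    rw [← map_pow, ← map_mul, evalₐ_algebraMap]
  have e2 : AdicCompletion.evalₐ (Ideal.span {t}) (j + k + c)
      (algebraMap A (AdicCompletion (Ideal.span {t}) A) t ^ j *
        (algebraMap A (AdicCompletion (Ideal.span {t}) A) t ^ (k + c) * ω)) = 0 := by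
    have h0 : Ideal.Quotient.mk (Ideal.span {t} ^ (j + k + c)) (t ^ (j + (k + c))) = 0 := by
      rw [Ideal.Quotient.eq_zero_iff_mem, Ideal.span_singleton_pow, add_assoc]
      exact Ideal.mem_span_singleton_self _
    rw [← mul_assoc, ← pow_add, ← map_pow, map_mul, evalₐ_algebraMap, h0, zero_mul]
  rw [e1, e2, Ideal.Quotient.eq_zero_iff_mem, Ideal.span_singleton_pow,
    Ideal.mem_span_singleton] at h2
  obtain ⟨a, ha⟩ := h2
  refine ⟨a, ?_⟩
  have hT : IsUnit (algebraMap A L t) := IsLocalization.Away.algebraMap_isUnit t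
  apply ((hT.pow (j + c)).mul_left_inj).1
  calc l * algebraMap A L t ^ (j + c)
      = algebraMap A L t ^ j * (l * algebraMap A L t ^ c) := by ring
    _ = algebraMap A L (t ^ j * a₁) := by rw [hla, map_mul, map_pow]
    _ = algebraMap A L (t ^ (j + k + c) * a) := by rw [ha]
    _ = algebraMap A L (t ^ k * a) * algebraMap A L t ^ (j + c) := by
        simp only [map_mul, map_pow]
        ring

include hcomp in
lemma adic_HInv (ht : t ∈ (⊥ : Ideal A).jacobson) : HInv (adicData t ht L K hcomp) := by
  intro w hw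
  obtain ⟨ω, rfl⟩ := hw
  obtain ⟨v', hv'⟩ := (isUnit_one_add_adic t ω).exists_right_inv
  refine ⟨algebraMap (AdicCompletion (Ideal.span {t}) A) K (-(ω * v')), ⟨_, rfl⟩, ?_⟩
  show (1 + algebraMap (AdicCompletion (Ideal.span {t}) A) K
        (algebraMap A (AdicCompletion (Ideal.span {t}) A) t) *
      algebraMap (AdicCompletion (Ideal.span {t}) A) K ω) *
    (1 + algebraMap (AdicCompletion (Ideal.span {t}) A) K
        (algebraMap A (AdicCompletion (Ideal.span {t}) A) t) *
      algebraMap (AdicCompletion (Ideal.span {t}) A) K (-(ω * v'))) = 1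
  rw [← map_mul, ← map_mul, ← map_one (algebraMap (AdicCompletion (Ideal.span {t}) A) K),
    ← map_add, ← map_add, ← map_mul]
  congr 1
  linear_combination (-(algebraMap A (AdicCompletion (Ideal.span {t}) A) t * ω)) * hv'

include hcomp in
set_option maxHeartbeats 800000 in
lemma adic_HQ (ht : t ∈ (⊥ : Ideal A).jacobson) [HenselianRing A (Ideal.span {t})] :
    HQ (adicData t ht L K hcomp) := by
  intro n k η hk hη
  have h1 : ∀ i j, ∃ a : A, η i j = algebraMap A L (t ^ k * a) := by
    intro i j
    obtain ⟨w, ⟨ω, rfl⟩, e⟩ := hη i j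
    rw [Matrix.map_apply, zpow_natCast, Units.val_pow_eq_pow_val] at e
    exact adic_small_lift t L K hcomp k (η i j) ω e
  choose a ha using h1
  obtain ⟨η', hη'⟩ : ∃ η' : Matrix (Fin n) (Fin n) A, η' = Matrix.of a := ⟨_, rfl⟩
  have hle : Ideal.span {t ^ k} ≤ Ideal.span {t} := by
    rw [Ideal.span_singleton_le_span_singleton]
    exact dvd_pow_self t (by omega)
  haveI : HenselianRing A (Ideal.span {t ^ k}) :=
    Groth.Agent.Lib.Helper37.henselianRing_of_le hle
  obtain ⟨y, b, hy, hyb, hmem⟩ := exists_quadratic_root (t ^ k) η'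
  have hηmap : η = (t ^ k • η').map (algebraMap A L) := by
    refine Matrix.ext fun i j => ?_
    rw [Matrix.map_apply, Matrix.smul_apply, hη', Matrix.of_apply, smul_eq_mul, ha]
  have hT : IsUnit (algebraMap A L t) := IsLocalization.Away.algebraMap_isUnit t
  refine ⟨y.map (algebraMap A L), ?_, ?_, ?_⟩
  · have := congrArg (fun M : Matrix (Fin n) (Fin n) A => M.map (algebraMap A L)) hy
    simp only [Matrix.map_add _ (map_add _), Matrix.map_mul, Matrix.map_zero _ (map_zero _)]
      at this
    rw [hηmap]
    exact this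
  · intro i j
    refine ⟨algebraMap (AdicCompletion (Ideal.span {t}) A) K
      (algebraMap A (AdicCompletion (Ideal.span {t}) A) (b i j)), ⟨_, rfl⟩, ?_⟩
    rw [Matrix.map_apply, Matrix.map_apply, hyb, Matrix.smul_apply, smul_eq_mul, map_mul, map_pow,
      map_mul, map_pow, hcomp, hcomp, zpow_natCast, Units.val_pow_eq_pow_val]
    rfl
  · intro Z hZ
    have hZ' : Z * η'.map (algebraMap A L) = η'.map (algebraMap A L) * Z := by
      have e1 : η = algebraMap A L t ^ k • η'.map (algebraMap A L) := by
        rw [hηmap]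
        refine Matrix.ext fun i j => ?_
        rw [Matrix.map_apply, Matrix.smul_apply, Matrix.smul_apply, Matrix.map_apply, smul_eq_mul,
          smul_eq_mul, map_mul, map_pow]
      rw [e1, Matrix.mul_smul, Matrix.smul_mul] at hZ
      exact (hT.pow k).smul_left_cancel.1 hZ
    have key : ∀ s ∈ Algebra.adjoin A ({η'} : Set (Matrix (Fin n) (Fin n) A)),
        Z * s.map (algebraMap A L) = s.map (algebraMap A L) * Z := by
      intro s hs
      induction hs using Algebra.adjoin_induction with
      | mem x hx =>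
        rw [Set.mem_singleton_iff.1 hx]
        exact hZ'
      | algebraMap r =>
        have : (algebraMap A (Matrix (Fin n) (Fin n) A) r).map (algebraMap A L) =
            algebraMap L (Matrix (Fin n) (Fin n) L) (algebraMap A L r) := by
          refine Matrix.ext fun i j => ?_
          rw [Matrix.map_apply, Matrix.algebraMap_matrix_apply, Matrix.algebraMap_matrix_apply]
          split_ifs <;> simp
        rw [this]
        exact (Algebra.commutes _ _).symm
      | add x y _ _ hx hy =>
        rw [Matrix.map_add _ (map_add _), mul_add, add_mul, hx, hy]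
      | mul x y _ _ hx hy =>
        rw [Matrix.map_mul, ← mul_assoc, hx, mul_assoc, hy, mul_assoc]
    exact key y hmem


end AdicHens

end Groth.Agent.Lib.Helper85.Approx
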