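import Mathlib
import Groth.Agent.Lib.Helper85.ApproxAdicHens

/-!
# Quadratic solvability from a Henselian pair mapping to `L` (helper85)
-/

set_option autoImplicit false
universe u
open Polynomial

namespace Groth.Agent.Lib.Helper85.Approx

section Gen

variable {L K : Type u} [CommRing L] [CommRing K] [Algebra L K] (D : Data L K)

set_option maxHeartbeats 800000 in
/-- if a Henselian pair `(A₀, s)` maps to `L` with `s ↦ τ`, `A₀ → O`, and the `τ^k`-small elements
of `L` come from `s^k A₀`, then `D` has quadratic solvability -/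
theorem HQ_of_henselian {A₀ : Type u} [CommRing A₀] [Algebra A₀ L] (s : A₀)
    [HenselianRing A₀ (Ideal.span {s})]
    (hs : IsUnit (algebraMap A₀ L s))
    (hτ : algebraMap L K (algebraMap A₀ L s) = (D.τ : K))
    (hO : ∀ a : A₀, algebraMap L K (algebraMap A₀ L a) ∈ D.O)
    (hlift : ∀ (k : ℕ) (l : L), (∃ w ∈ D.O, algebraMap L K l = (D.τ : K) ^ k * w) →
      ∃ a : A₀, l = algebraMap A₀ L (s ^ k * a)) :
    HQ D := by
  intro n k η hk hη
  have h1 : ∀ i j, ∃ a : A₀, η i j = algebraMap A₀ L (s ^ k * a) := by
    intro i j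
    obtain ⟨w, hw, e⟩ := hη i j
    rw [Matrix.map_apply, zpow_natCast, Units.val_pow_eq_pow_val] at e
    exact hlift k (η i j) ⟨w, hw, e⟩
  choose a ha using h1
  obtain ⟨η', hη'⟩ : ∃ η' : Matrix (Fin n) (Fin n) A₀, η' = Matrix.of a := ⟨_, rfl⟩
  have hle : Ideal.span {s ^ k} ≤ Ideal.span {s} := by
    rw [Ideal.span_singleton_le_span_singleton]
    exact dvd_pow_self s (by omega)
  have : HenselianRing A₀ (Ideal.span {s ^ k}) :=
    Groth.Agent.Lib.Helper37.henselianRing_of_le hle
  obtain ⟨y, b, hy, hyb, hmem⟩ := exists_quadratic_root (s ^ k) η'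
  have hηmap : η = (s ^ k • η').map (algebraMap A₀ L) := by
    refine Matrix.ext fun i j => ?_
    rw [Matrix.map_apply, Matrix.smul_apply, hη', Matrix.of_apply, smul_eq_mul, ha]
  refine ⟨y.map (algebraMap A₀ L), ?_, ?_, ?_⟩
  · have := congrArg (fun M : Matrix (Fin n) (Fin n) A₀ => M.map (algebraMap A₀ L)) hy
    simp only [Matrix.map_add _ (map_add _), Matrix.map_mul, Matrix.map_zero _ (map_zero _)]
      at this
    rw [hηmap]
    exact this
  · intro i j
    refine ⟨algebraMap L K (algebraMap A₀ L (b i j)), hO _, ?_⟩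
    rw [Matrix.map_apply, Matrix.map_apply, hyb, Matrix.smul_apply, smul_eq_mul, map_mul, map_pow,
      map_mul, map_pow, hτ, zpow_natCast, Units.val_pow_eq_pow_val]
  · intro Z hZ
    have hZ' : Z * η'.map (algebraMap A₀ L) = η'.map (algebraMap A₀ L) * Z := by
      have e1 : η = algebraMap A₀ L s ^ k • η'.map (algebraMap A₀ L) := by
        rw [hηmap]
        refine Matrix.ext fun i j => ?_
        rw [Matrix.map_apply, Matrix.smul_apply, Matrix.smul_apply, Matrix.map_apply, smul_eq_mul,
          smul_eq_mul, map_mul, map_pow]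
      rw [e1, Matrix.mul_smul, Matrix.smul_mul] at hZ
      exact (hs.pow k).smul_left_cancel.1 hZ
    have key : ∀ x ∈ Algebra.adjoin A₀ ({η'} : Set (Matrix (Fin n) (Fin n) A₀)),
        Z * x.map (algebraMap A₀ L) = x.map (algebraMap A₀ L) * Z := by
      intro x hx
      induction hx using Algebra.adjoin_induction with
      | mem x hx =>
        rw [Set.mem_singleton_iff.1 hx]
        exact hZ'
      | algebraMap r =>
        have : (algebraMap A₀ (Matrix (Fin n) (Fin n) A₀) r).map (algebraMap A₀ L) =
            algebraMap L (Matrix (Fin n) (Fin n) L) (algebraMap A₀ L r) := by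
          refine Matrix.ext fun i j => ?_
          rw [Matrix.map_apply, Matrix.algebraMap_matrix_apply, Matrix.algebraMap_matrix_apply]
          split_ifs <;> simp
        rw [this]
        exact (Algebra.commutes _ _).symm
      | add x y _ _ hx hy =>
        rw [Matrix.map_add _ (map_add _), mul_add, add_mul, hx, hy]
      | mul x y _ _ hx hy =>
        rw [Matrix.map_mul, ← mul_assoc, hx, mul_assoc, hy, mul_assoc]
    exact key y hmem

end Gen

end Groth.Agent.Lib.Helper85.Approx
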