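import Mathlib
import Groth.Agent.Lib.Helper85.ApproxMod

/-!
# The approximation data for `R(t) → R((t))` (helper85)
-/

set_option autoImplicit false
universe u

open Polynomial

namespace Groth.Agent.Lib.Helper85.Approx

section Laurent

variable {R : Type u} [CommRing R]

/-- elements of the submonoid generated by `X` and `1 + X R[X]` are `X^a * g` with `g(0) = 1` -/
lemma closure_form {s : R[X]}
    (hs : s ∈ Submonoid.closure ({f : R[X] | f.coeff 0 = 1} ∪ {X})) :
    ∃ (a : ℕ) (g : R[X]), g.coeff 0 = 1 ∧ s = X ^ a * g := by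
  induction hs using Submonoid.closure_induction with
  | mem x hx =>
    rcases hx with hx | hx
    · exact ⟨0, x, hx, by simp⟩
    · rw [Set.mem_singleton_iff] at hx
      exact ⟨1, 1, by simp, by simp [hx]⟩
  | one => exact ⟨0, 1, by simp, by simp⟩
  | mul x y _ _ hx hy =>
    obtain ⟨a, g, hg, rfl⟩ := hx
    obtain ⟨b, h, hh, rfl⟩ := hy
    refine ⟨a + b, g * h, ?_, ?_⟩
    · rw [Polynomial.mul_coeff_zero, hg, hh, one_mul]
    · ring

lemma X_mem_closure :
    (X : R[X]) ∈ Submonoid.closure ({f : R[X] | f.coeff 0 = 1} ∪ {X}) :=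
  Submonoid.subset_closure (Or.inr rfl)

lemma mem_closure_of_form (a : ℕ) (g : R[X]) (hg : g.coeff 0 = 1) :
    X ^ a * g ∈ Submonoid.closure ({f : R[X] | f.coeff 0 = 1} ∪ {X}) :=
  mul_mem (_root_.pow_mem X_mem_closure a) (Submonoid.subset_closure (Or.inl hg))

/-- the image of `X` in Laurent series -/
noncomputable abbrev tauL (R : Type u) [CommRing R] : LaurentSeries R := HahnSeries.single 1 1

lemma tauL_eq : tauL R = HahnSeries.ofPowerSeries ℤ R PowerSeries.X :=
  HahnSeries.ofPowerSeries_X.symm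

lemma tauL_mul_inv : tauL R * HahnSeries.single (-1) 1 = 1 := by
  rw [tauL, HahnSeries.single_mul_single]
  simp

lemma exists_pow_mul_eq (x : LaurentSeries R) :
    ∃ (c : ℕ) (g : PowerSeries R), tauL R ^ c * x = HahnSeries.ofPowerSeries ℤ R g := by
  obtain ⟨⟨g, s⟩, hx⟩ := IsLocalization.surj (Submonoid.powers (PowerSeries.X : PowerSeries R)) x
  obtain ⟨c, hc⟩ := s.2
  refine ⟨c, g, ?_⟩
  rw [LaurentSeries.coe_algebraMap] at hx
  simp only at hx
  rw [← hx, ← hc, map_pow, tauL_eq, mul_comm]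

lemma exists_trunc_decomp (g : PowerSeries R) (n : ℕ) :
    ∃ h : PowerSeries R, g = ((PowerSeries.trunc n g : R[X]) : PowerSeries R) +
      PowerSeries.X ^ n * h := by
  have : (PowerSeries.X : PowerSeries R) ^ n ∣
      g - ((PowerSeries.trunc n g : R[X]) : PowerSeries R) := by
    rw [PowerSeries.X_pow_dvd_iff]
    intro m hm
    rw [map_sub, Polynomial.coeff_coe, PowerSeries.coeff_trunc, if_pos hm, sub_self]
  obtain ⟨h, hh⟩ := this
  exact ⟨h, by rw [← hh]; ring⟩

variable {L : Type u} [CommRing L] [Algebra R[X] L]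
    [IsLocalization (Submonoid.closure ({f : R[X] | f.coeff 0 = 1} ∪ {X})) L]
    (φ : L →+* LaurentSeries R)
    (hφ : ∀ p : R[X], φ (algebraMap R[X] L p) = HahnSeries.ofPowerSeries ℤ R (p : PowerSeries R))

include hφ in
lemma laurent_dense (x : LaurentSeries R) (k : ℕ) :
    ∃ (l : L) (h : PowerSeries R), x - φ l = tauL R ^ k * HahnSeries.ofPowerSeries ℤ R h := by
  obtain ⟨c, g, hg⟩ := exists_pow_mul_eq x
  obtain ⟨h, hh⟩ := exists_trunc_decomp g (k + c)
  obtain ⟨P, hP⟩ : ∃ P : R[X], P = PowerSeries.trunc (k + c) g := ⟨_, rfl⟩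
  rw [← hP] at hh
  have hXc : (X : R[X]) ^ c ∈ Submonoid.closure ({f : R[X] | f.coeff 0 = 1} ∪ {X}) :=
    _root_.pow_mem X_mem_closure c
  refine ⟨IsLocalization.mk' L P ⟨X ^ c, hXc⟩, h, ?_⟩
  have hX : φ (algebraMap R[X] L X) = tauL R := by
    rw [hφ, Polynomial.coe_X, tauL_eq]
  have hu : IsUnit (tauL R ^ c) := (IsUnit.of_mul_eq_one _ tauL_mul_inv).pow c
  apply hu.mul_left_cancel
  have h1 : tauL R ^ c * φ (IsLocalization.mk' L P ⟨X ^ c, hXc⟩) =
      HahnSeries.ofPowerSeries ℤ R (P : PowerSeries R) := by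
    rw [← hX, ← map_pow, ← map_mul, ← map_pow, mul_comm, IsLocalization.mk'_spec, hφ]
  rw [mul_sub, hg, h1, ← map_sub, hh, add_sub_cancel_left, map_mul, map_pow, ← tauL_eq,
    ← mul_assoc, ← pow_add, add_comm c k]

include hφ in
lemma laurent_isUnit_of_one_add (l : L) (w : PowerSeries R)
    (hl : φ l = 1 + tauL R * HahnSeries.ofPowerSeries ℤ R w) : IsUnit l := by
  obtain ⟨f, s, rfl⟩ := IsLocalization.exists_mk'_eq
    (Submonoid.closure ({f : R[X] | f.coeff 0 = 1} ∪ {X})) l
  obtain ⟨a, g, hg, hs⟩ := closure_form s.2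
  -- `f = s * (1 + X w)` as power series
  have h1 : (f : PowerSeries R) = (((s : R[X]) : R[X]) : PowerSeries R) *
      (1 + PowerSeries.X * w) := by
    apply HahnSeries.ofPowerSeries_injective (Γ := ℤ)
    rw [map_mul, map_add, map_one, map_mul, ← tauL_eq, ← hl, ← hφ, ← hφ, ← map_mul,
      mul_comm, IsLocalization.mk'_spec]
  -- so `f = X^a * f₁` with `f₁(0) = 1`
  have h2 : ∀ d < a, f.coeff d = 0 := by
    intro d hd
    rw [← Polynomial.coeff_coe, h1, hs, Polynomial.coe_mul, Polynomial.coe_pow, Polynomial.coe_X,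
      mul_assoc, PowerSeries.coeff_X_pow_mul', if_neg (by omega)]
  obtain ⟨f₁, hf₁⟩ := (Polynomial.X_pow_dvd_iff).2 h2
  have h3 : f₁.coeff 0 = 1 := by
    have : f.coeff a = 1 := by
      rw [← Polynomial.coeff_coe, h1, hs, Polynomial.coe_mul, Polynomial.coe_pow,
        Polynomial.coe_X, mul_assoc, PowerSeries.coeff_X_pow_mul', if_pos le_rfl, Nat.sub_self,
        PowerSeries.coeff_zero_eq_constantCoeff_apply, map_mul, map_add, map_one, map_mul,
        PowerSeries.constantCoeff_X, zero_mul, add_zero, mul_one,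
        ← PowerSeries.coeff_zero_eq_constantCoeff_apply, Polynomial.coeff_coe, hg]
    rw [hf₁, Polynomial.coeff_X_pow_mul' , if_pos le_rfl, Nat.sub_self] at this
    exact this
  have h4 : f ∈ Submonoid.closure ({f : R[X] | f.coeff 0 = 1} ∪ {X}) := by
    rw [hf₁]
    exact mem_closure_of_form a f₁ h3
  have h5 : IsUnit (algebraMap R[X] L f) := IsLocalization.map_units L ⟨f, h4⟩
  rw [← IsLocalization.mk'_spec L f s] at h5
  exact isUnit_of_mul_isUnit_left h5

lemma laurent_isUnit_one_add (w : PowerSeries R) :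
    IsUnit (1 + tauL R * HahnSeries.ofPowerSeries ℤ R w) := by
  have : IsUnit (1 + PowerSeries.X * w) := by
    rw [PowerSeries.isUnit_iff_constantCoeff]
    simp
  have := this.map (HahnSeries.ofPowerSeries ℤ R)
  rwa [map_add, map_one, map_mul, ← tauL_eq] at this

end Laurent

section DataL

variable {R : Type u} [CommRing R] {L : Type u} [CommRing L] [Algebra R[X] L]
    [IsLocalization (Submonoid.closure ({f : R[X] | f.coeff 0 = 1} ∪ {X})) L]
    {L' : Type u} [CommRing L'] [Algebra L L'] (e : L' ≃+* LaurentSeries R)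
    (he : ∀ p : R[X], e (algebraMap L L' (algebraMap R[X] L p)) =
      HahnSeries.ofPowerSeries ℤ R (Polynomial.coeToPowerSeries.ringHom p))

/-- the approximation data of `R(t) → R((t))` -/
noncomputable def laurentData : Data L L' where
  O := (HahnSeries.ofPowerSeries ℤ R).range.comap (e : L' →+* LaurentSeries R)
  τ := ⟨e.symm (tauL R), e.symm (HahnSeries.single (-1) 1),
    by rw [← map_mul, tauL_mul_inv, map_one], by rw [mul_comm, ← map_mul, tauL_mul_inv, map_one]⟩
  τ_mem := by
    refine ⟨PowerSeries.X, ?_⟩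
    show HahnSeries.ofPowerSeries ℤ R PowerSeries.X = e (e.symm (tauL R))
    rw [e.apply_symm_apply, tauL_eq]
  exists_pow_mul_mem := fun z => by
    obtain ⟨c, g, hg⟩ := exists_pow_mul_eq (e z)
    refine ⟨c, g, ?_⟩
    show HahnSeries.ofPowerSeries ℤ R g = e (e.symm (tauL R) ^ c * z)
    rw [map_mul, map_pow, e.apply_symm_apply, hg]
  dense := fun z k => by
    obtain ⟨l, h, hh⟩ := laurent_dense ((e : L' →+* LaurentSeries R).comp (algebraMap L L'))
      (fun p => he p) (e z) k
    refine ⟨l, e.symm (HahnSeries.ofPowerSeries ℤ R h), ⟨h, (e.apply_symm_apply _).symm⟩, ?_⟩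
    apply e.injective
    show e (z - algebraMap L L' l) = e (e.symm (tauL R) ^ k * e.symm (HahnSeries.ofPowerSeries ℤ R h))
    rw [map_sub, map_mul, map_pow, e.apply_symm_apply, e.apply_symm_apply, ← hh]
    rfl
  isUnit_of_one_add := fun l hl => by
    obtain ⟨w, ⟨w', hw'⟩, hlw⟩ := hl
    refine laurent_isUnit_of_one_add ((e : L' →+* LaurentSeries R).comp (algebraMap L L'))
      (fun p => he p) l w' ?_
    show e (algebraMap L L' l) = _
    rw [hlw, map_add, map_one, map_mul, hw']
    show 1 + e (e.symm (tauL R)) * e w = _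
    rw [e.apply_symm_apply]
    rfl
  isUnit_one_add := fun w hw => by
    obtain ⟨w', hw'⟩ := hw
    have h := (laurent_isUnit_one_add w').map (e.symm : LaurentSeries R →+* L')
    have h2 : (e.symm : LaurentSeries R →+* L') (1 + tauL R * HahnSeries.ofPowerSeries ℤ R w') =
        1 + e.symm (tauL R) * w := by
      show e.symm (1 + tauL R * HahnSeries.ofPowerSeries ℤ R w') = _
      rw [map_add, map_one, map_mul, hw']
      show 1 + e.symm (tauL R) * e.symm (e w) = _
      rw [e.symm_apply_apply]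
    rw [h2] at h
    exact h

end DataL

end Groth.Agent.Lib.Helper85.Approx
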