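import Mathlib

/-!
# Idempotents of `R((t))` are constants (helper85)
-/

set_option autoImplicit false
universe u

namespace Groth.Agent.Lib.Helper85.LaurentIdem

open PowerSeries

/-- rigidity of idempotents: two idempotents whose difference `d` has `1 - d²` a unit agree -/
lemma eq_of_idem_of_isUnit {S : Type*} [CommRing S] (e₁ e₀ : S) (h₁ : e₁ * e₁ = e₁)
    (h₀ : e₀ * e₀ = e₀) (hu : IsUnit (1 - (e₁ - e₀) * (e₁ - e₀))) : e₁ = e₀ := by
  have hd3 : (e₁ - e₀) * (1 - (e₁ - e₀) * (e₁ - e₀)) = 0 := by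
    linear_combination (-(e₁ + 1 - 3 * e₀)) * h₁ + (-(3 * e₁ - e₀ - 1)) * h₀
  obtain ⟨v, hv⟩ := hu.exists_right_inv
  have : e₁ - e₀ = 0 := by
    calc e₁ - e₀ = (e₁ - e₀) * ((1 - (e₁ - e₀) * (e₁ - e₀)) * v) := by rw [hv, mul_one]
      _ = ((e₁ - e₀) * (1 - (e₁ - e₀) * (e₁ - e₀))) * v := by rw [mul_assoc]
      _ = 0 := by rw [hd3, zero_mul]
  exact sub_eq_zero.1 this

set_option maxHeartbeats 800000 in
/-- `f² = X^N f` in `R[[X]]` forces `f = c X^N` -/
theorem eq_C_mul_X_pow_of_sq (N : ℕ) : ∀ (R : Type u) [CommRing R] (f : PowerSeries R),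
    f * f = X ^ N * f → ∃ c : R, f = C c * X ^ N := by
  induction N with
  | zero =>
    intro R _ f hf
    rw [pow_zero, one_mul] at hf
    refine ⟨constantCoeff f, ?_⟩
    rw [pow_zero, mul_one]
    have hc : constantCoeff f * constantCoeff f = constantCoeff f := by
      rw [← map_mul, hf]
    apply eq_of_idem_of_isUnit f (C (constantCoeff f)) hf (by rw [← map_mul, hc])
    rw [PowerSeries.isUnit_iff_constantCoeff]
    simp
  | succ N ih =>
    intro R _ f hf
    obtain ⟨a, ha⟩ : ∃ a, a = constantCoeff f := ⟨_, rfl⟩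
    have haa : a * a = 0 := by
      have := congrArg constantCoeff hf
      rw [map_mul, map_mul, map_pow, constantCoeff_X, zero_pow (Nat.succ_ne_zero N), zero_mul,
        ← ha] at this
      exact this
    -- reduce modulo `a`
    obtain ⟨fb, hfb⟩ : ∃ fb, fb = map (Ideal.Quotient.mk (Ideal.span {a})) f := ⟨_, rfl⟩
    have hfbb : fb * fb = X ^ (N + 1) * fb := by
      rw [hfb, ← map_mul, hf, map_mul, map_pow, map_X]
    have hfb0 : constantCoeff fb = 0 := by
      rw [hfb, ← coeff_zero_eq_constantCoeff_apply, coeff_map, coeff_zero_eq_constantCoeff_apply,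
        ← ha, Ideal.Quotient.eq_zero_iff_mem]
      exact Ideal.mem_span_singleton_self a
    obtain ⟨gb, hgb⟩ := X_dvd_iff.2 hfb0
    have hgbb : gb * gb = X ^ N * gb := by
      apply X_pow_mul_cancel (k := 2)
      have : X ^ 2 * (gb * gb) = (X * gb) * (X * gb) := by ring
      rw [this, ← hgb, hfbb, hgb]
      ring
    obtain ⟨cb, hcb⟩ := ih _ gb hgbb
    obtain ⟨c, hc⟩ := Ideal.Quotient.mk_surjective cb
    have hcc : cb * cb = cb := by
      have := congrArg (coeff (N + N)) hgbb
      rw [hcb] at this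
      have e1 : C cb * X ^ N * (C cb * X ^ N) = C (cb * cb) * X ^ (N + N) := by
        rw [map_mul, pow_add]; ring
      have e2 : X ^ N * (C cb * X ^ N) = C cb * X ^ (N + N) := by rw [pow_add]; ring
      rw [e1, e2, coeff_C_mul_X_pow, coeff_C_mul_X_pow, if_pos rfl, if_pos rfl] at this
      exact this
    obtain ⟨s, hs⟩ : ∃ s, c * c - c = a * s := by
      have : c * c - c ∈ Ideal.span {a} := by
        rw [← Ideal.Quotient.eq_zero_iff_mem, map_sub, map_mul, hc, hcc, sub_self]
      obtain ⟨s, hs⟩ := Ideal.mem_span_singleton'.1 this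
      exact ⟨s, by rw [← hs, mul_comm]⟩
    -- coefficients of `f - c X^(N+1)` are multiples of `a`
    have hcoef : ∀ n, ∃ r, coeff n (f - C c * X ^ (N + 1)) = a * r := by
      intro n
      have : coeff n (f - C c * X ^ (N + 1)) ∈ Ideal.span {a} := by
        rw [← Ideal.Quotient.eq_zero_iff_mem, ← coeff_map, map_sub, map_mul, map_pow, map_X,
          map_C, hc, ← hfb, hgb, hcb]
        have : X * (C cb * X ^ N) - C cb * X ^ (N + 1) = (0 : PowerSeries (R ⧸ Ideal.span {a})) := by
          ring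
        rw [this, map_zero]
      obtain ⟨r, hr⟩ := Ideal.mem_span_singleton'.1 this
      exact ⟨r, by rw [← hr, mul_comm]⟩
    choose r hr using hcoef
    obtain ⟨δ, hδ⟩ : ∃ δ : PowerSeries R, δ = PowerSeries.mk r := ⟨_, rfl⟩
    have hfδ : f = C c * X ^ (N + 1) + C a * δ := by
      have : f - C c * X ^ (N + 1) = C a * δ := by
        ext n
        rw [hr, coeff_C_mul, hδ, coeff_mk]
      rw [← this]; ring
    have hCaa : (C a : PowerSeries R) * C a = 0 := by rw [← map_mul, haa, map_zero]
    -- the key relation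
    have hkey : C (c * c - c) * X ^ (N + 1) + C a * (2 * C c - 1) * δ = 0 := by
      apply X_pow_mul_cancel (k := N + 1)
      rw [mul_zero]
      have h1 := hf
      rw [hfδ] at h1
      have h2 : (C c * X ^ (N + 1) + C a * δ) * (C c * X ^ (N + 1) + C a * δ) -
          X ^ (N + 1) * (C c * X ^ (N + 1) + C a * δ) =
          X ^ (N + 1) * (C (c * c - c) * X ^ (N + 1) + C a * (2 * C c - 1) * δ) +
            (C a * C a) * (δ * δ) := by
        rw [map_sub, map_mul]; ring
      rw [h1, sub_self, hCaa, zero_mul, add_zero] at h2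
      exact h2.symm
    -- `2c - 1` is a unit
    obtain ⟨v, hv⟩ : ∃ v, (2 * c - 1) * v = 1 := by
      refine ⟨(2 * c - 1) * (1 - 4 * a * s), ?_⟩
      have : (2 * c - 1) * ((2 * c - 1) * (1 - 4 * a * s)) =
          (1 + 4 * (c * c - c)) * (1 - 4 * a * s) := by ring
      rw [this, hs]
      linear_combination (-16 * s * s) * haa
    refine ⟨c - v * (c * c - c), ?_⟩
    have h3 : C a * δ = - (C (v * (c * c - c)) * X ^ (N + 1)) := by
      have h4 : C v * (C (c * c - c) * X ^ (N + 1) + C a * (2 * C c - 1) * δ) = 0 := by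
        rw [hkey, mul_zero]
      have h5 : (C v : PowerSeries R) * (2 * C c - 1) = 1 := by
        have := congrArg (C : R →+* PowerSeries R) hv
        rw [map_mul, map_sub, map_mul, map_one, map_ofNat] at this
        rw [mul_comm, this]
      have h6 : C v * (C (c * c - c) * X ^ (N + 1) + C a * (2 * C c - 1) * δ) =
          C (v * (c * c - c)) * X ^ (N + 1) + (C v * (2 * C c - 1)) * (C a * δ) := by
        rw [map_mul]; ring
      rw [h6, h5, one_mul] at h4
      exact eq_neg_of_add_eq_zero_right h4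
    rw [hfδ, h3, map_sub]
    ring

end Groth.Agent.Lib.Helper85.LaurentIdem
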