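import Mathlib
import Groth.Agent.Lib.Helper85.ApproxLaurent
import Groth.Agent.Lib.Helper85.ApproxHensGen
import Groth.Agent.Lib.Helper90.PairHzPow
import Groth.Agent.Lib.Helper85.LaurentIdem

/-!
# The approximation data for `R{t}[1/t] → R((t))` (helper85)
-/

set_option autoImplicit false
universe u
open Polynomial

namespace Groth.Agent.Lib.Helper85.Approx

section HensLaurent

variable {R : Type u} [CommRing R]

lemma algebraMap_polynomial_powerSeries (p : R[X]) :
    algebraMap R[X] (PowerSeries R) p = (p : PowerSeries R) := by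
  rw [PowerSeries.algebraMap_apply', Algebra.algebraMap_self, PowerSeries.map_id]
  rfl

variable {B : Type u} [CommRing B] [Algebra R[X] B]
  (hB : Hens2.IsPairHenselization R[X] (Ideal.span {(X : R[X])}) B)
  (ψ : B →ₐ[R[X]] PowerSeries R)

include hB in
/-- the kernel of `B → R[[t]]/(t^n)` is `t^n B` -/
lemma hens_kernel (n : ℕ) (b : B) (w : PowerSeries R) (hb : ψ b = PowerSeries.X ^ n * w) :
    ∃ b' : B, b = algebraMap R[X] B X ^ n * b' := by
  have hQ := Groth.Agent.Lib.Helper90.PairHz.quotBij_pow_of_isPairHenselization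
    (Ideal.span {(X : R[X])}) hB n
  obtain ⟨p, hp⟩ := hQ.surj b
  rw [Ideal.span_singleton_pow, Ideal.map_span, Set.image_singleton, Ideal.mem_span_singleton,
    map_pow] at hp
  obtain ⟨b₁, hb₁⟩ := hp
  have hb' : b = algebraMap R[X] B p + algebraMap R[X] B X ^ n * b₁ := by rw [← hb₁]; ring
  have h1 : (p : PowerSeries R) = PowerSeries.X ^ n * (w - ψ b₁) := by
    have := congrArg ψ hb'
    rw [map_add, map_mul, map_pow, ψ.commutes, ψ.commutes, algebraMap_polynomial_powerSeries,
      algebraMap_polynomial_powerSeries, Polynomial.coe_X, hb] at this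
    rw [mul_sub, this]
    ring
  have h2 : ∀ d < n, p.coeff d = 0 := by
    intro d hd
    rw [← Polynomial.coeff_coe, h1, PowerSeries.coeff_X_pow_mul', if_neg (by omega)]
  obtain ⟨p₁, hp₁⟩ := (Polynomial.X_pow_dvd_iff).2 h2
  exact ⟨algebraMap R[X] B p₁ + b₁, by rw [hb', hp₁, map_mul, map_pow]; ring⟩

variable (L : Type u) [CommRing L] [Algebra B L] [IsLocalization.Away (algebraMap R[X] B X) L]
  (φ : L →+* LaurentSeries R)
  (hφ : ∀ b : B, φ (algebraMap B L b) = HahnSeries.ofPowerSeries ℤ R (ψ b))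

include hφ in
lemma hens_phi_t : φ (algebraMap B L (algebraMap R[X] B X)) = tauL R := by
  rw [hφ, ψ.commutes, algebraMap_polynomial_powerSeries, Polynomial.coe_X, tauL_eq]

include hB hφ in
/-- `τ^k`-small elements of `L` come from `t^k B` -/
lemma hens_small_lift (k : ℕ) (l : L) (w : PowerSeries R)
    (hl : φ l = tauL R ^ k * HahnSeries.ofPowerSeries ℤ R w) :
    ∃ b : B, l = algebraMap B L (algebraMap R[X] B X ^ k * b) := by
  obtain ⟨c, b₁, hlb⟩ := IsLocalization.Away.surj (algebraMap R[X] B X) l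
  have h1 : ψ b₁ = PowerSeries.X ^ (k + c) * w := by
    apply HahnSeries.ofPowerSeries_injective (Γ := ℤ)
    rw [← hφ, ← hlb, map_mul, map_pow, hens_phi_t ψ L φ hφ, hl, map_mul, map_pow, ← tauL_eq,
      pow_add]
    ring
  obtain ⟨b, hb⟩ := hens_kernel hB ψ (k + c) b₁ w h1
  refine ⟨b, ?_⟩
  have hT : IsUnit (algebraMap B L (algebraMap R[X] B X)) :=
    IsLocalization.Away.algebraMap_isUnit _
  apply ((hT.pow c).mul_left_inj).1
  rw [hlb, hb, map_mul, map_mul, map_pow, map_pow, pow_add]
  ring

include hB hφ in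
lemma hens_isUnit_of_one_add (l : L) (w : PowerSeries R)
    (hl : φ l = 1 + tauL R * HahnSeries.ofPowerSeries ℤ R w) : IsUnit l := by
  obtain ⟨c, b₁, hlb⟩ := IsLocalization.Away.surj (algebraMap R[X] B X) l
  have h1 : ψ (b₁ - algebraMap R[X] B X ^ c) = PowerSeries.X ^ (c + 1) * w := by
    apply HahnSeries.ofPowerSeries_injective (Γ := ℤ)
    rw [map_sub, map_sub, ← hφ, ← hlb, map_mul, map_pow, hens_phi_t ψ L φ hφ, hl, map_pow,
      ψ.commutes, algebraMap_polynomial_powerSeries, Polynomial.coe_X, map_mul, map_pow, map_pow,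
      ← tauL_eq]
    ring
  obtain ⟨b', hb'⟩ := hens_kernel hB ψ (c + 1) _ w h1
  have hb₁ : b₁ = algebraMap R[X] B X ^ c * (1 + algebraMap R[X] B X * b') := by
    have : b₁ = (b₁ - algebraMap R[X] B X ^ c) + algebraMap R[X] B X ^ c := by ring
    rw [this, hb']
    ring
  have hjac : algebraMap R[X] B X ∈ (⊥ : Ideal B).jacobson :=
    hB.1.jac (Ideal.mem_map_of_mem _ (Ideal.mem_span_singleton_self X))
  have hu : IsUnit (1 + algebraMap R[X] B X * b') := by
    have := Ideal.mem_jacobson_bot.1 hjac b'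
    rwa [add_comm] at this
  have hT : IsUnit (algebraMap B L (algebraMap R[X] B X)) :=
    IsLocalization.Away.algebraMap_isUnit _
  have h4 : l * algebraMap B L (algebraMap R[X] B X) ^ c =
      algebraMap B L (1 + algebraMap R[X] B X * b') *
        algebraMap B L (algebraMap R[X] B X) ^ c := by
    rw [hlb, hb₁, map_mul, map_pow]
    ring
  rw [(hT.pow c).mul_left_inj] at h4
  rw [h4]
  exact hu.map _

include hφ in
lemma hens_dense (x : LaurentSeries R) (k : ℕ) :
    ∃ (l : L) (h : PowerSeries R), x - φ l = tauL R ^ k * HahnSeries.ofPowerSeries ℤ R h := by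
  obtain ⟨c, g, hg⟩ := exists_pow_mul_eq x
  obtain ⟨h, hh⟩ := exists_trunc_decomp g (k + c)
  obtain ⟨P, hP⟩ : ∃ P : R[X], P = PowerSeries.trunc (k + c) g := ⟨_, rfl⟩
  rw [← hP] at hh
  have hT : IsUnit (algebraMap B L (algebraMap R[X] B X)) :=
    IsLocalization.Away.algebraMap_isUnit _
  obtain ⟨v, hv⟩ := hT.exists_right_inv
  refine ⟨algebraMap B L (algebraMap R[X] B P) * v ^ c, h, ?_⟩
  have hu : IsUnit (tauL R ^ c) := (IsUnit.of_mul_eq_one _ tauL_mul_inv).pow c
  apply hu.mul_left_cancel
  have h1 : tauL R ^ c * φ (algebraMap B L (algebraMap R[X] B P) * v ^ c) =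
      HahnSeries.ofPowerSeries ℤ R (P : PowerSeries R) := by
    rw [← hens_phi_t ψ L φ hφ, ← map_pow, ← map_mul]
    have : algebraMap B L (algebraMap R[X] B X) ^ c * (algebraMap B L (algebraMap R[X] B P) * v ^ c)
        = algebraMap B L (algebraMap R[X] B P) := by
      calc _ = algebraMap B L (algebraMap R[X] B P) *
            (algebraMap B L (algebraMap R[X] B X) * v) ^ c := by rw [mul_pow]; ring
        _ = _ := by rw [hv, one_pow, mul_one]
    rw [this, hφ, ψ.commutes, algebraMap_polynomial_powerSeries]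
  rw [mul_sub, hg, h1, ← map_sub, hh, add_sub_cancel_left, map_mul, map_pow, ← tauL_eq,
    ← mul_assoc, ← pow_add, add_comm c k]

end HensLaurent

section DataH

variable {R : Type u} [CommRing R] {B : Type u} [CommRing B] [Algebra R[X] B]
  (hB : Hens2.IsPairHenselization R[X] (Ideal.span {(X : R[X])}) B)
  (ψ : B →ₐ[R[X]] PowerSeries R)
  (L : Type u) [CommRing L] [Algebra B L] [IsLocalization.Away (algebraMap R[X] B X) L]
  {L' : Type u} [CommRing L'] [Algebra L L'] (e : L' ≃+* LaurentSeries R)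
  (he : ∀ b : B, e (algebraMap L L' (algebraMap B L b)) = HahnSeries.ofPowerSeries ℤ R (ψ b))

/-- the approximation data of `R{t}[1/t] → R((t))` -/
noncomputable def hensLaurentData : Data L L' where
  O := (HahnSeries.ofPowerSeries ℤ R).range.comap (e : L' →+* LaurentSeries R)
  τ := ⟨e.symm (tauL R), e.symm (HahnSeries.single (-1) 1),
    by rw [← map_mul, tauL_mul_inv, map_one], by rw [mul_comm, ← map_mul, tauL_mul_inv, map_one]⟩
  τ_mem := by
    refine ⟨PowerSeries.X, ?_⟩
    show HahnSeries.ofPowerSeries ℤ R PowerSeries.X = e (e.symm (tauL R))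
    rw [e.apply_symm_apply, tauL_eq]
  exists_pow_mul_mem := fun z => by
    obtain ⟨c, g, hg⟩ := exists_pow_mul_eq (e z)
    refine ⟨c, g, ?_⟩
    show HahnSeries.ofPowerSeries ℤ R g = e (e.symm (tauL R) ^ c * z)
    rw [map_mul, map_pow, e.apply_symm_apply, hg]
  dense := fun z k => by
    obtain ⟨l, h, hh⟩ := hens_dense ψ L ((e : L' →+* LaurentSeries R).comp (algebraMap L L'))
      (fun b => he b) (e z) k
    refine ⟨l, e.symm (HahnSeries.ofPowerSeries ℤ R h), ⟨h, (e.apply_symm_apply _).symm⟩, ?_⟩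
    apply e.injective
    show e (z - algebraMap L L' l) =
      e (e.symm (tauL R) ^ k * e.symm (HahnSeries.ofPowerSeries ℤ R h))
    rw [map_sub, map_mul, map_pow, e.apply_symm_apply, e.apply_symm_apply, ← hh]
    rfl
  isUnit_of_one_add := fun l hl => by
    obtain ⟨w, ⟨w', hw'⟩, hlw⟩ := hl
    refine hens_isUnit_of_one_add hB ψ L ((e : L' →+* LaurentSeries R).comp (algebraMap L L'))
      (fun b => he b) l w' ?_
    show e (algebraMap L L' l) = _
    rw [hlw, map_add, map_one, map_mul, hw']
    show 1 + e (e.symm (tauL R)) * e w = _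
    rw [e.apply_symm_apply]
    rfl
  isUnit_one_add := fun w hw => by
    obtain ⟨w', hw'⟩ := hw
    have h := (laurent_isUnit_one_add w').map (e.symm : LaurentSeries R →+* L')
    have h2 : (e.symm : LaurentSeries R →+* L') (1 + tauL R * HahnSeries.ofPowerSeries ℤ R w') =
        1 + e.symm (tauL R) * w := by
      show e.symm (1 + tauL R * HahnSeries.ofPowerSeries ℤ R w') = _
      rw [map_add, map_one, map_mul, hw']
      show 1 + e.symm (tauL R) * e.symm (e w) = _
      rw [e.symm_apply_apply]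
    rw [h2] at h
    exact h

lemma hensLaurent_HInv : HInv (hensLaurentData hB ψ L e he) := by
  intro w hw
  obtain ⟨w', hw'⟩ := hw
  have hu : IsUnit (1 + PowerSeries.X * w') := by
    rw [PowerSeries.isUnit_iff_constantCoeff]
    simp
  obtain ⟨v', hv'⟩ := hu.exists_right_inv
  refine ⟨e.symm (HahnSeries.ofPowerSeries ℤ R (-(w' * v'))), ⟨_, (e.apply_symm_apply _).symm⟩, ?_⟩
  apply e.injective
  show e ((1 + e.symm (tauL R) * w) * (1 + e.symm (tauL R) *
    e.symm (HahnSeries.ofPowerSeries ℤ R (-(w' * v'))))) = e 1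
  rw [map_mul, map_add, map_add, map_one, map_mul, map_mul, e.apply_symm_apply,
    e.apply_symm_apply]
  have hw'' : e w = HahnSeries.ofPowerSeries ℤ R w' := hw'.symm
  rw [hw'', tauL_eq, ← map_mul, ← map_mul, ← map_one (HahnSeries.ofPowerSeries ℤ R), ← map_add,
    ← map_add, ← map_mul]
  congr 1
  linear_combination (-(PowerSeries.X * w')) * hv'

lemma hensLaurent_HQ : HQ (hensLaurentData hB ψ L e he) := by
  have hH : HenselianRing B (Ideal.span {algebraMap R[X] B X}) := by
    have := hB.1
    rwa [Ideal.map_span, Set.image_singleton] at this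
  have hτ : algebraMap L L' (algebraMap B L (algebraMap R[X] B X)) = e.symm (tauL R) := by
    apply e.injective
    rw [e.apply_symm_apply]
    exact hens_phi_t ψ L ((e : L' →+* LaurentSeries R).comp (algebraMap L L')) (fun b => he b)
  refine HQ_of_henselian (hensLaurentData hB ψ L e he) (algebraMap R[X] B X)
    (IsLocalization.Away.algebraMap_isUnit _) hτ ?_ ?_
  · intro b
    exact ⟨ψ b, (he b).symm⟩
  · intro k l hl
    obtain ⟨w, ⟨w', hw'⟩, hlw⟩ := hl
    refine hens_small_lift hB ψ L ((e : L' →+* LaurentSeries R).comp (algebraMap L L'))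
      (fun b => he b) k l w' ?_
    show e (algebraMap L L' l) = _
    rw [hlw, map_mul, map_pow, hw']
    show e (e.symm (tauL R)) ^ k * e w = _
    rw [e.apply_symm_apply]
    rfl

end DataH

section IdemConst

/-- idempotents of `L` are determined by their images in `K` -/
lemma idempotent_injective {L K : Type*} [CommRing L] [CommRing K] [Algebra L K] (D : Data L K)
    (e₀ e₁ : L) (h₀ : e₀ * e₀ = e₀) (h₁ : e₁ * e₁ = e₁)
    (h : algebraMap L K e₀ = algebraMap L K e₁) : e₀ = e₁ := by
  apply LaurentIdem.eq_of_idem_of_isUnit e₀ e₁ h₀ h₁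
  apply D.isUnit_of_one_add
  refine ⟨0, D.O.zero_mem, ?_⟩
  rw [map_sub, map_one, map_mul, map_sub, h, sub_self, mul_zero, sub_zero, mul_zero, add_zero]

variable {R : Type u} [CommRing R]

/-- idempotent Laurent series are constants -/
theorem laurent_idempotent_const (ε : LaurentSeries R) (hε : ε * ε = ε) :
    ∃ r : R, r * r = r ∧ ε = HahnSeries.ofPowerSeries ℤ R (PowerSeries.C r) := by
  obtain ⟨c, g, hg⟩ := exists_pow_mul_eq ε
  have hgg : g * g = PowerSeries.X ^ c * g := by
    apply HahnSeries.ofPowerSeries_injective (Γ := ℤ)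
    rw [map_mul, map_mul, map_pow, ← tauL_eq, ← hg]
    calc tauL R ^ c * ε * (tauL R ^ c * ε) = tauL R ^ c * (tauL R ^ c * (ε * ε)) := by ring
      _ = _ := by rw [hε]
  obtain ⟨r, hr⟩ := LaurentIdem.eq_C_mul_X_pow_of_sq c R g hgg
  have hu : IsUnit (tauL R ^ c) := (IsUnit.of_mul_eq_one _ tauL_mul_inv).pow c
  have hεr : ε = HahnSeries.ofPowerSeries ℤ R (PowerSeries.C r) := by
    apply hu.mul_left_cancel
    rw [hg, hr, map_mul, map_pow, ← tauL_eq, mul_comm]
  refine ⟨r, ?_, hεr⟩
  have h1 : HahnSeries.ofPowerSeries ℤ R (PowerSeries.C (r * r)) =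
      HahnSeries.ofPowerSeries ℤ R (PowerSeries.C r) := by
    rw [map_mul, map_mul, ← hεr, hε]
  have h2 := HahnSeries.ofPowerSeries_injective (Γ := ℤ) h1
  have h3 := congrArg PowerSeries.constantCoeff h2
  simpa using h3

end IdemConst

section IdemHens

variable {R : Type u} [CommRing R] {B : Type u} [CommRing B] [Algebra R[X] B]
  (hB : Hens2.IsPairHenselization R[X] (Ideal.span {(X : R[X])}) B)
  (L : Type u) [CommRing L] [Algebra B L] [IsLocalization.Away (algebraMap R[X] B X) L]

include hB in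
/-- idempotents of `R{t}[1/t]` are the idempotents of `R` -/
theorem hens_idempotent_const (e : L) (he : e * e = e) :
    ∃! r : R, r * r = r ∧ algebraMap B L (algebraMap R[X] B (Polynomial.C r)) = e := by
  -- the map `B → R[[X]]`
  have hle : (Ideal.span {(X : R[X])}).map (algebraMap R[X] (PowerSeries R)) ≤
      Ideal.span {(PowerSeries.X : PowerSeries R)} := by
    rw [Ideal.map_span, Set.image_singleton, algebraMap_polynomial_powerSeries, Polynomial.coe_X]
  obtain ⟨g, hg, -⟩ := hB.2 (PowerSeries R) (Ideal.span {PowerSeries.X})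
    (algebraMap R[X] (PowerSeries R)) inferInstance hle
  obtain ⟨ψ, hψ⟩ : ∃ ψ : B →ₐ[R[X]] PowerSeries R, ∀ b, ψ b = g b :=
    ⟨{ g with commutes' := fun p => RingHom.congr_fun hg p }, fun b => rfl⟩
  -- the map `L → R((X))`
  have hunit : IsUnit (((HahnSeries.ofPowerSeries ℤ R).comp (ψ : B →+* PowerSeries R))
      (algebraMap R[X] B X)) := by
    rw [RingHom.comp_apply]
    show IsUnit (HahnSeries.ofPowerSeries ℤ R (ψ (algebraMap R[X] B X)))
    rw [ψ.commutes, algebraMap_polynomial_powerSeries, Polynomial.coe_X, ← tauL_eq]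
    exact IsUnit.of_mul_eq_one _ tauL_mul_inv
  letI : Algebra L (LaurentSeries R) :=
    (IsLocalization.Away.lift (algebraMap R[X] B X) hunit).toAlgebra
  have he' : ∀ b : B, (RingEquiv.refl (LaurentSeries R))
      (algebraMap L (LaurentSeries R) (algebraMap B L b)) =
      HahnSeries.ofPowerSeries ℤ R (ψ b) := by
    intro b
    show (IsLocalization.Away.lift (algebraMap R[X] B X) hunit) (algebraMap B L b) = _
    rw [IsLocalization.Away.lift_eq]
    rfl
  have hconst : ∀ r : R, algebraMap L (LaurentSeries R)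
      (algebraMap B L (algebraMap R[X] B (Polynomial.C r))) =
      HahnSeries.ofPowerSeries ℤ R (PowerSeries.C r) := by
    intro r
    have := he' (algebraMap R[X] B (Polynomial.C r))
    rw [ψ.commutes, algebraMap_polynomial_powerSeries, Polynomial.coe_C] at this
    exact this
  obtain ⟨r, hrr, hr⟩ := laurent_idempotent_const (algebraMap L (LaurentSeries R) e)
    (by rw [← map_mul, he])
  refine ⟨r, ⟨hrr, ?_⟩, ?_⟩
  · apply idempotent_injective (hensLaurentData hB ψ L (RingEquiv.refl _) he')
    · rw [← map_mul, ← map_mul, ← map_mul, hrr]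
    · exact he
    · rw [hconst, hr]
  · rintro r' ⟨-, hr'⟩
    have h1 : HahnSeries.ofPowerSeries ℤ R (PowerSeries.C r') =
        HahnSeries.ofPowerSeries ℤ R (PowerSeries.C r) := by
      rw [← hconst, hr', hr]
    have h2 := HahnSeries.ofPowerSeries_injective (Γ := ℤ) h1
    have h3 := congrArg PowerSeries.constantCoeff h2
    simpa using h3

end IdemHens

end Groth.Agent.Lib.Helper85.Approx
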