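import Mathlib

/-! Number-theoretic lemmas for Ax's theorem (helper85): digit sums, residues mod q-1. -/

set_option autoImplicit false
open Finset BigOperators

namespace Groth.Agent.Lib.Helper85.AxNum

/-- representative of `x` mod `Q` in `[1,Q]` for `x>0`, and `0` for `x=0`. -/
def r (Q x : ℕ) : ℕ := if x = 0 then 0 else (x - 1) % Q + 1

lemma r_zero (Q : ℕ) : r Q 0 = 0 := by simp [r]

lemma r_pos {Q x : ℕ} (hx : 0 < x) : 0 < r Q x := by
  unfold r; rw [if_neg (by omega)]; omega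

lemma r_le_Q {Q : ℕ} (hQ : 0 < Q) (x : ℕ) : r Q x ≤ Q := by
  unfold r; split_ifs
  · omega
  · have := Nat.mod_lt (x-1) hQ; omega

lemma r_le (Q x : ℕ) : r Q x ≤ x := by
  unfold r; split_ifs with h
  · omega
  · have := Nat.mod_le (x-1) Q; omega

lemma r_modEq (Q x : ℕ) : r Q x ≡ x [MOD Q] := by
  unfold r; split_ifs with h
  · subst h; rfl
  · have h1 : (x - 1) % Q ≡ x - 1 [MOD Q] := Nat.mod_modEq _ _
    have h2 : (x - 1) % Q + 1 ≡ x - 1 + 1 [MOD Q] := h1.add_right 1
    have h3 : x - 1 + 1 = x := by omega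
    rwa [h3] at h2

lemma r_eq_of_modEq {Q x y : ℕ} (h : x ≡ y [MOD Q]) (hx : 0 < x) (hy : 0 < y) :
    r Q x = r Q y := by
  unfold r
  rw [if_neg (by omega), if_neg (by omega)]
  have h2 : x - 1 ≡ y - 1 [MOD Q] := by
    have h1 : x - 1 + 1 ≡ y - 1 + 1 [MOD Q] := by
      rw [Nat.sub_add_cancel hx, Nat.sub_add_cancel hy]; exact h
    exact Nat.ModEq.add_right_cancel' 1 h1
  have h3 : (x - 1) % Q = (y - 1) % Q := h2
  rw [h3]

lemma r_add_le {Q : ℕ} (hQ : 0 < Q) (a b : ℕ) : r Q (a + b) ≤ r Q a + r Q b := by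
  rcases Nat.eq_zero_or_pos a with rfl | ha
  · simp [r_zero]
  rcases Nat.eq_zero_or_pos b with rfl | hb
  · simp [r_zero]
  by_contra hlt
  push Not at hlt
  have hu : r Q a + r Q b ≡ r Q (a + b) [MOD Q] :=
    ((r_modEq Q a).add (r_modEq Q b)).trans (r_modEq Q (a + b)).symm
  have hdvd : Q ∣ r Q (a + b) - (r Q a + r Q b) := (Nat.modEq_iff_dvd' hlt.le).mp hu
  have h1 := r_pos (Q := Q) ha
  have h2 := r_le_Q hQ (a + b)
  have h3 : r Q (a + b) - (r Q a + r Q b) < Q := by omega
  have := Nat.eq_zero_of_dvd_of_lt hdvd h3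
  omega

lemma r_mul_le {Q : ℕ} (hQ : 0 < Q) (a b : ℕ) : r Q (a * b) ≤ a * r Q b := by
  induction a with
  | zero => simp [r_zero]
  | succ n ih =>
    have : (n + 1) * b = n * b + b := by ring
    rw [this]
    calc r Q (n * b + b) ≤ r Q (n * b) + r Q b := r_add_le hQ _ _
      _ ≤ n * r Q b + r Q b := by omega
      _ = (n + 1) * r Q b := by ring

lemma geom {p : ℕ} (hp : 1 < p) (f : ℕ) : (p - 1) * ∑ l ∈ range f, p ^ l + 1 = p ^ f := by
  induction f with
  | zero => simp
  | succ n ih =>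
    rw [sum_range_succ, mul_add]
    have h1 : (p - 1) * p ^ n + p ^ n = p ^ (n + 1) := by
      have : p - 1 + 1 = p := by omega
      calc (p - 1) * p ^ n + p ^ n = (p - 1 + 1) * p ^ n := by ring
        _ = p ^ (n + 1) := by rw [this, pow_succ, mul_comm]
    omega

/-- `w k` = sum of base-`p` digits. Main estimate. -/
lemma W_le {p f Q : ℕ} (hp : 1 < p) (hQ : Q + 1 = p ^ f) (hQ0 : 0 < Q) (k : ℕ) :
    (p - 1) * ∑ l ∈ range f, r Q (p ^ l * k) ≤ (Nat.digits p k).sum * Q := by
  induction k using Nat.strong_induction_on with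
  | _ k ih =>
    rcases Nat.eq_zero_or_pos k with rfl | hk
    · simp [r_zero]
    have hdig : Nat.digits p k = k % p :: Nat.digits p (k / p) := Nat.digits_def' hp hk
    have hk' : k / p < k := Nat.div_lt_self hk hp
    have IH := ih (k / p) hk'
    set a := k % p with ha
    set k' := k / p with hk'def
    have hkeq : k = a + p * k' := (Nat.mod_add_div k p).symm
    rw [hdig, List.sum_cons]
    have hterm : ∀ l, r Q (p ^ l * k) ≤ a * p ^ l + r Q (p ^ (l + 1) * k') := by
      intro l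
      have e1 : p ^ l * k = a * p ^ l + p ^ (l + 1) * k' := by
        rw [hkeq]; ring
      calc r Q (p ^ l * k) = r Q (a * p ^ l + p ^ (l + 1) * k') := by rw [e1]
        _ ≤ r Q (a * p ^ l) + r Q (p ^ (l + 1) * k') := r_add_le hQ0 _ _
        _ ≤ a * r Q (p ^ l) + r Q (p ^ (l + 1) * k') := by
            have := r_mul_le hQ0 a (p ^ l); omega
        _ ≤ a * p ^ l + r Q (p ^ (l + 1) * k') := by
            have := Nat.mul_le_mul_left a (r_le Q (p ^ l)); omega
    have hshift : ∑ l ∈ range f, r Q (p ^ (l + 1) * k') = ∑ l ∈ range f, r Q (p ^ l * k') := by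
      have h1 := Finset.sum_range_succ' (fun l => r Q (p ^ l * k')) f
      have h2 := Finset.sum_range_succ (fun l => r Q (p ^ l * k')) f
      have h3 : r Q (p ^ f * k') = r Q (p ^ 0 * k') := by
        rcases Nat.eq_zero_or_pos k' with h0 | hpos
        · rw [h0]; simp
        · apply r_eq_of_modEq
          · rw [← hQ, pow_zero, one_mul]
            have : (Q + 1) * k' = k' + Q * k' := by ring
            rw [this]
            exact Nat.add_mul_mod_self_left k' Q k'
          · positivity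
          · simpa using hpos
      beta_reduce at h1 h2
      omega
    have hsum : ∑ l ∈ range f, r Q (p ^ l * k) ≤
        a * ∑ l ∈ range f, p ^ l + ∑ l ∈ range f, r Q (p ^ l * k') := by
      calc ∑ l ∈ range f, r Q (p ^ l * k)
          ≤ ∑ l ∈ range f, (a * p ^ l + r Q (p ^ (l + 1) * k')) :=
            Finset.sum_le_sum (fun l _ => hterm l)
        _ = a * ∑ l ∈ range f, p ^ l + ∑ l ∈ range f, r Q (p ^ l * k') := by
            rw [Finset.sum_add_distrib, ← Finset.mul_sum, hshift]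
    have hg := geom hp f
    have hg' : (p - 1) * ∑ l ∈ range f, p ^ l = Q := by omega
    calc (p - 1) * ∑ l ∈ range f, r Q (p ^ l * k)
        ≤ (p - 1) * (a * ∑ l ∈ range f, p ^ l + ∑ l ∈ range f, r Q (p ^ l * k')) :=
          Nat.mul_le_mul_left _ hsum
      _ = a * ((p - 1) * ∑ l ∈ range f, p ^ l) + (p - 1) * ∑ l ∈ range f, r Q (p ^ l * k') := by
          ring
      _ ≤ a * Q + (Nat.digits p k').sum * Q := by rw [hg']; omega
      _ = (a + (Nat.digits p k').sum) * Q := by ring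


lemma r_cast (Q x : ℕ) : ((r Q x : ℕ) : ZMod Q) = (x : ZMod Q) :=
  (ZMod.natCast_eq_natCast_iff _ _ _).mpr (r_modEq Q x)

/-- Lemma D: lower bound for the sum of digit sums. -/
lemma digit_sum_bound {p f Q : ℕ} (hp : 1 < p) (hf : 0 < f) (hQ : Q + 1 = p ^ f) (hQ0 : 0 < Q)
    {ι J : Type*} [Fintype J] [DecidableEq J] (s : Finset ι) (e : ι → J → ℕ) (κ : ι → ℕ)
    (d : ℕ) (hd : 0 < d)
    (he : ∀ i ∈ s, ∑ j, e i j = d)
    (hK : Q ∣ ∑ i ∈ s, κ i)
    (hS : ∀ j, Q ∣ ∑ i ∈ s, κ i * e i j) :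
    ∃ c, (univ.filter (fun j => ∑ i ∈ s, κ i * e i j ≠ 0)).card ≤ d * c ∧
      f * (p - 1) * c ≤ ∑ i ∈ s, (Nat.digits p (κ i)).sum := by
  classical
  set S := univ.filter (fun j => ∑ i ∈ s, κ i * e i j ≠ 0) with hSdef
  set t := S.card with ht
  set X : ℕ → ℕ := fun l => ∑ i ∈ s, r Q (p ^ l * κ i) with hX
  have hXdvd : ∀ l, Q ∣ X l := by
    intro l
    rw [← ZMod.natCast_eq_zero_iff]
    simp only [hX, Nat.cast_sum, r_cast]
    rw [← Nat.cast_sum, ← Finset.mul_sum, ZMod.natCast_eq_zero_iff]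
    exact Dvd.dvd.mul_left hK _
  have hY : ∀ l, ∀ j ∈ S, Q ≤ ∑ i ∈ s, r Q (p ^ l * κ i) * e i j := by
    intro l j hj
    have hdvd : Q ∣ ∑ i ∈ s, r Q (p ^ l * κ i) * e i j := by
      rw [← ZMod.natCast_eq_zero_iff]
      simp only [Nat.cast_sum, Nat.cast_mul, r_cast]
      have h1 : ∑ x ∈ s, ((p : ZMod Q) ^ l * (κ x : ZMod Q)) * (e x j : ZMod Q)
          = (p : ZMod Q) ^ l * ((∑ x ∈ s, κ x * e x j : ℕ) : ZMod Q) := by
        rw [Nat.cast_sum, Finset.mul_sum]
        apply Finset.sum_congr rfl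
        intro x _
        push_cast
        ring
      simp only [Nat.cast_pow]
      rw [h1, (ZMod.natCast_eq_zero_iff _ _).mpr (hS j), mul_zero]
    have hpos : 0 < ∑ i ∈ s, r Q (p ^ l * κ i) * e i j := by
      have hne : ∑ i ∈ s, κ i * e i j ≠ 0 := (Finset.mem_filter.mp hj).2
      obtain ⟨i, his, hi⟩ := Finset.exists_ne_zero_of_sum_ne_zero hne
      have hk : 0 < κ i := Nat.pos_of_ne_zero (fun h => hi (by rw [h, zero_mul]))
      have he' : 0 < e i j := Nat.pos_of_ne_zero (fun h => hi (by rw [h, mul_zero]))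
      have hr : 0 < r Q (p ^ l * κ i) := r_pos (by positivity)
      calc 0 < r Q (p ^ l * κ i) * e i j := Nat.mul_pos hr he'
        _ ≤ _ := Finset.single_le_sum (f := fun i => r Q (p ^ l * κ i) * e i j)
            (fun _ _ => Nat.zero_le _) his
    exact Nat.le_of_dvd hpos hdvd
  have htQ : ∀ l, t * Q ≤ d * X l := by
    intro l
    have h1 : t * Q ≤ ∑ j ∈ S, ∑ i ∈ s, r Q (p ^ l * κ i) * e i j := by
      have := Finset.card_nsmul_le_sum S (fun j => ∑ i ∈ s, r Q (p ^ l * κ i) * e i j) Q (hY l)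
      simpa [smul_eq_mul] using this
    have h2 : ∑ j ∈ S, ∑ i ∈ s, r Q (p ^ l * κ i) * e i j
        = ∑ i ∈ s, r Q (p ^ l * κ i) * ∑ j ∈ S, e i j := by
      rw [Finset.sum_comm]
      apply Finset.sum_congr rfl
      intro i _
      rw [Finset.mul_sum]
    have h3 : ∑ i ∈ s, r Q (p ^ l * κ i) * ∑ j ∈ S, e i j ≤ ∑ i ∈ s, r Q (p ^ l * κ i) * d := by
      apply Finset.sum_le_sum
      intro i hi
      apply Nat.mul_le_mul_left
      rw [← he i hi]
      exact Finset.sum_le_sum_of_subset (Finset.subset_univ S)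
    calc t * Q ≤ _ := h1
      _ = _ := h2
      _ ≤ _ := h3
      _ = d * X l := by rw [← Finset.sum_mul, mul_comm]
  refine ⟨(t + d - 1) / d, ?_, ?_⟩
  · have := Nat.lt_mul_div_succ (t + d - 1) hd
    have h2 : d * ((t + d - 1) / d + 1) = d * ((t + d - 1) / d) + d := by ring
    omega
  · set c := (t + d - 1) / d with hc
    have hcl : ∀ l, Q * c ≤ X l := by
      intro l
      obtain ⟨cl, hcl⟩ := hXdvd l
      have h1 : t ≤ d * cl := by
        have := htQ l
        rw [hcl] at this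
        have h2 : t * Q ≤ (d * cl) * Q := by calc t * Q ≤ d * (Q * cl) := this
          _ = (d * cl) * Q := by ring
        exact Nat.le_of_mul_le_mul_right h2 hQ0
      have h2 : c ≤ cl := by
        rw [hc]
        apply Nat.lt_succ_iff.mp
        rw [Nat.div_lt_iff_lt_mul hd]
        show t + d - 1 < (cl + 1) * d
        have : (cl + 1) * d = d * cl + d := by ring
        omega
      rw [hcl]
      exact Nat.mul_le_mul_left _ h2
    have hsumX : f * (Q * c) ≤ ∑ l ∈ range f, X l := by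
      have := Finset.card_nsmul_le_sum (range f) X (Q * c) (fun l _ => hcl l)
      simpa [smul_eq_mul] using this
    have hswap : ∑ l ∈ range f, X l = ∑ i ∈ s, ∑ l ∈ range f, r Q (p ^ l * κ i) := by
      simp only [hX]
      rw [Finset.sum_comm]
    have hW : (p - 1) * ∑ i ∈ s, ∑ l ∈ range f, r Q (p ^ l * κ i)
        ≤ (∑ i ∈ s, (Nat.digits p (κ i)).sum) * Q := by
      rw [Finset.mul_sum, Finset.sum_mul]
      exact Finset.sum_le_sum (fun i _ => W_le hp hQ hQ0 (κ i))
    have hfin : (f * (p - 1) * c) * Q ≤ (∑ i ∈ s, (Nat.digits p (κ i)).sum) * Q := by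
      calc (f * (p - 1) * c) * Q = (p - 1) * (f * (Q * c)) := by ring
        _ ≤ (p - 1) * ∑ l ∈ range f, X l := Nat.mul_le_mul_left _ hsumX
        _ = (p - 1) * ∑ i ∈ s, ∑ l ∈ range f, r Q (p ^ l * κ i) := by rw [hswap]
        _ ≤ _ := hW
    exact Nat.le_of_mul_le_mul_right hfin hQ0

lemma padicValNat_prod_factorial {p : ℕ} [hp : Fact p.Prime] {ι : Type*} (s : Finset ι)
    (κ : ι → ℕ) :
    padicValNat p (∏ i ∈ s, (κ i).factorial) = ∑ i ∈ s, padicValNat p ((κ i).factorial) := by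
  classical
  induction s using Finset.induction_on with
  | empty => simp
  | insert a s ha ih =>
    rw [Finset.prod_insert ha, Finset.sum_insert ha,
      padicValNat.mul (Nat.factorial_ne_zero _)
        (Finset.prod_ne_zero_iff.mpr (fun i _ => Nat.factorial_ne_zero _)), ih]

/-- Part C: `p`-adic valuation of multinomial coefficients via Legendre. -/
lemma pow_dvd_multinomial {p : ℕ} [hp : Fact p.Prime] {ι : Type*} (s : Finset ι) (κ : ι → ℕ)
    (v : ℕ)
    (hv : (p - 1) * v + (Nat.digits p (∑ i ∈ s, κ i)).sum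
      ≤ ∑ i ∈ s, (Nat.digits p (κ i)).sum) :
    p ^ v ∣ Nat.multinomial s κ := by
  have spec := Nat.multinomial_spec s κ
  have hM : Nat.multinomial s κ ≠ 0 := (Nat.multinomial_pos s κ).ne'
  have hP : ∏ i ∈ s, (κ i).factorial ≠ 0 :=
    Finset.prod_ne_zero_iff.mpr (fun i _ => Nat.factorial_ne_zero _)
  set ν := padicValNat p (Nat.multinomial s κ) with hν
  have h1 : padicValNat p ((∑ i ∈ s, κ i).factorial)
      = (∑ i ∈ s, padicValNat p ((κ i).factorial)) + ν := by
    rw [← spec, padicValNat.mul hP hM, padicValNat_prod_factorial]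
  have hL := sub_one_mul_padicValNat_factorial (p := p) (∑ i ∈ s, κ i)
  have hLi : (p - 1) * ∑ i ∈ s, padicValNat p ((κ i).factorial)
      = (∑ i ∈ s, κ i) - ∑ i ∈ s, (Nat.digits p (κ i)).sum := by
    rw [Finset.mul_sum, ← Finset.sum_tsub_distrib s (fun i _ => Nat.digit_sum_le p (κ i))]
    exact Finset.sum_congr rfl (fun i _ => sub_one_mul_padicValNat_factorial (p := p) (κ i))
  have hB : ∑ i ∈ s, (Nat.digits p (κ i)).sum ≤ ∑ i ∈ s, κ i :=
    Finset.sum_le_sum (fun i _ => Nat.digit_sum_le p (κ i))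
  have hwK := Nat.digit_sum_le p (∑ i ∈ s, κ i)
  rw [h1, mul_add, hLi] at hL
  have hp1 : 0 < p - 1 := by have := hp.out.two_le; omega
  have hvν : (p - 1) * v ≤ (p - 1) * ν := by omega
  have hle : v ≤ ν := Nat.le_of_mul_le_mul_left hvν hp1
  exact (pow_dvd_pow p hle).trans pow_padicValNat_dvd

/-- digit sum of `(p^f - 1) * p^e` is at most `f * (p-1)`. -/
lemma digit_sum_K_le {p : ℕ} (hp : 1 < p) (f e : ℕ) :
    (Nat.digits p ((p ^ f - 1) * p ^ e)).sum ≤ f * (p - 1) := by
  have hmulp : ∀ a : ℕ, (Nat.digits p (a * p)).sum = (Nat.digits p a).sum := by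
    intro a
    rcases Nat.eq_zero_or_pos a with rfl | ha
    · simp
    · have hpos : 0 < a * p := by positivity
      rw [Nat.digits_def' hp hpos, Nat.mul_mod_left, Nat.mul_div_cancel _ (by omega)]
      simp
  induction e with
  | zero =>
    rw [pow_zero, mul_one]
    have hlen : (Nat.digits p (p ^ f - 1)).length ≤ f := by
      rw [Nat.digits_length_le_iff hp]
      have : 0 < p ^ f := by positivity
      omega
    have hle : ∀ x ∈ Nat.digits p (p ^ f - 1), x ≤ p - 1 := by
      intro x hx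
      have := Nat.digits_lt_base hp hx
      omega
    calc (Nat.digits p (p ^ f - 1)).sum ≤ (Nat.digits p (p ^ f - 1)).length • (p - 1) :=
          List.sum_le_card_nsmul _ _ hle
      _ ≤ f * (p - 1) := by rw [smul_eq_mul]; exact Nat.mul_le_mul_right _ hlen
  | succ n ih =>
    have : (p ^ f - 1) * p ^ (n + 1) = ((p ^ f - 1) * p ^ n) * p := by ring
    rw [this, hmulp]
    exact ih

end Groth.Agent.Lib.Helper85.AxNum
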