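import Mathlib
import Groth.Agent.Lib.Helper85.AxNum

/-! Ax's theorem via Teichmüller-type lifts in an abstract `p`-adic ring (helper85). -/

set_option autoImplicit false
open Finset BigOperators

namespace Groth.Agent.Lib.Helper85.AxRing
open Groth.Agent.Lib.Helper85.AxNum

section
variable {k : Type*} [Field k] [Fintype k] [DecidableEq k]
variable {R : Type*} [CommRing R] [IsDomain R]
variable (p : ℕ) [hp : Fact p.Prime] [CharP k p]
variable (τ : k →* R) (π : R →+* k)

include π in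
/-- transfer of divisibility by powers of `p` from `R` to `ℕ`. -/
lemma transfer (hp0 : (p : R) ≠ 0) (M : ℕ) : ∀ n : ℕ, (p : R) ^ M ∣ (n : R) → p ^ M ∣ n := by
  induction M with
  | zero => intro n _; simp
  | succ M ih =>
    intro n h
    have h1 : (p : R) ∣ (n : R) := dvd_trans (dvd_pow_self _ (Nat.succ_ne_zero M)) h
    obtain ⟨u, hu⟩ := h1
    have h2 : (n : k) = 0 := by
      have := congrArg π hu
      rw [map_natCast, map_mul, map_natCast, CharP.cast_eq_zero k p, zero_mul] at this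
      exact this
    have h3 : p ∣ n := (CharP.cast_eq_zero_iff k p n).mp h2
    obtain ⟨n', rfl⟩ := h3
    obtain ⟨w, hw⟩ := h
    have h4 : ((n' : ℕ) : R) = (p : R) ^ M * w := by
      have : (p : R) * (n' : R) = (p : R) * ((p : R) ^ M * w) := by
        rw [← Nat.cast_mul, hw, pow_succ]; ring
      exact mul_left_cancel₀ hp0 this
    have h5 := ih n' ⟨w, h4⟩
    rw [pow_succ, mul_comm]
    exact Nat.mul_dvd_mul_left p h5

lemma sum_eq_sum_units (g : k → R) (hg : g 0 = 0) : ∑ y : k, g y = ∑ u : kˣ, g (u : k) := by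
  classical
  let φ : kˣ ↪ k := ⟨fun x ↦ x, Units.val_injective⟩
  have h : univ.map φ = univ \ {(0 : k)} := by
    ext x
    simp only [mem_map, mem_univ, true_and, mem_sdiff, mem_singleton, φ,
      Function.Embedding.coeFn_mk]
    constructor
    · rintro ⟨u, rfl⟩; exact u.ne_zero
    · intro hx; exact ⟨Units.mk0 x hx, rfl⟩
  calc ∑ y : k, g y = ∑ y ∈ univ \ {(0 : k)}, g y := by
        rw [← sum_sdiff (subset_univ ({0} : Finset k)), sum_singleton, hg, add_zero]
    _ = ∑ u : kˣ, g (u : k) := by rw [← h, sum_map]; rfl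

/-- power sums over Teichmüller representatives -/
def T (s : ℕ) : R := ∑ y : k, τ y ^ s

lemma T_zero : T τ 0 = (Fintype.card k : R) := by
  simp [T]

include π in
lemma T_pos (hτ0 : τ 0 = 0) (hπτ : ∀ a, π (τ a) = a) {s : ℕ} (hs : 0 < s) :
    T τ s = 0 ∨ ((Fintype.card k - 1) ∣ s ∧ T τ s = ((Fintype.card k - 1 : ℕ) : R)) := by
  classical
  unfold T
  rw [sum_eq_sum_units (fun y => τ y ^ s) (by simp [hτ0, hs.ne'])]
  let ψ : kˣ →* R :=
    { toFun := fun u => τ (u : k) ^ s
      map_one' := by simp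
      map_mul' := fun a b => by simp [mul_pow] }
  by_cases hψ : ψ = 1
  · right
    have h1 : ∀ u : kˣ, τ (u : k) ^ s = 1 := fun u => by
      have := DFunLike.congr_fun hψ u
      simpa [ψ] using this
    constructor
    · rw [← FiniteField.forall_pow_eq_one_iff k s]
      intro u
      have := congrArg π (h1 u)
      rw [map_pow, hπτ, map_one] at this
      exact Units.ext (by simpa using this)
    · rw [Finset.sum_congr rfl (fun u _ => h1 u)]
      simp [Fintype.card_units]
  · left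
    exact sum_hom_units_eq_zero ψ hψ

variable {N : ℕ} (s : Finset (Fin N →₀ ℕ)) (a : (Fin N →₀ ℕ) → k)

/-- lifted form evaluated at `y` -/
def Ft (y : Fin N → R) : R := ∑ e ∈ s, τ (a e) * ∏ j, y j ^ (e j)

lemma pi_Ft (hπτ : ∀ a, π (τ a) = a) (x : Fin N → k) :
    π (Ft τ s a (fun j => τ (x j))) = ∑ e ∈ s, a e * ∏ j, x j ^ e j := by
  simp [Ft, map_sum, map_mul, map_prod, map_pow, hπτ]

lemma expand (K : ℕ) :
    ∑ x : Fin N → k, (Ft τ s a (fun j => τ (x j))) ^ K =
      ∑ κ ∈ piAntidiag s K, (Nat.multinomial s κ : R) * (∏ e ∈ s, τ (a e) ^ κ e) *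
        ∏ j, T τ (∑ e ∈ s, κ e * e j) := by
  classical
  have h1 : ∀ x : Fin N → k, (Ft τ s a (fun j => τ (x j))) ^ K =
      ∑ κ ∈ piAntidiag s K, (Nat.multinomial s κ : R) * (∏ e ∈ s, τ (a e) ^ κ e) *
        ∏ j, τ (x j) ^ (∑ e ∈ s, κ e * e j) := by
    intro x
    unfold Ft
    rw [Finset.sum_pow_eq_sum_piAntidiag]
    apply Finset.sum_congr rfl
    intro κ _
    rw [mul_assoc]
    congr 1
    simp_rw [mul_pow, Finset.prod_mul_distrib]
    congr 1
    simp_rw [← Finset.prod_pow, ← pow_mul]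
    rw [Finset.prod_comm]
    apply Finset.prod_congr rfl
    intro j _
    rw [Finset.prod_pow_eq_pow_sum]
    congr 1
    apply Finset.sum_congr rfl
    intros; ring
  simp_rw [h1]
  rw [Finset.sum_comm]
  apply Finset.sum_congr rfl
  intro κ _
  rw [← Finset.mul_sum]
  congr 1
  unfold T
  rw [Fintype.prod_sum]


include π in
lemma G_congr (hπτ : ∀ a, π (τ a) = a) (hker : ∀ x, π x = 0 → (p : R) ∣ x)
    {f : ℕ} (hf : 0 < f) (hq : Fintype.card k = p ^ f) (m : ℕ) (x : Fin N → k) :
    (p : R) ^ (m + 1) ∣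
      (Ft τ s a (fun j => τ (x j))) ^ ((Fintype.card k - 1) * (Fintype.card k) ^ m)
      - (if (∑ e ∈ s, a e * ∏ j, x j ^ e j) = 0 then 0 else 1) := by
  set z := Ft τ s a (fun j => τ (x j)) with hz
  set c := ∑ e ∈ s, a e * ∏ j, x j ^ e j with hc
  have hπz : π z = c := pi_Ft τ π s a hπτ x
  have hq2 : 2 ≤ Fintype.card k := by
    rw [hq]
    calc 2 ≤ p := hp.out.two_le
      _ = p ^ 1 := (pow_one p).symm
      _ ≤ p ^ f := Nat.pow_le_pow_right hp.out.pos hf
  split_ifs with h0
  · rw [sub_zero]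
    have hpz : (p : R) ∣ z := hker z (by rw [hπz, h0])
    have hK : m + 1 ≤ (Fintype.card k - 1) * (Fintype.card k) ^ m := by
      have h1 : m < 2 ^ m := Nat.lt_two_pow_self
      have h2 : 2 ^ m ≤ (Fintype.card k) ^ m := Nat.pow_le_pow_left hq2 m
      have h3 : 1 ≤ Fintype.card k - 1 := by omega
      calc m + 1 ≤ (Fintype.card k) ^ m := by omega
        _ = 1 * (Fintype.card k) ^ m := (one_mul _).symm
        _ ≤ _ := Nat.mul_le_mul_right _ h3
    exact (pow_dvd_pow _ hK).trans (pow_dvd_pow_of_dvd hpz _)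
  · have h1 : (p : R) ∣ z - τ c := hker _ (by rw [map_sub, hπz, hπτ, sub_self])
    have h2 := dvd_sub_pow_of_dvd_sub h1 (f * m)
    have h3 : p ^ (f * m) = (Fintype.card k) ^ m := by rw [hq, pow_mul]
    rw [h3] at h2
    have h4 : τ c ^ (Fintype.card k) ^ m = τ c := by
      rw [← map_pow, FiniteField.pow_card_pow]
    rw [h4] at h2
    have h5 : z ^ (Fintype.card k) ^ m - τ c ∣
        (z ^ (Fintype.card k) ^ m) ^ (Fintype.card k - 1) - (τ c) ^ (Fintype.card k - 1) :=
      sub_dvd_pow_sub_pow _ _ _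
    have h6 : τ c ^ (Fintype.card k - 1) = 1 := by
      rw [← map_pow, FiniteField.pow_card_sub_one_eq_one c h0, map_one]
    rw [h6, ← pow_mul, mul_comm] at h5
    have h7 : (p : R) ^ (m + 1) ∣ (p : R) ^ (f * m + 1) := pow_dvd_pow _ (by nlinarith)
    exact h7.trans (h2.trans h5)

include π in
lemma term_dvd (hτ0 : τ 0 = 0) (hπτ : ∀ a, π (τ a) = a)
    {f : ℕ} (hf : 0 < f) (hq : Fintype.card k = p ^ f) (d j : ℕ) (hd : 0 < d) (hj : j * d < N)
    (hs : ∀ e ∈ s, ∑ i, e i = d) (m : ℕ) (κ : (Fin N →₀ ℕ) → ℕ)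
    (hκ : κ ∈ piAntidiag s ((Fintype.card k - 1) * (Fintype.card k) ^ m)) :
    (p : R) ^ (f * j) ∣ (Nat.multinomial s κ : R) * (∏ e ∈ s, τ (a e) ^ κ e) *
        ∏ j', T τ (∑ e ∈ s, κ e * e j') := by
  classical
  have hq2 : 2 ≤ Fintype.card k := by
    rw [hq]
    calc 2 ≤ p := hp.out.two_le
      _ = p ^ 1 := (pow_one p).symm
      _ ≤ p ^ f := Nat.pow_le_pow_right hp.out.pos hf
  have hQ0 : 0 < Fintype.card k - 1 := by omega
  have hQ : (Fintype.card k - 1) + 1 = p ^ f := by omega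
  have hsum : ∑ e ∈ s, κ e = (Fintype.card k - 1) * (Fintype.card k) ^ m :=
    (mem_piAntidiag.mp hκ).1
  by_cases hall : ∃ j', T τ (∑ e ∈ s, κ e * e j') = 0
  · obtain ⟨j', hj'⟩ := hall
    rw [Finset.prod_eq_zero (mem_univ j') hj', mul_zero]
    exact dvd_zero _
  push Not at hall
  have hfact : ∀ j', (∑ e ∈ s, κ e * e j' = 0 ∧
        T τ (∑ e ∈ s, κ e * e j') = (Fintype.card k : R)) ∨
      (∑ e ∈ s, κ e * e j' ≠ 0 ∧ (Fintype.card k - 1) ∣ ∑ e ∈ s, κ e * e j') := by
    intro j'
    rcases Nat.eq_zero_or_pos (∑ e ∈ s, κ e * e j') with h0 | hpos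
    · left; exact ⟨h0, by rw [h0, T_zero]⟩
    · right
      rcases T_pos τ π hτ0 hπτ hpos with h | ⟨h, _⟩
      · exact absurd h (hall j')
      · exact ⟨hpos.ne', h⟩
  have hSdvd : ∀ j', (Fintype.card k - 1) ∣ ∑ e ∈ s, κ e * e j' := by
    intro j'
    rcases hfact j' with ⟨h0, _⟩ | ⟨_, h⟩
    · rw [h0]; exact dvd_zero _
    · exact h
  have hKdvd : (Fintype.card k - 1) ∣ ∑ e ∈ s, κ e := by rw [hsum]; exact dvd_mul_right _ _
  obtain ⟨c, hc1, hc2⟩ := digit_sum_bound hp.out.one_lt hf hQ hQ0 s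
    (fun (e : Fin N →₀ ℕ) (j' : Fin N) => e j') κ d hd hs hKdvd hSdvd
  set S := univ.filter (fun j' : Fin N => ∑ e ∈ s, κ e * e j' ≠ 0) with hS
  set t := S.card with ht
  have htN : t ≤ N := by
    have := Finset.card_le_univ S
    simpa using this
  have hprodT : (Fintype.card k : R) ^ (N - t) ∣ ∏ j', T τ (∑ e ∈ s, κ e * e j') := by
    have h1 : ∏ j' ∈ Sᶜ, T τ (∑ e ∈ s, κ e * e j') = ∏ j' ∈ Sᶜ, (Fintype.card k : R) := by
      apply Finset.prod_congr rfl
      intro j' hj'
      have hnot : ¬ (∑ e ∈ s, κ e * e j' ≠ 0) := by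
        intro hne
        have : j' ∈ S := Finset.mem_filter.mpr ⟨mem_univ _, hne⟩
        exact (Finset.mem_compl.mp hj') this
      rcases hfact j' with ⟨_, hT⟩ | ⟨hne, _⟩
      · exact hT
      · exact absurd hne hnot
    rw [Finset.prod_const, Finset.card_compl, Fintype.card_fin] at h1
    rw [← h1]
    exact Finset.prod_dvd_prod_of_subset _ _ _ (Finset.subset_univ _)
  have hqR : (Fintype.card k : R) = (p : R) ^ f := by rw [hq]; push_cast; rfl
  have hfinal : ∀ v, p ^ v ∣ Nat.multinomial s κ → f * j ≤ v + f * (N - t) →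
      (p : R) ^ (f * j) ∣ (Nat.multinomial s κ : R) * (∏ e ∈ s, τ (a e) ^ κ e) *
        ∏ j', T τ (∑ e ∈ s, κ e * e j') := by
    intro v hv hle
    have h1 : (p : R) ^ v ∣ (Nat.multinomial s κ : R) := by
      have := Nat.cast_dvd_cast (α := R) hv
      simpa using this
    have h2 : (p : R) ^ (f * (N - t)) ∣ ∏ j', T τ (∑ e ∈ s, κ e * e j') := by
      rw [pow_mul, ← hqR]; exact hprodT
    calc (p : R) ^ (f * j) ∣ (p : R) ^ (v + f * (N - t)) := pow_dvd_pow _ hle
      _ = (p : R) ^ v * (p : R) ^ (f * (N - t)) := pow_add _ _ _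
      _ ∣ _ := mul_dvd_mul (Dvd.dvd.mul_right h1 _) h2
  have hjN : j ≤ N := by
    have : j * 1 ≤ j * d := Nat.mul_le_mul_left j hd
    omega
  rcases Nat.eq_zero_or_pos c with hc0 | hcpos
  · -- c = 0, so t = 0
    have ht0 : t = 0 := by rw [hc0, mul_zero] at hc1; omega
    apply hfinal 0 (by simp)
    rw [ht0, zero_add, Nat.sub_zero]
    exact Nat.mul_le_mul_left f hjN
  · obtain ⟨c', rfl⟩ : ∃ c', c = c' + 1 := ⟨c - 1, by omega⟩
    have hKform : (Fintype.card k - 1) * (Fintype.card k) ^ m = (p ^ f - 1) * p ^ (f * m) := by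
      rw [hq, pow_mul]
    have hwK : (Nat.digits p (∑ e ∈ s, κ e)).sum ≤ f * (p - 1) := by
      rw [hsum, hKform]; exact digit_sum_K_le hp.out.one_lt f (f * m)
    apply hfinal (f * c')
    · apply pow_dvd_multinomial
      have : (p - 1) * (f * c') + f * (p - 1) = f * (p - 1) * (c' + 1) := by ring
      omega
    · rw [← Nat.mul_add]
      apply Nat.mul_le_mul_left
      by_contra hlt
      push Not at hlt
      -- c' + (N - t) < j
      have h1 : d * (c' + 1 + (N - t)) ≤ d * j := Nat.mul_le_mul_left d (by omega)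
      have h2 : N - t ≤ d * (N - t) := Nat.le_mul_of_pos_left _ hd
      have h3 : d * (c' + 1 + (N - t)) = d * (c' + 1) + d * (N - t) := by ring
      have h4 : d * j = j * d := mul_comm _ _
      omega


include π in
theorem ax_abstract (hτ0 : τ 0 = 0) (hπτ : ∀ a, π (τ a) = a)
    (hker : ∀ x, π x = 0 → (p : R) ∣ x) (hp0 : (p : R) ≠ 0) (d j : ℕ) (hd : 0 < d)
    (F : MvPolynomial (Fin N) k) (hF : F.IsHomogeneous d) (hj : j * d < N) :
    Fintype.card k ^ j ∣ Fintype.card {x : Fin N → k // MvPolynomial.eval x F = 0} := by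
  classical
  obtain ⟨f, hf, hq⟩ : ∃ f, 0 < f ∧ Fintype.card k = p ^ f := by
    obtain ⟨n, hn, hcard⟩ := FiniteField.card k p
    exact ⟨n, n.pos, hcard⟩
  have hs : ∀ e ∈ F.support, ∑ i, e i = d := by
    intro e he
    have h1 : F.coeff e ≠ 0 := MvPolynomial.mem_support_iff.mp he
    by_contra hne
    apply h1
    apply hF.coeff_eq_zero
    rw [Finsupp.degree_eq_sum]
    exact hne
  have hev : ∀ x : Fin N → k, MvPolynomial.eval x F
      = ∑ e ∈ F.support, F.coeff e * ∏ j, x j ^ e j := fun x => MvPolynomial.eval_eq' x F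
  have hjN : j ≤ N := by
    have : j * 1 ≤ j * d := Nat.mul_le_mul_left j hd
    omega
  have hqR : (Fintype.card k : R) = (p : R) ^ f := by rw [hq]; push_cast; rfl
  have hdiv : (p : R) ^ (f * j) ∣
      ((Fintype.card {x : Fin N → k // MvPolynomial.eval x F = 0} : ℕ) : R) := by
    have hZ : ((Fintype.card {x : Fin N → k // MvPolynomial.eval x F = 0} : ℕ) : R)
        = (Fintype.card k : R) ^ N
          - ∑ x : Fin N → k, (Ft τ F.support (fun e => F.coeff e) (fun j => τ (x j))) ^
              ((Fintype.card k - 1) * (Fintype.card k) ^ (f * j))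
          + ∑ x : Fin N → k, ((Ft τ F.support (fun e => F.coeff e) (fun j => τ (x j))) ^
              ((Fintype.card k - 1) * (Fintype.card k) ^ (f * j))
              - (if (∑ e ∈ F.support, F.coeff e * ∏ j, x j ^ e j) = 0 then (0 : R) else 1)) := by
      rw [Fintype.card_subtype, Finset.card_filter]
      push_cast
      rw [Finset.sum_sub_distrib]
      have h1 : ∑ x : Fin N → k,
          (if (∑ e ∈ F.support, F.coeff e * ∏ j, x j ^ e j) = 0 then (0 : R) else 1)
          = (Fintype.card k : R) ^ N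
            - ∑ x : Fin N → k, (if MvPolynomial.eval x F = 0 then (1 : R) else 0) := by
        rw [eq_sub_iff_add_eq, ← Finset.sum_add_distrib]
        have h2 : ∀ x : Fin N → k,
            (if (∑ e ∈ F.support, F.coeff e * ∏ j, x j ^ e j) = 0 then (0 : R) else 1)
            + (if MvPolynomial.eval x F = 0 then (1 : R) else 0) = 1 := by
          intro x
          rw [hev x]
          split_ifs <;> simp
        rw [Finset.sum_congr rfl (fun x _ => h2 x)]
        simp
      rw [h1]
      ring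
    rw [hZ]
    apply dvd_add (dvd_sub _ _) _
    · rw [hqR, ← pow_mul]
      exact pow_dvd_pow _ (Nat.mul_le_mul_left f hjN)
    · rw [expand]
      apply Finset.dvd_sum
      intro κ hκ
      exact term_dvd p τ π F.support (fun e => F.coeff e) hτ0 hπτ hf hq d j hd hj hs (f * j) κ hκ
    · apply Finset.dvd_sum
      intro x _
      have h1 := G_congr p τ π F.support (fun e => F.coeff e) hπτ hker hf hq (f * j) x
      exact (pow_dvd_pow _ (Nat.le_succ _)).trans h1
  have := transfer p π hp0 (f * j) _ hdiv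
  rw [hq, ← pow_mul]
  exact this

end

section Witt

open WittVector

/-- **Ax's theorem** (weak form `q^j ∣ #zeros` for `j d < N`). -/
theorem ax {k : Type*} [Field k] [Fintype k] [DecidableEq k] (N d j : ℕ) (hd : 0 < d)
    (F : MvPolynomial (Fin N) k) (hF : F.IsHomogeneous d) (hj : j * d < N) :
    Fintype.card k ^ j ∣ Fintype.card {x : Fin N → k // MvPolynomial.eval x F = 0} := by
  obtain ⟨p, hchar⟩ := CharP.exists k
  haveI : Fact p.Prime := ⟨CharP.char_is_prime k p⟩
  haveI : PerfectRing k p := PerfectRing.ofFiniteOfIsReduced p k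
  refine ax_abstract (R := WittVector p k) p (WittVector.teichmuller p) WittVector.constantCoeff
    (WittVector.teichmuller_zero p) (fun a => WittVector.teichmuller_coeff_zero p a) ?_
    (WittVector.p_nonzero p k) d j hd F hF hj
  intro x hx
  have : x ∈ Ideal.span {(p : WittVector p k)} :=
    (WittVector.mem_span_p_iff_coeff_zero_eq_zero x).mpr hx
  exact Ideal.mem_span_singleton.mp this

end Witt

end Groth.Agent.Lib.Helper85.AxRing
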