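import Mathlib
import Groth.Prelude.Def_DeRham
import Groth.Agent.Lib.Helper77.DeRhamGen

/-!
# Contraction on exterior powers and Cartan's formula on the generators `DeRham.gen`
-/

set_option linter.unusedSectionVars false
universe v u

namespace Groth.Agent.Lib.Helper85.DRCont

open exteriorPower

section Cont

variable {B : Type u} [CommRing B] {M : Type u} [AddCommGroup M] [Module B M]

/-- contraction with a linear functional. -/
noncomputable def cont (e : M →ₗ[B] B) (q : ℕ) : ↥(⋀[B]^(q + 1) M) →ₗ[B] ↥(⋀[B]^q M) :=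
  alternatingMapLinearEquiv (AlternatingMap.alternatizeUncurryFin
    (LinearMap.smulRight e (ιMulti B q)))

theorem cont_ιMulti (e : M →ₗ[B] B) (q : ℕ) (v : Fin (q + 1) → M) :
    cont e q (ιMulti B (q + 1) v) =
      ∑ a : Fin (q + 1), (-1 : ℤ) ^ (a : ℕ) • (e (v a) • ιMulti B q (a.removeNth v)) := by
  rw [cont, alternatingMapLinearEquiv_apply_ιMulti, AlternatingMap.alternatizeUncurryFin_apply]
  rfl

theorem cont_ιMulti_cons (e : M →ₗ[B] B) (q : ℕ) (x : M) (w : Fin (q + 1) → M) :
    cont e (q + 1) (ιMulti B (q + 2) (Fin.cons x w)) =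
      e x • ιMulti B (q + 1) w -
      ∑ a : Fin (q + 1), (-1 : ℤ) ^ (a : ℕ) •
        (e (w a) • ιMulti B (q + 1) (Fin.cons x (a.removeNth w))) := by
  rw [cont_ιMulti, Fin.sum_univ_succ]
  simp only [Fin.val_zero, pow_zero, one_smul, Fin.cons_zero, Fin.removeNth_zero,
    Fin.val_succ, Fin.cons_succ, Fin.tail_cons]
  rw [sub_eq_add_neg, ← Finset.sum_neg_distrib]
  congr 1
  apply Finset.sum_congr rfl
  intro a _
  rw [pow_succ, mul_neg, mul_one, neg_smul]
  congr 3
  have := Fin.cons_comp_succ_succAbove x w a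
  exact congrArg _ this

theorem cont_ιMulti_one (e : M →ₗ[B] B) (v : Fin 1 → M) :
    cont e 0 (ιMulti B 1 v) = e (v 0) • ιMulti B 0 (Fin.removeNth 0 v) := by
  rw [cont_ιMulti]
  simp

theorem neg_one_pow_smul_cons_removeNth (p : ℕ) (w : Fin (p + 1) → M) (a : Fin (p + 1)) (x : M) :
    (-1 : ℤ) ^ (a : ℕ) • ιMulti B (p + 1) (Fin.cons x (a.removeNth w)) =
      ιMulti B (p + 1) (Function.update w a x) := by
  have h := AlternatingMap.neg_one_pow_smul_map_insertNth
    (ιMulti B (p + 1) (M := M)) a x (a.removeNth w)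
  rw [Fin.insertNth_removeNth] at h
  have h' : ιMulti B (p + 1) (Fin.cons x (a.removeNth w)) =
      (-1 : ℤ) ^ (a : ℕ) • ιMulti B (p + 1) (Function.update w a x) := h.symm
  rw [h', smul_smul, ← pow_add, Even.neg_one_pow ⟨_, rfl⟩, one_smul]

end Cont

section Cartan

variable {R : Type v} {B M : Type u} [CommRing R] [CommRing B] [Algebra R B]
  [AddCommGroup M] [Module B M] [Module R M] [IsScalarTower R B M]

theorem gen_smul (δ : Derivation R B M) (p : ℕ) (c b₀ : B) (b : Fin p → B) :
    DeRham.gen δ p (c * b₀) b = c • DeRham.gen δ p b₀ b := by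
  unfold DeRham.gen
  rw [mul_smul]

theorem gen_add_left (δ : Derivation R B M) (p : ℕ) (b₀ b₀' : B) (b : Fin p → B) :
    DeRham.gen δ p (b₀ + b₀') b = DeRham.gen δ p b₀ b + DeRham.gen δ p b₀' b := by
  unfold DeRham.gen
  rw [add_smul]

theorem gen_update_add (δ : Derivation R B M) (p : ℕ) (b₀ : B) (b : Fin p → B) (a : Fin p)
    (x y : B) :
    DeRham.gen δ p b₀ (Function.update b a (x + y)) =
      DeRham.gen δ p b₀ (Function.update b a x) + DeRham.gen δ p b₀ (Function.update b a y) := by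
  classical
  unfold DeRham.gen
  have h : ∀ z, (fun i => δ (Function.update b a z i)) =
      Function.update (fun i => δ (b i)) a (δ z) := by
    intro z
    funext j
    by_cases hj : j = a
    · subst hj; simp
    · simp [Function.update_of_ne hj]
  rw [h, h, h, map_add, AlternatingMap.map_update_add, smul_add]

theorem gen_update_nsmul (δ : Derivation R B M) (p : ℕ) (b₀ : B) (b : Fin p → B) (a : Fin p)
    (k : ℕ) :
    DeRham.gen δ p b₀ (Function.update b a (k • b a)) = k • DeRham.gen δ p b₀ b := by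
  classical
  unfold DeRham.gen
  have h : (fun i => δ (Function.update b a (k • b a) i)) =
      Function.update (fun i => δ (b i)) a ((k : B) • δ (b a)) := by
    funext j
    by_cases hj : j = a
    · subst hj
      simp [Nat.cast_smul_eq_nsmul]
    · simp [Function.update_of_ne hj]
  rw [h, AlternatingMap.map_update_smul, Function.update_eq_self, smul_comm,
    Nat.cast_smul_eq_nsmul]

variable (δ : Derivation R B M) (d : ∀ p : ℕ, ↥(⋀[B]^p M) →ₗ[R] ↥(⋀[B]^(p + 1) M))
  (e : M →ₗ[B] B)

theorem cartan_gen_zero (hd : DeRham.IsRule δ d) (b₀ : B) (b : Fin 0 → B) :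
    cont e 0 (d 0 (DeRham.gen δ 0 b₀ b)) = DeRham.gen δ 0 (e (δ b₀)) b := by
  rw [hd 0 b₀ b, cont_ιMulti_one]
  unfold DeRham.gen
  simp only [Fin.cons_zero]
  congr 2

theorem removeNth_comp (p : ℕ) (b : Fin (p + 1) → B) (a : Fin (p + 1)) :
    (a.removeNth fun i => δ (b i)) = fun i => δ ((a.removeNth b) i) := rfl

/-- Cartan's formula on generators (Lie derivative along the vector field dual to `e`). -/
theorem cartan_gen (hd : DeRham.IsRule δ d) (p : ℕ) (b₀ : B) (b : Fin (p + 1) → B) :
    d p (cont e p (DeRham.gen δ (p + 1) b₀ b)) +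
      cont e (p + 1) (d (p + 1) (DeRham.gen δ (p + 1) b₀ b)) =
      DeRham.gen δ (p + 1) (e (δ b₀)) b +
        ∑ a : Fin (p + 1), DeRham.gen δ (p + 1) b₀ (Function.update b a (e (δ (b a)))) := by
  classical
  set w : Fin (p + 1) → M := fun i => δ (b i) with hw
  -- term 2
  have h2 : cont e (p + 1) (d (p + 1) (DeRham.gen δ (p + 1) b₀ b)) =
      DeRham.gen δ (p + 1) (e (δ b₀)) b -
        ∑ a : Fin (p + 1), (-1 : ℤ) ^ (a : ℕ) •
          (e (w a) • ιMulti B (p + 1) (Fin.cons (δ b₀) (a.removeNth w))) := by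
    rw [hd (p + 1) b₀ b, cont_ιMulti_cons]
    rfl
  -- term 1
  have h1 : d p (cont e p (DeRham.gen δ (p + 1) b₀ b)) =
      ∑ a : Fin (p + 1), (-1 : ℤ) ^ (a : ℕ) •
        (b₀ • ιMulti B (p + 1) (Fin.cons (δ (e (w a))) (a.removeNth w)) +
          e (w a) • ιMulti B (p + 1) (Fin.cons (δ b₀) (a.removeNth w))) := by
    have e1 : cont e p (DeRham.gen δ (p + 1) b₀ b) =
        ∑ a : Fin (p + 1), (-1 : ℤ) ^ (a : ℕ) •
          DeRham.gen δ p (b₀ * e (w a)) (a.removeNth b) := by
      unfold DeRham.gen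
      rw [map_smul, cont_ιMulti, Finset.smul_sum]
      apply Finset.sum_congr rfl
      intro a _
      rw [smul_comm, mul_smul]
      rfl
    rw [e1, map_sum]
    apply Finset.sum_congr rfl
    intro a _
    rw [map_zsmul, hd p]
    congr 1
    have e2 : (Fin.cons (δ (b₀ * e (w a))) (fun i => δ (a.removeNth b i)) : Fin (p + 1) → M) =
        Function.update (Fin.cons (δ b₀) (a.removeNth w) : Fin (p + 1) → M) 0
          (b₀ • δ (e (w a)) + e (w a) • δ b₀) := by
      rw [Fin.update_cons_zero, Derivation.leibniz]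
      rfl
    rw [e2, AlternatingMap.map_update_add, AlternatingMap.map_update_smul,
      AlternatingMap.map_update_smul, Fin.update_cons_zero, Fin.update_cons_zero]
  rw [h1, h2]
  simp only [smul_add, Finset.sum_add_distrib]
  have h3 : ∀ a : Fin (p + 1), (-1 : ℤ) ^ (a : ℕ) •
      b₀ • ιMulti B (p + 1) (Fin.cons (δ (e (w a))) (a.removeNth w)) =
      DeRham.gen δ (p + 1) b₀ (Function.update b a (e (δ (b a)))) := by
    intro a
    rw [smul_comm, neg_one_pow_smul_cons_removeNth]
    unfold DeRham.gen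
    congr 2
    funext j
    by_cases hj : j = a
    · subst hj; simp [hw]
    · simp [Function.update_of_ne hj, hw]
  simp only [h3]
  abel

end Cartan

end Groth.Agent.Lib.Helper85.DRCont
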