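import Mathlib
import Groth.Prelude.Def_DeRham
import Groth.Agent.Lib.Helper77.DeRhamGen
import Groth.Agent.Lib.Helper77.DeRhamMap
import Groth.Agent.Lib.Helper85.DRCont

/-!
# de Rham complex of `A[X]` over `R`: Euler weight operator, monomial generators, retraction
-/

set_option linter.unusedSectionVars false
universe u

namespace Groth.Agent.Lib.Helper85.DRPoly

open exteriorPower Polynomial Groth.Agent.Lib.Helper85.DRCont

section General

variable {R : Type*} [CommRing R] {V V' : Type*} [AddCommGroup V] [Module R V]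
  [AddCommGroup V'] [Module R V']

theorem pow_intertwine (N : V →ₗ[R] V) (N' : V' →ₗ[R] V') (g : V →ₗ[R] V')
    (h : ∀ v, g (N v) = N' (g v)) (n : ℕ) (v : V) : g ((N ^ n) v) = (N' ^ n) (g v) := by
  induction n generalizing v with
  | zero => simp
  | succ n ih => rw [pow_succ, pow_succ, Module.End.mul_apply, Module.End.mul_apply, ih, h]

theorem aeval_intertwine (N : V →ₗ[R] V) (N' : V' →ₗ[R] V') (g : V →ₗ[R] V')
    (h : ∀ v, g (N v) = N' (g v)) (P : R[X]) (v : V) :
    g (Polynomial.aeval N P v) = Polynomial.aeval N' P (g v) := by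
  induction P using Polynomial.induction_on' with
  | add p q hp hq => simp only [map_add, LinearMap.add_apply, hp, hq]
  | monomial n a =>
    simp only [Polynomial.aeval_monomial, Module.End.mul_apply,
      Module.algebraMap_end_apply, map_smul]
    rw [pow_intertwine N N' g h]

theorem aeval_comm (N : V →ₗ[R] V) (P : R[X]) (v : V) :
    Polynomial.aeval N P (N v) = N (Polynomial.aeval N P v) :=
  (aeval_intertwine N N N (fun _ => rfl) P v).symm

theorem aeval_of_ker (N : V →ₗ[R] V) (P : R[X]) (v : V) (hv : N v = 0) :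
    N (Polynomial.aeval N P v) = 0 := by
  rw [← aeval_comm, hv, map_zero]

variable [Algebra ℚ R]

theorem poly_trick (N : V →ₗ[R] V) (W : Finset ℕ) (hW : ∀ w ∈ W, 1 ≤ w) :
    ∃ P : R[X], ∀ (y₀ : V) (f : ℕ → V), N y₀ = 0 → (∀ w ∈ W, N (f w) = (w : R) • f w) →
      ∑ w ∈ W, f w = N (Polynomial.aeval N P (y₀ + ∑ w ∈ W, f w)) := by
  classical
  induction W using Finset.induction_on with
  | empty =>
    refine ⟨0, fun y₀ f _ _ => ?_⟩
    simp
  | insert v W hv ih =>
    obtain ⟨P, hP⟩ := ih (fun w hw => hW w (Finset.mem_insert_of_mem hw))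
    have hv1 : 1 ≤ v := hW v (Finset.mem_insert_self v W)
    set u : R := algebraMap ℚ R ((v : ℚ)⁻¹) with hu
    have huv : u * (v : R) = 1 := by
      have : (v : R) = algebraMap ℚ R (v : ℚ) := by simp
      rw [this, hu, ← map_mul, inv_mul_cancel₀ (by positivity), map_one]
    refine ⟨Polynomial.C u * (1 - P * (Polynomial.X - Polynomial.C (v : R))), fun y₀ f hy₀ hf => ?_⟩
    set y : V := y₀ + ∑ w ∈ insert v W, f w with hy
    have hsum : ∑ w ∈ insert v W, f w = f v + ∑ w ∈ W, f w := Finset.sum_insert hv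
    -- z = N y - v • y
    have hNy : N y - (v : R) • y = (-(v : R)) • y₀ + ∑ w ∈ W, ((w : R) - (v : R)) • f w := by
      rw [hy, hsum, map_add, map_add, hy₀, hf v (Finset.mem_insert_self v W), map_sum]
      have : ∑ w ∈ W, N (f w) = ∑ w ∈ W, (w : R) • f w :=
        Finset.sum_congr rfl (fun w hw => hf w (Finset.mem_insert_of_mem hw))
      rw [this]
      simp only [sub_smul, Finset.sum_sub_distrib, smul_add, neg_smul, Finset.smul_sum]
      abel
    have hIH := hP ((-(v : R)) • y₀) (fun w => ((w : R) - (v : R)) • f w)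
      (by rw [map_smul, hy₀, smul_zero])
      (fun w hw => by rw [map_smul, hf w (Finset.mem_insert_of_mem hw), smul_comm])
    rw [← hNy] at hIH
    -- evaluate the polynomial
    have hev : Polynomial.aeval N (Polynomial.C u * (1 - P * (Polynomial.X - Polynomial.C (v : R)))) y =
        u • (y - Polynomial.aeval N P (N y - (v : R) • y)) := by
      simp only [map_mul, map_sub, map_one, Polynomial.aeval_C, Polynomial.aeval_X,
        Module.End.mul_apply, Module.algebraMap_end_apply, LinearMap.sub_apply,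
        Module.End.one_apply]
      simp only [smul_sub]
    rw [hev, map_smul, map_sub, ← hIH]
    -- N y - (∑ ...) where ∑ ((w - v) • f w) = N y - v y + v y₀
    have h2 : ∑ w ∈ W, ((w : R) - (v : R)) • f w = N y - (v : R) • y + (v : R) • y₀ := by
      rw [hNy]; simp only [neg_smul]; abel
    rw [h2]
    have h3 : N y - (N y - (v : R) • y + (v : R) • y₀) = (v : R) • (y - y₀) := by
      rw [smul_sub]; abel
    rw [h3, smul_smul, huv, one_smul, hy]
    abel

end General

section Poly

variable (R A : Type u) [CommRing R] [CommRing A] [Algebra R A]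

/-- the Euler derivation `X d/dX` of `A[X]` over `R`. -/
noncomputable def eulDer : Derivation R A[X] A[X] :=
  (Polynomial.X : A[X]) • ((Polynomial.derivative' (R := A)).restrictScalars R)

theorem eulDer_apply (f : A[X]) : eulDer R A f = Polynomial.X * Polynomial.derivative f := rfl

/-- the Euler functional on Kähler differentials. -/
noncomputable def eul : (Ω[A[X]⁄R]) →ₗ[A[X]] A[X] := (eulDer R A).liftKaehlerDifferential

theorem eul_D (f : A[X]) :
    eul R A (KaehlerDifferential.D R A[X] f) = Polynomial.X * Polynomial.derivative f := by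
  rw [eul, Derivation.liftKaehlerDifferential_comp_D, eulDer_apply]

theorem eul_D_monomial (k : ℕ) (a : A) :
    eul R A (KaehlerDifferential.D R A[X] (Polynomial.monomial k a)) =
      k • Polynomial.monomial k a := by
  rw [eul_D, Polynomial.derivative_monomial]
  rcases k with _ | k
  · simp
  · rw [Nat.add_sub_cancel, Polynomial.X_mul_monomial, Polynomial.smul_monomial, nsmul_eq_mul,
      mul_comm]

variable (d' : ∀ p : ℕ, ↥(⋀[A[X]]^p (Ω[A[X]⁄R])) →ₗ[R] ↥(⋀[A[X]]^(p + 1) (Ω[A[X]⁄R])))

/-- The weight operator `N = d ι + ι d`. -/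
noncomputable def Nop : ∀ p : ℕ, ↥(⋀[A[X]]^p (Ω[A[X]⁄R])) →ₗ[R] ↥(⋀[A[X]]^p (Ω[A[X]⁄R]))
  | 0 => ((cont (eul R A) 0).restrictScalars R) ∘ₗ d' 0
  | p + 1 => d' p ∘ₗ ((cont (eul R A) p).restrictScalars R) +
      ((cont (eul R A) (p + 1)).restrictScalars R) ∘ₗ d' (p + 1)

theorem Nop_zero_apply (x) : Nop R A d' 0 x = cont (eul R A) 0 (d' 0 x) := rfl

theorem Nop_succ_apply (p : ℕ) (x) :
    Nop R A d' (p + 1) x = d' p (cont (eul R A) p x) + cont (eul R A) (p + 1) (d' (p + 1) x) := rfl

theorem d_Nop (hdd : ∀ p : ℕ, d' (p + 1) ∘ₗ d' p = 0) (p : ℕ) (x) :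
    d' p (Nop R A d' p x) = Nop R A d' (p + 1) (d' p x) := by
  have h : ∀ (q : ℕ) (z), d' (q + 1) (d' q z) = 0 := fun q z => LinearMap.congr_fun (hdd q) z
  rcases p with _ | p
  · rw [Nop_zero_apply, Nop_succ_apply, h, map_zero, add_zero]
  · rw [Nop_succ_apply, Nop_succ_apply, map_add, h, zero_add, h, map_zero, add_zero]

theorem Nop_gen (hd' : DeRham.IsRule (KaehlerDifferential.D R A[X]) d') (p : ℕ) (b₀ : A[X])
    (b : Fin p → A[X]) :
    Nop R A d' p (DeRham.gen (KaehlerDifferential.D R A[X]) p b₀ b) =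
      DeRham.gen (KaehlerDifferential.D R A[X]) p (eul R A (KaehlerDifferential.D R A[X] b₀)) b +
        ∑ a : Fin p, DeRham.gen (KaehlerDifferential.D R A[X]) p b₀
          (Function.update b a (eul R A (KaehlerDifferential.D R A[X] (b a)))) := by
  rcases p with _ | p
  · rw [Nop_zero_apply, cartan_gen_zero _ _ _ hd']
    simp
  · rw [Nop_succ_apply, cartan_gen _ _ _ hd']

theorem Nop_gen_eig (hd' : DeRham.IsRule (KaehlerDifferential.D R A[X]) d') (p : ℕ) (b₀ : A[X])
    (b : Fin p → A[X]) (k₀ : ℕ) (k : Fin p → ℕ)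
    (h₀ : eul R A (KaehlerDifferential.D R A[X] b₀) = k₀ • b₀)
    (h : ∀ a, eul R A (KaehlerDifferential.D R A[X] (b a)) = k a • b a) :
    Nop R A d' p (DeRham.gen (KaehlerDifferential.D R A[X]) p b₀ b) =
      (k₀ + ∑ a, k a) • DeRham.gen (KaehlerDifferential.D R A[X]) p b₀ b := by
  rw [Nop_gen R A d' hd', h₀]
  have e1 : DeRham.gen (KaehlerDifferential.D R A[X]) p (k₀ • b₀) b =
      k₀ • DeRham.gen (KaehlerDifferential.D R A[X]) p b₀ b := by
    rw [← Nat.cast_smul_eq_nsmul A[X] k₀ b₀, smul_eq_mul, gen_smul, Nat.cast_smul_eq_nsmul]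
  rw [e1, add_smul, Finset.sum_smul]
  congr 1
  apply Finset.sum_congr rfl
  intro a _
  rw [h a, gen_update_nsmul]

/-- additive induction on monomial generators. -/
theorem mono_gen_induction (p : ℕ) (P : ↥(⋀[A[X]]^p (Ω[A[X]⁄R])) → Prop) (h0 : P 0)
    (hadd : ∀ x y, P x → P y → P (x + y))
    (hgen : ∀ (k₀ : ℕ) (a₀ : A) (k : Fin p → ℕ) (a : Fin p → A),
      P (DeRham.gen (KaehlerDifferential.D R A[X]) p (Polynomial.monomial k₀ a₀)
        (fun i => Polynomial.monomial (k i) (a i))))
    (x : ↥(⋀[A[X]]^p (Ω[A[X]⁄R]))) : P x := by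
  classical
  apply Groth.Agent.Lib.Helper77.DeRhamGen.gen_induction_kaehler R A[X] p P h0 hadd
  -- step 1: monomial b₀, entries outside `s` monomial
  have key : ∀ (s : Finset (Fin p)) (k₀ : ℕ) (a₀ : A) (b : Fin p → A[X]),
      (∀ i, i ∉ s → ∃ (k : ℕ) (a : A), b i = Polynomial.monomial k a) →
      P (DeRham.gen (KaehlerDifferential.D R A[X]) p (Polynomial.monomial k₀ a₀) b) := by
    intro s
    induction s using Finset.induction_on with
    | empty =>
      intro k₀ a₀ b hb
      have : ∀ i, ∃ (k : ℕ) (a : A), b i = Polynomial.monomial k a := fun i => hb i (by simp)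
      choose k a hka using this
      have : b = fun i => Polynomial.monomial (k i) (a i) := funext hka
      rw [this]
      exact hgen k₀ a₀ k a
    | insert j s hj ih =>
      intro k₀ a₀ b hb
      have hq : ∀ q : A[X], P (DeRham.gen (KaehlerDifferential.D R A[X]) p
          (Polynomial.monomial k₀ a₀) (Function.update b j q)) := by
        intro q
        induction q using Polynomial.induction_on' with
        | add q₁ q₂ h₁ h₂ =>
          rw [gen_update_add]
          exact hadd _ _ h₁ h₂
        | monomial n c =>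
          apply ih
          intro i hi
          by_cases hij : i = j
          · subst hij
            exact ⟨n, c, by simp⟩
          · rw [Function.update_of_ne hij]
            exact hb i (by simp [hij, hi])
      have := hq (b j)
      rwa [Function.update_eq_self] at this
  intro b₀ b
  induction b₀ using Polynomial.induction_on' with
  | add q₁ q₂ h₁ h₂ =>
    rw [gen_add_left]
    exact hadd _ _ h₁ h₂
  | monomial n c =>
    exact key Finset.univ n c b (fun i hi => absurd (Finset.mem_univ i) hi)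

end Poly

section Retract

variable (R A : Type u) [CommRing R] [CommRing A] [Algebra R A]

theorem exists_retraction (p : ℕ) :
    ∃ φ : ↥(⋀[A[X]]^p (Ω[A[X]⁄R])) →+ ↥(⋀[A]^p (Ω[A⁄R])),
      ∀ (b₀ : A[X]) (b : Fin p → A[X]),
        φ (DeRham.gen (KaehlerDifferential.D R A[X]) p b₀ b) =
          DeRham.gen (KaehlerDifferential.D R A) p (b₀.eval 0) (fun i => (b i).eval 0) := by
  let _ : Algebra A[X] A := (Polynomial.evalRingHom (0 : A)).toAlgebra
  have _ : IsScalarTower R A[X] A := IsScalarTower.of_algebraMap_eq (fun r => by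
    rw [RingHom.algebraMap_toAlgebra, Polynomial.algebraMap_apply]
    simp)
  refine ⟨(Groth.Agent.Lib.Helper77.DeRhamMap.psi R R A[X] A p).toAddMonoidHom, fun b₀ b => ?_⟩
  exact Groth.Agent.Lib.Helper77.DeRhamMap.psi_gen R R A[X] A p b₀ b

end Retract

end Groth.Agent.Lib.Helper85.DRPoly
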