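import Mathlib
import Groth.Prelude.Def_DeRham
import Groth.Agent.Lib.Helper77.DeRhamGen
import Groth.Agent.Lib.Helper85.DRCont

/-!
# The weight operator `N = d ι + ι d` for a general de Rham receptacle
-/

set_option linter.unusedSectionVars false
universe v u

namespace Groth.Agent.Lib.Helper85.DRWeight

open exteriorPower Groth.Agent.Lib.Helper85.DRCont

variable {R : Type v} {B M : Type u} [CommRing R] [CommRing B] [Algebra R B]
  [AddCommGroup M] [Module B M] [Module R M] [IsScalarTower R B M]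
  (δ : Derivation R B M) (d : ∀ p : ℕ, ↥(⋀[B]^p M) →ₗ[R] ↥(⋀[B]^(p + 1) M))
  (e : M →ₗ[B] B)

/-- The weight operator `N = d ι + ι d`. -/
noncomputable def Nop : ∀ p : ℕ, ↥(⋀[B]^p M) →ₗ[R] ↥(⋀[B]^p M)
  | 0 => ((cont e 0).restrictScalars R) ∘ₗ d 0
  | p + 1 => d p ∘ₗ ((cont e p).restrictScalars R) +
      ((cont e (p + 1)).restrictScalars R) ∘ₗ d (p + 1)

theorem Nop_zero_apply (x) : Nop d e 0 x = cont e 0 (d 0 x) := rfl

theorem Nop_succ_apply (p : ℕ) (x) :
    Nop d e (p + 1) x = d p (cont e p x) + cont e (p + 1) (d (p + 1) x) := rfl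

theorem d_Nop (hdd : ∀ p : ℕ, d (p + 1) ∘ₗ d p = 0) (p : ℕ) (x) :
    d p (Nop d e p x) = Nop d e (p + 1) (d p x) := by
  have h : ∀ (q : ℕ) (z), d (q + 1) (d q z) = 0 := fun q z => LinearMap.congr_fun (hdd q) z
  rcases p with _ | p
  · rw [Nop_zero_apply, Nop_succ_apply, h, map_zero, add_zero]
  · rw [Nop_succ_apply, Nop_succ_apply, map_add, h, zero_add, h, map_zero, add_zero]

theorem Nop_gen (hd : DeRham.IsRule δ d) (p : ℕ) (b₀ : B) (b : Fin p → B) :
    Nop d e p (DeRham.gen δ p b₀ b) =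
      DeRham.gen δ p (e (δ b₀)) b +
        ∑ a : Fin p, DeRham.gen δ p b₀ (Function.update b a (e (δ (b a)))) := by
  rcases p with _ | p
  · rw [Nop_zero_apply, cartan_gen_zero _ _ _ hd]
    simp
  · rw [Nop_succ_apply, cartan_gen _ _ _ hd]

theorem Nop_gen_eig (hd : DeRham.IsRule δ d) (p : ℕ) (b₀ : B)
    (b : Fin p → B) (k₀ : ℕ) (k : Fin p → ℕ)
    (h₀ : e (δ b₀) = k₀ • b₀) (h : ∀ a, e (δ (b a)) = k a • b a) :
    Nop d e p (DeRham.gen δ p b₀ b) = (k₀ + ∑ a, k a) • DeRham.gen δ p b₀ b := by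
  rw [Nop_gen δ d e hd, h₀]
  have e1 : DeRham.gen δ p (k₀ • b₀) b = k₀ • DeRham.gen δ p b₀ b := by
    rw [← Nat.cast_smul_eq_nsmul B k₀ b₀, smul_eq_mul, gen_smul, Nat.cast_smul_eq_nsmul]
  rw [e1, add_smul, Finset.sum_smul]
  congr 1
  apply Finset.sum_congr rfl
  intro a _
  rw [h a, gen_update_nsmul]

/-- additive induction on generators whose entries lie in an additively spanning class `S`. -/
theorem span_gen_induction (hspan : Submodule.span B (Set.range δ) = ⊤) (S : B → Prop)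
    (hS : ∀ Q : B → Prop, (∀ s, S s → Q s) → (∀ x y, Q x → Q y → Q (x + y)) → ∀ b, Q b)
    (p : ℕ) (P : ↥(⋀[B]^p M) → Prop) (h0 : P 0)
    (hadd : ∀ x y, P x → P y → P (x + y))
    (hgen : ∀ (b₀ : B) (b : Fin p → B), S b₀ → (∀ i, S (b i)) → P (DeRham.gen δ p b₀ b))
    (x : ↥(⋀[B]^p M)) : P x := by
  classical
  apply Groth.Agent.Lib.Helper77.DeRhamGen.gen_induction δ hspan p P h0 hadd
  have key : ∀ (s : Finset (Fin p)) (b₀ : B) (b : Fin p → B), S b₀ →
      (∀ i, i ∉ s → S (b i)) → P (DeRham.gen δ p b₀ b) := by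
    intro s
    induction s using Finset.induction_on with
    | empty =>
      intro b₀ b hb₀ hb
      exact hgen b₀ b hb₀ (fun i => hb i (by simp))
    | insert j s hj ih =>
      intro b₀ b hb₀ hb
      have hq : ∀ q : B, P (DeRham.gen δ p b₀ (Function.update b j q)) := by
        apply hS
        · intro q hq
          apply ih b₀ _ hb₀
          intro i hi
          by_cases hij : i = j
          · subst hij
            simpa using hq
          · rw [Function.update_of_ne hij]
            exact hb i (by simp [hij, hi])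
        · intro q₁ q₂ h₁ h₂
          rw [gen_update_add]
          exact hadd _ _ h₁ h₂
      have := hq (b j)
      rwa [Function.update_eq_self] at this
  intro b₀ b
  revert b₀
  apply hS
  · intro b₀ hb₀
    exact key Finset.univ b₀ b hb₀ (fun i hi => absurd (Finset.mem_univ i) hi)
  · intro q₁ q₂ h₁ h₂
    rw [gen_add_left]
    exact hadd _ _ h₁ h₂

end Groth.Agent.Lib.Helper85.DRWeight
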