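import Mathlib
import Groth.Prelude.Def_DeRham
import Groth.Agent.Lib.Helper85.DRCont
import Groth.Agent.Lib.Helper85.DRWeight
import Groth.Agent.Lib.Helper85.DRPoly

/-!
# Cartan formula on generators with admissible factors; Frobenius-type projectors `1 - N^(p-1)`
-/

set_option linter.unusedSectionVars false
universe v u

namespace Groth.Agent.Lib.Helper85.DRLog

open exteriorPower Groth.Agent.Lib.Helper85.DRCont Groth.Agent.Lib.Helper85.DRWeight

section Cartan

variable {R : Type v} {B L : Type u} [CommRing R] [CommRing B] [Algebra R B]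
  [AddCommGroup L] [Module B L] [Module R L] [IsScalarTower R B L]
  (δL : Derivation R B L) (d : ∀ p : ℕ, ↥(⋀[B]^p L) →ₗ[R] ↥(⋀[B]^(p + 1) L))
  (e : L →ₗ[B] B) (Adm : L → Prop)

theorem cartan_log_zero
    (hrule : ∀ (p : ℕ) (b₀ : B) (v : Fin p → L), (∀ k, Adm (v k)) →
      d p (b₀ • ιMulti B p v) = ιMulti B (p + 1) (Fin.cons (δL b₀) v))
    (b₀ : B) (v : Fin 0 → L) :
    cont e 0 (d 0 (b₀ • ιMulti B 0 v)) = e (δL b₀) • ιMulti B 0 v := by
  rw [hrule 0 b₀ v (fun k => k.elim0), cont_ιMulti_one]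
  simp only [Fin.cons_zero]
  congr 2

theorem cartan_log
    (hrule : ∀ (p : ℕ) (b₀ : B) (v : Fin p → L), (∀ k, Adm (v k)) →
      d p (b₀ • ιMulti B p v) = ιMulti B (p + 1) (Fin.cons (δL b₀) v))
    (p : ℕ) (b₀ : B) (v : Fin (p + 1) → L) (hv : ∀ k, Adm (v k)) :
    d p (cont e p (b₀ • ιMulti B (p + 1) v)) +
      cont e (p + 1) (d (p + 1) (b₀ • ιMulti B (p + 1) v)) =
      e (δL b₀) • ιMulti B (p + 1) v +
        ∑ a : Fin (p + 1), b₀ • ιMulti B (p + 1) (Function.update v a (δL (e (v a)))) := by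
  classical
  have h2 : cont e (p + 1) (d (p + 1) (b₀ • ιMulti B (p + 1) v)) =
      e (δL b₀) • ιMulti B (p + 1) v -
        ∑ a : Fin (p + 1), (-1 : ℤ) ^ (a : ℕ) •
          (e (v a) • ιMulti B (p + 1) (Fin.cons (δL b₀) (a.removeNth v))) := by
    rw [hrule (p + 1) b₀ v hv, cont_ιMulti_cons]
  have h1 : d p (cont e p (b₀ • ιMulti B (p + 1) v)) =
      ∑ a : Fin (p + 1), (-1 : ℤ) ^ (a : ℕ) •
        (b₀ • ιMulti B (p + 1) (Fin.cons (δL (e (v a))) (a.removeNth v)) +
          e (v a) • ιMulti B (p + 1) (Fin.cons (δL b₀) (a.removeNth v))) := by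
    have e1 : cont e p (b₀ • ιMulti B (p + 1) v) =
        ∑ a : Fin (p + 1), (-1 : ℤ) ^ (a : ℕ) •
          ((b₀ * e (v a)) • ιMulti B p (a.removeNth v)) := by
      rw [map_smul, cont_ιMulti, Finset.smul_sum]
      apply Finset.sum_congr rfl
      intro a _
      rw [smul_comm, mul_smul]
    rw [e1, map_sum]
    apply Finset.sum_congr rfl
    intro a _
    rw [map_zsmul, hrule p (b₀ * e (v a)) (a.removeNth v) (fun k => hv _)]
    congr 1
    have e2 : (Fin.cons (δL (b₀ * e (v a))) (a.removeNth v) : Fin (p + 1) → L) =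
        Function.update (Fin.cons (δL b₀) (a.removeNth v) : Fin (p + 1) → L) 0
          (b₀ • δL (e (v a)) + e (v a) • δL b₀) := by
      rw [Fin.update_cons_zero, Derivation.leibniz]
    rw [e2, AlternatingMap.map_update_add, AlternatingMap.map_update_smul,
      AlternatingMap.map_update_smul, Fin.update_cons_zero, Fin.update_cons_zero]
  rw [h1, h2]
  simp only [smul_add, Finset.sum_add_distrib]
  have h3 : ∀ a : Fin (p + 1), (-1 : ℤ) ^ (a : ℕ) •
      b₀ • ιMulti B (p + 1) (Fin.cons (δL (e (v a))) (a.removeNth v)) =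
      b₀ • ιMulti B (p + 1) (Function.update v a (δL (e (v a)))) := by
    intro a
    rw [smul_comm, neg_one_pow_smul_cons_removeNth]
  simp only [h3]
  abel

theorem Nop_log
    (hrule : ∀ (p : ℕ) (b₀ : B) (v : Fin p → L), (∀ k, Adm (v k)) →
      d p (b₀ • ιMulti B p v) = ιMulti B (p + 1) (Fin.cons (δL b₀) v))
    (p : ℕ) (b₀ : B) (v : Fin p → L) (hv : ∀ k, Adm (v k)) :
    Nop d e p (b₀ • ιMulti B p v) =
      e (δL b₀) • ιMulti B p v +
        ∑ a : Fin p, b₀ • ιMulti B p (Function.update v a (δL (e (v a)))) := by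
  rcases p with _ | p
  · rw [Nop_zero_apply, cartan_log_zero δL d e Adm hrule]
    simp
  · rw [Nop_succ_apply, cartan_log δL d e Adm hrule p b₀ v hv]

end Cartan

section Proj

variable {R : Type v} {B L : Type u} [CommRing R] [CommRing B] [Algebra R B]
  [AddCommGroup L] [Module B L] [Module R L] [IsScalarTower R B L]
  (d : ∀ q : ℕ, ↥(⋀[B]^q L) →ₗ[R] ↥(⋀[B]^(q + 1) L))
  {ι : Type*} (e : ι → L →ₗ[B] B) (p : ℕ)

/-- `1 - N_ν^(p-1)`. -/
noncomputable def Fop (ν : ι) (q : ℕ) : Module.End R ↥(⋀[B]^q L) :=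
  1 - (Nop d (e ν) q) ^ (p - 1)

/-- the composite of the `Fop ν` for `ν` in a list. -/
noncomputable def Pl (l : List ι) (q : ℕ) : Module.End R ↥(⋀[B]^q L) :=
  (l.map (fun ν => Fop d e p ν q)).prod

theorem Pl_nil (q : ℕ) : Pl d e p [] q = 1 := rfl

theorem Pl_cons (ν : ι) (l : List ι) (q : ℕ) (x) :
    Pl d e p (ν :: l) q x = Fop d e p ν q (Pl d e p l q x) := by
  simp [Pl, List.map_cons, List.prod_cons, Module.End.mul_apply]

theorem pow_eig {V : Type*} [AddCommGroup V] [Module R V] (N : V →ₗ[R] V) (x : V) (lam : ℕ)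
    (h : N x = lam • x) (k : ℕ) : (N ^ k) x = (lam ^ k) • x := by
  induction k with
  | zero => simp
  | succ k ih =>
    rw [pow_succ', Module.End.mul_apply, ih, map_nsmul, h, smul_smul, ← pow_succ]

variable [Fact p.Prime]

theorem fermat_smul {V : Type*} [AddCommGroup V] (hV : ∀ x : V, p • x = 0) (x : V) (lam : ℕ) :
    (lam ^ (p - 1)) • x = if p ∣ lam then 0 else x := by
  have hp : p.Prime := Fact.out
  split_ifs with h
  · obtain ⟨t, rfl⟩ := h
    have h1 : 1 ≤ p - 1 := by have := hp.two_le; omega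
    obtain ⟨k, hk⟩ : ∃ k, p - 1 = k + 1 := ⟨p - 2, by omega⟩
    rw [hk, pow_succ]
    have : (p * t) ^ k * (p * t) = ((p * t) ^ k * t) * p := by ring
    rw [this, mul_smul, hV, smul_zero]
  · have hc : Nat.Coprime lam p := (Nat.Prime.coprime_iff_not_dvd hp).mpr h |>.symm
    have hm := Nat.ModEq.pow_totient hc
    rw [Nat.totient_prime hp] at hm
    have h1 : 1 ≤ lam ^ (p - 1) := Nat.one_le_pow _ _ (Nat.pos_of_ne_zero (by
      rintro rfl; exact h (dvd_zero p)))
    have hd : p ∣ lam ^ (p - 1) - 1 := (Nat.modEq_iff_dvd' h1).mp hm.symm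
    obtain ⟨t, ht⟩ := hd
    have : lam ^ (p - 1) = 1 + p * t := by omega
    rw [this, add_smul, one_smul, mul_comm, mul_smul, hV, smul_zero, add_zero]

theorem Fop_eig (hV : ∀ (q : ℕ) (x : ↥(⋀[B]^q L)), p • x = 0) (ν : ι) (q : ℕ)
    (x : ↥(⋀[B]^q L)) (lam : ℕ) (h : Nop d (e ν) q x = lam • x) :
    Fop d e p ν q x = if p ∣ lam then x else 0 := by
  rw [Fop, LinearMap.sub_apply, Module.End.one_apply, pow_eig _ x lam h, fermat_smul p (hV q)]
  split_ifs <;> simp

theorem Pl_eig (hV : ∀ (q : ℕ) (x : ↥(⋀[B]^q L)), p • x = 0) (l : List ι) (q : ℕ)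
    (x : ↥(⋀[B]^q L)) (lam : ι → ℕ) (h : ∀ ν, Nop d (e ν) q x = lam ν • x) :
    Pl d e p l q x = if ∀ ν ∈ l, p ∣ lam ν then x else 0 := by
  induction l with
  | nil => simp [Pl_nil]
  | cons ν l ih =>
    rw [Pl_cons, ih]
    by_cases hl : ∀ ν ∈ l, p ∣ lam ν
    · rw [if_pos hl, Fop_eig d e p hV ν q x (lam ν) (h ν)]
      by_cases hν : p ∣ lam ν
      · rw [if_pos hν, if_pos]
        intro μ hμ
        rcases List.mem_cons.mp hμ with rfl | hμ
        · exact hν
        · exact hl μ hμ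
      · rw [if_neg hν, if_neg]
        intro hall
        exact hν (hall ν (List.mem_cons_self))
    · rw [if_neg hl, map_zero, if_neg]
      intro hall
      exact hl (fun μ hμ => hall μ (List.mem_cons_of_mem _ hμ))

theorem d_Fop (hdd : ∀ q : ℕ, d (q + 1) ∘ₗ d q = 0) (ν : ι) (q : ℕ) (x : ↥(⋀[B]^q L)) :
    d q (Fop d e p ν q x) = Fop d e p ν (q + 1) (d q x) := by
  rw [Fop, Fop, LinearMap.sub_apply, LinearMap.sub_apply, map_sub, Module.End.one_apply,
    Module.End.one_apply]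
  congr 1
  exact Groth.Agent.Lib.Helper85.DRPoly.pow_intertwine _ _ (d q)
    (fun v => d_Nop d (e ν) hdd q v) (p - 1) x

theorem d_Pl (hdd : ∀ q : ℕ, d (q + 1) ∘ₗ d q = 0) (l : List ι) (q : ℕ) (x : ↥(⋀[B]^q L)) :
    d q (Pl d e p l q x) = Pl d e p l (q + 1) (d q x) := by
  induction l with
  | nil => simp [Pl_nil]
  | cons ν l ih => rw [Pl_cons, Pl_cons, d_Fop d e p hdd, ih]

theorem pow_closed_mem_cob (hdd : ∀ q : ℕ, d (q + 1) ∘ₗ d q = 0) (ν : ι) (q : ℕ)
    (x : ↥(⋀[B]^q L)) (hx : d q x = 0) :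
    ((Nop d (e ν) q) ^ (p - 1)) x ∈ DeRham.coboundaries d q := by
  have hp : p.Prime := Fact.out
  obtain ⟨k, hk⟩ : ∃ k, p - 1 = k + 1 := ⟨p - 2, by have := hp.two_le; omega⟩
  rw [hk, pow_succ', Module.End.mul_apply]
  set z := ((Nop d (e ν) q) ^ k) x with hz
  have hdz : d q z = 0 := by
    rw [hz, Groth.Agent.Lib.Helper85.DRPoly.pow_intertwine _ (Nop d (e ν) (q + 1)) (d q)
      (fun v => d_Nop d (e ν) hdd q v) k x, hx, map_zero]
  rcases q with _ | q
  · rw [Nop_zero_apply, hdz, map_zero]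
    exact Submodule.zero_mem _
  · rw [Nop_succ_apply, hdz, map_zero, add_zero]
    exact ⟨_, rfl⟩

theorem sub_Pl_mem_cob (hdd : ∀ q : ℕ, d (q + 1) ∘ₗ d q = 0) (l : List ι) (q : ℕ)
    (x : ↥(⋀[B]^q L)) (hx : d q x = 0) :
    x - Pl d e p l q x ∈ DeRham.coboundaries d q := by
  induction l with
  | nil => simp [Pl_nil]
  | cons ν l ih =>
    rw [Pl_cons, Fop, LinearMap.sub_apply, Module.End.one_apply]
    have hcl : d q (Pl d e p l q x) = 0 := by rw [d_Pl d e p hdd, hx, map_zero]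
    have h1 := pow_closed_mem_cob d e p hdd ν q _ hcl
    have : x - (Pl d e p l q x - ((Nop d (e ν) q) ^ (p - 1)) (Pl d e p l q x)) =
        (x - Pl d e p l q x) + ((Nop d (e ν) q) ^ (p - 1)) (Pl d e p l q x) := by abel
    rw [this]
    exact Submodule.add_mem _ ih h1

end Proj

end Groth.Agent.Lib.Helper85.DRLog
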