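import Mathlib
import Groth.Prelude.Def_DeRham
import Groth.Agent.Lib.Helper85.DRCont
import Groth.Agent.Lib.Helper85.DRWeight
import Groth.Agent.Lib.Helper85.DRPoly
import Groth.Agent.Lib.Helper85.DRLog

/-!
# Cartier-type description of the log de Rham cohomology of affine space in characteristic `p`
(abstract version over a free module with basis `θ`).
-/

set_option linter.unusedSectionVars false
universe u

namespace Groth.Agent.Lib.Helper85.CartierLog

open exteriorPower MvPolynomial Groth.Agent.Lib.Helper85.DRCont Groth.Agent.Lib.Helper85.DRWeight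
  Groth.Agent.Lib.Helper85.DRLog

section Basic

variable (R : Type u) [CommRing R] {n : ℕ} (lg : Fin n → Prop) [DecidablePred lg]

/-- `t_ν` for a log index, `1` otherwise. -/
noncomputable def kap (ν : Fin n) : MvPolynomial (Fin n) R := if lg ν then X ν else 1

/-- `1` for a log index, `t_ν` otherwise. -/
noncomputable def kap' (ν : Fin n) : MvPolynomial (Fin n) R := if lg ν then 1 else X ν

theorem kap'_mul_kap (ν : Fin n) : kap' R lg ν * kap R lg ν = X ν := by
  unfold kap kap'; split_ifs <;> simp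

end Basic

variable {R : Type u} [CommRing R] {n : ℕ} {L : Type u} [AddCommGroup L]
  [Module (MvPolynomial (Fin n) R) L] [Module R L] [IsScalarTower R (MvPolynomial (Fin n) R) L]
  (lg : Fin n → Prop) [DecidablePred lg]
  (θ : Module.Basis (Fin n) (MvPolynomial (Fin n) R) L)
  (δL : Derivation R (MvPolynomial (Fin n) R) L)

/-- the scaled coordinate functional `e_ν`, dual to `t_ν ∂_ν` resp. `∂_ν`. -/
noncomputable def ev (ν : Fin n) : L →ₗ[MvPolynomial (Fin n) R] MvPolynomial (Fin n) R :=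
  kap' R lg ν • θ.coord ν

theorem coord_δ (hδ : ∀ ν, δL (X ν) = kap R lg ν • θ ν) (ν : Fin n) (b : MvPolynomial (Fin n) R) :
    θ.coord ν (δL b) = kap R lg ν * pderiv ν b := by
  have h := MvPolynomial.derivation_ext (D₁ := (θ.coord ν).compDer δL)
    (D₂ := kap R lg ν • pderiv ν) ?_
  · exact DFunLike.congr_fun h b
  intro μ
  by_cases hμ : μ = ν
  · subst hμ
    simp [hδ, pderiv_X]
  · simp [hδ, pderiv_X, hμ, Ne.symm hμ]

theorem ev_δ (hδ : ∀ ν, δL (X ν) = kap R lg ν • θ ν) (ν : Fin n) (b : MvPolynomial (Fin n) R) :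
    ev lg θ ν (δL b) = X ν * pderiv ν b := by
  rw [ev, LinearMap.smul_apply, coord_δ lg θ δL hδ, smul_eq_mul, ← mul_assoc, kap'_mul_kap]

theorem ev_θ (ν μ : Fin n) : ev lg θ ν (θ μ) = if μ = ν then kap' R lg ν else 0 := by
  rw [ev, LinearMap.smul_apply, Module.Basis.coord_apply, Module.Basis.repr_self,
    Finsupp.single_apply, smul_eq_mul]
  split_ifs <;> simp

theorem δ_kap' (hδ : ∀ ν, δL (X ν) = kap R lg ν • θ ν) (ν : Fin n) :
    δL (kap' R lg ν) = if lg ν then 0 else θ ν := by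
  unfold kap'
  split_ifs with h
  · exact Derivation.map_one_eq_zero _
  · rw [hδ, kap, if_neg h, one_smul]

section Gen

variable (d : ∀ q : ℕ, ↥(⋀[MvPolynomial (Fin n) R]^q L) →ₗ[R] ↥(⋀[MvPolynomial (Fin n) R]^(q + 1) L))
  (Adm : L → Prop)

theorem sum_emb {M : Type*} [AddCommMonoid M] {a : ℕ} (s : Set.powersetCard (Fin n) a)
    (ν : Fin n) (y : M) :
    (∑ k : Fin a, if Set.powersetCard.ofFinEmbEquiv.symm s k = ν then y else 0) =
      if ν ∈ s.val then y else 0 := by
  classical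
  by_cases hν : ν ∈ s.val
  · rw [if_pos hν]
    obtain ⟨k₀, hk₀⟩ : ∃ k₀, Set.powersetCard.ofFinEmbEquiv.symm s k₀ = ν :=
      (Set.powersetCard.mem_range_ofFinEmbEquiv_symm_iff_mem s ν).mpr hν
    rw [Finset.sum_eq_single k₀]
    · rw [if_pos hk₀]
    · intro k _ hk
      rw [if_neg]
      intro h
      exact hk ((Set.powersetCard.ofFinEmbEquiv.symm s).injective (h.trans hk₀.symm))
    · simp
  · rw [if_neg hν]
    apply Finset.sum_eq_zero
    intro k _
    rw [if_neg]
    intro h1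
    exact hν ((Set.powersetCard.mem_range_ofFinEmbEquiv_symm_iff_mem s ν).mp ⟨k, h1⟩)

/-- `1` if `ν ∈ s` is a non-log index, else `0`. -/
def cnt {a : ℕ} (ν : Fin n) (s : Set.powersetCard (Fin n) a) : ℕ :=
  if ν ∈ s.val ∧ ¬ lg ν then 1 else 0

theorem Nop_gen_θ (hδ : ∀ ν, δL (X ν) = kap R lg ν • θ ν) (hAθ : ∀ ν, Adm (θ ν))
    (hrule : ∀ (q : ℕ) (b₀ : MvPolynomial (Fin n) R) (v : Fin q → L), (∀ k, Adm (v k)) →
      d q (b₀ • ιMulti (MvPolynomial (Fin n) R) q v) =
        ιMulti (MvPolynomial (Fin n) R) (q + 1) (Fin.cons (δL b₀) v))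
    (a : ℕ) (ν : Fin n) (b₀ : MvPolynomial (Fin n) R) (s : Set.powersetCard (Fin n) a) :
    Nop d (ev lg θ ν) a (b₀ • ιMulti_family (MvPolynomial (Fin n) R) a θ s) =
      (X ν * pderiv ν b₀) • ιMulti_family (MvPolynomial (Fin n) R) a θ s +
        cnt lg ν s • (b₀ • ιMulti_family (MvPolynomial (Fin n) R) a θ s) := by
  classical
  rw [ιMulti_family, Nop_log δL d _ Adm hrule a b₀ (θ ∘ Set.powersetCard.ofFinEmbEquiv.symm s) (fun k => hAθ _), ev_δ lg θ δL hδ]
  congr 1
  have hterm : ∀ k : Fin a, b₀ • ιMulti (MvPolynomial (Fin n) R) a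
      (Function.update (θ ∘ Set.powersetCard.ofFinEmbEquiv.symm s) k
        (δL (ev lg θ ν ((θ ∘ Set.powersetCard.ofFinEmbEquiv.symm s) k)))) =
      if Set.powersetCard.ofFinEmbEquiv.symm s k = ν then
        (if lg ν then 0 else
          b₀ • ιMulti (MvPolynomial (Fin n) R) a (θ ∘ Set.powersetCard.ofFinEmbEquiv.symm s))
      else 0 := by
    intro k
    rw [Function.comp_apply, ev_θ]
    by_cases h1 : Set.powersetCard.ofFinEmbEquiv.symm s k = ν
    · rw [if_pos h1, if_pos h1, δ_kap' lg θ δL hδ]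
      by_cases h2 : lg ν
      · rw [if_pos h2, if_pos h2,
          (ιMulti (MvPolynomial (Fin n) R) a).map_coord_zero k (Function.update_self ..),
          smul_zero]
      · rw [if_neg h2, if_neg h2]
        congr 2
        rw [← h1]
        exact Function.update_eq_self k (θ ∘ Set.powersetCard.ofFinEmbEquiv.symm s)
    · rw [if_neg h1, if_neg h1, map_zero,
        (ιMulti (MvPolynomial (Fin n) R) a).map_coord_zero k (Function.update_self ..),
        smul_zero]
  rw [Finset.sum_congr rfl (fun k _ => hterm k), sum_emb]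
  unfold cnt
  by_cases h1 : ν ∈ s.val <;> by_cases h2 : lg ν <;> simp [h1, h2]

theorem Nop_mono (hδ : ∀ ν, δL (X ν) = kap R lg ν • θ ν) (hAθ : ∀ ν, Adm (θ ν))
    (hrule : ∀ (q : ℕ) (b₀ : MvPolynomial (Fin n) R) (v : Fin q → L), (∀ k, Adm (v k)) →
      d q (b₀ • ιMulti (MvPolynomial (Fin n) R) q v) =
        ιMulti (MvPolynomial (Fin n) R) (q + 1) (Fin.cons (δL b₀) v))
    (a : ℕ) (ν : Fin n) (α : Fin n →₀ ℕ) (c : R) (s : Set.powersetCard (Fin n) a) :
    Nop d (ev lg θ ν) a (monomial α c • ιMulti_family (MvPolynomial (Fin n) R) a θ s) =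
      (α ν + cnt lg ν s) • (monomial α c • ιMulti_family (MvPolynomial (Fin n) R) a θ s) := by
  rw [Nop_gen_θ lg θ δL d Adm hδ hAθ hrule, X_mul_pderiv_monomial, add_smul]
  congr 1
  exact smul_assoc _ _ _

end Gen

section Proj

variable (d : ∀ q : ℕ, ↥(⋀[MvPolynomial (Fin n) R]^q L) →ₗ[R] ↥(⋀[MvPolynomial (Fin n) R]^(q + 1) L))
  (Adm : L → Prop) (p : ℕ)

theorem p_smul_zero [CharP R p] (q : ℕ) (x : ↥(⋀[MvPolynomial (Fin n) R]^q L)) : p • x = 0 := by
  rw [← Nat.cast_smul_eq_nsmul R p x, CharP.cast_eq_zero, zero_smul]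

/-- the projector onto the weight-zero part. -/
noncomputable def Pr (q : ℕ) : Module.End R ↥(⋀[MvPolynomial (Fin n) R]^q L) :=
  Pl d (ev lg θ) p (List.finRange n) q

/-- the generator `t^α θ_s` has all weights divisible by `p`. -/
def good {a : ℕ} (α : Fin n →₀ ℕ) (s : Set.powersetCard (Fin n) a) : Prop :=
  ∀ ν, p ∣ α ν + cnt lg ν s

theorem gen_induction (a : ℕ) (P : ↥(⋀[MvPolynomial (Fin n) R]^a L) → Prop) (h0 : P 0)
    (hadd : ∀ x y, P x → P y → P (x + y))
    (hgen : ∀ (α : Fin n →₀ ℕ) (c : R) (s : Set.powersetCard (Fin n) a),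
      P (monomial α c • ιMulti_family (MvPolynomial (Fin n) R) a θ s))
    (x : ↥(⋀[MvPolynomial (Fin n) R]^a L)) : P x := by
  have hx : x ∈ Submodule.span (MvPolynomial (Fin n) R)
      (Set.range (ιMulti_family (MvPolynomial (Fin n) R) a θ)) := by
    rw [ιMulti_family_span_of_span (MvPolynomial (Fin n) R) θ.span_eq]
    exact Submodule.mem_top
  have key : ∀ b : MvPolynomial (Fin n) R, P (b • x) := by
    induction hx using Submodule.span_induction with
    | mem y hy =>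
      obtain ⟨s, rfl⟩ := hy
      intro b
      induction b using MvPolynomial.induction_on' with
      | monomial α c => exact hgen α c s
      | add b₁ b₂ h₁ h₂ =>
        rw [add_smul]
        exact hadd _ _ h₁ h₂
    | zero =>
      intro b
      rw [smul_zero]
      exact h0
    | add y z _ _ hy hz =>
      intro b
      rw [smul_add]
      exact hadd _ _ (hy b) (hz b)
    | smul c y _ hy =>
      intro b
      rw [smul_smul]
      exact hy _
  have := key 1
  rwa [one_smul] at this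

variable [Fact p.Prime] [CharP R p]

theorem Pr_mono (hδ : ∀ ν, δL (X ν) = kap R lg ν • θ ν) (hAθ : ∀ ν, Adm (θ ν))
    (hrule : ∀ (q : ℕ) (b₀ : MvPolynomial (Fin n) R) (v : Fin q → L), (∀ k, Adm (v k)) →
      d q (b₀ • ιMulti (MvPolynomial (Fin n) R) q v) =
        ιMulti (MvPolynomial (Fin n) R) (q + 1) (Fin.cons (δL b₀) v))
    (a : ℕ) (α : Fin n →₀ ℕ) (c : R) (s : Set.powersetCard (Fin n) a) :
    (good lg p α s →
      Pr lg θ d p a (monomial α c • ιMulti_family (MvPolynomial (Fin n) R) a θ s) =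
        monomial α c • ιMulti_family (MvPolynomial (Fin n) R) a θ s) ∧
    (¬ good lg p α s →
      Pr lg θ d p a (monomial α c • ιMulti_family (MvPolynomial (Fin n) R) a θ s) = 0) := by
  have h := Pl_eig d (ev lg θ) p (p_smul_zero p) (List.finRange n) a
    (monomial α c • ιMulti_family (MvPolynomial (Fin n) R) a θ s)
    (fun ν => α ν + cnt lg ν s) (fun ν => Nop_mono lg θ δL d Adm hδ hAθ hrule a ν α c s)
  constructor
  · intro hg
    rw [Pr, h, if_pos (fun ν _ => hg ν)]
  · intro hg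
    rw [Pr, h, if_neg]
    intro hall
    exact hg (fun ν => hall ν (List.mem_finRange ν))

theorem d_mono_zero (hδ : ∀ ν, δL (X ν) = kap R lg ν • θ ν) (hAθ : ∀ ν, Adm (θ ν))
    (hrule : ∀ (q : ℕ) (b₀ : MvPolynomial (Fin n) R) (v : Fin q → L), (∀ k, Adm (v k)) →
      d q (b₀ • ιMulti (MvPolynomial (Fin n) R) q v) =
        ιMulti (MvPolynomial (Fin n) R) (q + 1) (Fin.cons (δL b₀) v))
    (a : ℕ) (α : Fin n →₀ ℕ) (c : R) (s : Set.powersetCard (Fin n) a)
    (h : ∀ ν, ν ∉ s.val → p ∣ α ν) :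
    d a (monomial α c • ιMulti_family (MvPolynomial (Fin n) R) a θ s) = 0 := by
  classical
  rw [ιMulti_family, hrule a _ (θ ∘ Set.powersetCard.ofFinEmbEquiv.symm s) (fun k => hAθ _)]
  have hsum : δL (monomial α c) = ∑ ν, (kap R lg ν * pderiv ν (monomial α c)) • θ ν := by
    conv_lhs => rw [← θ.sum_repr (δL (monomial α c))]
    apply Finset.sum_congr rfl
    intro ν _
    rw [← coord_δ lg θ δL hδ]
    rfl
  have hlin : ∀ x : L, ιMulti (MvPolynomial (Fin n) R) (a + 1)
      (Fin.cons x (θ ∘ Set.powersetCard.ofFinEmbEquiv.symm s)) =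
      (ιMulti (MvPolynomial (Fin n) R) (a + 1)).toMultilinearMap.toLinearMap
        (Fin.cons 0 (θ ∘ Set.powersetCard.ofFinEmbEquiv.symm s)) 0 x := by
    intro x
    rw [MultilinearMap.toLinearMap_apply, Fin.update_cons_zero]
    rfl
  rw [hlin, hsum, map_sum]
  apply Finset.sum_eq_zero
  intro ν _
  rw [map_smul, ← hlin]
  by_cases hν : ν ∈ s.val
  · obtain ⟨k₀, hk₀⟩ : ∃ k₀, Set.powersetCard.ofFinEmbEquiv.symm s k₀ = ν :=
      (Set.powersetCard.mem_range_ofFinEmbEquiv_symm_iff_mem s ν).mpr hν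
    rw [(ιMulti (MvPolynomial (Fin n) R) (a + 1)).map_eq_zero_of_eq _
      (i := 0) (j := k₀.succ) ?_ (Fin.succ_ne_zero k₀).symm, smul_zero]
    rw [Fin.cons_zero, Fin.cons_succ, Function.comp_apply, hk₀]
  · have h0 : ((α ν : ℕ) : R) = 0 := (CharP.cast_eq_zero_iff R p (α ν)).mpr (h ν hν)
    rw [pderiv_monomial, h0, mul_zero, map_zero, mul_zero, zero_smul]

end Proj

section Cartier

variable (d : ∀ q : ℕ, ↥(⋀[MvPolynomial (Fin n) R]^q L) →ₗ[R] ↥(⋀[MvPolynomial (Fin n) R]^(q + 1) L))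
  (Adm : L → Prop) (p : ℕ)

/-- `1` for a log index, `t_ν^(p-1)` otherwise. -/
noncomputable def kapp (R : Type u) [CommRing R] {n : ℕ} (lg : Fin n → Prop) [DecidablePred lg]
    (p : ℕ) (ν : Fin n) : MvPolynomial (Fin n) R := if lg ν then 1 else X ν ^ (p - 1)

/-- the forms `w_ν`: `dlog t_ν` resp. `t_ν^(p-1) dt_ν`. -/
noncomputable def ws (ν : Fin n) : L := kapp R lg p ν • θ ν

/-- exponent of the monomial `K_s` with `e_s = K_s θ_s`. -/
noncomputable def bet {a : ℕ} (s : Set.powersetCard (Fin n) a) : Fin n →₀ ℕ :=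
  ∑ k : Fin a, Finsupp.single (Set.powersetCard.ofFinEmbEquiv.symm s k)
    (if lg (Set.powersetCard.ofFinEmbEquiv.symm s k) then 0 else p - 1)

theorem bet_apply {a : ℕ} (s : Set.powersetCard (Fin n) a) (ν : Fin n) :
    bet lg p s ν = (p - 1) * cnt lg ν s := by
  classical
  rw [bet, Finsupp.finsetSum_apply]
  have h : ∀ k : Fin a, (Finsupp.single (Set.powersetCard.ofFinEmbEquiv.symm s k)
      (if lg (Set.powersetCard.ofFinEmbEquiv.symm s k) then 0 else p - 1)) ν =
      if Set.powersetCard.ofFinEmbEquiv.symm s k = ν then (if lg ν then 0 else p - 1) else 0 := by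
    intro k
    rw [Finsupp.single_apply]
    by_cases h1 : Set.powersetCard.ofFinEmbEquiv.symm s k = ν
    · rw [if_pos h1, if_pos h1, h1]
    · rw [if_neg h1, if_neg h1]
  rw [Finset.sum_congr rfl (fun k _ => h k), sum_emb]
  unfold cnt
  by_cases h1 : ν ∈ s.val <;> by_cases h2 : lg ν <;> simp [h1, h2]

theorem E_eq (a : ℕ) (s : Set.powersetCard (Fin n) a) :
    ιMulti_family (MvPolynomial (Fin n) R) a (ws lg θ p) s =
      (monomial (bet lg p s) (1 : R)) • ιMulti_family (MvPolynomial (Fin n) R) a θ s := by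
  rw [ιMulti_family, ιMulti_family]
  have h1 : (ws lg θ p ∘ Set.powersetCard.ofFinEmbEquiv.symm s) =
      fun k => kapp R lg p (Set.powersetCard.ofFinEmbEquiv.symm s k) •
        (θ ∘ Set.powersetCard.ofFinEmbEquiv.symm s) k := rfl
  have h2 := (ιMulti (MvPolynomial (Fin n) R) a).toMultilinearMap.map_smul_univ
    (fun k => kapp R lg p (Set.powersetCard.ofFinEmbEquiv.symm s k))
    (θ ∘ Set.powersetCard.ofFinEmbEquiv.symm s)
  rw [h1]
  refine h2.trans ?_
  congr 1
  rw [bet, monomial_sum_one]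
  apply Finset.prod_congr rfl
  intro k _
  unfold kapp
  split_ifs
  · simp
  · rw [X_pow_eq_monomial]

theorem good_decomp [Fact p.Prime] {a : ℕ} (α : Fin n →₀ ℕ) (s : Set.powersetCard (Fin n) a)
    (hg : good lg p α s) : ∃ γ : Fin n →₀ ℕ, α = p • γ + bet lg p s := by
  have hp : p.Prime := Fact.out
  refine ⟨Finsupp.equivFunOnFinite.symm (fun ν => (α ν + cnt lg ν s) / p - cnt lg ν s), ?_⟩
  ext ν
  rw [Finsupp.add_apply, Finsupp.smul_apply, bet_apply, Finsupp.equivFunOnFinite_symm_apply_apply,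
    smul_eq_mul]
  obtain ⟨t, ht⟩ := hg ν
  rw [ht, Nat.mul_div_cancel_left _ hp.pos]
  have hc : cnt lg ν s = 0 ∨ cnt lg ν s = 1 := by
    unfold cnt; split_ifs <;> simp
  rcases hc with hc | hc
  · rw [hc] at ht ⊢
    simp only [add_zero] at ht
    simp [ht]
  · rw [hc] at ht ⊢
    rcases t with _ | t
    · simp at ht
    · have : p * (t + 1) = p * t + p := by ring
      have h2 := hp.two_le
      simp only [add_tsub_cancel_right, mul_one]
      omega

theorem good_add_bet [Fact p.Prime] {a : ℕ} (γ : Fin n →₀ ℕ) (s : Set.powersetCard (Fin n) a) :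
    good lg p (p • γ + bet lg p s) s := by
  have hp : p.Prime := Fact.out
  intro ν
  rw [Finsupp.add_apply, Finsupp.smul_apply, bet_apply, smul_eq_mul]
  have hc : cnt lg ν s = 0 ∨ cnt lg ν s = 1 := by
    unfold cnt; split_ifs <;> simp
  rcases hc with hc | hc
  · rw [hc]; simp
  · rw [hc]
    rcases p with _ | p
    · exact absurd hp Nat.not_prime_zero
    · refine ⟨γ ν + 1, ?_⟩
      simp only [add_tsub_cancel_right, mul_one]
      ring

theorem expand_smul_E (a : ℕ) (γ : Fin n →₀ ℕ) (c : R) (s : Set.powersetCard (Fin n) a) :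
    expand p (monomial γ c) • ιMulti_family (MvPolynomial (Fin n) R) a (ws lg θ p) s =
      monomial (p • γ + bet lg p s) c • ιMulti_family (MvPolynomial (Fin n) R) a θ s := by
  rw [E_eq, smul_smul, expand_monomial, monomial_mul, mul_one]

end Cartier

section Main

variable (d : ∀ q : ℕ, ↥(⋀[MvPolynomial (Fin n) R]^q L) →ₗ[R] ↥(⋀[MvPolynomial (Fin n) R]^(q + 1) L))
  (Adm : L → Prop) (p : ℕ)

/-- combinations of the `e_s` with coefficients in `R[t^p]`. -/
def IsCart (a : ℕ) (x : ↥(⋀[MvPolynomial (Fin n) R]^a L)) : Prop :=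
  ∃ g : Set.powersetCard (Fin n) a → MvPolynomial (Fin n) R,
    x = ∑ s, expand p (g s) • ιMulti_family (MvPolynomial (Fin n) R) a (ws lg θ p) s

theorem isCart_zero (a : ℕ) : IsCart lg θ p a 0 := ⟨0, by simp⟩

theorem isCart_add (a : ℕ) (x y : ↥(⋀[MvPolynomial (Fin n) R]^a L))
    (hx : IsCart lg θ p a x) (hy : IsCart lg θ p a y) : IsCart lg θ p a (x + y) := by
  obtain ⟨g₁, rfl⟩ := hx
  obtain ⟨g₂, rfl⟩ := hy
  refine ⟨g₁ + g₂, ?_⟩
  rw [← Finset.sum_add_distrib]
  apply Finset.sum_congr rfl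
  intro s _
  rw [Pi.add_apply, map_add, add_smul]

theorem isCart_single (a : ℕ) (f : MvPolynomial (Fin n) R) (s : Set.powersetCard (Fin n) a) :
    IsCart lg θ p a (expand p f • ιMulti_family (MvPolynomial (Fin n) R) a (ws lg θ p) s) := by
  classical
  refine ⟨Pi.single s f, ?_⟩
  rw [Finset.sum_eq_single s]
  · rw [Pi.single_eq_same]
  · intro t _ hts
    rw [Pi.single_eq_of_ne hts, map_zero, zero_smul]
  · simp

variable [Fact p.Prime] [CharP R p]

theorem Pr_isCart (hδ : ∀ ν, δL (X ν) = kap R lg ν • θ ν) (hAθ : ∀ ν, Adm (θ ν))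
    (hrule : ∀ (q : ℕ) (b₀ : MvPolynomial (Fin n) R) (v : Fin q → L), (∀ k, Adm (v k)) →
      d q (b₀ • ιMulti (MvPolynomial (Fin n) R) q v) =
        ιMulti (MvPolynomial (Fin n) R) (q + 1) (Fin.cons (δL b₀) v)) (a : ℕ)
    (x : ↥(⋀[MvPolynomial (Fin n) R]^a L)) : IsCart lg θ p a (Pr lg θ d p a x) := by
  classical
  induction x using gen_induction θ a with
  | h0 => rw [map_zero]; exact isCart_zero lg θ p a
  | hadd x y hx hy => rw [map_add]; exact isCart_add lg θ p a _ _ hx hy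
  | hgen α c s =>
    by_cases hg : good lg p α s
    · rw [(Pr_mono lg θ δL d Adm p hδ hAθ hrule a α c s).1 hg]
      obtain ⟨γ, hγ⟩ := good_decomp lg p α s hg
      rw [hγ, ← expand_smul_E]
      exact isCart_single lg θ p a _ s
    · rw [(Pr_mono lg θ δL d Adm p hδ hAθ hrule a α c s).2 hg]
      exact isCart_zero lg θ p a

theorem d_Pr_zero (hδ : ∀ ν, δL (X ν) = kap R lg ν • θ ν) (hAθ : ∀ ν, Adm (θ ν))
    (hrule : ∀ (q : ℕ) (b₀ : MvPolynomial (Fin n) R) (v : Fin q → L), (∀ k, Adm (v k)) →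
      d q (b₀ • ιMulti (MvPolynomial (Fin n) R) q v) =
        ιMulti (MvPolynomial (Fin n) R) (q + 1) (Fin.cons (δL b₀) v)) (a : ℕ)
    (x : ↥(⋀[MvPolynomial (Fin n) R]^a L)) : d a (Pr lg θ d p a x) = 0 := by
  classical
  induction x using gen_induction θ a with
  | h0 => rw [map_zero, map_zero]
  | hadd x y hx hy => rw [map_add, map_add, hx, hy, add_zero]
  | hgen α c s =>
    by_cases hg : good lg p α s
    · rw [(Pr_mono lg θ δL d Adm p hδ hAθ hrule a α c s).1 hg]
      apply d_mono_zero lg θ δL d Adm p hδ hAθ hrule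
      intro ν hν
      have := hg ν
      rwa [cnt, if_neg (fun h => hν h.1), add_zero] at this
    · rw [(Pr_mono lg θ δL d Adm p hδ hAθ hrule a α c s).2 hg, map_zero]

theorem Pr_E (hδ : ∀ ν, δL (X ν) = kap R lg ν • θ ν) (hAθ : ∀ ν, Adm (θ ν))
    (hrule : ∀ (q : ℕ) (b₀ : MvPolynomial (Fin n) R) (v : Fin q → L), (∀ k, Adm (v k)) →
      d q (b₀ • ιMulti (MvPolynomial (Fin n) R) q v) =
        ιMulti (MvPolynomial (Fin n) R) (q + 1) (Fin.cons (δL b₀) v)) (a : ℕ)
    (f : MvPolynomial (Fin n) R) (s : Set.powersetCard (Fin n) a) :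
    Pr lg θ d p a (expand p f • ιMulti_family (MvPolynomial (Fin n) R) a (ws lg θ p) s) =
      expand p f • ιMulti_family (MvPolynomial (Fin n) R) a (ws lg θ p) s := by
  induction f using MvPolynomial.induction_on' with
  | monomial γ c =>
    rw [expand_smul_E]
    exact (Pr_mono lg θ δL d Adm p hδ hAθ hrule a _ c s).1 (good_add_bet lg p γ s)
  | add f₁ f₂ h₁ h₂ =>
    rw [map_add, add_smul, map_add, h₁, h₂]

theorem d_E (hδ : ∀ ν, δL (X ν) = kap R lg ν • θ ν) (hAθ : ∀ ν, Adm (θ ν))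
    (hrule : ∀ (q : ℕ) (b₀ : MvPolynomial (Fin n) R) (v : Fin q → L), (∀ k, Adm (v k)) →
      d q (b₀ • ιMulti (MvPolynomial (Fin n) R) q v) =
        ιMulti (MvPolynomial (Fin n) R) (q + 1) (Fin.cons (δL b₀) v)) (a : ℕ)
    (f : MvPolynomial (Fin n) R) (s : Set.powersetCard (Fin n) a) :
    d a (expand p f • ιMulti_family (MvPolynomial (Fin n) R) a (ws lg θ p) s) = 0 := by
  rw [← Pr_E lg θ δL d Adm p hδ hAθ hrule a f s]
  exact d_Pr_zero lg θ δL d Adm p hδ hAθ hrule a _

theorem cob_closed (hdd : ∀ q : ℕ, d (q + 1) ∘ₗ d q = 0) (a : ℕ)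
    (η : ↥(⋀[MvPolynomial (Fin n) R]^a L)) (hη : η ∈ DeRham.coboundaries d a) : d a η = 0 := by
  rcases a with _ | q
  · have : η = 0 := (Submodule.mem_bot R).mp hη
    rw [this, map_zero]
  · obtain ⟨ζ, rfl⟩ := hη
    exact LinearMap.congr_fun (hdd q) ζ

theorem cartier_closed_iff (hδ : ∀ ν, δL (X ν) = kap R lg ν • θ ν) (hAθ : ∀ ν, Adm (θ ν))
    (hrule : ∀ (q : ℕ) (b₀ : MvPolynomial (Fin n) R) (v : Fin q → L), (∀ k, Adm (v k)) →
      d q (b₀ • ιMulti (MvPolynomial (Fin n) R) q v) =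
        ιMulti (MvPolynomial (Fin n) R) (q + 1) (Fin.cons (δL b₀) v)) (hdd : ∀ q : ℕ, d (q + 1) ∘ₗ d q = 0) (a : ℕ)
    (ω : ↥(⋀[MvPolynomial (Fin n) R]^a L)) :
    ω ∈ DeRham.cocycles d a ↔
      ∃ (g : Set.powersetCard (Fin n) a → MvPolynomial (Fin n) R)
        (η : ↥(⋀[MvPolynomial (Fin n) R]^a L)), η ∈ DeRham.coboundaries d a ∧
        ω = η + ∑ s, expand p (g s) • ιMulti_family (MvPolynomial (Fin n) R) a (ws lg θ p) s := by
  constructor
  · intro hω
    have hω' : d a ω = 0 := hω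
    obtain ⟨g, hg⟩ := Pr_isCart lg θ δL d Adm p hδ hAθ hrule a ω
    refine ⟨g, ω - Pr lg θ d p a ω,
      sub_Pl_mem_cob d (ev lg θ) p hdd (List.finRange n) a ω hω', ?_⟩
    rw [← hg, sub_add_cancel]
  · rintro ⟨g, η, hη, rfl⟩
    show d a _ = 0
    rw [map_add, cob_closed d hdd a η hη, map_sum, zero_add]
    apply Finset.sum_eq_zero
    intro s _
    exact d_E lg θ δL d Adm p hδ hAθ hrule a _ s

theorem cartier_indep (hδ : ∀ ν, δL (X ν) = kap R lg ν • θ ν) (hAθ : ∀ ν, Adm (θ ν))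
    (hrule : ∀ (q : ℕ) (b₀ : MvPolynomial (Fin n) R) (v : Fin q → L), (∀ k, Adm (v k)) →
      d q (b₀ • ιMulti (MvPolynomial (Fin n) R) q v) =
        ιMulti (MvPolynomial (Fin n) R) (q + 1) (Fin.cons (δL b₀) v)) (hdd : ∀ q : ℕ, d (q + 1) ∘ₗ d q = 0) (a : ℕ)
    (g : Set.powersetCard (Fin n) a → MvPolynomial (Fin n) R)
    (h : (∑ s, expand p (g s) • ιMulti_family (MvPolynomial (Fin n) R) a (ws lg θ p) s) ∈
      DeRham.coboundaries d a) : ∀ s, g s = 0 := by
  have hp : p.Prime := Fact.out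
  have hPS : Pr lg θ d p a
      (∑ s, expand p (g s) • ιMulti_family (MvPolynomial (Fin n) R) a (ws lg θ p) s) =
      ∑ s, expand p (g s) • ιMulti_family (MvPolynomial (Fin n) R) a (ws lg θ p) s := by
    rw [map_sum]
    apply Finset.sum_congr rfl
    intro s _
    exact Pr_E lg θ δL d Adm p hδ hAθ hrule a _ s
  have hS0 : (∑ s, expand p (g s) • ιMulti_family (MvPolynomial (Fin n) R) a (ws lg θ p) s) = 0 := by
    rcases a with _ | q
    · exact (Submodule.mem_bot R).mp h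
    · obtain ⟨η, hη⟩ := h
      rw [← hPS, ← hη]
      have := d_Pl d (ev lg θ) p hdd (List.finRange n) q η
      rw [Pr, ← this]
      exact d_Pr_zero lg θ δL d Adm p hδ hAθ hrule q η
  have hS1 : ∑ s, (expand p (g s) * monomial (bet lg p s) (1 : R)) •
      (θ.exteriorPower a) s = 0 := by
    rw [← hS0]
    apply Finset.sum_congr rfl
    intro s _
    rw [E_eq, smul_smul, basis_apply]
  have hli := Fintype.linearIndependent_iff.mp (θ.exteriorPower a).linearIndependent _ hS1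
  intro s
  have h1 := hli s
  rw [← expand_eq_zero hp.pos]
  ext m
  rw [coeff_zero]
  have h2 := coeff_mul_monomial m (bet lg p s) (1 : R) (expand p (g s))
  rw [h1, coeff_zero, mul_one] at h2
  exact h2.symm

end Main

end Groth.Agent.Lib.Helper85.CartierLog
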