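import Mathlib

/-!
# Characteristic polynomial of an endomorphism preserving an internal direct sum
-/

namespace Groth.Agent.Lib.Helper85.CharpolyInternal

open DirectSum Module

variable {K : Type*} [Field K] {V : Type*} [AddCommGroup V] [Module K V] [Module.Finite K V]
variable {ι : Type*} [Fintype ι] [LinearOrder ι]

theorem charpoly_eq_prod (A : ι → Submodule K V) (hA : DirectSum.IsInternal A)
    (hne : ∀ i, A i ≠ ⊥) (f : V →ₗ[K] V) (hf : ∀ i, ∀ x ∈ A i, f x ∈ A i) :
    f.charpoly = ∏ i, (f.restrict (hf i)).charpoly := by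
  classical
  let m : ι → ℕ := fun i => Module.finrank K (A i)
  let bν : ∀ i, Module.Basis (Fin (m i)) K (A i) := fun i => Module.finBasis K _
  let B := hA.collectedBasis bν
  let M : Matrix (Σ i, Fin (m i)) (Σ i, Fin (m i)) K := LinearMap.toMatrix B B f
  have hBy : ∀ y : (Σ i, Fin (m i)), B y = ((bν y.1 y.2 : A y.1) : V) := by
    intro y
    show (hA.collectedBasis bν) y = _
    rw [hA.collectedBasis_coe]
  have hfB : ∀ y : (Σ i, Fin (m i)), f (B y) ∈ A y.1 := by
    intro y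
    rw [hBy]
    exact hf _ _ (Subtype.mem _)
  have hMdiag : ∀ (i : ι) (a b : Fin (m i)),
      M ⟨i, a⟩ ⟨i, b⟩ = LinearMap.toMatrix (bν i) (bν i) (f.restrict (hf i)) a b := by
    intro i a b
    show LinearMap.toMatrix B B f ⟨i, a⟩ ⟨i, b⟩ = _
    rw [LinearMap.toMatrix_apply, LinearMap.toMatrix_apply]
    show (hA.collectedBasis bν).repr (f (B ⟨i, b⟩)) ⟨i, a⟩ = _
    rw [hA.collectedBasis_repr_of_mem bν (hfB ⟨i, b⟩)]
    congr 2
    apply Subtype.ext
    show f (B ⟨i, b⟩) = f ((bν i b : A i) : V)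
    rw [hBy]
  have hMoff : ∀ x y : (Σ i, Fin (m i)), x.1 ≠ y.1 → M x y = 0 := by
    rintro ⟨i, a⟩ ⟨j, b⟩ hne
    show LinearMap.toMatrix B B f ⟨i, a⟩ ⟨j, b⟩ = _
    rw [LinearMap.toMatrix_apply]
    show (hA.collectedBasis bν).repr (f (B ⟨j, b⟩)) ⟨i, a⟩ = 0
    exact hA.collectedBasis_repr_of_mem_ne bν (Ne.symm hne) (hfB ⟨j, b⟩)
  have hBT : M.BlockTriangular Sigma.fst := fun x y hlt => hMoff x y (ne_of_gt hlt)
  have himage : Finset.image (Sigma.fst : (Σ i, Fin (m i)) → ι) Finset.univ = Finset.univ := by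
    rw [Finset.eq_univ_iff_forall]
    intro i
    rw [Finset.mem_image]
    have hpos : 0 < m i := by
      haveI : Nontrivial (A i) := Submodule.nontrivial_iff_ne_bot.2 (hne i)
      exact Module.finrank_pos
    exact ⟨⟨i, ⟨0, hpos⟩⟩, Finset.mem_univ _, rfl⟩
  rw [← LinearMap.charpoly_toMatrix f B, hBT.charpoly, himage]
  refine Finset.prod_congr rfl fun i _ => ?_
  rw [← LinearMap.charpoly_toMatrix (f.restrict (hf i)) (bν i),
    ← Matrix.charpoly_reindex (Equiv.sigmaSubtype i)]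
  congr 1
  ext a b
  exact hMdiag i a b

end Groth.Agent.Lib.Helper85.CharpolyInternal
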