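import Mathlib
import Groth.Agent.Lib.Helper72.ExtTri
import Groth.Agent.Lib.Helper85.AOdd1

/-! `Ext¹_A(k⟦t⟧, k⟦t⟧)` has length 6 over the `E₆` ring `A = k⟦t³, t⁴⟧` (helper85). -/

set_option autoImplicit false
universe u
open PowerSeries

namespace Groth.Agent.Lib.Helper85.E6M3

open Groth.Agent.Lib.Helper85.AOdd (dv dv_mul dv_add mul_dv dv_mul_left Xpow_cancel)

noncomputable section

variable {k : Type u} [Field k]

local notation "B" => k⟦X⟧

/-- the hypothesis describing the `E₆` ring -/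
def Mono (A : Subalgebra k B) : Prop :=
  ∀ f : B, f ∈ A ↔ ∀ n : ℕ, coeff n f ≠ 0 → n ∈ AddSubmonoid.closure ({3, 4} : Set ℕ)

lemma mem_closure_iff (n : ℕ) :
    n ∈ AddSubmonoid.closure ({3, 4} : Set ℕ) ↔ n ≠ 1 ∧ n ≠ 2 ∧ n ≠ 5 := by
  rw [AddSubmonoid.mem_closure_pair]
  constructor
  · rintro ⟨a, b, h⟩
    simp only [smul_eq_mul] at h
    omega
  · intro h
    have h3 : n % 3 = 0 ∨ n % 3 = 1 ∨ n % 3 = 2 := by omega
    rcases h3 with h3 | h3 | h3
    · exact ⟨n / 3, 0, by simp only [smul_eq_mul]; omega⟩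
    · exact ⟨(n - 4) / 3, 1, by simp only [smul_eq_mul]; omega⟩
    · exact ⟨(n - 8) / 3, 2, by simp only [smul_eq_mul]; omega⟩

variable {A : Subalgebra k (PowerSeries k)}

lemma mem_iff (hA : Mono A) (f : B) :
    f ∈ A ↔ coeff 1 f = 0 ∧ coeff 2 f = 0 ∧ coeff 5 f = 0 := by
  rw [hA f]
  constructor
  · intro h
    refine ⟨?_, ?_, ?_⟩
    · by_contra h1; have := (mem_closure_iff 1).1 (h 1 h1); omega
    · by_contra h1; have := (mem_closure_iff 2).1 (h 2 h1); omega
    · by_contra h1; have := (mem_closure_iff 5).1 (h 5 h1); omega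
  · rintro ⟨h1, h2, h5⟩ n hn
    rw [mem_closure_iff]
    refine ⟨?_, ?_, ?_⟩ <;> rintro rfl <;> contradiction

lemma x3_mem (hA : Mono A) : (X : B) ^ 3 ∈ A := by
  rw [mem_iff hA]; simp [coeff_X_pow]

lemma x4_mem (hA : Mono A) : (X : B) ^ 4 ∈ A := by
  rw [mem_iff hA]; simp [coeff_X_pow]

lemma cond_mem (hA : Mono A) (g : B) : X ^ 6 * g ∈ A := by
  rw [mem_iff hA]; simp [coeff_X_pow_mul']

/-- `t³` as an element of `A` -/
def x3 (hA : Mono A) : A := ⟨X ^ 3, x3_mem hA⟩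
/-- `t⁴` as an element of `A` -/
def x4 (hA : Mono A) : A := ⟨X ^ 4, x4_mem hA⟩
/-- `t⁶ g` as an element of `A` -/
def cnd (hA : Mono A) (g : B) : A := ⟨X ^ 6 * g, cond_mem hA g⟩

/-- the module `M₃` -/
abbrev M3 (A : Subalgebra k B) : Submodule A B := Submodule.span A ({1, X, X ^ 2} : Set B)

lemma decomp (hA : Mono A) (f : B) :
    ∃ a b c : A, f = (a : B) + (b : B) * X + (c : B) * X ^ 2 := by
  have ha : f - C (coeff 1 f) * X ^ 1 - C (coeff 2 f) * X ^ 2 - C (coeff 5 f) * X ^ 5 ∈ A := by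
    rw [mem_iff hA]; simp [coeff_C_mul_X_pow]
  have hb : (C (coeff 1 f) : B) ∈ A := by rw [mem_iff hA]; simp [coeff_C]
  have hc : (C (coeff 2 f) + C (coeff 5 f) * X ^ 3 : B) ∈ A := by
    rw [mem_iff hA]; simp [coeff_C, coeff_C_mul_X_pow]
  refine ⟨⟨_, ha⟩, ⟨_, hb⟩, ⟨_, hc⟩, ?_⟩
  simp only
  ring

lemma M3_eq_top (hA : Mono A) : M3 A = ⊤ := by
  rw [eq_top_iff]
  intro f _
  obtain ⟨a, b, c, rfl⟩ := decomp hA f
  have : (a : B) + (b : B) * X + (c : B) * X ^ 2 = a • (1 : B) + b • (X : B) + c • (X ^ 2 : B) := by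
    simp only [Subalgebra.smul_def, smul_eq_mul, mul_one]
  rw [this]
  refine Submodule.add_mem _ (Submodule.add_mem _ ?_ ?_) ?_
  all_goals exact Submodule.smul_mem _ _ (Submodule.subset_span (by simp))

/-- `M₃ ≃ k⟦t⟧` -/
def eM (hA : Mono A) : M3 A ≃ₗ[A] B := LinearEquiv.ofTop (M3 A) (M3_eq_top hA)

lemma eM_apply (hA : Mono A) (x : M3 A) : eM hA x = (x : B) := rfl

lemma coe_eM_symm (hA : Mono A) (f : B) : (((eM hA).symm f : M3 A) : B) = f := rfl

/-- the presentation map to `k⟦t⟧` -/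
def pi0 (A : Subalgebra k B) : (A × A × A) →ₗ[A] B where
  toFun x := (x.1 : B) + (x.2.1 : B) * X + (x.2.2 : B) * X ^ 2
  map_add' x y := by
    simp only [Prod.fst_add, Prod.snd_add, Subalgebra.coe_add]; ring
  map_smul' a x := by
    simp only [Prod.smul_fst, Prod.smul_snd, smul_eq_mul, Subalgebra.coe_mul, RingHom.id_apply,
      Subalgebra.smul_def]; ring

lemma pi0_apply (x : A × A × A) :
    pi0 A x = (x.1 : B) + (x.2.1 : B) * X + (x.2.2 : B) * X ^ 2 := rfl

/-- the presentation `A³ → M₃` -/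
def pres (hA : Mono A) : (A × A × A) →ₗ[A] M3 A := (eM hA).symm.toLinearMap ∘ₗ pi0 A

lemma coe_pres (hA : Mono A) (x : A × A × A) : ((pres hA x : M3 A) : B) = pi0 A x := rfl

lemma pres_surjective (hA : Mono A) : Function.Surjective (pres hA) := by
  intro m
  obtain ⟨a, b, c, h⟩ := decomp hA (m : B)
  refine ⟨(a, b, c), ?_⟩
  apply Subtype.ext
  rw [coe_pres, pi0_apply, h]

lemma mem_ker (hA : Mono A) (x : A × A × A) :
    x ∈ LinearMap.ker (pres hA) ↔ (x.1 : B) + (x.2.1 : B) * X + (x.2.2 : B) * X ^ 2 = 0 := by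
  rw [LinearMap.mem_ker, Subtype.ext_iff, coe_pres, pi0_apply]
  rfl

instance instModM3 : Module A (M3 A) := Submodule.module _
instance instSMulM3 : SMul A (M3 A) := Submodule.smul _
instance instModKer (hA : Mono A) : Module A (LinearMap.ker (pres hA)) := Submodule.module _
instance instSMulKer (hA : Mono A) : SMul A (LinearMap.ker (pres hA)) := Submodule.smul _
instance instModHom (hA : Mono A) : Module A (LinearMap.ker (pres hA) →ₗ[A] M3 A) :=
  LinearMap.module
instance instSMulHom (hA : Mono A) : SMul A (LinearMap.ker (pres hA) →ₗ[A] M3 A) :=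
  LinearMap.instSMul

/-- `κ₁ = (-t⁴, t³, 0)` -/
def kap1 (hA : Mono A) : LinearMap.ker (pres hA) :=
  ⟨(-x4 hA, x3 hA, 0), by
    rw [mem_ker]
    simp only [x3, x4, NegMemClass.coe_neg, ZeroMemClass.coe_zero]
    ring⟩

/-- `κ₂ = (0, t⁴, -t³)` -/
def kap2 (hA : Mono A) : LinearMap.ker (pres hA) :=
  ⟨(0, x4 hA, -x3 hA), by
    rw [mem_ker]
    simp only [x3, x4, NegMemClass.coe_neg, ZeroMemClass.coe_zero]
    ring⟩

lemma ker_dvd (hA : Mono A) (x : LinearMap.ker (pres hA)) :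
    X ^ 3 ∣ ((x : A × A × A).2.1 : B) ∧ X ^ 3 ∣ ((x : A × A × A).2.2 : B) := by
  obtain ⟨⟨a, b, c⟩, hx⟩ := x
  rw [mem_ker] at hx
  simp only at hx ⊢
  obtain ⟨a1, a2, -⟩ := (mem_iff hA _).1 a.2
  obtain ⟨b1, b2, -⟩ := (mem_iff hA _).1 b.2
  obtain ⟨c1, c2, -⟩ := (mem_iff hA _).1 c.2
  have hx' : (a : B) + (b : B) * X ^ 1 + (c : B) * X ^ 2 = 0 := by rw [pow_one]; exact hx
  have h1 := congrArg (coeff 1) hx'
  have h2 := congrArg (coeff 2) hx'
  simp only [map_add, coeff_mul_X_pow', map_zero] at h1 h2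
  norm_num at h1 h2
  rw [a1, zero_add] at h1
  rw [a2, b1, zero_add, zero_add] at h2
  rw [X_pow_dvd_iff, X_pow_dvd_iff]
  constructor
  · intro m hm
    interval_cases m
    · rw [coeff_zero_eq_constantCoeff_apply]; exact h1
    · exact b1
    · exact b2
  · intro m hm
    interval_cases m
    · rw [coeff_zero_eq_constantCoeff_apply]; exact h2
    · exact c1
    · exact c2

lemma hom_formula (hA : Mono A) (φ : LinearMap.ker (pres hA) →ₗ[A] M3 A)
    (x : LinearMap.ker (pres hA)) :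
    X ^ 9 * ((φ x : M3 A) : B) =
      X ^ 6 * (((x : A × A × A).2.1 : B) + ((x : A × A × A).2.2 : B) * X)
          * ((φ (kap1 hA) : M3 A) : B)
        - X ^ 6 * ((x : A × A × A).2.2 : B) * ((φ (kap2 hA) : M3 A) : B) := by
  obtain ⟨⟨a, b, c⟩, hx⟩ := x
  have hx' := (mem_ker hA _).1 hx
  simp only at hx' ⊢
  have hk : (cnd hA (X ^ 3)) • (⟨(a, b, c), hx⟩ : LinearMap.ker (pres hA)) =
      (cnd hA ((b : B) + (c : B) * X)) • kap1 hA + (cnd hA (-(c : B))) • kap2 hA := by
    apply Subtype.ext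
    simp only [Submodule.coe_add, Submodule.coe_smul, kap1, kap2]
    refine Prod.ext ?_ (Prod.ext ?_ ?_)
    all_goals apply Subtype.ext
    all_goals simp only [cnd, x3, x4, Prod.smul_fst, Prod.smul_snd, Prod.fst_add, Prod.snd_add,
      smul_eq_mul, Subalgebra.coe_mul, Subalgebra.coe_add, NegMemClass.coe_neg,
      ZeroMemClass.coe_zero, mul_zero, Prod.smul_mk]
    · linear_combination (X ^ 9 : B) * hx'
    · ring
    · ring
  have := congrArg (fun y => ((φ y : M3 A) : B)) hk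
  simp only [map_add, map_smul, Submodule.coe_add, Submodule.coe_smul, Subalgebra.smul_def, cnd,
    smul_eq_mul] at this
  linear_combination this

/-- the `A`-linear map `ker → k⟦t⟧` with prescribed values `p`, `q` on `κ₁`, `κ₂` -/
def mkHom0 (hA : Mono A) (p q : B) : LinearMap.ker (pres hA) →ₗ[A] B where
  toFun x := dv 3 ((((x : A × A × A).2.1 : B) + ((x : A × A × A).2.2 : B) * X) * p
    - ((x : A × A × A).2.2 : B) * q)
  map_add' x y := by
    rw [← dv_add]; congr 1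
    simp only [Submodule.coe_add, Prod.snd_add, Prod.fst_add, Subalgebra.coe_add]; ring
  map_smul' s x := by
    simp only [RingHom.id_apply, Subalgebra.smul_def, smul_eq_mul]
    have hd : X ^ 3 ∣ (((x : A × A × A).2.1 : B) + ((x : A × A × A).2.2 : B) * X) * p
        - ((x : A × A × A).2.2 : B) * q :=
      dvd_sub (dvd_mul_of_dvd_left (dvd_add (ker_dvd hA x).1
        (dvd_mul_of_dvd_left (ker_dvd hA x).2 _)) _) (dvd_mul_of_dvd_left (ker_dvd hA x).2 _)
    rw [← dv_mul_left hd]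
    congr 1
    simp only [Submodule.coe_smul, Prod.smul_snd, Prod.smul_fst, smul_eq_mul, Subalgebra.coe_mul]
    ring

lemma mkHom0_kap1 (hA : Mono A) (p q : B) : mkHom0 hA p q (kap1 hA) = p := by
  simp only [mkHom0, kap1, x3, x4, LinearMap.coe_mk, AddHom.coe_mk, ZeroMemClass.coe_zero]
  have : ((X : B) ^ 3 + 0 * X) * p - 0 * q = X ^ 3 * p := by ring
  rw [this, dv_mul]

lemma mkHom0_kap2 (hA : Mono A) (p q : B) : mkHom0 hA p q (kap2 hA) = q := by
  simp only [mkHom0, kap2, x3, x4, LinearMap.coe_mk, AddHom.coe_mk, NegMemClass.coe_neg]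
  have : ((X : B) ^ 4 + -X ^ 3 * X) * p - -X ^ 3 * q = X ^ 3 * q := by ring
  rw [this, dv_mul]

/-- the same map with values in `M₃` -/
def mkHom (hA : Mono A) (p q : B) : LinearMap.ker (pres hA) →ₗ[A] M3 A :=
  (eM hA).symm.toLinearMap ∘ₗ mkHom0 hA p q

lemma coe_mkHom (hA : Mono A) (p q : B) (x : LinearMap.ker (pres hA)) :
    ((mkHom hA p q x : M3 A) : B) = mkHom0 hA p q x := rfl

/-- the coordinates on `Hom(ker, M₃)` -/
def ell (hA : Mono A) : (LinearMap.ker (pres hA) →ₗ[A] M3 A) →+ (Fin 6 → k) where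
  toFun φ t := if t.1 < 3 then coeff t.1 ((φ (kap1 hA) : M3 A) : B)
    else coeff (t.1 - 3) ((φ (kap2 hA) : M3 A) : B)
  map_zero' := by ext t; simp
  map_add' φ ψ := by
    ext t
    simp only [LinearMap.add_apply, Submodule.coe_add, map_add, Pi.add_apply]
    split_ifs <;> rfl

lemma ell_apply (hA : Mono A) (φ : LinearMap.ker (pres hA) →ₗ[A] M3 A) (t : Fin 6) :
    ell hA φ t = if t.1 < 3 then coeff t.1 ((φ (kap1 hA) : M3 A) : B)
      else coeff (t.1 - 3) ((φ (kap2 hA) : M3 A) : B) := rfl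

lemma ell_eq_zero_iff (hA : Mono A) (φ : LinearMap.ker (pres hA) →ₗ[A] M3 A) :
    ell hA φ = 0 ↔
      X ^ 3 ∣ ((φ (kap1 hA) : M3 A) : B) ∧ X ^ 3 ∣ ((φ (kap2 hA) : M3 A) : B) := by
  rw [X_pow_dvd_iff, X_pow_dvd_iff]
  constructor
  · intro h
    refine ⟨fun m hm => ?_, fun m hm => ?_⟩
    · have := congrFun h ⟨m, by omega⟩
      rw [ell_apply] at this
      simpa [hm] using this
    · have := congrFun h ⟨m + 3, by omega⟩
      rw [ell_apply] at this
      simpa using this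
  · rintro ⟨h1, h2⟩
    ext t
    rw [ell_apply]
    simp only [Pi.zero_apply]
    split_ifs with ht
    · exact h1 _ ht
    · exact h2 _ (by omega)

lemma ell_surjective (hA : Mono A) : Function.Surjective (ell hA) := by
  intro v
  refine ⟨mkHom hA (PowerSeries.mk fun n => if h : n < 3 then v ⟨n, by omega⟩ else 0)
    (PowerSeries.mk fun n => if h : n < 3 then v ⟨n + 3, by omega⟩ else 0), ?_⟩
  ext t
  rw [ell_apply, coe_mkHom, coe_mkHom, mkHom0_kap1, mkHom0_kap2, coeff_mk, coeff_mk]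
  split_ifs with h1 h2
  · rfl
  · congr 1
    apply Fin.ext
    simp only
    omega
  · exfalso
    have := t.2
    omega

/-- linear maps out of `A³` -/
lemma map_coords (ψ : (A × A × A) →ₗ[A] M3 A) (y : A × A × A) :
    ((ψ y : M3 A) : B) = (y.1 : B) * ((ψ (1, 0, 0) : M3 A) : B)
      + (y.2.1 : B) * ((ψ (0, 1, 0) : M3 A) : B) + (y.2.2 : B) * ((ψ (0, 0, 1) : M3 A) : B) := by
  have hy : y = y.1 • ((1 : A), (0 : A), (0 : A)) + y.2.1 • ((0 : A), (1 : A), (0 : A))
      + y.2.2 • ((0 : A), (0 : A), (1 : A)) := by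
    refine Prod.ext ?_ (Prod.ext ?_ ?_) <;> simp
  rw [congrArg ψ hy, map_add, map_add, map_smul, map_smul, map_smul]
  simp only [Submodule.coe_add, Submodule.coe_smul, Subalgebra.smul_def, smul_eq_mul]

/-- a linear map `A³ → k⟦t⟧` -/
def lin3 (A : Subalgebra k (PowerSeries k)) (u1 u2 : B) : (A × A × A) →ₗ[A] B where
  toFun y := (y.2.1 : B) * u1 + (y.2.2 : B) * u2
  map_add' x y := by
    simp only [Prod.snd_add, Prod.fst_add, Subalgebra.coe_add]; ring
  map_smul' s x := by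
    simp only [RingHom.id_apply, Subalgebra.smul_def, smul_eq_mul, Prod.smul_snd, Prod.smul_fst,
      Subalgebra.coe_mul]
    ring

lemma ell_ker (hA : Mono A) (φ : LinearMap.ker (pres hA) →ₗ[A] M3 A) :
    ell hA φ = 0 ↔
      ∃ ψ : (A × A × A) →ₗ[A] M3 A, ψ ∘ₗ (LinearMap.ker (pres hA)).subtype = φ := by
  rw [ell_eq_zero_iff]
  constructor
  · rintro ⟨⟨p', hp⟩, ⟨q', hq⟩⟩
    refine ⟨(eM hA).symm.toLinearMap ∘ₗ lin3 A p' (X * p' - q'), ?_⟩
    refine LinearMap.ext fun x => Subtype.ext ?_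
    have hf := hom_formula hA φ x
    rw [hp, hq] at hf
    apply Xpow_cancel (n := 9)
    rw [hf]
    show X ^ 9 * (lin3 A p' (X * p' - q') (x : A × A × A)) = _
    simp only [lin3, LinearMap.coe_mk, AddHom.coe_mk]
    ring
  · rintro ⟨ψ, rfl⟩
    constructor
    · have := map_coords ψ (kap1 hA : A × A × A)
      simp only [LinearMap.comp_apply, Submodule.subtype_apply]
      rw [this]
      simp only [kap1, x3, x4, NegMemClass.coe_neg, ZeroMemClass.coe_zero]
      exact ⟨-X * ((ψ (1, 0, 0) : M3 A) : B) + ((ψ (0, 1, 0) : M3 A) : B), by ring⟩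
    · have := map_coords ψ (kap2 hA : A × A × A)
      simp only [LinearMap.comp_apply, Submodule.subtype_apply]
      rw [this]
      simp only [kap2, x3, x4, NegMemClass.coe_neg, ZeroMemClass.coe_zero]
      exact ⟨X * ((ψ (0, 1, 0) : M3 A) : B) - ((ψ (0, 0, 1) : M3 A) : B), by ring⟩

/-- the constant coefficient `A → k` -/
def cc (A : Subalgebra k (PowerSeries k)) : A →+* k :=
  (PowerSeries.constantCoeff (R := k)).comp (A.val : A →+* B)

lemma cc_apply (a : A) : cc A a = coeff 0 (a : B) := by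
  simp [cc]

lemma cc_surjective (hA : Mono A) : Function.Surjective (cc A) := by
  intro c
  have hc : (C c : B) ∈ A := by rw [mem_iff hA]; simp
  exact ⟨⟨C c, hc⟩, by rw [cc_apply]; simp⟩

lemma coeff_mul_low (hA : Mono A) (a : A) (p : B) (i : ℕ) (hi : i < 3) :
    coeff i ((a : B) * p) = coeff 0 (a : B) * coeff i p := by
  obtain ⟨a1, a2, -⟩ := (mem_iff hA _).1 a.2
  rw [coeff_mul, Finset.sum_eq_single (0, i)]
  · rintro ⟨b1, b2⟩ hb hne
    have hb' := Finset.HasAntidiagonal.mem_antidiagonal.1 hb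
    simp only at hb' ⊢
    have : b1 = 1 ∨ b1 = 2 := by
      rcases Nat.eq_zero_or_pos b1 with h0 | h0
      · exfalso; apply hne; rw [h0] at hb' ⊢; congr 1; omega
      · omega
    rcases this with h | h
    · rw [h, a1, zero_mul]
    · rw [h, a2, zero_mul]
  · intro h
    exfalso; apply h
    rw [Finset.HasAntidiagonal.mem_antidiagonal]
    simp

lemma ell_smul (hA : Mono A) (a : A) (φ : LinearMap.ker (pres hA) →ₗ[A] M3 A) (t : Fin 6) :
    ell hA (a • φ) t = cc A a * ell hA φ t := by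
  rw [ell_apply, ell_apply, cc_apply]
  simp only [LinearMap.smul_apply, Submodule.coe_smul, Subalgebra.smul_def, smul_eq_mul]
  split_ifs with ht
  · exact coeff_mul_low hA a _ _ ht
  · exact coeff_mul_low hA a _ _ (by omega)

end

end Groth.Agent.Lib.Helper85.E6M3
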