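import Mathlib
import Groth.Agent.Lib.Helper85.E6M3

/-! `Ext¹_A(k⟦t⟧, k⟦t⟧)` has length 6 over the `E₆` ring: final statement (helper85). -/

set_option autoImplicit false
universe u
open PowerSeries

namespace Groth.Agent.Lib.Helper85.E6M3

set_option maxHeartbeats 800000 in
/-- **`Ext¹_A(M₃, M₃)` has length 6** (fourth conjunct of S15041). -/
theorem length_ext_M3 (k : Type u) [Field k] (A : Subalgebra k (PowerSeries k))
    (hmono : ∀ f : PowerSeries k, f ∈ A ↔ ∀ n : ℕ, PowerSeries.coeff n f ≠ 0 →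
      n ∈ AddSubmonoid.closure ({3, 4} : Set ℕ)) :
    Module.length ↥A (CategoryTheory.Abelian.Ext
      (ModuleCat.of ↥A ↥(Submodule.span ↥A ({1, (PowerSeries.X : PowerSeries k),
        (PowerSeries.X : PowerSeries k) ^ 2} : Set (PowerSeries k))))
      (ModuleCat.of ↥A ↥(Submodule.span ↥A ({1, (PowerSeries.X : PowerSeries k),
        (PowerSeries.X : PowerSeries k) ^ 2} : Set (PowerSeries k)))) 1) = 6 := by
  have hA : Mono A := hmono
  have e0 := @Groth.Agent.Lib.Helper72.ExtTri.length_ext_tri A _ k _ (cc A) (A × A × A) (M3 A) (M3 A)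
    _ _ _ _ _ _ _ (cc_surjective hA) (pres hA) (pres_surjective hA) 6
  have e1 := e0 (ell hA) (ell_surjective hA)
  have e2 := e1 (ell_ker hA)
  have e3 := e2 (by
    intro t φ _ a
    exact ell_smul hA a φ t)
  have h6 : ((6 : ℕ) : ℕ∞) = 6 := by norm_num
  rw [← h6]
  exact e3

end Groth.Agent.Lib.Helper85.E6M3
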