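import Mathlib
import Groth.Agent.Lib.Helper82.SigmaLocal
import Groth.Agent.Lib.Helper85.AdicBasis
import Groth.Agent.S19233

/-!
# Lang's lemma over a complete local ring with principal maximal ideal

Let `R` be a local ring, complete for its maximal ideal `𝔪 = (π)`, `σ` a ring endomorphism with
`σ π = π`, inducing `σbar` on the residue field which satisfies the solvability conditions
(h2), (h3) of the SigmaLin family.  Then every surjective `σ`-semilinear endomorphism of a
finite free `R`-module has a basis of fixed vectors.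
-/

namespace Groth.Agent.Lib.Helper85.FixedBasisComplete

open IsLocalRing Groth.Agent.Lib.Helper82.SigmaLocal Groth.Agent.Lib.Helper85.AdicBasis

universe u v

theorem exists_fixed_basis
    {R : Type u} [CommRing R] [IsLocalRing R] (π : R) (hπ : maximalIdeal R = Ideal.span {π})
    [IsAdicComplete (maximalIdeal R) R]
    (σ : R →+* R) (hσπ : σ π = π)
    (σbar : ResidueField R →+* ResidueField R)
    (hσbar : ∀ r : R, σbar (residue R r) = residue R (σ r))
    (h2 : ∀ (n : ℕ) (b : Fin (n + 1) → ResidueField R), b ≠ 0 →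
      ∃ x : ResidueField R, x ≠ 0 ∧
        x = ∑ i : Fin (n + 1), (⇑σbar)^[i.val + 1] x * (⇑σbar)^[i.val] (b (Fin.rev i)))
    (h3 : ∀ c : ResidueField R, ∃ y : ResidueField R, σbar y - y + c = 0)
    (M : Type v) [AddCommGroup M] [Module R M] [Module.Finite R M] [Module.Free R M]
    (T : M →ₛₗ[σ] M) (hT : Function.Surjective T) :
    ∃ (n : ℕ) (b : Module.Basis (Fin n) R M), ∀ i, T (b i) = b i := by
  classical
  -- completeness of `M`
  let e := Module.Free.chooseBasis R M
  haveI hprecR : IsPrecomplete (Ideal.span {π}) R := hπ ▸ (inferInstance : IsPrecomplete (maximalIdeal R) R)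
  haveI hhausR : IsHausdorff (Ideal.span {π}) R := hπ ▸ (inferInstance : IsHausdorff (maximalIdeal R) R)
  haveI : IsPrecomplete (Ideal.span {π}) M := isPrecomplete_of_basis _ e
  haveI : IsHausdorff (Ideal.span {π}) M := isHausdorff_of_basis _ e
  -- membership in `𝔪 M`
  have hmem : ∀ x : M, (Submodule.Quotient.mk x : Mbar R M) = 0 ↔ ∃ t : M, x = π • t := by
    intro x
    rw [Submodule.Quotient.mk_eq_zero, hπ]
    have := mem_span_pow_smul_top_iff π 1 x
    rw [pow_one, pow_one] at this
    exact this
  -- reduction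
  let Tb : Mbar R M →ₛₗ[σbar] Mbar R M := Tbar σ σbar hσbar T
  have hTb : ∀ m : M, Tb (Submodule.Quotient.mk m) = Submodule.Quotient.mk (T m) := fun m => rfl
  have h1 : Submodule.span (ResidueField R) (Set.range ⇑Tb) = ⊤ := by
    have : Set.range ⇑Tb = Set.univ := by
      rw [Set.range_eq_univ]
      intro x
      obtain ⟨m, rfl⟩ := Submodule.Quotient.mk_surjective _ x
      obtain ⟨m', rfl⟩ := hT m
      exact ⟨Submodule.Quotient.mk m', hTb m'⟩
    rw [this, Submodule.span_univ]
  obtain ⟨⟨bb, hbb⟩, hsurjb⟩ := Groth.Agent.S19233.result (ResidueField R) σbar (Mbar R M) Tb h1 h2 h3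
  -- surjectivity of `1 - T` on `M`
  let G : M →+ M := AddMonoidHom.id M - T.toAddMonoidHom
  have hGdef : ∀ m, G m = m - T m := fun m => rfl
  have hG : ∀ m, G (π • m) = π • G m := by
    intro m
    rw [hGdef, hGdef, T.map_smulₛₗ, hσπ, smul_sub]
  have hGsurj : Function.Surjective G := by
    apply surjective_of_surjective_mod π G hG
    intro u
    obtain ⟨wb, hwb⟩ := hsurjb (Submodule.Quotient.mk u)
    obtain ⟨w, rfl⟩ := Submodule.Quotient.mk_surjective _ wb
    simp only at hwb
    rw [hTb, ← Submodule.Quotient.mk_sub, ← sub_eq_zero, ← Submodule.Quotient.mk_sub, hmem] at hwb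
    obtain ⟨t, ht⟩ := hwb
    refine ⟨w, t, ?_⟩
    rw [hGdef, ← ht]; abel
  -- lifting fixed vectors
  have hlift : ∀ i, ∃ v : M, T v = v ∧ (Submodule.Quotient.mk v : Mbar R M) = bb i := by
    intro i
    obtain ⟨v0, hv0⟩ := Submodule.Quotient.mk_surjective _ (bb i)
    have hfix := hbb i
    rw [← hv0, hTb, ← sub_eq_zero, ← Submodule.Quotient.mk_sub, hmem] at hfix
    obtain ⟨z, hz⟩ := hfix
    obtain ⟨w, hw⟩ := hGsurj z
    rw [hGdef] at hw
    refine ⟨v0 + π • w, ?_, ?_⟩
    · rw [map_add, T.map_smulₛₗ, hσπ]
      have h1 : T v0 = v0 + π • z := by rw [← hz]; abel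
      have h2 : T w = w - z := by rw [← hw]; abel
      rw [h1, h2, smul_sub]; abel
    · rw [← hv0, Submodule.Quotient.mk_add]
      have : (Submodule.Quotient.mk (π • w) : Mbar R M) = 0 := (hmem _).2 ⟨w, rfl⟩
      rw [this, add_zero]
  choose v hvfix hvmk using hlift
  -- `v` spans `M`
  have hspan : ⊤ ≤ Submodule.span R (Set.range v) := by
    have hfg : (⊤ : Submodule R M).FG := Module.Finite.fg_top
    refine Submodule.le_of_le_smul_of_le_jacobson_bot hfg (maximalIdeal_le_jacobson ⊥) ?_
    intro m _
    -- coordinates of the class of `m`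
    choose c hc using fun i => residue_surjective (bb.repr (Submodule.Quotient.mk m) i)
    have hm : (Submodule.Quotient.mk m : Mbar R M) = Submodule.Quotient.mk (∑ i, c i • v i) := by
      conv_lhs => rw [← bb.sum_repr (Submodule.Quotient.mk m)]
      have hsum : (Submodule.Quotient.mk (∑ i, c i • v i) : Mbar R M) =
          ∑ i, (Submodule.Quotient.mk (c i • v i) : Mbar R M) :=
        map_sum (Submodule.mkQ (maximalIdeal R • (⊤ : Submodule R M))) _ _
      rw [hsum]
      refine Finset.sum_congr rfl fun i _ => ?_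
      rw [← hc i, ← hvmk i]
      rfl
    rw [← sub_eq_zero, ← Submodule.Quotient.mk_sub, Submodule.Quotient.mk_eq_zero] at hm
    have : m = ∑ i, c i • v i + (m - ∑ i, c i • v i) := by abel
    rw [this]
    refine Submodule.add_mem_sup ?_ hm
    exact Submodule.sum_mem _ fun i _ => Submodule.smul_mem _ _ (Submodule.subset_span ⟨i, rfl⟩)
  -- counting
  have hcard : Fintype.card (Fin (Module.finrank (ResidueField R) (Mbar R M))) ≤ Module.finrank R M := by
    rw [Fintype.card_fin, Module.finrank_eq_card_basis e]
    have hsp : Submodule.span (ResidueField R)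
        (Set.range (fun i => (Submodule.Quotient.mk (e i) : Mbar R M))) = ⊤ := by
      rw [eq_top_iff]
      intro x _
      obtain ⟨m, rfl⟩ := Submodule.Quotient.mk_surjective _ x
      have hsum : (Submodule.Quotient.mk (∑ i, e.repr m i • e i) : Mbar R M) =
          ∑ i, (Submodule.Quotient.mk (e.repr m i • e i) : Mbar R M) :=
        map_sum (Submodule.mkQ (maximalIdeal R • (⊤ : Submodule R M))) _ _
      rw [← e.sum_repr m, hsum]
      refine Submodule.sum_mem _ fun i _ => ?_
      have : (Submodule.Quotient.mk (e.repr m i • e i) : Mbar R M) =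
          residue R (e.repr m i) • (Submodule.Quotient.mk (e i) : Mbar R M) := rfl
      rw [this]
      exact Submodule.smul_mem _ _ (Submodule.subset_span ⟨i, rfl⟩)
    calc Module.finrank (ResidueField R) (Mbar R M)
        = Module.finrank (ResidueField R) (⊤ : Submodule (ResidueField R) (Mbar R M)) := (finrank_top _ _).symm
      _ = (Set.range (fun i => (Submodule.Quotient.mk (e i) : Mbar R M))).finrank (ResidueField R) := by
          rw [← hsp]; rfl
      _ ≤ Fintype.card _ := finrank_range_le_card _
  have hli := linearIndependent_of_top_le_span_of_card_le_finrank hspan hcard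
  refine ⟨_, Module.Basis.mk hli hspan, fun i => ?_⟩
  rw [Module.Basis.mk_apply]
  exact hvfix i

end Groth.Agent.Lib.Helper85.FixedBasisComplete
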