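import Groth.Agent.Lib.Helper85.FrobHensel

/-!
# Bijective Frobenius-semilinear maps on finite modules over a Noetherian local ring (helper85)

A bijective `p`-semilinear additive map `T` on a finite module `M` over a Noetherian local ring of
characteristic `p` forces `𝔪 M = 0`; hence Lang's theorem over the residue field applies.
-/

namespace Groth.Agent.Lib.Helper85.FrobBij

open TensorProduct

universe u v

variable {p : ℕ} [hp : Fact p.Prime] {R : Type u} [CommRing R] [IsLocalRing R] [CharP R p]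
variable {M : Type v} [AddCommGroup M] [Module R M]

local notation "𝔪" => IsLocalRing.maximalIdeal R
local notation "κ" => IsLocalRing.ResidueField R
local notation "res" => IsLocalRing.residue R
local notation "N" => (IsLocalRing.maximalIdeal R • ⊤ : Submodule R M)

theorem lang_of_bijective [IsNoetherianRing R] [Module.Finite R M] [IsSepClosed κ]
    (T : M →+ M) (hT : ∀ (r : R) (m : M), T (r • m) = r ^ p • T m)
    (hbij : Function.Bijective T) :
    Function.Surjective (fun m => T m - m) ∧
      Nat.card {m : M // T m = m} = p ^ Module.finrank κ (κ ⊗[R] M) := by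
  classical
  have h2 : 2 ≤ p := hp.out.two_le
  haveI : CharP κ p := by
    rw [CharP.charP_iff_prime_eq_zero hp.out]
    have : ((p : ℕ) : κ) = res ((p : ℕ) : R) := (map_natCast res p).symm
    rw [this, CharP.cast_eq_zero R p, map_zero]
  have hN : N = 𝔪 • ⊤ := rfl
  letI iM : Module κ (M ⧸ N) := inferInstanceAs (Module (R ⧸ 𝔪) (M ⧸ (𝔪 • ⊤ : Submodule R M)))
  haveI iT : IsScalarTower R κ (M ⧸ N) :=
    inferInstanceAs (IsScalarTower R (R ⧸ 𝔪) (M ⧸ (𝔪 • ⊤ : Submodule R M)))
  haveI iF : Module.Finite κ (M ⧸ N) := Module.Finite.of_restrictScalars_finite R κ (M ⧸ N)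
  -- `T` as a semilinear map over `R`
  let Tsl : M →ₛₗ[frobenius R p] M :=
    { toFun := T
      map_add' := map_add T
      map_smul' := fun r m => by rw [hT, frobenius_def] }
  -- `T N ⊆ 𝔪 N`
  have hTN : ∀ x ∈ N, T x ∈ 𝔪 • N := by
    intro x hx
    refine Submodule.smul_induction_on hx ?_ ?_
    · intro r hr m _
      rw [hT]
      have : r ^ p • T m = r • (r ^ (p - 1) • T m) := by
        rw [smul_smul, ← pow_succ', Nat.sub_add_cancel (by omega)]
      rw [this]
      refine Submodule.smul_mem_smul hr ?_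
      exact Submodule.smul_mem_smul (Ideal.pow_mem_of_mem _ hr _ (by omega)) trivial
    · intro x y hx hy
      rw [map_add]; exact Submodule.add_mem _ hx hy
  have hle : N ≤ Submodule.comap Tsl N := by
    intro x hx
    exact (Submodule.smul_le_right : 𝔪 • N ≤ N) (hTN x hx)
  let T'R : (M ⧸ N) →ₛₗ[frobenius R p] (M ⧸ N) := Submodule.mapQ N N Tsl hle
  have hT'R : ∀ m : M, T'R ((Submodule.mkQ N) m) = (Submodule.mkQ N) (T m) := fun m => rfl
  have hres : ∀ (r : R) (v : M ⧸ N), res r • v = r • v := by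
    intro r v
    exact (algebraMap_smul κ r v)
  let T' : (M ⧸ N) →ₛₗ[frobenius κ p] (M ⧸ N) :=
    { toFun := T'R
      map_add' := map_add T'R
      map_smul' := fun c v => by
        obtain ⟨r, rfl⟩ := IsLocalRing.residue_surjective c
        rw [hres, map_smulₛₗ, frobenius_def, frobenius_def, ← map_pow, hres] }
  have hT' : ∀ m : M, T' ((Submodule.mkQ N) m) = (Submodule.mkQ N) (T m) := fun m => rfl
  have hsurj' : Function.Surjective T' := by
    intro v
    obtain ⟨m, rfl⟩ := (Submodule.mkQ_surjective N) v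
    obtain ⟨m', rfl⟩ := hbij.2 m
    exact ⟨(Submodule.mkQ N) m', hT' m'⟩
  have hspan' : Submodule.span κ (Set.range T') = ⊤ := by
    rw [hsurj'.range_eq, Submodule.span_univ]
  have hinj' := FrobLang.injective_of_span T' hspan'
  -- `N ≤ 𝔪 N`
  have hNle : N ≤ 𝔪 • N := by
    intro x hx
    obtain ⟨y, rfl⟩ := hbij.2 x
    have hy : y ∈ N := by
      have h0 : T' ((Submodule.mkQ N) y) = 0 := by
        rw [hT', Submodule.mkQ_apply, Submodule.Quotient.mk_eq_zero]
        exact hx
      have := hinj' (h0.trans (map_zero T').symm)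
      rwa [Submodule.mkQ_apply, Submodule.Quotient.mk_eq_zero] at this
    exact hTN y hy
  have hNfg : Submodule.FG N := IsNoetherian.noetherian _
  have hjac : 𝔪 ≤ (⊥ : Ideal R).jacobson := by
    rw [IsLocalRing.jacobson_eq_maximalIdeal ⊥ bot_ne_top]
  have hNbot : N = ⊥ := Submodule.eq_bot_of_le_smul_of_le_jacobson_bot 𝔪 N hNfg hNle hjac
  have hq_inj : Function.Injective (Submodule.mkQ N) := by
    rw [← LinearMap.ker_eq_bot, Submodule.ker_mkQ, hNbot]
  have hq_bij : Function.Bijective (Submodule.mkQ N) := ⟨hq_inj, (Submodule.mkQ_surjective N)⟩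
  -- rank
  have hrank : Module.finrank κ (κ ⊗[R] M) = Module.finrank κ (M ⧸ N) := by
    let e0 : (κ ⊗[R] M) ≃ₗ[R] (M ⧸ N) := TensorProduct.quotTensorEquivQuotSMul M 𝔪
    let e : (κ ⊗[R] M) ≃ₗ[κ] (M ⧸ N) :=
      LinearEquiv.extendScalarsOfSurjective IsLocalRing.residue_surjective e0
    exact e.finrank_eq
  refine ⟨?_, ?_⟩
  · intro c
    obtain ⟨v, hv⟩ := FrobLang.surjective_sub T' hspan' ((Submodule.mkQ N) c)
    obtain ⟨m, rfl⟩ := (Submodule.mkQ_surjective N) v
    refine ⟨m, hq_inj ?_⟩
    simp only [map_sub]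
    rw [← hT']
    exact hv
  · have hiff : ∀ m : M, T m = m ↔ T' ((Submodule.mkQ N) m) = (Submodule.mkQ N) m := by
      intro m
      rw [hT']
      exact ⟨fun h => by rw [h], fun h => hq_inj h⟩
    let e : {m : M // T m = m} ≃ {v : M ⧸ N // T' v = v} :=
      Equiv.subtypeEquiv (Equiv.ofBijective (Submodule.mkQ N) hq_bij) hiff
    rw [Nat.card_congr e, FrobLang.card_fixed T' hspan', hrank]

end Groth.Agent.Lib.Helper85.FrobBij
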