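import Groth.Agent.Lib.Helper85.FrobLang
import Groth.Agent.Lib.Helper37.HenselEtale
import Groth.Agent.Lib.Helper45.JacEtale

/-!
# Lifting solutions of `A x^(p) - x = c` over a Henselian local ring of characteristic `p` (helper85)
-/

namespace Groth.Agent.Lib.Helper85.FrobHensel

open MvPolynomial

universe u

variable {p : ℕ} [hp : Fact p.Prime] {R : Type u} [CommRing R] {n : ℕ}

/-- `t` solves `A t^(p) - t = c`. -/
def IsSol (p : ℕ) {S : Type*} [CommRing S] (a : Matrix (Fin n) (Fin n) S) (c : Fin n → S)
    (t : Fin n → S) : Prop :=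
  ∀ i, ∑ j, a i j * t j ^ p - t i = c i

/-- the polynomial system. -/
noncomputable def sys (p : ℕ) (a : Matrix (Fin n) (Fin n) R) (c : Fin n → R) (i : Fin n) :
    MvPolynomial (Fin n) R :=
  ∑ j, C (a i j) * X j ^ p - X i - C (c i)

theorem aeval_sys {S : Type*} [CommRing S] [Algebra R S] (a : Matrix (Fin n) (Fin n) R)
    (c : Fin n → R) (t : Fin n → S) (i : Fin n) :
    aeval t (sys p a c i) =
      ∑ j, algebraMap R S (a i j) * t j ^ p - t i - algebraMap R S (c i) := by
  simp [sys]

theorem aeval_sys_eq_zero_iff {S : Type*} [CommRing S] [Algebra R S]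
    (a : Matrix (Fin n) (Fin n) R) (c : Fin n → R) (t : Fin n → S) :
    (∀ i, aeval t (sys p a c i) = 0) ↔
      IsSol p (a.map (algebraMap R S)) (fun i => algebraMap R S (c i)) t := by
  refine forall_congr' fun i => ?_
  rw [aeval_sys, sub_eq_zero]
  rfl

variable [CharP R p]

theorem pderiv_sys (a : Matrix (Fin n) (Fin n) R) (c : Fin n → R) (i k : Fin n) :
    pderiv k (sys p a c i) = if i = k then -1 else 0 := by
  classical
  have hp0 : ((p : ℕ) : MvPolynomial (Fin n) R) = 0 := CharP.cast_eq_zero _ p
  simp only [sys, map_sub, map_sum, pderiv_C, sub_zero, Derivation.leibniz, pderiv_pow, hp0,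
    zero_mul, smul_zero, zero_smul, add_zero, Finset.sum_const_zero, zero_sub, pderiv_X,
    smul_eq_mul, mul_zero]
  by_cases h : i = k
  · subst h; simp
  · have : k ≠ i := fun e => h e.symm
    simp [h, this]

/-- the system algebra is étale. -/
theorem etale_sys (a : Matrix (Fin n) (Fin n) R) (c : Fin n → R) :
    Algebra.Etale R (MvPolynomial (Fin n) R ⧸ Ideal.span (Set.range (sys p a c))) := by
  classical
  let Q := Groth.Agent.Lib.Helper45.JacEtale.pre (sys p a c)
  have hjac : IsUnit Q.jacobian := by
    rw [Groth.Agent.Lib.Helper45.JacEtale.pre_jacobian]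
    have : (Matrix.of fun i j : Fin n => pderiv j (sys p a c i)) =
        -(1 : Matrix (Fin n) (Fin n) (MvPolynomial (Fin n) R)) := by
      ext i j
      rw [Matrix.of_apply, pderiv_sys, Matrix.neg_apply, Matrix.one_apply]
      split_ifs <;> simp
    rw [this, Matrix.det_neg, Matrix.det_one, mul_one, map_pow, map_neg, map_one]
    exact IsUnit.pow _ (isUnit_one (M := MvPolynomial (Fin n) R ⧸ Ideal.span (Set.range (sys p a c)))).neg
  let P : Algebra.SubmersivePresentation R
      (MvPolynomial (Fin n) R ⧸ Ideal.span (Set.range (sys p a c))) (Fin n) (Fin n) :=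
    { toPreSubmersivePresentation := Q
      jacobian_isUnit := hjac }
  have : Algebra.IsStandardSmoothOfRelativeDimension 0 R
      (MvPolynomial (Fin n) R ⧸ Ideal.span (Set.range (sys p a c))) :=
    P.isStandardSmoothOfRelativeDimension (by simp [Algebra.Presentation.dimension])
  infer_instance

section Lift

variable [HenselianLocalRing R]

local notation "𝔪" => IsLocalRing.maximalIdeal R

/-- existence of lifts of solutions. -/
theorem exists_lift_sol (a : Matrix (Fin n) (Fin n) R) (c : Fin n → R)
    (t₀ : Fin n → R ⧸ 𝔪)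
    (h₀ : IsSol p (a.map (Ideal.Quotient.mk 𝔪)) (fun i => Ideal.Quotient.mk 𝔪 (c i)) t₀) :
    ∃ t : Fin n → R, IsSol p a c t ∧ ∀ i, Ideal.Quotient.mk 𝔪 (t i) = t₀ i := by
  haveI := etale_sys (p := p) a c
  have h₀' : ∀ i, aeval t₀ (sys p a c i) = 0 :=
    (aeval_sys_eq_zero_iff (S := R ⧸ 𝔪) a c t₀).mpr h₀
  let σ : (MvPolynomial (Fin n) R ⧸ Ideal.span (Set.range (sys p a c))) →ₐ[R] R ⧸ 𝔪 :=
    Ideal.Quotient.liftₐ _ (aeval t₀) (by
      intro x hx
      induction hx using Submodule.span_induction with
      | mem x hx =>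
        obtain ⟨i, rfl⟩ := hx
        exact h₀' i
      | zero => simp
      | add x y _ _ hx hy => rw [map_add, hx, hy, add_zero]
      | smul r x _ hx => rw [smul_eq_mul, map_mul, hx, mul_zero])
  obtain ⟨τ, hτ⟩ := Groth.Agent.Lib.Helper37.exists_lift_of_etale 𝔪 σ
  let q := Ideal.Quotient.mkₐ R (Ideal.span (Set.range (sys p a c)))
  refine ⟨fun i => τ (q (X i)), ?_, ?_⟩
  · have h1 : ∀ i, aeval (fun j => τ (q (X j))) (sys p a c i) = 0 := by
      intro i
      have e : aeval (fun j => τ (q (X j))) = τ.comp q := by
        apply MvPolynomial.algHom_ext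
        intro j
        rw [aeval_X]
        rfl
      rw [e, AlgHom.comp_apply]
      have : q (sys p a c i) = 0 :=
        Ideal.Quotient.eq_zero_iff_mem.mpr (Ideal.subset_span ⟨i, rfl⟩)
      rw [this, map_zero]
    have := (aeval_sys_eq_zero_iff (S := R) a c _).mp h1
    simpa [IsSol] using this
  · intro i
    have := congr($hτ (q (X i)))
    simp only [AlgHom.comp_apply, Ideal.Quotient.mkₐ_eq_mk] at this
    rw [this]
    change aeval t₀ (X i) = t₀ i
    rw [aeval_X]

/-- uniqueness of lifts of solutions. -/
theorem sol_unique (a : Matrix (Fin n) (Fin n) R) (c : Fin n → R) (t t' : Fin n → R)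
    (ht : IsSol p a c t) (ht' : IsSol p a c t')
    (h : ∀ i, Ideal.Quotient.mk 𝔪 (t i) = Ideal.Quotient.mk 𝔪 (t' i)) : t = t' := by
  have h2 : 2 ≤ p := hp.out.two_le
  set d : Fin n → R := fun i => t i - t' i with hd
  have hdm : ∀ i, d i ∈ 𝔪 := fun i => Ideal.Quotient.eq.mp (h i)
  have hde : ∀ i, d i = ∑ j, a i j * d j ^ p := by
    intro i
    have e1 := ht i
    have e2 := ht' i
    have : ∑ j, a i j * d j ^ p = ∑ j, a i j * t j ^ p - ∑ j, a i j * t' j ^ p := by
      rw [← Finset.sum_sub_distrib]
      refine Finset.sum_congr rfl fun j _ => ?_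
      rw [hd, sub_pow_char, mul_sub]
    rw [this]
    have : ∑ j, a i j * t j ^ p - t i = ∑ j, a i j * t' j ^ p - t' i := by rw [e1, e2]
    simp only [hd]
    linear_combination (-1 : R) * this
  set D : Ideal R := Ideal.span (Set.range d) with hD
  have hDfg : D.FG := by
    rw [hD]
    exact Submodule.fg_span (Set.finite_range d)
  have hle : D ≤ 𝔪 • D := by
    rw [hD, Ideal.span_le]
    rintro _ ⟨i, rfl⟩
    rw [SetLike.mem_coe, hde i]
    refine Ideal.sum_mem _ fun j _ => ?_
    refine Ideal.mul_mem_left _ _ ?_
    have : d j ^ p = d j ^ (p - 1) * d j := by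
      rw [← pow_succ, Nat.sub_add_cancel (by omega)]
    rw [this, smul_eq_mul]
    refine Ideal.mul_mem_mul ?_ (Ideal.subset_span ⟨j, rfl⟩)
    exact Ideal.pow_mem_of_mem _ (hdm j) _ (by omega)
  have hjac : 𝔪 ≤ (⊥ : Ideal R).jacobson := by
    rw [IsLocalRing.jacobson_eq_maximalIdeal ⊥ bot_ne_top]
  have hbot : D = ⊥ := Submodule.eq_bot_of_le_smul_of_le_jacobson_bot 𝔪 D hDfg hle hjac
  funext i
  have : d i ∈ D := Ideal.subset_span ⟨i, rfl⟩
  rw [hbot, Ideal.mem_bot] at this
  exact sub_eq_zero.mp this

end Lift

section Main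

variable [HenselianLocalRing R]

local notation "𝔪" => IsLocalRing.maximalIdeal R
local notation "κ" => IsLocalRing.ResidueField R
local notation "res" => IsLocalRing.residue R

theorem charP_quotient : CharP (κ) p := by
  rw [CharP.charP_iff_prime_eq_zero hp.out]
  have : ((p : ℕ) : κ) = res ((p : ℕ) : R) := (map_natCast res p).symm
  rw [this, CharP.cast_eq_zero R p, map_zero]

/-- the reduced semilinear map on `κ^n`. -/
noncomputable def Tbar [CharP (κ) p] (a : Matrix (Fin n) (Fin n) R) :
    (Fin n → κ) →ₛₗ[frobenius (κ) p] (Fin n → κ) where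
  toFun x := fun i => ∑ j, res (a i j) * x j ^ p
  map_add' x y := by
    funext i
    simp only [Pi.add_apply, add_pow_char, mul_add, Finset.sum_add_distrib]
  map_smul' c x := by
    funext i
    simp only [Pi.smul_apply, smul_eq_mul, mul_pow, frobenius_def, Finset.mul_sum]
    exact Finset.sum_congr rfl fun j _ => by ring

theorem Tbar_apply [CharP (κ) p] (a : Matrix (Fin n) (Fin n) R) (x : Fin n → κ)
    (i : Fin n) : Tbar (p := p) a x i = ∑ j, res (a i j) * x j ^ p := rfl

variable {M : Type*} [AddCommGroup M] [Module R M]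

/-- **Lang-type theorem over a strictly Henselian local ring of characteristic `p`.** -/
theorem lang_henselian [IsSepClosed (κ)] (b : Module.Basis (Fin n) R M)
    (T : M →+ M) (hT : ∀ (r : R) (m : M), T (r • m) = r ^ p • T m)
    (hspan : Submodule.span R (Set.range T) = ⊤) :
    Function.Surjective (fun m => T m - m) ∧ Nat.card {m : M // T m = m} = p ^ n := by
  classical
  haveI : CharP (κ) p := charP_quotient
  let a : Matrix (Fin n) (Fin n) R := fun i j => b.repr (T (b j)) i
  have hTm : ∀ m, T m = ∑ j, (b.repr m j) ^ p • T (b j) := by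
    intro m
    conv_lhs => rw [← b.sum_repr m]
    rw [map_sum]
    exact Finset.sum_congr rfl fun j _ => hT _ _
  have hcoord : ∀ m i, b.repr (T m) i = ∑ j, a i j * (b.repr m j) ^ p := by
    intro m i
    conv_lhs => rw [hTm m]
    rw [map_sum, Finsupp.coe_finset_sum, Finset.sum_apply]
    refine Finset.sum_congr rfl fun j _ => ?_
    rw [map_smul, Finsupp.smul_apply, smul_eq_mul, mul_comm]
  let red : M → (Fin n → κ) := fun m i => res (b.repr m i)
  have hredT : ∀ m, red (T m) = Tbar (p := p) a (red m) := by
    intro m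
    funext i
    simp only [red, Tbar_apply, hcoord, map_sum, map_mul, map_pow]
  have hred_surj : Function.Surjective red := by
    intro v
    choose t ht using fun i => IsLocalRing.residue_surjective (v i)
    refine ⟨b.equivFun.symm t, ?_⟩
    funext i
    simp only [red]
    rw [← b.equivFun_apply, LinearEquiv.apply_symm_apply, ht]
  have hspan' : Submodule.span (κ) (Set.range (Tbar (p := p) a)) = ⊤ := by
    rw [eq_top_iff]
    intro v hvtop
    clear hvtop
    obtain ⟨m, rfl⟩ := hred_surj v
    have hm : m ∈ Submodule.span R (Set.range T) := by rw [hspan]; trivial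
    induction hm using Submodule.span_induction with
    | mem x hx =>
      obtain ⟨m0, rfl⟩ := hx
      exact Submodule.subset_span ⟨red m0, (hredT m0).symm⟩
    | zero =>
      have : red 0 = 0 := by funext i; simp [red]
      rw [this]; exact Submodule.zero_mem _
    | add x y _ _ hx hy =>
      have : red (x + y) = red x + red y := by funext i; simp [red]
      rw [this]; exact Submodule.add_mem _ hx hy
    | smul r x _ hx =>
      have : red (r • x) = res r • red x := by funext i; simp [red]
      rw [this]; exact Submodule.smul_mem _ _ hx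
  have hfix_iff : ∀ m : M, T m = m ↔ IsSol p a 0 (b.equivFun m) := by
    intro m
    constructor
    · intro h i
      rw [Pi.zero_apply, sub_eq_zero, b.equivFun_apply]
      simp only [← hcoord, h]
    · intro h
      apply b.repr.injective
      ext i
      have := h i
      rw [Pi.zero_apply, sub_eq_zero] at this
      simp only [b.equivFun_apply] at this
      rw [hcoord, this]
  refine ⟨?_, ?_⟩
  · intro c
    obtain ⟨v, hv⟩ := FrobLang.surjective_sub (Tbar (p := p) a) hspan' (red c)
    have hsol : IsSol p (a.map (res))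
        (fun i => res (b.repr c i)) v := by
      intro i
      have := congrFun hv i
      simpa [Tbar_apply, red] using this
    obtain ⟨t, ht, -⟩ := exists_lift_sol (p := p) a (fun i => b.repr c i) v hsol
    refine ⟨b.equivFun.symm t, ?_⟩
    apply b.repr.injective
    ext i
    have hrepr : ∀ j, b.repr (b.equivFun.symm t) j = t j := by
      intro j
      rw [← b.equivFun_apply, LinearEquiv.apply_symm_apply]
    simp only [map_sub, Finsupp.coe_sub, Pi.sub_apply, hcoord, hrepr]
    exact ht i
  · let e1 : {m : M // T m = m} ≃ {t : Fin n → R // IsSol p a 0 t} :=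
      Equiv.subtypeEquiv b.equivFun.toEquiv hfix_iff
    let φ : {t : Fin n → R // IsSol p a 0 t} →
        {t : Fin n → κ // IsSol p (a.map (res)) 0 t} := fun t =>
      ⟨fun i => res (t.1 i), fun i => by
        have := congrArg (res) (t.2 i)
        simpa [map_sum] using this⟩
    have hφ : Function.Bijective φ := by
      constructor
      · intro t t' h
        apply Subtype.ext
        exact sol_unique (p := p) a 0 t.1 t'.1 t.2 t'.2 fun i => congrFun (congrArg Subtype.val h) i
      · intro v
        have hv : IsSol p (a.map (res))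
            (fun i => res ((0 : Fin n → R) i)) v.1 := by
          intro i
          simpa using v.2 i
        obtain ⟨t, ht, ht'⟩ := exists_lift_sol (p := p) a 0 v.1 hv
        exact ⟨⟨t, ht⟩, Subtype.ext (funext ht')⟩
    let e2 := Equiv.ofBijective φ hφ
    have e3 : {t : Fin n → κ // IsSol p (a.map (res)) 0 t} ≃
        {v : Fin n → κ // Tbar (p := p) a v = v} := by
      refine Equiv.subtypeEquivRight fun v => ?_
      constructor
      · intro h
        funext i
        have := h i
        rw [Pi.zero_apply, sub_eq_zero] at this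
        simpa [Tbar_apply] using this
      · intro h i
        have := congrFun h i
        rw [Pi.zero_apply, sub_eq_zero]
        simpa [Tbar_apply] using this
    rw [Nat.card_congr (e1.trans (e2.trans e3)), FrobLang.card_fixed (Tbar (p := p) a) hspan',
      Module.finrank_fin_fun]

end Main

end Groth.Agent.Lib.Helper85.FrobHensel
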