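import Mathlib

/-!
# Lang-type theorem for Frobenius-semilinear maps over a separably closed field (helper85)

`K` separably closed of characteristic `p`, `V` finite-dimensional, `T : V →ₛₗ[frobenius K p] V`
whose image spans `V`.  Then the `T`-fixed vectors span `V`, `T - 1` is surjective and there are
exactly `p ^ dim V` fixed vectors.
-/

namespace Groth.Agent.Lib.Helper85.FrobLang

open Polynomial

variable {p : ℕ} [hp : Fact p.Prime] {K : Type*} [Field K] [CharP K p]
variable {V : Type*} [AddCommGroup V] [Module K V]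

/-- semilinearity in `x ^ p` form -/
theorem map_smul_pow (T : V →ₛₗ[frobenius K p] V) (c : K) (v : V) : T (c • v) = c ^ p • T v := by
  rw [map_smulₛₗ, frobenius_def]

theorem map_sum_smul (T : V →ₛₗ[frobenius K p] V) {ι : Type*} (s : Finset ι) (c : ι → K)
    (v : ι → V) : T (∑ i ∈ s, c i • v i) = ∑ i ∈ s, c i ^ p • T (v i) := by
  rw [map_sum]
  exact Finset.sum_congr rfl fun i _ => map_smul_pow T _ _

/-- span-surjective implies injective -/
theorem injective_of_span [FiniteDimensional K V] (T : V →ₛₗ[frobenius K p] V)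
    (hspan : Submodule.span K (Set.range T) = ⊤) : Function.Injective T := by
  classical
  set n := Module.finrank K V with hn
  let b : Module.Basis (Fin n) K V := Module.finBasis K V
  have hT : ∀ v, T v = ∑ j, (b.repr v j) ^ p • T (b j) := by
    intro v
    conv_lhs => rw [← b.sum_repr v]
    exact map_sum_smul T _ _ _
  have hle : (⊤ : Submodule K V) ≤ Submodule.span K (Set.range fun j => T (b j)) := by
    rw [← hspan]
    refine Submodule.span_le.mpr ?_
    rintro _ ⟨v, rfl⟩
    rw [hT v]
    exact Submodule.sum_mem _ fun j _ =>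
      Submodule.smul_mem _ _ (Submodule.subset_span ⟨j, rfl⟩)
  have hli : LinearIndependent K fun j => T (b j) :=
    linearIndependent_of_top_le_span_of_card_eq_finrank hle (by simp [hn])
  rw [injective_iff_map_eq_zero]
  intro v hv
  rw [hT v] at hv
  have h0 := Fintype.linearIndependent_iff.mp hli _ hv
  have : b.repr v = 0 := by
    ext j
    have := h0 j
    simpa using pow_eq_zero_iff (hp.out.ne_zero) |>.mp this
  simpa using this

section Poly

variable (p) (K)

/-- the auxiliary polynomials: `X^p * U a i` is the additive polynomial `z_i`. -/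
noncomputable def U (a : ℕ → K) : ℕ → K[X]
  | 0 => C (a 0)
  | (i + 1) => X ^ (p * p - p) * (U a i) ^ p + C (a (i + 1))

variable {p} {K}

theorem one_le_pp : 1 ≤ p * p - p := by
  have h2 : 2 ≤ p := hp.out.two_le
  have : p * 2 ≤ p * p := Nat.mul_le_mul_left p h2
  omega

theorem derivative_U (a : ℕ → K) (i : ℕ) : derivative (U p K a i) = 0 := by
  have hp0 : ((p : ℕ) : K[X]) = 0 := CharP.cast_eq_zero K[X] p
  cases i with
  | zero => simp [U]
  | succ i =>
    have hpp : ((p * p - p : ℕ) : K[X]) = 0 := by
      have : p * p - p = p * (p - 1) := by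
        rw [Nat.mul_sub, Nat.mul_one]
      rw [this, Nat.cast_mul, hp0, zero_mul]
    simp only [U, derivative_add, derivative_mul, derivative_pow, derivative_C,
      hpp, hp0, zero_mul, mul_zero, add_zero, C_eq_natCast, derivative_X_pow]

theorem coeff_zero_U (a : ℕ → K) (i : ℕ) : (U p K a i).coeff 0 = a i := by
  cases i with
  | zero => simp [U]
  | succ i =>
    have h1 : 1 ≤ p * p - p := one_le_pp
    simp only [U, coeff_add, coeff_C_zero, mul_coeff_zero, coeff_X_pow]
    have : (0 : ℕ) ≠ p * p - p := by omega
    simp [this]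

theorem U_ne_zero_of_coeff (a : ℕ → K) (i : ℕ) (h : a i ≠ 0) : U p K a i ≠ 0 := by
  intro h0
  apply h
  rw [← coeff_zero_U (p := p) a i, h0, coeff_zero]

theorem U_succ_ne_zero (a : ℕ → K) (i : ℕ) (h : U p K a i ≠ 0) : U p K a (i + 1) ≠ 0 := by
  intro h0
  have h1 : 1 ≤ p * p - p := one_le_pp
  have e : X ^ (p * p - p) * (U p K a i) ^ p = C (-(a (i + 1))) := by
    have : U p K a (i + 1) = X ^ (p * p - p) * (U p K a i) ^ p + C (a (i + 1)) := rfl
    rw [this] at h0
    rw [C_neg]
    exact eq_neg_of_add_eq_zero_left h0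
  have hd := congrArg natDegree e
  rw [natDegree_C, natDegree_mul (pow_ne_zero _ X_ne_zero) (pow_ne_zero _ h), natDegree_X_pow] at hd
  omega

theorem U_ne_zero_of_le (a : ℕ → K) {i s : ℕ} (his : i ≤ s) (h : a i ≠ 0) : U p K a s ≠ 0 := by
  induction s, his using Nat.le_induction with
  | base => exact U_ne_zero_of_coeff a i h
  | succ s _ ih => exact U_succ_ne_zero a s ih

/-- the evaluated additive polynomials -/
noncomputable def z (a : ℕ → K) (i : ℕ) (y : K) : K := y ^ p * (U p K a i).eval y

theorem z_zero (a : ℕ → K) (y : K) : z (p := p) a 0 y = a 0 * y ^ p := by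
  simp [z, U, mul_comm]

theorem z_succ (a : ℕ → K) (i : ℕ) (y : K) :
    z (p := p) a (i + 1) y = (z (p := p) a i y) ^ p + a (i + 1) * y ^ p := by
  have hle : p ≤ p * p := Nat.le_mul_of_pos_left p hp.out.pos
  have e : y ^ p * y ^ (p * p - p) = (y ^ p) ^ p := by
    rw [← pow_add, ← pow_mul, Nat.add_sub_cancel' hle]
  simp only [z, U, eval_add, eval_mul, eval_pow, eval_X, eval_C]
  rw [mul_pow, ← e]
  ring

/-- key root: a nonzero `y` with `z_s(y) = y`. -/
theorem exists_root [IsSepClosed K] (a : ℕ → K) (s : ℕ) (h : U p K a s ≠ 0) :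
    ∃ y : K, y ≠ 0 ∧ z (p := p) a s y = y := by
  have h2 : 2 ≤ p := hp.out.two_le
  set g : K[X] := X ^ (p - 1) * U p K a s - 1 with hg
  have hp0 : ((p : ℕ) : K[X]) = 0 := CharP.cast_eq_zero K[X] p
  have hXg : X * g = X ^ p * U p K a s - X := by
    rw [hg, mul_sub, mul_one, ← mul_assoc, ← pow_succ', Nat.sub_add_cancel (by omega)]
  have hsep : g.Separable := by
    apply Separable.of_mul_right (f := X)
    rw [hXg, separable_def]
    have hd : derivative (X ^ p * U p K a s - X) = -1 := by
      rw [derivative_sub, derivative_mul, derivative_U, derivative_X_pow, derivative_X,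
        CharP.cast_eq_zero K p]
      simp
    rw [hd]
    exact isCoprime_one_right.neg_right
  have hdeg : g.degree ≠ 0 := by
    have hnd : 1 ≤ (X ^ (p - 1) * U p K a s).natDegree := by
      rw [natDegree_mul (pow_ne_zero _ X_ne_zero) h, natDegree_X_pow]
      omega
    have hlt : (1 : K[X]).degree < (X ^ (p - 1) * U p K a s).degree := by
      rw [degree_one]
      exact natDegree_pos_iff_degree_pos.mp hnd
    rw [hg, degree_sub_eq_left_of_degree_lt hlt]
    exact (lt_of_le_of_lt (by rw [degree_one]) hlt).ne'
  obtain ⟨y, hy⟩ := IsSepClosed.exists_root g hdeg hsep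
  have hy' : y ^ (p - 1) * (U p K a s).eval y = 1 := by
    have : g.eval y = 0 := hy
    rw [hg] at this
    simpa [sub_eq_zero] using this
  refine ⟨y, ?_, ?_⟩
  · rintro rfl
    rw [zero_pow (by omega), zero_mul] at hy'
    exact zero_ne_one hy'
  · have : y ^ p = y * y ^ (p - 1) := by
      rw [← pow_succ', Nat.sub_add_cancel (by omega)]
    rw [z, this, mul_assoc, hy', mul_one]

end Poly

section Fixed

variable [FiniteDimensional K V] [IsSepClosed K]

/-- minimal dependency in the orbit of `w`. -/
theorem exists_orbit_dep (T : V →ₛₗ[frobenius K p] V) (w : V) (hw : w ≠ 0) :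
    ∃ s : ℕ, LinearIndependent K (fun i : Fin (s + 1) => T^[(i : ℕ)] w) ∧
      T^[s + 1] w ∈ Submodule.span K (Set.range fun i : Fin (s + 1) => T^[(i : ℕ)] w) := by
  classical
  let P : ℕ → Prop := fun r => ¬ LinearIndependent K (fun i : Fin r => T^[(i : ℕ)] w)
  have hex : ∃ r, P r := by
    refine ⟨Module.finrank K V + 1, fun hli => ?_⟩
    have := hli.fintype_card_le_finrank
    simp at this
  have hmin : ∀ {m : ℕ}, m < Nat.find hex → ¬ P m := fun h => Nat.find_min hex h
  have hspec : P (Nat.find hex) := Nat.find_spec hex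
  set r := Nat.find hex with hr
  have hr0 : r ≠ 0 := by
    intro h0
    rw [h0] at hspec
    exact hspec linearIndependent_empty_type
  have hr1 : r ≠ 1 := by
    intro h1
    rw [h1] at hspec
    apply hspec
    rw [linearIndependent_unique_iff]
    simpa using hw
  obtain ⟨s, hs⟩ : ∃ s, r = s + 2 := ⟨r - 2, by omega⟩
  refine ⟨s, ?_, ?_⟩
  · have : ¬ P (s + 1) := hmin (by omega)
    exact not_not.mp this
  · rw [hs] at hspec
    have hli : LinearIndependent K (fun i : Fin (s + 1) => T^[(i : ℕ)] w) := by
      have : ¬ P (s + 1) := hmin (by omega)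
      exact not_not.mp this
    by_contra hnot
    apply hspec
    rw [linearIndependent_finSucc']
    exact ⟨hli, hnot⟩

/-- **Existence of a nonzero fixed vector.** -/
theorem exists_fixed_ne_zero [Nontrivial V] (T : V →ₛₗ[frobenius K p] V)
    (hinj : Function.Injective T) : ∃ v : V, v ≠ 0 ∧ T v = v := by
  classical
  obtain ⟨w, hw⟩ := exists_ne (0 : V)
  obtain ⟨s, hli, hmem⟩ := exists_orbit_dep T w hw
  obtain ⟨a0, ha0⟩ := (Submodule.mem_span_range_iff_exists_fun K).mp hmem
  let u : ℕ → V := fun i => T^[i] w
  have hu : ∀ i, u (i + 1) = T (u i) := fun i => Function.iterate_succ_apply' T i w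
  let a : ℕ → K := fun i => if h : i < s + 1 then a0 ⟨i, h⟩ else 0
  have ha : ∑ i ∈ Finset.range (s + 1), a i • u i = u (s + 1) := by
    rw [Finset.sum_range]
    change _ = T^[s + 1] w
    rw [← ha0]
    refine Finset.sum_congr rfl fun i _ => ?_
    have hi : (i : ℕ) < s + 1 := i.2
    simp only [a, u, dif_pos hi]
  -- some `a i ≠ 0`
  have hne : ∃ i, i ≤ s ∧ a i ≠ 0 := by
    by_contra hall
    push Not at hall
    have h0 : u (s + 1) = 0 := by
      rw [← ha]
      refine Finset.sum_eq_zero fun i hi => ?_
      rw [hall i (by simpa [Nat.lt_succ_iff] using hi), zero_smul]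
    have : T^[s + 1] w = T^[s + 1] 0 := by
      rw [iterate_map_zero]
      exact h0
    exact hw ((hinj.iterate (s + 1)) this)
  obtain ⟨i0, hi0, hai0⟩ := hne
  have hU : U p K a s ≠ 0 := U_ne_zero_of_le a hi0 hai0
  obtain ⟨y, hy0, hy⟩ := exists_root (p := p) a s hU
  refine ⟨∑ i ∈ Finset.range (s + 1), z (p := p) a i y • u i, ?_, ?_⟩
  · intro h0
    rw [Finset.sum_range] at h0
    have := Fintype.linearIndependent_iff.mp hli (fun i : Fin (s + 1) => z (p := p) a i y) h0
      (Fin.last s)
    rw [Fin.val_last, hy] at this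
    exact hy0 this
  · rw [map_sum_smul]
    -- LHS: ∑_{i<s+1} z_i^p • u_{i+1}
    have e1 : ∑ i ∈ Finset.range (s + 1), z (p := p) a i y ^ p • T (u i) =
        ∑ i ∈ Finset.range s, z (p := p) a i y ^ p • u (i + 1) + y ^ p • u (s + 1) := by
      rw [Finset.sum_range_succ, hy, hu s]
      congr 1
      exact Finset.sum_congr rfl fun i _ => by rw [hu i]
    have e2 : ∑ i ∈ Finset.range (s + 1), z (p := p) a i y • u i =
        ∑ i ∈ Finset.range s, z (p := p) a i y ^ p • u (i + 1) + y ^ p • u (s + 1) := by
      rw [Finset.sum_range_succ', ← ha, Finset.sum_range_succ' (fun i => a i • u i), z_zero,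
        smul_add, Finset.smul_sum]
      simp only [z_succ, add_smul, Finset.sum_add_distrib, smul_smul]
      rw [add_assoc]
      congr 1
      congr 1
      · exact Finset.sum_congr rfl fun i _ => by rw [mul_comm]
      · rw [mul_comm]
    rw [e1, e2]

end Fixed

section Main

variable [IsSepClosed K]

/-- Artin–Schreier equations are solvable in a separably closed field. -/
theorem exists_artinSchreier (c : K) : ∃ x : K, x ^ p - x = c := by
  have h2 : 2 ≤ p := hp.out.two_le
  set g : K[X] := X ^ p - X - C c with hg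
  have hsep : g.Separable := by
    rw [separable_def]
    have hd : derivative g = -1 := by
      rw [hg, derivative_sub, derivative_sub, derivative_X_pow, derivative_X, derivative_C,
        CharP.cast_eq_zero K p]
      simp
    rw [hd]
    exact isCoprime_one_right.neg_right
  have hdeg : g.degree ≠ 0 := by
    have h1 : (X + C c : K[X]).degree < (X ^ p : K[X]).degree := by
      rw [degree_X_pow, degree_X_add_C]
      exact_mod_cast (by omega : 1 < p)
    have : g = X ^ p - (X + C c) := by rw [hg]; ring
    rw [this, degree_sub_eq_left_of_degree_lt h1, degree_X_pow]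
    exact_mod_cast (by omega : p ≠ 0)
  obtain ⟨x, hx⟩ := IsSepClosed.exists_root g hdeg hsep
  refine ⟨x, ?_⟩
  have : g.eval x = 0 := hx
  rw [hg] at this
  simpa [sub_eq_zero] using this

variable [FiniteDimensional K V]

/-- The `K`-span of the fixed vectors. -/
def fixedSpan (T : V →ₛₗ[frobenius K p] V) : Submodule K V :=
  Submodule.span K {v | T v = v}

theorem map_mem_fixedSpan (T : V →ₛₗ[frobenius K p] V) {w : V} (hw : w ∈ fixedSpan T) :
    T w ∈ fixedSpan T := by
  induction hw using Submodule.span_induction with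
  | mem x hx =>
    have : T x = x := hx
    rw [this]
    exact Submodule.subset_span hx
  | zero => simp
  | add x y _ _ hx hy => rw [map_add]; exact Submodule.add_mem _ hx hy
  | smul c x _ hx => rw [map_smul_pow]; exact Submodule.smul_mem _ _ hx

theorem exists_sub_eq_of_mem_fixedSpan (T : V →ₛₗ[frobenius K p] V) {w : V}
    (hw : w ∈ fixedSpan T) : ∃ w' ∈ fixedSpan T, T w' - w' = w := by
  suffices h : ∀ c : K, ∃ w' ∈ fixedSpan T, T w' - w' = c • w by
    simpa using h 1
  induction hw using Submodule.span_induction with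
  | mem x hx =>
    intro c
    have hx' : T x = x := hx
    obtain ⟨a, ha⟩ := exists_artinSchreier (p := p) c
    refine ⟨a • x, Submodule.smul_mem _ _ (Submodule.subset_span hx), ?_⟩
    rw [map_smul_pow, hx', ← sub_smul, ha]
  | zero => intro c; exact ⟨0, Submodule.zero_mem _, by simp⟩
  | add x y _ _ hx hy =>
    intro c
    obtain ⟨x', hx'm, hx'⟩ := hx c
    obtain ⟨y', hy'm, hy'⟩ := hy c
    refine ⟨x' + y', Submodule.add_mem _ hx'm hy'm, ?_⟩
    rw [map_add, smul_add, ← hx', ← hy']
    abel
  | smul a x _ hx =>
    intro c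
    obtain ⟨x', hx'm, hx'⟩ := hx (c * a)
    exact ⟨x', hx'm, by rw [hx', mul_smul]⟩

/-- **The fixed vectors span.** -/
theorem fixedSpan_eq_top (T : V →ₛₗ[frobenius K p] V)
    (hspan : Submodule.span K (Set.range T) = ⊤) : fixedSpan T = ⊤ := by
  by_contra hne
  set W := fixedSpan T with hW
  have hle : W ≤ W.comap T := fun w hw => map_mem_fixedSpan T hw
  let T' : (V ⧸ W) →ₛₗ[frobenius K p] (V ⧸ W) := W.mapQ W T hle
  have hT' : ∀ v : V, T' (W.mkQ v) = W.mkQ (T v) := fun v => rfl
  have hspan' : Submodule.span K (Set.range T') = ⊤ := by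
    rw [eq_top_iff]
    intro x hxtop
    clear hxtop
    obtain ⟨v, rfl⟩ := W.mkQ_surjective x
    have hv : v ∈ Submodule.span K (Set.range T) := by rw [hspan]; trivial
    induction hv using Submodule.span_induction with
    | mem x hx =>
      obtain ⟨v0, rfl⟩ := hx
      exact Submodule.subset_span ⟨W.mkQ v0, hT' v0⟩
    | zero => simp
    | add x y _ _ hx hy => rw [map_add]; exact Submodule.add_mem _ hx hy
    | smul c x _ hx => rw [map_smul]; exact Submodule.smul_mem _ _ hx
  have hinj := injective_of_span T' hspan'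
  have : Nontrivial (V ⧸ W) := Submodule.Quotient.nontrivial_iff.mpr hne
  obtain ⟨x, hx0, hx⟩ := exists_fixed_ne_zero T' hinj
  obtain ⟨v, rfl⟩ := W.mkQ_surjective x
  apply hx0
  rw [hT', ← sub_eq_zero, ← map_sub, Submodule.mkQ_apply, Submodule.Quotient.mk_eq_zero] at hx
  obtain ⟨w', hw'm, hw'⟩ := exists_sub_eq_of_mem_fixedSpan T hx
  have hfix : T (v - w') = v - w' := by
    rw [map_sub]
    have e : T v = T w' - w' + v := by rw [hw']; abel
    rw [e]
    abel
  have hmem : v - w' ∈ W := Submodule.subset_span hfix
  have : v ∈ W := by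
    have := Submodule.add_mem _ hmem hw'm
    simpa using this
  rw [Submodule.mkQ_apply, Submodule.Quotient.mk_eq_zero]
  exact this

end Main

section Count

omit [CharP K p] in
/-- in characteristic `p` the equation `x ^ p = x` has exactly `p` solutions. -/
theorem card_frobenius_fixed [CharP K p] : Nat.card {x : K // x ^ p = x} = p := by
  classical
  have h2 : 2 ≤ p := hp.out.two_le
  letI : Algebra (ZMod p) K := ZMod.algebra K p
  set g : K[X] := X ^ p - X with hg
  have hg0 : g ≠ 0 := by
    intro h0
    have := congrArg (fun q => q.coeff p) h0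
    simp only [hg, coeff_sub, coeff_X_pow, coeff_X, coeff_zero] at this
    have hp1 : (1 : ℕ) ≠ p := by omega
    simp [hp1] at this
  have hnd : g.natDegree ≤ p := by
    rw [hg]
    refine (natDegree_sub_le _ _).trans ?_
    rw [natDegree_X_pow, natDegree_X]
    omega
  have hsub : ∀ x : K, x ^ p = x ↔ x ∈ g.roots.toFinset := by
    intro x
    rw [Multiset.mem_toFinset, mem_roots hg0, IsRoot.def, hg, eval_sub, eval_pow, eval_X,
      sub_eq_zero]
  have hfin : Nat.card {x : K // x ^ p = x} = g.roots.toFinset.card := by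
    rw [← Nat.card_eq_finsetCard]
    exact Nat.card_congr (Equiv.subtypeEquivRight hsub)
  have hle : Nat.card {x : K // x ^ p = x} ≤ p := by
    rw [hfin]
    exact (Multiset.toFinset_card_le _).trans ((card_roots' g).trans hnd)
  have hge : p ≤ Nat.card {x : K // x ^ p = x} := by
    have hfinite : Finite {x : K // x ^ p = x} := by
      have : {x : K | x ^ p = x} = ↑g.roots.toFinset := by
        ext x; exact hsub x
      have hf : {x : K | x ^ p = x}.Finite := by rw [this]; exact Finset.finite_toSet _
      exact hf.to_subtype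
    let φ : ZMod p → {x : K // x ^ p = x} := fun a =>
      ⟨algebraMap (ZMod p) K a, by rw [← map_pow, ZMod.pow_card]⟩
    have hφ : Function.Injective φ := by
      intro a b hab
      exact (algebraMap (ZMod p) K).injective (congrArg Subtype.val hab)
    have := Nat.card_le_card_of_injective φ hφ
    simpa using this
  omega

end Count

section Final

variable [IsSepClosed K] [FiniteDimensional K V]

/-- **Lang: `T - 1` is surjective.** -/
theorem surjective_sub (T : V →ₛₗ[frobenius K p] V)
    (hspan : Submodule.span K (Set.range T) = ⊤) : Function.Surjective fun v => T v - v := by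
  intro w
  have hw : w ∈ fixedSpan T := by rw [fixedSpan_eq_top T hspan]; trivial
  obtain ⟨w', -, hw'⟩ := exists_sub_eq_of_mem_fixedSpan T hw
  exact ⟨w', hw'⟩

/-- **Lang: there are exactly `p ^ dim V` fixed vectors.** -/
theorem card_fixed (T : V →ₛₗ[frobenius K p] V)
    (hspan : Submodule.span K (Set.range T) = ⊤) :
    Nat.card {v : V // T v = v} = p ^ Module.finrank K V := by
  classical
  obtain ⟨b, hbF, hbspan, hbli⟩ := exists_linearIndependent K {v : V | T v = v}
  have htop : ⊤ ≤ Submodule.span K (Set.range (Subtype.val : b → V)) := by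
    rw [Subtype.range_coe, hbspan]
    exact (fixedSpan_eq_top T hspan).ge
  let B : Module.Basis b K V := Module.Basis.mk hbli htop
  letI : Fintype b := FiniteDimensional.fintypeBasisIndex B
  have hB : ∀ i, T (B i) = B i := by
    intro i
    rw [Module.Basis.mk_apply]
    exact hbF i.2
  have hTv : ∀ v, T v = ∑ i, (B.repr v i) ^ p • B i := by
    intro v
    conv_lhs => rw [← B.sum_repr v]
    rw [map_sum_smul]
    exact Finset.sum_congr rfl fun i _ => by rw [hB i]
  have hiff : ∀ v : V, T v = v ↔ ∀ i, (B.equivFun v i) ^ p = B.equivFun v i := by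
    intro v
    constructor
    · intro h i
      have := congrArg (fun x => B.repr x i) (hTv v)
      simp only [h] at this
      rw [B.repr_sum_self] at this
      exact this.symm
    · intro h
      rw [hTv v]
      conv_rhs => rw [← B.sum_repr v]
      exact Finset.sum_congr rfl fun i _ => by
        have := h i
        rw [Module.Basis.equivFun_apply] at this
        rw [this]
  have e1 : {v : V // T v = v} ≃ {f : b → K // ∀ i, f i ^ p = f i} :=
    Equiv.subtypeEquiv B.equivFun.toEquiv hiff
  have e2 : {f : b → K // ∀ i, f i ^ p = f i} ≃ (b → {x : K // x ^ p = x}) :=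
    Equiv.subtypePiEquivPi (β := fun _ : b => K) (p := fun _ x => x ^ p = x)
  rw [Nat.card_congr (e1.trans e2), Nat.card_fun, card_frobenius_fixed,
    Module.finrank_eq_nat_card_basis B]

end Final

end Groth.Agent.Lib.Helper85.FrobLang
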