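import Mathlib
import Groth.Agent.Lib.Helper67.ExpP
import Groth.Agent.Lib.Helper27.LazardF

/-!
# Refined addition formula for the truncated exponential (helper85)

`E(βx + βy) = E(βx) E(βy) + β^p S(x,y) + β^(p+1) H` where `E(u) = Σ_{j<p} u^j/j!` and
`S(x,y) = Σ_{0<j<p} (C(p,j)/p) x^j y^(p-j)`.
-/

set_option autoImplicit false
universe u

namespace Groth.Agent.Lib.Helper85.GaGm

open Finset

section Abstract

variable (p : ℕ) [hp : Fact p.Prime] {B : Type*} [CommRing B]

/-- the part of total degree `< p` of `E(u) E(v)` is `E(u+v)` -/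
theorem exp_sum_eq (γ : ℕ → B)
    (hγ : ∀ i j, i + j < p → γ (i + j) * ((i + j).choose i : B) = γ i * γ j) (u v : B) :
    ∑ n ∈ range p, γ n * (u + v) ^ n =
      ∑ i ∈ range p, ∑ j ∈ range (p - i), γ i * u ^ i * (γ j * v ^ j) := by
  have hL : ∀ n ∈ range p, γ n * (u + v) ^ n =
      ∑ k ∈ Ico 0 (n + 1), γ k * u ^ k * (γ (n - k) * v ^ (n - k)) := by
    intro n hn
    rw [mem_range] at hn
    rw [add_pow, mul_sum, range_eq_Ico]
    refine sum_congr rfl (fun k hk => ?_)
    rw [mem_Ico] at hk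
    have hk' : k + (n - k) = n := by omega
    have := hγ k (n - k) (by omega)
    rw [hk'] at this
    calc γ n * (u ^ k * v ^ (n - k) * (n.choose k : B))
        = (γ n * (n.choose k : B)) * (u ^ k * v ^ (n - k)) := by ring
      _ = γ k * γ (n - k) * (u ^ k * v ^ (n - k)) := by rw [this]
      _ = _ := by ring
  rw [sum_congr rfl hL, range_eq_Ico,
    ← sum_Ico_Ico_comm 0 p (fun k n => γ k * u ^ k * (γ (n - k) * v ^ (n - k)))]
  refine sum_congr rfl (fun k hk => ?_)
  rw [sum_Ico_eq_sum_range, range_eq_Ico]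
  refine sum_congr rfl (fun j _ => ?_)
  rw [Nat.add_sub_cancel_left]

/-- refined addition formula, abstract form -/
theorem exp_add_refined (γ : ℕ → B)
    (hγ : ∀ i j, i + j < p → γ (i + j) * ((i + j).choose i : B) = γ i * γ j)
    (hγp : ∀ i, 0 < i → i < p → γ i * γ (p - i) = -((p.choose i / p : ℕ) : B))
    (β x y : B) :
    ∃ H : B, ∑ n ∈ range p, γ n * (β * x + β * y) ^ n =
      (∑ i ∈ range p, γ i * (β * x) ^ i) * (∑ j ∈ range p, γ j * (β * y) ^ j) +
        β ^ p * ∑ j ∈ Ioo 0 p, ((p.choose j / p : ℕ) : B) * x ^ j * y ^ (p - j) +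
        β ^ (p + 1) * H := by
  classical
  -- the terms of degree ≥ p, row by row
  have hrow : ∀ k ∈ range p, ∃ Hk : B,
      ∑ j ∈ Ico (p - k) p, γ k * (β * x) ^ k * (γ j * (β * y) ^ j) =
        (if 0 < k then -(β ^ p * (((p.choose k / p : ℕ) : B) * x ^ k * y ^ (p - k))) else 0) +
          β ^ (p + 1) * Hk := by
    intro k hk
    rw [mem_range] at hk
    by_cases hk0 : 0 < k
    · rw [if_pos hk0, sum_eq_sum_Ico_succ_bot (by omega)]
      refine ⟨∑ j ∈ Ico (p - k + 1) p, γ k * γ j * β ^ (k + j - (p + 1)) * x ^ k * y ^ j, ?_⟩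
      congr 1
      · have h1 := hγp k hk0 hk
        have h2 : k + (p - k) = p := by omega
        calc γ k * (β * x) ^ k * (γ (p - k) * (β * y) ^ (p - k))
            = (γ k * γ (p - k)) * β ^ (k + (p - k)) * x ^ k * y ^ (p - k) := by
              rw [mul_pow, mul_pow, pow_add]; ring
          _ = _ := by rw [h1, h2]; ring
      · rw [mul_sum]
        refine sum_congr rfl (fun j hj => ?_)
        rw [mem_Ico] at hj
        have h2 : k + j = (p + 1) + (k + j - (p + 1)) := by omega
        calc γ k * (β * x) ^ k * (γ j * (β * y) ^ j)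
            = γ k * γ j * β ^ (k + j) * x ^ k * y ^ j := by
              rw [mul_pow, mul_pow, pow_add]; ring
          _ = _ := by rw [h2, pow_add, ← h2]; ring
    · have hk' : k = 0 := by omega
      subst hk'
      refine ⟨0, ?_⟩
      simp
  choose! Hk hHk using hrow
  refine ⟨-∑ k ∈ range p, Hk k, ?_⟩
  rw [exp_sum_eq p γ hγ, sum_mul_sum]
  have hsplit : ∀ i ∈ range p, ∑ j ∈ range p, γ i * (β * x) ^ i * (γ j * (β * y) ^ j) =
      ∑ j ∈ range (p - i), γ i * (β * x) ^ i * (γ j * (β * y) ^ j) +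
        ((if 0 < i then -(β ^ p * (((p.choose i / p : ℕ) : B) * x ^ i * y ^ (p - i))) else 0) +
          β ^ (p + 1) * Hk i) := by
    intro i hi
    rw [← hHk i hi, range_eq_Ico, range_eq_Ico, sum_Ico_consecutive _ (Nat.zero_le _)
      (Nat.sub_le p i)]
  rw [sum_congr rfl hsplit, sum_add_distrib, sum_add_distrib, ← mul_sum]
  have hS : ∑ i ∈ range p,
      (if 0 < i then -(β ^ p * (((p.choose i / p : ℕ) : B) * x ^ i * y ^ (p - i))) else 0) =
      -(β ^ p * ∑ j ∈ Ioo 0 p, ((p.choose j / p : ℕ) : B) * x ^ j * y ^ (p - j)) := by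
    rw [← sum_filter, mul_sum, ← sum_neg_distrib]
    refine sum_congr ?_ (fun _ _ => rfl)
    ext j
    simp only [mem_filter, mem_range, mem_Ioo]
    tauto
  rw [hS]
  ring

end Abstract

section Concrete

open Groth.Agent.Lib.Helper67.ExpP Groth.Agent.Lib.Helper27.Lazard

variable (p : ℕ) [hp : Fact p.Prime] {R : Type u} [CommRing R] [CharP R p]

/-- Wilson: `((p-1)! : R) = -1` in characteristic `p`. -/
theorem wilson_cast : (((p - 1).factorial : ℕ) : R) = -1 := by
  have h := ZMod.wilsons_lemma (p := p)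
  have h2 := congrArg (ZMod.castHom (dvd_refl p) R) h
  rwa [map_natCast, map_neg, map_one] at h2

/-- `1/(i! (p-i)!) = - C(p,i)/p` in characteristic `p`. -/
theorem inverse_factorial_mul_inverse_factorial (i : ℕ) (hi0 : 0 < i) (hip : i < p) :
    Ring.inverse ((i.factorial : ℕ) : R) * Ring.inverse (((p - i).factorial : ℕ) : R) =
      -((p.choose i / p : ℕ) : R) := by
  have hp' := hp.out
  have hu1 := isUnit_factorial (A := R) p hip
  have hu2 := isUnit_factorial (A := R) p (show p - i < p by omega)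
  have hdvd : p ∣ p.choose i := hp'.dvd_choose_self hi0.ne' hip
  have hN : (p.choose i / p) * i.factorial * (p - i).factorial = (p - 1).factorial := by
    have h1 := Nat.choose_mul_factorial_mul_factorial hip.le
    have h2 : p.factorial = p * (p - 1).factorial := by
      conv_lhs => rw [← Nat.sub_add_cancel hp'.one_lt.le]
      rw [Nat.factorial_succ, Nat.sub_add_cancel hp'.one_lt.le]
    have h3 : p * ((p.choose i / p) * i.factorial * (p - i).factorial) =
        p * (p - 1).factorial := by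
      rw [← h2, ← h1, ← mul_assoc, ← mul_assoc, Nat.mul_div_cancel' hdvd]
    exact Nat.eq_of_mul_eq_mul_left hp'.pos h3
  have hR : ((p.choose i / p : ℕ) : R) * ((i.factorial : ℕ) : R) * (((p - i).factorial : ℕ) : R) =
      -1 := by
    rw [← wilson_cast p (R := R), ← hN]
    push_cast
    ring
  calc Ring.inverse ((i.factorial : ℕ) : R) * Ring.inverse (((p - i).factorial : ℕ) : R)
      = -(((p.choose i / p : ℕ) : R) * ((i.factorial : ℕ) : R) * (((p - i).factorial : ℕ) : R)) *
          (Ring.inverse ((i.factorial : ℕ) : R) * Ring.inverse (((p - i).factorial : ℕ) : R)) := by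
        rw [hR]; ring
    _ = -((p.choose i / p : ℕ) : R) * ((((i.factorial : ℕ) : R) * Ring.inverse ((i.factorial : ℕ) : R)) *
          ((((p - i).factorial : ℕ) : R) * Ring.inverse (((p - i).factorial : ℕ) : R))) := by ring
    _ = _ := by
        rw [Ring.mul_inverse_cancel _ hu1, Ring.mul_inverse_cancel _ hu2]; ring

open MvPolynomial in
/-- the truncated exponential `exp_p(b X^(p^l))` is multiplicative up to `b^p T_l` modulo
`b^(p+1)`. -/
theorem aeval_expP_add_refined (b : R) (l : ℕ) :
    ∃ H : MvPolynomial (Fin 2) R,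
      Polynomial.aeval (X 0 + X 1 : MvPolynomial (Fin 2) R) (expP p b (p ^ l)) =
        Polynomial.aeval (X 0 : MvPolynomial (Fin 2) R) (expP p b (p ^ l)) *
          Polynomial.aeval (X 1 : MvPolynomial (Fin 2) R) (expP p b (p ^ l)) +
          C (b ^ p) * T (R := R) p l + C (b ^ (p + 1)) * H := by
  have hγ : ∀ i j, i + j < p →
      (C (Ring.inverse (((i + j).factorial : ℕ) : R)) : MvPolynomial (Fin 2) R) *
        ((i + j).choose i : MvPolynomial (Fin 2) R) =
      C (Ring.inverse ((i.factorial : ℕ) : R)) * C (Ring.inverse ((j.factorial : ℕ) : R)) := by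
    intro i j hij
    rw [← C_mul, ← inverse_factorial_mul_choose (A := R) p i j hij, C_mul, map_natCast]
  have hγp : ∀ i, 0 < i → i < p →
      (C (Ring.inverse ((i.factorial : ℕ) : R)) : MvPolynomial (Fin 2) R) *
        C (Ring.inverse (((p - i).factorial : ℕ) : R)) =
      -((p.choose i / p : ℕ) : MvPolynomial (Fin 2) R) := by
    intro i hi0 hip
    rw [← C_mul, inverse_factorial_mul_inverse_factorial (R := R) p i hi0 hip, C_neg, map_natCast]
  obtain ⟨H, hH⟩ := exp_add_refined p
    (fun j => (C (Ring.inverse ((j.factorial : ℕ) : R)) : MvPolynomial (Fin 2) R)) hγ hγp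
    (C b) (X 0 ^ p ^ l) (X 1 ^ p ^ l)
  refine ⟨H, ?_⟩
  have hT : T (R := R) p l = ∑ j ∈ Finset.Ioo 0 p,
      ((p.choose j / p : ℕ) : MvPolynomial (Fin 2) R) * (X 0 ^ p ^ l) ^ j *
        (X 1 ^ p ^ l) ^ (p - j) := by
    rw [T, Sp, map_sum]
    refine Finset.sum_congr rfl (fun j _ => ?_)
    rw [map_mul, map_mul, map_pow, map_pow, aeval_X, aeval_X, aeval_C, algebraMap_eq, map_natCast]
    rfl
  rw [aeval_expP, aeval_expP, aeval_expP, add_pow_char_pow, mul_add, algebraMap_eq, hT, C_pow,
    C_pow]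
  exact hH

end Concrete

end Groth.Agent.Lib.Helper85.GaGm
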