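import Mathlib
import Groth.Agent.Lib.Helper27.LazardF

/-!
# Lazard's symmetric cocycle lemma with control on the coefficients (helper85)

If all the coefficients of a symmetric additive 2-cocycle `F` over a ring `A` of characteristic `p`
lie in an ideal `𝔟`, then `F = δG + Σ rᵢ Tᵢ` with all the coefficients of `G` and all `rᵢ` in `𝔟`.
This is deduced from the plain statement (helper27, `Lazard.lazard`) applied to the fibre product
ring `A ×_{A/𝔟} A` and the cocycle `(F, 0)`.
-/

set_option autoImplicit false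
universe u

open MvPolynomial
open Groth.Agent.Lib.Helper27.Lazard

namespace Groth.Agent.Lib.Helper85.GaGm

variable {A : Type u} [CommRing A]

/-- the fibre product `A ×_{A/𝔟} A` as a subring of `A × A` -/
def dbl (𝔟 : Ideal A) : Subring (A × A) where
  carrier := {x | x.1 - x.2 ∈ 𝔟}
  mul_mem' := by
    intro x y hx hy
    have : (x * y).1 - (x * y).2 = x.1 * (y.1 - y.2) + (x.1 - x.2) * y.2 := by
      simp only [Prod.fst_mul, Prod.snd_mul]
      ring
    change (x * y).1 - (x * y).2 ∈ 𝔟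
    rw [this]
    exact 𝔟.add_mem (𝔟.mul_mem_left _ hy) (𝔟.mul_mem_right _ hx)
  one_mem' := by simp
  add_mem' := by
    intro x y hx hy
    have : (x + y).1 - (x + y).2 = (x.1 - x.2) + (y.1 - y.2) := by
      simp only [Prod.fst_add, Prod.snd_add]
      ring
    change (x + y).1 - (x + y).2 ∈ 𝔟
    rw [this]
    exact 𝔟.add_mem hx hy
  zero_mem' := by simp
  neg_mem' := by
    intro x hx
    have : (-x).1 - (-x).2 = -(x.1 - x.2) := by
      simp only [Prod.fst_neg, Prod.snd_neg]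
      ring
    change (-x).1 - (-x).2 ∈ 𝔟
    rw [this]
    exact 𝔟.neg_mem hx

/-- first projection -/
def pr1 (𝔟 : Ideal A) : dbl 𝔟 →+* A := (RingHom.fst A A).comp (dbl 𝔟).subtype

/-- second projection -/
def pr2 (𝔟 : Ideal A) : dbl 𝔟 →+* A := (RingHom.snd A A).comp (dbl 𝔟).subtype

lemma pr1_sub_pr2_mem (𝔟 : Ideal A) (x : dbl 𝔟) : pr1 𝔟 x - pr2 𝔟 x ∈ 𝔟 := x.2

lemma dbl_ext {σ : Type*} (𝔟 : Ideal A) {P Q : MvPolynomial σ (dbl 𝔟)}
    (h1 : map (pr1 𝔟) P = map (pr1 𝔟) Q) (h2 : map (pr2 𝔟) P = map (pr2 𝔟) Q) : P = Q := by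
  refine MvPolynomial.ext _ _ fun m => ?_
  have e1 := congrArg (coeff m) h1
  have e2 := congrArg (coeff m) h2
  rw [coeff_map, coeff_map] at e1 e2
  exact Subtype.ext (Prod.ext e1 e2)

lemma map_polyAeval {B C : Type*} [CommRing B] [CommRing C] (f : B →+* C) {σ : Type*}
    (x : MvPolynomial σ B) (G : Polynomial B) :
    map f (Polynomial.aeval x G) = Polynomial.aeval (map f x) (G.map f) := by
  rw [Polynomial.aeval_def, Polynomial.aeval_def, Polynomial.hom_eval₂, Polynomial.eval₂_map]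
  congr 1
  ext b
  simp

lemma map_delta {B C : Type*} [CommRing B] [CommRing C] (f : B →+* C) (G : Polynomial B) :
    map f (delta G) = delta (G.map f) := by
  simp only [delta, map_sub, map_polyAeval, map_add, map_X]

lemma map_Sp' {B C : Type*} [CommRing B] [CommRing C] (f : B →+* C) (p : ℕ) :
    map f (Sp B p) = Sp C p := by
  rw [Sp, Sp, map_sum]
  refine Finset.sum_congr rfl (fun j _ => ?_)
  rw [map_mul, map_mul, map_pow, map_pow, map_X, map_X, map_C, map_natCast]

lemma map_T {B C : Type*} [CommRing B] [CommRing C] (f : B →+* C) (p : ℕ) [Fact p.Prime]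
    [CharP B p] [CharP C p] (i : ℕ) :
    map f (T (R := B) p i) = T (R := C) p i := by
  rw [T, T, map_aeval2_ringHom, map_Sp']
  simp only [map_pow, map_X]

/-- Lazard's lemma with control on the coefficients. -/
theorem lazard_controlled (p : ℕ) [Fact p.Prime] [CharP A p] (𝔟 : Ideal A)
    (F : MvPolynomial (Fin 2) A) (hF : IsSC F) (hb : ∀ m, coeff m F ∈ 𝔟) :
    ∃ (G : Polynomial A) (N : ℕ) (r : ℕ → A), (∀ n, G.coeff n ∈ 𝔟) ∧ (∀ i, r i ∈ 𝔟) ∧
      F = delta G + ∑ i ∈ Finset.range N, C (r i) * T (R := A) p i := by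
  classical
  have : CharP (A × A) p := Prod.charP A A p
  have : CharP (dbl 𝔟) p := CharP.subring' (A × A) p (dbl 𝔟)
  -- the cocycle `(F, 0)`
  obtain ⟨Ft, hFt⟩ : ∃ Ft : MvPolynomial (Fin 2) (dbl 𝔟),
      Ft = ∑ m ∈ F.support, monomial m (⟨(coeff m F, 0), by
        change coeff m F - 0 ∈ 𝔟
        rw [sub_zero]
        exact hb m⟩ : dbl 𝔟) := ⟨_, rfl⟩
  have h1 : map (pr1 𝔟) Ft = F := by
    rw [hFt, map_sum]
    conv_rhs => rw [F.as_sum]
    refine Finset.sum_congr rfl (fun m _ => ?_)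
    rw [map_monomial]
    rfl
  have h2 : map (pr2 𝔟) Ft = 0 := by
    rw [hFt, map_sum]
    refine Finset.sum_eq_zero (fun m _ => ?_)
    rw [map_monomial]
    exact monomial_zero
  have hsc : IsSC Ft := by
    constructor
    · apply dbl_ext
      · rw [map_aeval2_ringHom, h1, map_X, map_X]
        exact hF.1
      · rw [map_aeval2_ringHom, h2, map_zero]
    · apply dbl_ext
      · have : map (pr1 𝔟) (coc Ft) = coc (map (pr1 𝔟) Ft) := by
          simp only [coc, map_sub, map_add, map_aeval2_ringHom, map_X]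
        rw [this, h1, hF.2, map_zero]
      · have : map (pr2 𝔟) (coc Ft) = coc (map (pr2 𝔟) Ft) := by
          simp only [coc, map_sub, map_add, map_aeval2_ringHom, map_X]
        rw [this, h2, coc_zero, map_zero]
  obtain ⟨Gt, N, rt, hrep⟩ := (lazard p Ft).1 hsc
  have hrep' : Ft = delta Gt + ∑ i ∈ Finset.range N, C (rt i) * T (R := dbl 𝔟) p i := hrep
  have e1 := congrArg (map (pr1 𝔟)) hrep'
  have e2 := congrArg (map (pr2 𝔟)) hrep'
  rw [h1, map_add, map_delta, map_sum] at e1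
  rw [h2, map_add, map_delta, map_sum] at e2
  refine ⟨Gt.map (pr1 𝔟) - Gt.map (pr2 𝔟), N, fun i => pr1 𝔟 (rt i) - pr2 𝔟 (rt i), ?_, ?_, ?_⟩
  · intro n
    rw [Polynomial.coeff_sub, Polynomial.coeff_map, Polynomial.coeff_map]
    exact pr1_sub_pr2_mem 𝔟 _
  · intro i
    exact pr1_sub_pr2_mem 𝔟 _
  · have hd : delta (Gt.map (pr1 𝔟) - Gt.map (pr2 𝔟)) =
        delta (Gt.map (pr1 𝔟)) - delta (Gt.map (pr2 𝔟)) := by
      simp only [delta, map_sub]
      ring
    rw [hd]
    have hs : ∑ i ∈ Finset.range N, C (pr1 𝔟 (rt i) - pr2 𝔟 (rt i)) * T (R := A) p i =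
        ∑ i ∈ Finset.range N, map (pr1 𝔟) (C (rt i) * T (R := dbl 𝔟) p i) -
          ∑ i ∈ Finset.range N, map (pr2 𝔟) (C (rt i) * T (R := dbl 𝔟) p i) := by
      rw [← Finset.sum_sub_distrib]
      refine Finset.sum_congr rfl (fun i _ => ?_)
      rw [map_mul, map_mul, map_C, map_C, map_T, map_T, C_sub, sub_mul]
    rw [hs]
    calc F = F - 0 := (sub_zero F).symm
      _ = _ := by
        conv_lhs => rw [e1, e2]
        ring
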