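import Mathlib

/-!
# Ideals of `p`-power roots in a ring with surjective Frobenius (helper85)
-/

set_option autoImplicit false
universe u

namespace Groth.Agent.Lib.Helper85.GaGm

section Numeric

theorem numeric_aux (p : ℕ) : ∀ k : ℕ, (p + k) * p ^ k ≤ p * (p + 1) ^ k := by
  intro k
  induction k with
  | zero => simp
  | succ k ih =>
    calc (p + (k + 1)) * p ^ (k + 1) = ((p + k + 1) * p) * p ^ k := by ring
      _ ≤ ((p + 1) * (p + k)) * p ^ k := by
          apply Nat.mul_le_mul_right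
          nlinarith
      _ = (p + 1) * ((p + k) * p ^ k) := by ring
      _ ≤ (p + 1) * (p * (p + 1) ^ k) := Nat.mul_le_mul_left _ ih
      _ = p * (p + 1) ^ (k + 1) := by ring

/-- `(p+1)^K` eventually beats `r p^(n+K)`. -/
theorem exists_numeric (p r n : ℕ) (hp : 0 < p) : ∃ K : ℕ, r * p ^ (n + K) + 1 ≤ (p + 1) ^ K := by
  refine ⟨(r + 1) * p ^ (n + 1), ?_⟩
  obtain ⟨K, hK⟩ : ∃ K, K = (r + 1) * p ^ (n + 1) := ⟨_, rfl⟩
  rw [← hK]
  have h1 := numeric_aux p K
  have h2 : p * ((r + 1) * p ^ (n + K)) ≤ p * (p + 1) ^ K := by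
    calc p * ((r + 1) * p ^ (n + K)) = ((r + 1) * p ^ (n + 1)) * p ^ K := by
          rw [pow_add, pow_add, pow_one]; ring
      _ = K * p ^ K := by rw [hK]
      _ ≤ (p + K) * p ^ K := Nat.mul_le_mul_right _ (Nat.le_add_left _ _)
      _ ≤ _ := h1
  have h3 := Nat.le_of_mul_le_mul_left h2 hp
  have h4 : 1 ≤ p ^ (n + K) := Nat.one_le_pow _ _ hp
  calc r * p ^ (n + K) + 1 ≤ r * p ^ (n + K) + p ^ (n + K) := Nat.add_le_add_left h4 _
    _ = (r + 1) * p ^ (n + K) := by ring
    _ ≤ _ := h3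

end Numeric

section Nilp

variable {R : Type u} [CommRing R]

/-- an ideal generated by finitely many nilpotent elements is nilpotent, with a bound -/
theorem span_image_pow_eq_bot {ι : Type*} (x : ι → R) (N : ℕ) (s : Finset ι)
    (hx : ∀ j ∈ s, x j ^ N = 0) :
    (Ideal.span (x '' (s : Set ι))) ^ (s.card * N + 1) = ⊥ := by
  classical
  induction s using Finset.induction_on with
  | empty => simp
  | insert a s ha ih =>
    rw [Finset.coe_insert, Set.image_insert_eq, Ideal.span_insert, Finset.card_insert_of_notMem ha]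
    have e : (s.card + 1) * N + 1 = N + (s.card * N + 1) := by ring
    rw [e, eq_bot_iff]
    refine Ideal.sup_pow_add_le_pow_sup_pow.trans ?_
    rw [ih (fun j hj => hx j (Finset.mem_insert_of_mem hj)), Ideal.span_singleton_pow,
      hx a (Finset.mem_insert_self a s)]
    simp

theorem span_range_pow_eq_bot {ι : Type*} [Fintype ι] (x : ι → R) (N : ℕ)
    (hx : ∀ j, x j ^ N = 0) :
    (Ideal.span (Set.range x)) ^ (Fintype.card ι * N + 1) = ⊥ := by
  have := span_image_pow_eq_bot x N Finset.univ (fun j _ => hx j)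
  rwa [Finset.coe_univ, Set.image_univ, Finset.card_univ] at this

end Nilp

section Roots

variable {R : Type u} [CommRing R] (p : ℕ) [hp : Fact p.Prime] [CharP R p]

/-- `p`-th roots in powers of ideals -/
theorem exists_root_pow (hF : Function.Surjective (frobenius R p)) (I I' : Ideal R)
    (h : ∀ x ∈ I, ∃ y ∈ I', y ^ p = x) (e : ℕ) : ∀ x ∈ I ^ e, ∃ y ∈ I' ^ e, y ^ p = x := by
  induction e with
  | zero =>
    intro x _
    obtain ⟨y, hy⟩ := hF x
    exact ⟨y, by simp, hy⟩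
  | succ e ih =>
    intro x hx
    rw [pow_succ] at hx
    refine Submodule.mul_induction_on hx ?_ ?_
    · intro m hm n hn
      obtain ⟨y, hy, rfl⟩ := ih m hm
      obtain ⟨z, hz, rfl⟩ := h n hn
      exact ⟨y * z, by rw [pow_succ]; exact Ideal.mul_mem_mul hy hz, mul_pow _ _ _⟩
    · rintro x y ⟨x', hx', rfl⟩ ⟨y', hy', rfl⟩
      exact ⟨x' + y', Ideal.add_mem _ hx' hy', add_pow_char x' y' p⟩

variable (hF : Function.Surjective (frobenius R p)) {ι : Type*} (a : ι → R)

/-- compatible sequences of `p`-power roots -/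
noncomputable def rootSeq : ℕ → ι → R
  | 0 => a
  | k + 1 => fun j => Classical.choose (hF (rootSeq k j))

theorem rootSeq_zero : rootSeq p hF a 0 = a := rfl

theorem rootSeq_succ_pow (k : ℕ) (j : ι) : rootSeq p hF a (k + 1) j ^ p = rootSeq p hF a k j :=
  Classical.choose_spec (hF (rootSeq p hF a k j))

theorem rootSeq_pow (k : ℕ) (j : ι) : rootSeq p hF a k j ^ p ^ k = a j := by
  induction k with
  | zero => simp [rootSeq_zero]
  | succ k ih => rw [pow_succ', pow_mul, rootSeq_succ_pow, ih]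

/-- the ideal generated by the `p^k`-th roots -/
noncomputable def rootIdeal (k : ℕ) : Ideal R := Ideal.span (Set.range (rootSeq p hF a k))

theorem rootIdeal_zero : rootIdeal p hF a 0 = Ideal.span (Set.range a) := rfl

theorem rootIdeal_le (k : ℕ) : rootIdeal p hF a k ≤ rootIdeal p hF a (k + 1) ^ p := by
  rw [rootIdeal, Ideal.span_le]
  rintro _ ⟨j, rfl⟩
  rw [← rootSeq_succ_pow]
  exact Ideal.pow_mem_pow (Ideal.subset_span (Set.mem_range_self j)) p

theorem rootIdeal_roots (k : ℕ) :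
    ∀ x ∈ rootIdeal p hF a k, ∃ y ∈ rootIdeal p hF a (k + 1), y ^ p = x := by
  intro x hx
  rw [rootIdeal] at hx
  induction hx using Submodule.span_induction with
  | mem x hx =>
    obtain ⟨j, rfl⟩ := hx
    exact ⟨rootSeq p hF a (k + 1) j, Ideal.subset_span ⟨j, rfl⟩, rootSeq_succ_pow p hF a k j⟩
  | zero => exact ⟨0, Ideal.zero_mem _, zero_pow (hp.out.ne_zero)⟩
  | add x y _ _ hx hy =>
    obtain ⟨x', hx', rfl⟩ := hx
    obtain ⟨y', hy', rfl⟩ := hy
    exact ⟨x' + y', Ideal.add_mem _ hx' hy', add_pow_char x' y' p⟩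
  | smul c x _ hx =>
    obtain ⟨x', hx', rfl⟩ := hx
    obtain ⟨d, hd⟩ := hF c
    refine ⟨d * x', Ideal.mul_mem_left _ _ hx', ?_⟩
    rw [mul_pow, smul_eq_mul]
    congr 1

theorem rootIdeal_pow_roots (k e : ℕ) :
    ∀ x ∈ rootIdeal p hF a k ^ e, ∃ y ∈ rootIdeal p hF a (k + 1) ^ e, y ^ p = x :=
  exists_root_pow p hF _ _ (rootIdeal_roots p hF a k) e

theorem rootIdeal_pow_eq_bot [Fintype ι] (n : ℕ) (ha : ∀ j, a j ^ p ^ n = 0) (k : ℕ) :
    rootIdeal p hF a k ^ (Fintype.card ι * p ^ (n + k) + 1) = ⊥ := by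
  apply span_range_pow_eq_bot
  intro j
  rw [add_comm n k, pow_add, pow_mul, rootSeq_pow, ha]

theorem rootIdeal_le_nilradical (n : ℕ) (ha : ∀ j, a j ^ p ^ n = 0) (k : ℕ) :
    rootIdeal p hF a k ≤ nilradical R := by
  rw [rootIdeal, Ideal.span_le]
  rintro _ ⟨j, rfl⟩
  change IsNilpotent _
  refine ⟨p ^ (k + n), ?_⟩
  rw [pow_add, pow_mul, rootSeq_pow, ha]

end Roots

end Groth.Agent.Lib.Helper85.GaGm
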