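import Mathlib

/-!
# Multiplicative symmetric 2-cocycles in `R[X,Y]ˣ` and coboundaries (helper85)
-/

set_option autoImplicit false
universe u

open MvPolynomial

namespace Groth.Agent.Lib.Helper85.GaGm

lemma comm_group_identity {G : Type*} [CommGroup G] (a b c d e f : G) :
    a * b⁻¹ * c⁻¹ * (d * e⁻¹ * a⁻¹) = d * f⁻¹ * c⁻¹ * (f * e⁻¹ * b⁻¹) := by
  have : ∀ (a b c d e f : Additive G),
      a + -b + -c + (d + -e + -a) = d + -f + -c + (f + -e + -b) := by
    intros; abel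
  exact this a b c d e f

lemma comm_group_identity2 {G : Type*} [CommGroup G] (a a' b b' c c' : G) :
    a * a' * (b * b')⁻¹ * (c * c')⁻¹ = a * b⁻¹ * c⁻¹ * (a' * b'⁻¹ * c'⁻¹) := by
  have : ∀ (a a' b b' c c' : Additive G),
      a + a' + -(b + b') + -(c + c') = a + -b + -c + (a' + -b' + -c') := by
    intros; abel
  exact this a a' b b' c c'

section Congr

variable {S : Type*} [CommRing S]

/-- units congruent to `1` modulo an ideal -/
def congr1 (J : Ideal S) : Subgroup Sˣ where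
  carrier := {u | (u : S) - 1 ∈ J}
  mul_mem' := by
    intro a b ha hb
    have : ((a * b : Sˣ) : S) - 1 = (a : S) * ((b : S) - 1) + ((a : S) - 1) := by
      push_cast; ring
    change ((a * b : Sˣ) : S) - 1 ∈ J
    rw [this]
    exact J.add_mem (J.mul_mem_left _ hb) ha
  one_mem' := by
    change ((1 : Sˣ) : S) - 1 ∈ J
    simp
  inv_mem' := by
    intro a ha
    have : ((a⁻¹ : Sˣ) : S) - 1 = -(((a⁻¹ : Sˣ) : S) * ((a : S) - 1)) := by
      rw [mul_sub, mul_one, Units.inv_mul]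
      ring
    change ((a⁻¹ : Sˣ) : S) - 1 ∈ J
    rw [this]
    exact J.neg_mem (J.mul_mem_left _ ha)

lemma mem_congr1 {J : Ideal S} {u : Sˣ} : u ∈ congr1 J ↔ (u : S) - 1 ∈ J := Iff.rfl

lemma congr1_mono {J J' : Ideal S} (h : J ≤ J') : congr1 J ≤ congr1 J' :=
  fun _ hu => h hu

lemma eq_one_of_mem_congr1_bot {u : Sˣ} (hu : u ∈ congr1 (⊥ : Ideal S)) : u = 1 := by
  rw [mem_congr1, Ideal.mem_bot, sub_eq_zero] at hu
  exact Units.ext hu

/-- if `h ≡ v` modulo `J` then `h v⁻¹ ≡ 1`. -/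
lemma mul_inv_mem_congr1 {J : Ideal S} {h v : Sˣ} (hv : (h : S) - (v : S) ∈ J) :
    h * v⁻¹ ∈ congr1 J := by
  have : ((h * v⁻¹ : Sˣ) : S) - 1 = ((h : S) - (v : S)) * ((v⁻¹ : Sˣ) : S) := by
    push_cast
    rw [sub_mul, Units.mul_inv]
  rw [mem_congr1, this]
  exact J.mul_mem_right _ hv

end Congr

variable {R : Type u} [CommRing R]

/-- evaluation of unit polynomials -/
noncomputable def ev {S : Type*} [CommRing S] [Algebra R S] (x : S) : (Polynomial R)ˣ →* Sˣ :=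
  Units.map (Polynomial.aeval x : Polynomial R →ₐ[R] S)

lemma ev_val {S : Type*} [CommRing S] [Algebra R S] (x : S) (u : (Polynomial R)ˣ) :
    ((ev x u : Sˣ) : S) = Polynomial.aeval x (u : Polynomial R) := rfl

lemma ev_inv_val {S : Type*} [CommRing S] [Algebra R S] (x : S) (u : (Polynomial R)ˣ) :
    (((ev x u)⁻¹ : Sˣ) : S) = Polynomial.aeval x ((u⁻¹ : (Polynomial R)ˣ) : Polynomial R) := by
  rw [← map_inv, ev_val]

lemma map_ev {S S' : Type*} [CommRing S] [Algebra R S] [CommRing S'] [Algebra R S']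
    (e : S →ₐ[R] S') (x : S) (u : (Polynomial R)ˣ) :
    Units.map (e : S →* S') (ev x u) = ev (e x) u := by
  apply Units.ext
  simp only [Units.coe_map, ev_val]
  exact (Polynomial.aeval_algHom_apply e x _).symm

/-- the swap `h(X,Y) ↦ h(Y,X)` -/
noncomputable def sw : MvPolynomial (Fin 2) R →ₐ[R] MvPolynomial (Fin 2) R := aeval ![X 1, X 0]
/-- `h ↦ h(Y,Z)` -/
noncomputable def e1 : MvPolynomial (Fin 2) R →ₐ[R] MvPolynomial (Fin 3) R := aeval ![X 1, X 2]
/-- `h ↦ h(X,Y+Z)` -/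
noncomputable def e2 : MvPolynomial (Fin 2) R →ₐ[R] MvPolynomial (Fin 3) R :=
  aeval ![X 0, X 1 + X 2]
/-- `h ↦ h(X+Y,Z)` -/
noncomputable def e3 : MvPolynomial (Fin 2) R →ₐ[R] MvPolynomial (Fin 3) R :=
  aeval ![X 0 + X 1, X 2]
/-- `h ↦ h(X,Y)` -/
noncomputable def e4 : MvPolynomial (Fin 2) R →ₐ[R] MvPolynomial (Fin 3) R := aeval ![X 0, X 1]

/-- the map on units induced by an algebra map -/
noncomputable def um {S' : Type*} [CommRing S'] [Algebra R S']
    (e : MvPolynomial (Fin 2) R →ₐ[R] S') : (MvPolynomial (Fin 2) R)ˣ →* S'ˣ :=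
  Units.map (e : MvPolynomial (Fin 2) R →* S')

lemma um_val {S' : Type*} [CommRing S'] [Algebra R S']
    (e : MvPolynomial (Fin 2) R →ₐ[R] S') (h : (MvPolynomial (Fin 2) R)ˣ) :
    ((um e h : S'ˣ) : S') = e (h : MvPolynomial (Fin 2) R) := rfl

/-- symmetric multiplicative 2-cocycles -/
def Zc : Subgroup (MvPolynomial (Fin 2) R)ˣ where
  carrier := {h | um sw h = h ∧ um e1 h * um e2 h = um e3 h * um e4 h}
  mul_mem' := by
    rintro a b ⟨ha1, ha2⟩ ⟨hb1, hb2⟩
    refine ⟨by rw [map_mul, ha1, hb1], ?_⟩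
    rw [map_mul, map_mul, map_mul, map_mul, mul_mul_mul_comm, ha2, hb2, mul_mul_mul_comm]
  one_mem' := by
    refine ⟨by rw [map_one], ?_⟩
    simp only [map_one]
  inv_mem' := by
    rintro a ⟨ha1, ha2⟩
    refine ⟨by rw [map_inv, ha1], ?_⟩
    rw [map_inv, map_inv, map_inv, map_inv, ← mul_inv, ← mul_inv, ha2]

lemma mem_Zc {h : (MvPolynomial (Fin 2) R)ˣ} :
    h ∈ (Zc : Subgroup (MvPolynomial (Fin 2) R)ˣ) ↔
      (um sw h = h ∧ um e1 h * um e2 h = um e3 h * um e4 h) := Iff.rfl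

/-- the coboundary `f ↦ f(X+Y)/(f(X)f(Y))` -/
noncomputable def bd : (Polynomial R)ˣ →* (MvPolynomial (Fin 2) R)ˣ where
  toFun u := ev (X 0 + X 1 : MvPolynomial (Fin 2) R) u * (ev (X 0 : MvPolynomial (Fin 2) R) u)⁻¹ *
    (ev (X 1 : MvPolynomial (Fin 2) R) u)⁻¹
  map_one' := by simp
  map_mul' := by
    intro u v
    rw [map_mul, map_mul, map_mul]
    exact comm_group_identity2 _ _ _ _ _ _

lemma bd_apply (u : (Polynomial R)ˣ) :
    bd u = ev (X 0 + X 1 : MvPolynomial (Fin 2) R) u * (ev (X 0 : MvPolynomial (Fin 2) R) u)⁻¹ *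
      (ev (X 1 : MvPolynomial (Fin 2) R) u)⁻¹ := rfl

lemma bd_val (u : (Polynomial R)ˣ) :
    ((bd u : (MvPolynomial (Fin 2) R)ˣ) : MvPolynomial (Fin 2) R) =
      Polynomial.aeval (X 0 + X 1 : MvPolynomial (Fin 2) R) (u : Polynomial R) *
        Polynomial.aeval (X 0 : MvPolynomial (Fin 2) R) ((u⁻¹ : (Polynomial R)ˣ) : Polynomial R) *
        Polynomial.aeval (X 1 : MvPolynomial (Fin 2) R) ((u⁻¹ : (Polynomial R)ˣ) : Polynomial R) := by
  rw [bd_apply, Units.val_mul, Units.val_mul, ev_val, ev_inv_val, ev_inv_val]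

lemma map_bd {S' : Type*} [CommRing S'] [Algebra R S'] (e : MvPolynomial (Fin 2) R →ₐ[R] S')
    (u : (Polynomial R)ˣ) :
    um e (bd u) =
      ev (e (X 0) + e (X 1)) u * (ev (e (X 0)) u)⁻¹ * (ev (e (X 1)) u)⁻¹ := by
  rw [bd_apply, map_mul, map_mul, map_inv, map_inv, um, map_ev, map_ev, map_ev, map_add]

theorem bd_mem_Zc (u : (Polynomial R)ˣ) : bd u ∈ (Zc : Subgroup (MvPolynomial (Fin 2) R)ˣ) := by
  rw [mem_Zc]
  constructor
  · rw [map_bd]
    simp only [sw, aeval_X, Matrix.cons_val_zero, Matrix.cons_val_one]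
    rw [bd_apply, add_comm (X 1) (X 0), mul_right_comm]
  · rw [map_bd, map_bd, map_bd, map_bd]
    simp only [e1, e2, e3, e4, aeval_X, Matrix.cons_val_zero, Matrix.cons_val_one]
    rw [add_assoc (X 0 : MvPolynomial (Fin 3) R) (X 1) (X 2)]
    exact comm_group_identity _ _ _ _ _ _

/-- if `h = bd u` then `u` splits `h`. -/
theorem eq_of_eq_bd {h : (MvPolynomial (Fin 2) R)ˣ} {u : (Polynomial R)ˣ} (hu : h = bd u) :
    Polynomial.aeval (X 0 + X 1 : MvPolynomial (Fin 2) R) (u : Polynomial R) =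
      Polynomial.aeval (X 0 : MvPolynomial (Fin 2) R) (u : Polynomial R) *
        Polynomial.aeval (X 1 : MvPolynomial (Fin 2) R) (u : Polynomial R) * (h : MvPolynomial (Fin 2) R) := by
  have h1 : ev (X 0 + X 1 : MvPolynomial (Fin 2) R) u =
      ev (X 0 : MvPolynomial (Fin 2) R) u * ev (X 1 : MvPolynomial (Fin 2) R) u * h := by
    rw [hu, bd_apply]
    have : ∀ (a b c : (MvPolynomial (Fin 2) R)ˣ), a = b * c * (a * b⁻¹ * c⁻¹) := by
      intro a b c
      rw [mul_assoc a, mul_comm a, ← mul_assoc, ← mul_inv, mul_inv_cancel, one_mul]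
    exact this _ _ _
  have h2 := congrArg Units.val h1
  rwa [Units.val_mul, Units.val_mul, ev_val, ev_val, ev_val] at h2

end Groth.Agent.Lib.Helper85.GaGm
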