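import Mathlib
import Groth.Agent.Lib.Helper85.GaGmLazard
import Groth.Agent.Lib.Helper85.GaGmExp
import Groth.Agent.Lib.Helper85.GaGmUnits

/-!
# The approximation step for multiplicative cocycles (helper85)
-/

set_option autoImplicit false
universe u

open MvPolynomial
open Groth.Agent.Lib.Helper27.Lazard Groth.Agent.Lib.Helper67.ExpP

namespace Groth.Agent.Lib.Helper85.GaGm

section MapC

variable {R : Type u} [CommRing R]

lemma algHom_mem_map_C {σ τ : Type*} (𝔞 : Ideal R)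
    (e : MvPolynomial σ R →ₐ[R] MvPolynomial τ R) {c : MvPolynomial σ R}
    (hc : c ∈ Ideal.map (C : R →+* MvPolynomial σ R) 𝔞) :
    e c ∈ Ideal.map (C : R →+* MvPolynomial τ R) 𝔞 := by
  have h : Ideal.map (C : R →+* MvPolynomial σ R) 𝔞 ≤
      Ideal.comap (e : MvPolynomial σ R →+* MvPolynomial τ R) (Ideal.map C 𝔞) := by
    rw [Ideal.map_le_iff_le_comap]
    intro a ha
    rw [Ideal.mem_comap, Ideal.mem_comap]
    change e (C a) ∈ _
    have : e (C a) = C a := e.commutes a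
    rw [this]
    exact Ideal.mem_map_of_mem _ ha
  exact h hc

lemma polyAeval_mem_map_C {σ : Type*} (𝔞 : Ideal R) (G : Polynomial R)
    (hG : ∀ n, G.coeff n ∈ 𝔞) (x : MvPolynomial σ R) :
    Polynomial.aeval x G ∈ Ideal.map (C : R →+* MvPolynomial σ R) 𝔞 := by
  rw [Polynomial.aeval_eq_sum_range]
  refine Ideal.sum_mem _ (fun i _ => ?_)
  rw [smul_eq_C_mul]
  exact Ideal.mul_mem_right _ _ (Ideal.mem_map_of_mem _ (hG i))

lemma prod_one_add_sub_mem {S : Type*} [CommRing S] (A : Ideal S) {ι : Type*} (s : Finset ι)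
    (x : ι → S) (hx : ∀ i ∈ s, x i ∈ A) :
    ∏ i ∈ s, (1 + x i) - (1 + ∑ i ∈ s, x i) ∈ A ^ 2 := by
  classical
  induction s using Finset.induction_on with
  | empty => simp
  | insert a s ha ih =>
    rw [Finset.prod_insert ha, Finset.sum_insert ha]
    have h1 := ih (fun i hi => hx i (Finset.mem_insert_of_mem hi))
    have h2 : ∑ i ∈ s, x i ∈ A := Ideal.sum_mem _ (fun i hi => hx i (Finset.mem_insert_of_mem hi))
    have h3 : x a * ∑ i ∈ s, x i ∈ A ^ 2 := by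
      rw [sq]
      exact Ideal.mul_mem_mul (hx a (Finset.mem_insert_self a s)) h2
    have : (1 + x a) * ∏ i ∈ s, (1 + x i) - (1 + (x a + ∑ i ∈ s, x i)) =
        (1 + x a) * (∏ i ∈ s, (1 + x i) - (1 + ∑ i ∈ s, x i)) + x a * ∑ i ∈ s, x i := by ring
    rw [this]
    exact Ideal.add_mem _ (Ideal.mul_mem_left _ _ h1) h3

end MapC

section Step

variable {R : Type u} [CommRing R] (p : ℕ) [hp : Fact p.Prime] [CharP R p]

lemma charP_quotient (I : Ideal R) (hI : I ≠ ⊤) : CharP (R ⧸ I) p := by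
  apply CharP.quotient' p I
  intro x hx
  by_contra hne
  have hnd : ¬ p ∣ x := fun hd => hne ((CharP.cast_eq_zero_iff R p x).2 hd)
  have hu : IsUnit (x : R) := isUnit_natCast_of_not_dvd p x hnd
  exact hI (Ideal.eq_top_of_isUnit_mem _ hx hu)

set_option maxHeartbeats 800000 in
/-- linearization: a multiplicative cocycle `≡ 1` mod `𝔞` is, modulo `𝔞²`, of Lazard's form with
coefficients in `𝔞`. -/
theorem linearize (𝔞 : Ideal R) (h𝔞 : 𝔞 ≠ ⊤) (h : (MvPolynomial (Fin 2) R)ˣ)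
    (hZ : h ∈ (Zc : Subgroup (MvPolynomial (Fin 2) R)ˣ))
    (hc : h ∈ congr1 (Ideal.map (C : R →+* MvPolynomial (Fin 2) R) 𝔞)) :
    ∃ (G : Polynomial R) (N : ℕ) (r : ℕ → R), (∀ n, G.coeff n ∈ 𝔞) ∧ (∀ i, r i ∈ 𝔞) ∧
      (h : MvPolynomial (Fin 2) R) - 1 - delta G -
        ∑ i ∈ Finset.range N, C (r i) * T (R := R) p i ∈
          Ideal.map (C : R →+* MvPolynomial (Fin 2) R) (𝔞 ^ 2) := by
  classical
  have h𝔞2 : 𝔞 ^ 2 ≠ ⊤ := fun h2 => h𝔞 (top_le_iff.1 (h2 ▸ Ideal.pow_le_self two_ne_zero))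
  have : CharP (R ⧸ 𝔞 ^ 2) p := charP_quotient p _ h𝔞2
  obtain ⟨mk, hmk⟩ : ∃ mk : R →+* R ⧸ 𝔞 ^ 2, mk = Ideal.Quotient.mk (𝔞 ^ 2) := ⟨_, rfl⟩
  have hmk_surj : Function.Surjective mk := hmk ▸ Ideal.Quotient.mk_surjective
  have hker : ∀ {σ : Type} (P : MvPolynomial σ R), map mk P = 0 →
      P ∈ Ideal.map (C : R →+* MvPolynomial σ R) (𝔞 ^ 2) := by
    intro σ P hP
    have : P ∈ RingHom.ker (map mk : MvPolynomial σ R →+* _) := hP
    rwa [ker_map, hmk, Ideal.mk_ker] at this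
  have hker' : ∀ {σ : Type} (P : MvPolynomial σ R),
      P ∈ Ideal.map (C : R →+* MvPolynomial σ R) (𝔞 ^ 2) → map mk P = 0 := by
    intro σ P hP
    have : P ∈ RingHom.ker (map mk : MvPolynomial σ R →+* _) := by
      rwa [ker_map, hmk, Ideal.mk_ker]
    exact this
  obtain ⟨c, hcdef⟩ : ∃ c : MvPolynomial (Fin 2) R, c = (h : MvPolynomial (Fin 2) R) - 1 :=
    ⟨_, rfl⟩
  have hcA : c ∈ Ideal.map (C : R →+* MvPolynomial (Fin 2) R) 𝔞 := by rw [hcdef]; exact hc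
  rw [mem_Zc] at hZ
  -- symmetry
  have hsym : aeval ![X 1, X 0] c = c := by
    have h1 := congrArg Units.val hZ.1
    rw [um_val] at h1
    change sw c = c
    rw [hcdef, map_sub, map_one, h1]
  -- cocycle
  have hcv := congrArg Units.val hZ.2
  rw [Units.val_mul, Units.val_mul, um_val, um_val, um_val, um_val] at hcv
  have hcoc : coc c = e3 c * e4 c - e1 c * e2 c := by
    have e : coc c = e2 c + e1 c - e3 c - e4 c := rfl
    rw [e, hcdef]
    simp only [map_sub, map_one]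
    linear_combination hcv
  have hcoc_mem : coc c ∈ Ideal.map (C : R →+* MvPolynomial (Fin 3) R) (𝔞 ^ 2) := by
    rw [hcoc, Ideal.map_pow, sq]
    exact Ideal.sub_mem _
      (Ideal.mul_mem_mul (algHom_mem_map_C 𝔞 e3 hcA) (algHom_mem_map_C 𝔞 e4 hcA))
      (Ideal.mul_mem_mul (algHom_mem_map_C 𝔞 e1 hcA) (algHom_mem_map_C 𝔞 e2 hcA))
  have hSC : IsSC (map mk c) := by
    constructor
    · have := congrArg (map mk) hsym
      rw [map_aeval2_ringHom] at this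
      simpa using this
    · have e : coc (map mk c) = map mk (coc c) := by
        simp only [coc, map_sub, map_add, map_aeval2_ringHom, map_X]
      rw [e]
      exact hker' _ hcoc_mem
  have hcoef : ∀ m, coeff m (map mk c) ∈ Ideal.map mk 𝔞 := by
    intro m
    rw [coeff_map]
    exact Ideal.mem_map_of_mem _ (mem_map_C_iff.1 hcA m)
  obtain ⟨Gb, N, rb, hGb, hrb, hrep⟩ := lazard_controlled p (Ideal.map mk 𝔞) (map mk c) hSC hcoef
  have hlift : ∀ y ∈ Ideal.map mk 𝔞, ∃ x ∈ 𝔞, mk x = y := fun y hy =>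
    (Ideal.mem_map_iff_of_surjective mk hmk_surj).1 hy
  choose! g hg𝔞 hgmk using hlift
  obtain ⟨G, hGdef⟩ : ∃ G : Polynomial R,
      G = ∑ n ∈ Gb.support, Polynomial.monomial n (g (Gb.coeff n)) := ⟨_, rfl⟩
  have hGmap : G.map mk = Gb := by
    rw [hGdef, Polynomial.map_sum]
    conv_rhs => rw [Gb.as_sum_support]
    refine Finset.sum_congr rfl (fun n _ => ?_)
    rw [Polynomial.map_monomial, hgmk _ (hGb n)]
  have hGcoef : ∀ n, G.coeff n ∈ 𝔞 := by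
    intro n
    rw [hGdef, Polynomial.finsetSum_coeff]
    refine Ideal.sum_mem _ (fun m _ => ?_)
    rw [Polynomial.coeff_monomial]
    split_ifs
    · exact hg𝔞 _ (hGb m)
    · exact Ideal.zero_mem _
  refine ⟨G, N, fun i => g (rb i), hGcoef, fun i => hg𝔞 _ (hrb i), ?_⟩
  apply hker
  rw [← hcdef, map_sub, map_sub, map_delta, hGmap, map_sum, hrep]
  have : ∑ i ∈ Finset.range N, map mk (C (g (rb i)) * T (R := R) p i) =
      ∑ i ∈ Finset.range N, C (rb i) * T (R := R ⧸ 𝔞 ^ 2) p i := by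
    refine Finset.sum_congr rfl (fun i _ => ?_)
    rw [map_mul, map_C, map_T, hgmk _ (hrb i)]
  rw [this]
  ring

omit hp [CharP R p] in
/-- the coboundary of `1 + G` is `1 + δG` modulo `𝔞²`. -/
theorem bd_one_add (𝔞 : Ideal R) (G : Polynomial R) (hG : ∀ n, G.coeff n ∈ 𝔞)
    (u : (Polynomial R)ˣ) (hu : (u : Polynomial R) = 1 + G) :
    ((bd u : (MvPolynomial (Fin 2) R)ˣ) : MvPolynomial (Fin 2) R) - (1 + delta G) ∈
      (Ideal.map (C : R →+* MvPolynomial (Fin 2) R) 𝔞) ^ 2 := by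
  obtain ⟨a, ha⟩ : ∃ a, a = Polynomial.aeval (X 0 + X 1 : MvPolynomial (Fin 2) R) G := ⟨_, rfl⟩
  obtain ⟨b, hb⟩ : ∃ b, b = Polynomial.aeval (X 0 : MvPolynomial (Fin 2) R) G := ⟨_, rfl⟩
  obtain ⟨d, hd⟩ : ∃ d, d = Polynomial.aeval (X 1 : MvPolynomial (Fin 2) R) G := ⟨_, rfl⟩
  obtain ⟨β, hβdef⟩ : ∃ β, β = Polynomial.aeval (X 0 : MvPolynomial (Fin 2) R)
    ((u⁻¹ : (Polynomial R)ˣ) : Polynomial R) := ⟨_, rfl⟩
  obtain ⟨δ', hδdef⟩ : ∃ δ', δ' = Polynomial.aeval (X 1 : MvPolynomial (Fin 2) R)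
    ((u⁻¹ : (Polynomial R)ˣ) : Polynomial R) := ⟨_, rfl⟩
  have haA := polyAeval_mem_map_C 𝔞 G hG (X 0 + X 1 : MvPolynomial (Fin 2) R)
  have hbA := polyAeval_mem_map_C 𝔞 G hG (X 0 : MvPolynomial (Fin 2) R)
  have hdA := polyAeval_mem_map_C 𝔞 G hG (X 1 : MvPolynomial (Fin 2) R)
  rw [← ha] at haA
  rw [← hb] at hbA
  rw [← hd] at hdA
  have hβ : (1 + b) * β = 1 := by
    have h1 : Polynomial.aeval (X 0 : MvPolynomial (Fin 2) R)
        ((u : Polynomial R) * ((u⁻¹ : (Polynomial R)ˣ) : Polynomial R)) = 1 := by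
      rw [Units.mul_inv, map_one]
    rw [map_mul, hu, map_add, map_one, ← hb, ← hβdef] at h1
    exact h1
  have hδ : (1 + d) * δ' = 1 := by
    have h1 : Polynomial.aeval (X 1 : MvPolynomial (Fin 2) R)
        ((u : Polynomial R) * ((u⁻¹ : (Polynomial R)ˣ) : Polynomial R)) = 1 := by
      rw [Units.mul_inv, map_one]
    rw [map_mul, hu, map_add, map_one, ← hd, ← hδdef] at h1
    exact h1
  have hval : ((bd u : (MvPolynomial (Fin 2) R)ˣ) : MvPolynomial (Fin 2) R) = (1 + a) * β * δ' := by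
    rw [bd_val, hu, map_add, map_one, ← ha, ← hβdef, ← hδdef]
  have hdel : delta G = a - b - d := by rw [delta, ← ha, ← hb, ← hd]
  have key : ((bd u : (MvPolynomial (Fin 2) R)ˣ) : MvPolynomial (Fin 2) R) - (1 + delta G) =
      -(b * d + (a - b - d) * (b + d + b * d)) * (β * δ') := by
    rw [hval, hdel]
    linear_combination (1 + a - b - d) * ((1 + d) * δ') * hβ + (1 + a - b - d) * hδ
  rw [key]
  refine Ideal.mul_mem_right _ _ (neg_mem (Ideal.add_mem _ ?_ ?_))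
  · rw [sq]
    exact Ideal.mul_mem_mul hbA hdA
  · rw [sq]
    exact Ideal.mul_mem_mul (Ideal.sub_mem _ (Ideal.sub_mem _ haA hbA) hdA)
      (Ideal.add_mem _ (Ideal.add_mem _ hbA hdA) (Ideal.mul_mem_left _ _ hdA))

omit [CharP R p] in
/-- the truncated exponential is `≡ 1` modulo `b`. -/
theorem expP_eq (b : R) (q : ℕ) :
    ∃ W : Polynomial R, expP p b q = 1 + Polynomial.C b * W := by
  refine ⟨∑ j ∈ Finset.Ico 1 p, Polynomial.C (Ring.inverse ((j.factorial : ℕ) : R) * b ^ (j - 1)) *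
    Polynomial.X ^ (j * q), ?_⟩
  rw [expP, Finset.range_eq_Ico, Finset.sum_eq_sum_Ico_succ_bot hp.out.pos, Finset.mul_sum]
  congr 1
  · simp
  · refine Finset.sum_congr rfl (fun j hj => ?_)
    rw [Finset.mem_Ico] at hj
    have : b ^ j = b * b ^ (j - 1) := by
      rw [← pow_succ', Nat.sub_add_cancel hj.1]
    rw [this, ← mul_assoc (Polynomial.C b), ← Polynomial.C_mul]
    congr 2
    ring

omit [CharP R p] in
theorem isUnit_expP (b : R) (hb : IsNilpotent b) (q : ℕ) : IsUnit (expP p b q) := by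
  obtain ⟨W, hW⟩ := expP_eq p b q
  rw [hW]
  apply IsNilpotent.isUnit_one_add
  exact Commute.isNilpotent_mul_right (Commute.all _ _) (hb.map Polynomial.C)

/-- the coboundary of `exp_p(b X^(p^l))` is `1 + b^p T_l` modulo `b^(p+1)`. -/
theorem bd_expP (𝔠 : Ideal R) (b : R) (l : ℕ) (hb : b ^ (p + 1) ∈ 𝔠)
    (u : (Polynomial R)ˣ) (hu : (u : Polynomial R) = expP p b (p ^ l)) :
    ((bd u : (MvPolynomial (Fin 2) R)ˣ) : MvPolynomial (Fin 2) R) -
      (1 + C (b ^ p) * T (R := R) p l) ∈ Ideal.map (C : R →+* MvPolynomial (Fin 2) R) 𝔠 := by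
  obtain ⟨W, hW⟩ := expP_eq p b (p ^ l)
  obtain ⟨H, hH⟩ := aeval_expP_add_refined p b l
  obtain ⟨β, hβdef⟩ : ∃ β, β = Polynomial.aeval (X 0 : MvPolynomial (Fin 2) R)
    ((u⁻¹ : (Polynomial R)ˣ) : Polynomial R) := ⟨_, rfl⟩
  obtain ⟨δ', hδdef⟩ : ∃ δ', δ' = Polynomial.aeval (X 1 : MvPolynomial (Fin 2) R)
    ((u⁻¹ : (Polynomial R)ˣ) : Polynomial R) := ⟨_, rfl⟩
  obtain ⟨EX, hEX⟩ : ∃ EX, EX = Polynomial.aeval (X 0 : MvPolynomial (Fin 2) R)
    (expP p b (p ^ l)) := ⟨_, rfl⟩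
  obtain ⟨EY, hEY⟩ : ∃ EY, EY = Polynomial.aeval (X 1 : MvPolynomial (Fin 2) R)
    (expP p b (p ^ l)) := ⟨_, rfl⟩
  obtain ⟨WX, hWX⟩ : ∃ WX, WX = Polynomial.aeval (X 0 : MvPolynomial (Fin 2) R) W := ⟨_, rfl⟩
  obtain ⟨WY, hWY⟩ : ∃ WY, WY = Polynomial.aeval (X 1 : MvPolynomial (Fin 2) R) W := ⟨_, rfl⟩
  obtain ⟨Tl, hTl⟩ : ∃ Tl, Tl = T (R := R) p l := ⟨_, rfl⟩
  have hEX' : EX = 1 + C b * WX := by
    rw [hEX, hW, map_add, map_one, map_mul, Polynomial.aeval_C, algebraMap_eq, ← hWX]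
  have hEY' : EY = 1 + C b * WY := by
    rw [hEY, hW, map_add, map_one, map_mul, Polynomial.aeval_C, algebraMap_eq, ← hWY]
  have hβ : EX * β = 1 := by
    rw [hEX, hβdef, ← hu, ← map_mul, Units.mul_inv, map_one]
  have hδ : EY * δ' = 1 := by
    rw [hEY, hδdef, ← hu, ← map_mul, Units.mul_inv, map_one]
  have hval : ((bd u : (MvPolynomial (Fin 2) R)ˣ) : MvPolynomial (Fin 2) R) =
      (EX * EY + C (b ^ p) * Tl + C (b ^ (p + 1)) * H) * β * δ' := by
    rw [bd_val, hu, hH, ← hEX, ← hEY, ← hβdef, ← hδdef, ← hTl]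
  have hβ' : β = 1 - C b * WX * β := by linear_combination hβ - β * hEX'
  have hδ' : δ' = 1 - C b * WY * δ' := by linear_combination hδ - δ' * hEY'
  have hCb : (C (b ^ (p + 1)) : MvPolynomial (Fin 2) R) = C (b ^ p) * C b := by
    rw [← C_mul, pow_succ]
  have key : ((bd u : (MvPolynomial (Fin 2) R)ˣ) : MvPolynomial (Fin 2) R) -
      (1 + C (b ^ p) * Tl) =
      C (b ^ (p + 1)) * (-Tl * (WY * δ' + WX * β * δ') + H * β * δ') := by
    rw [hval, hCb]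
    linear_combination (EY * δ') * hβ + hδ + (C (b ^ p) * Tl * δ') * hβ' + (C (b ^ p) * Tl) * hδ'
  rw [← hTl, key]
  exact Ideal.mul_mem_right _ _ (Ideal.mem_map_of_mem _ hb)

omit hp [CharP R p] in
lemma delta_mem_map_C (𝔞 : Ideal R) (G : Polynomial R) (hG : ∀ n, G.coeff n ∈ 𝔞) :
    delta G ∈ Ideal.map (C : R →+* MvPolynomial (Fin 2) R) 𝔞 := by
  rw [delta]
  exact Ideal.sub_mem _ (Ideal.sub_mem _ (polyAeval_mem_map_C 𝔞 G hG _)
    (polyAeval_mem_map_C 𝔞 G hG _)) (polyAeval_mem_map_C 𝔞 G hG _)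

set_option maxHeartbeats 800000 in
/-- the approximation step -/
theorem step (𝔞 𝔠 : Ideal R) (hnil : 𝔞 ≤ nilradical R) (h2 : 𝔞 ^ 2 ≤ 𝔠)
    (hroot : ∀ r ∈ 𝔞, ∃ b : R, b ^ p = r ∧ b ^ (p + 1) ∈ 𝔠)
    (h : (MvPolynomial (Fin 2) R)ˣ) (hZ : h ∈ (Zc : Subgroup (MvPolynomial (Fin 2) R)ˣ))
    (hc : h ∈ congr1 (Ideal.map (C : R →+* MvPolynomial (Fin 2) R) 𝔞)) :
    ∃ u : (Polynomial R)ˣ,
      h * (bd u)⁻¹ ∈ congr1 (Ideal.map (C : R →+* MvPolynomial (Fin 2) R) 𝔠) := by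
  classical
  have : Nontrivial R := CharP.nontrivial_of_char_ne_one (R := R) hp.out.ne_one
  have h𝔞 : 𝔞 ≠ ⊤ := by
    intro htop
    have h1 : (1 : R) ∈ nilradical R := hnil (htop ▸ Submodule.mem_top)
    obtain ⟨n, hn⟩ := mem_nilradical.1 h1
    rw [one_pow] at hn
    exact one_ne_zero hn
  obtain ⟨G, N, r, hG, hr, hmem⟩ := linearize p 𝔞 h𝔞 h hZ hc
  choose! b hbp hbc using hroot
  have hbnil : ∀ i, IsNilpotent (b (r i)) := by
    intro i
    have h1 : IsNilpotent (r i) := mem_nilradical.1 (hnil (hr i))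
    rw [← hbp _ (hr i)] at h1
    exact IsNilpotent.of_pow h1
  have hGnil : IsNilpotent G := Polynomial.isNilpotent_iff.2 (fun n => hnil (hG n))
  obtain ⟨uG, huG⟩ : ∃ uG : (Polynomial R)ˣ, (uG : Polynomial R) = 1 + G :=
    ⟨(IsNilpotent.isUnit_one_add hGnil).unit, IsUnit.unit_spec _⟩
  have hub : ∀ i, ∃ ui : (Polynomial R)ˣ, (ui : Polynomial R) = expP p (b (r i)) (p ^ i) :=
    fun i => ⟨(isUnit_expP p (b (r i)) (hbnil i) (p ^ i)).unit, IsUnit.unit_spec _⟩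
  choose ub hub' using hub
  refine ⟨uG * ∏ i ∈ Finset.range N, ub i, ?_⟩
  obtain ⟨A, hA⟩ : ∃ A, A = Ideal.map (C : R →+* MvPolynomial (Fin 2) R) 𝔞 := ⟨_, rfl⟩
  obtain ⟨CC, hCC⟩ : ∃ CC, CC = Ideal.map (C : R →+* MvPolynomial (Fin 2) R) 𝔠 := ⟨_, rfl⟩
  have hA2 : A ^ 2 ≤ CC := by
    rw [hA, hCC, ← Ideal.map_pow]
    exact Ideal.map_mono h2
  obtain ⟨x, hx⟩ : ∃ x : ℕ → MvPolynomial (Fin 2) R, x = fun i => C (r i) * T (R := R) p i :=
    ⟨_, rfl⟩
  have hxA : ∀ i, x i ∈ A := by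
    intro i
    rw [hx, hA]
    exact Ideal.mul_mem_right _ _ (Ideal.mem_map_of_mem _ (hr i))
  have hδA : delta G ∈ A := by rw [hA]; exact delta_mem_map_C 𝔞 G hG
  have hSA : ∑ i ∈ Finset.range N, x i ∈ A := Ideal.sum_mem A (fun i _ => hxA i)
  -- the coboundary of `uG`
  have h1 : ((bd uG : (MvPolynomial (Fin 2) R)ˣ) : MvPolynomial (Fin 2) R) - (1 + delta G) ∈ CC :=
    hA2 (by rw [hA]; exact bd_one_add 𝔞 G hG uG huG)
  -- the coboundaries of the exponentials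
  have h3 : ∀ i, ((bd (ub i) : (MvPolynomial (Fin 2) R)ˣ) : MvPolynomial (Fin 2) R) -
      (1 + x i) ∈ CC := by
    intro i
    have := bd_expP p 𝔠 (b (r i)) i (hbc _ (hr i)) (ub i) (hub' i)
    rw [hbp _ (hr i)] at this
    rw [hx, hCC]
    exact this
  -- the product
  have hval : ((bd (uG * ∏ i ∈ Finset.range N, ub i) : (MvPolynomial (Fin 2) R)ˣ) :
      MvPolynomial (Fin 2) R) =
      ((bd uG : (MvPolynomial (Fin 2) R)ˣ) : MvPolynomial (Fin 2) R) *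
        ∏ i ∈ Finset.range N, ((bd (ub i) : (MvPolynomial (Fin 2) R)ˣ) : MvPolynomial (Fin 2) R) := by
    rw [map_mul, map_prod, Units.val_mul, Units.coe_prod]
  have h4 : ((bd (uG * ∏ i ∈ Finset.range N, ub i) : (MvPolynomial (Fin 2) R)ˣ) :
      MvPolynomial (Fin 2) R) - (1 + delta G) * ∏ i ∈ Finset.range N, (1 + x i) ∈ CC := by
    rw [hval, ← Ideal.Quotient.eq, map_mul, map_mul, map_prod, map_prod]
    congr 1
    · exact Ideal.Quotient.eq.2 h1
    · exact Finset.prod_congr rfl (fun i _ => Ideal.Quotient.eq.2 (h3 i))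
  have h5 : (1 + delta G) * ∏ i ∈ Finset.range N, (1 + x i) -
      (1 + delta G + ∑ i ∈ Finset.range N, x i) ∈ A ^ 2 := by
    have e : (1 + delta G) * ∏ i ∈ Finset.range N, (1 + x i) -
        (1 + delta G + ∑ i ∈ Finset.range N, x i) =
        (1 + delta G) * (∏ i ∈ Finset.range N, (1 + x i) - (1 + ∑ i ∈ Finset.range N, x i)) +
          delta G * ∑ i ∈ Finset.range N, x i := by ring
    rw [e]
    refine Ideal.add_mem _ (Ideal.mul_mem_left _ _
      (prod_one_add_sub_mem A _ x (fun i _ => hxA i))) ?_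
    rw [sq]
    exact Ideal.mul_mem_mul hδA hSA
  have h6 : (h : MvPolynomial (Fin 2) R) - (1 + delta G + ∑ i ∈ Finset.range N, x i) ∈ A ^ 2 := by
    rw [hA, ← Ideal.map_pow, hx]
    have e : (h : MvPolynomial (Fin 2) R) -
        (1 + delta G + ∑ i ∈ Finset.range N, C (r i) * T (R := R) p i) =
        (h : MvPolynomial (Fin 2) R) - 1 - delta G -
          ∑ i ∈ Finset.range N, C (r i) * T (R := R) p i := by ring
    rw [e]
    exact hmem
  apply mul_inv_mem_congr1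
  rw [← hCC]
  have e : (h : MvPolynomial (Fin 2) R) -
      ((bd (uG * ∏ i ∈ Finset.range N, ub i) : (MvPolynomial (Fin 2) R)ˣ) :
        MvPolynomial (Fin 2) R) =
      ((h : MvPolynomial (Fin 2) R) - (1 + delta G + ∑ i ∈ Finset.range N, x i)) -
        ((1 + delta G) * ∏ i ∈ Finset.range N, (1 + x i) -
          (1 + delta G + ∑ i ∈ Finset.range N, x i)) -
        (((bd (uG * ∏ i ∈ Finset.range N, ub i) : (MvPolynomial (Fin 2) R)ˣ) :
          MvPolynomial (Fin 2) R) - (1 + delta G) * ∏ i ∈ Finset.range N, (1 + x i)) := by ring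
  rw [e]
  exact Ideal.sub_mem _ (Ideal.sub_mem _ (hA2 h6) (hA2 h5)) h4

end Step

end Groth.Agent.Lib.Helper85.GaGm
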