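import Mathlib
import Groth.Agent.Lib.Helper85.HorrocksDescent

/-!
# Descent of isomorphisms from approximate polynomial data (helper85)

Variants of `pIso_of_monic`: denominators `X ^ a * g` with `g(0) = 1` (`pIso_of_coeff_zero`) and
approximate inverses modulo a high power of `X` (`pIso_of_approx`), used for Laurent series.
-/

set_option autoImplicit false
open Polynomial LaurentPolynomial

namespace Groth.Agent.Lib.Helper85.Horrocks

universe u

section ReflectMat

variable {A : Type u} [CommRing A]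

lemma reflect_sum {ι : Type*} (s : Finset ι) (f : ι → A[X]) (N : ℕ) :
    reflect N (∑ k ∈ s, f k) = ∑ k ∈ s, reflect N (f k) := by
  classical
  induction s using Finset.induction_on with
  | empty => simp
  | insert a s ha ih => rw [Finset.sum_insert ha, Finset.sum_insert ha, reflect_add, ih]

lemma map_reflect_mul {l m n : Type*} [Fintype m] (M₁ : Matrix l m A[X]) (M₂ : Matrix m n A[X])
    (N₁ N₂ : ℕ) (h₁ : ∀ i j, (M₁ i j).natDegree ≤ N₁) (h₂ : ∀ i j, (M₂ i j).natDegree ≤ N₂) :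
    M₁.map (reflect N₁) * M₂.map (reflect N₂) = (M₁ * M₂).map (reflect (N₁ + N₂)) := by
  refine Matrix.ext fun i j => ?_
  simp only [Matrix.mul_apply, Matrix.map_apply]
  rw [reflect_sum]
  exact Finset.sum_congr rfl fun k _ => (reflect_mul _ _ (h₁ i k) (h₂ k j)).symm

lemma monic_reflect_X_pow_mul (a : ℕ) (g : A[X]) (hg : g.coeff 0 = 1) (D : ℕ)
    (hD : a + g.natDegree ≤ D) : (reflect D (X ^ a * g)).Monic := by
  have hdeg : (X ^ a * g).natDegree ≤ a + g.natDegree :=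
    natDegree_mul_le.trans (Nat.add_le_add_right (natDegree_X_pow_le a) _)
  have haD : a ≤ D := (Nat.le_add_right _ _).trans hD
  refine monic_of_natDegree_le_of_coeff_eq_one (D - a) ?_ ?_
  · refine natDegree_le_iff_coeff_eq_zero.mpr fun N hN => ?_
    rw [coeff_reflect]
    by_cases hND : N ≤ D
    · rw [revAt_le hND, coeff_X_pow_mul', if_neg (by omega)]
    · rw [revAt_eq_self_of_lt (not_le.mp hND)]
      exact coeff_eq_zero_of_natDegree_lt (by omega)
  · rw [coeff_reflect, revAt_le (Nat.sub_le _ _), Nat.sub_sub_self haD, coeff_X_pow_mul',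
      if_pos le_rfl, Nat.sub_self, hg]

end ReflectMat

section CoeffZero

variable {A : Type u} [CommRing A] {n n' : Type} [Fintype n] [DecidableEq n] [Fintype n']
  [DecidableEq n']

/-- Variant of `pIso_of_monic` in the coordinate at infinity: the denominator is `X ^ a * g` with
`g(0) = 1`. -/
theorem pIso_of_coeff_zero (e : Matrix n n A) (e' : Matrix n' n' A) (hee : e * e = e)
    (hee' : e' * e' = e') (U : Matrix n' n A[X]) (V : Matrix n n' A[X]) (a : ℕ) (g : A[X])
    (hg : g.coeff 0 = 1)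
    (hVU : V * U = (X ^ a * g) • e.map (Polynomial.C : A →+* A[X]))
    (hUV : U * V = (X ^ a * g) • e'.map (Polynomial.C : A →+* A[X]))
    (he'U : e'.map (Polynomial.C : A →+* A[X]) * U = U)
    (hVe' : V * e'.map (Polynomial.C : A →+* A[X]) = V) : PIso e e' := by
  obtain ⟨N₁, hN₁, hUdeg⟩ : ∃ k : ℕ, a + g.natDegree ≤ k ∧ ∀ i j, (U i j).natDegree ≤ k :=
    ⟨Finset.univ.sup (fun ij : n' × n => (U ij.1 ij.2).natDegree) + (a + g.natDegree),
      Nat.le_add_left _ _, fun i j => (Finset.le_sup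
        (f := fun ij : n' × n => (U ij.1 ij.2).natDegree) (Finset.mem_univ (i, j))).trans
        (Nat.le_add_right _ _)⟩
  obtain ⟨N₂, hVdeg⟩ : ∃ k : ℕ, ∀ i j, (V i j).natDegree ≤ k :=
    ⟨Finset.univ.sup (fun ij : n × n' => (V ij.1 ij.2).natDegree), fun i j =>
      Finset.le_sup (f := fun ij : n × n' => (V ij.1 ij.2).natDegree) (Finset.mem_univ (i, j))⟩
  have hCdeg : ∀ {ι κ : Type} (N : Matrix ι κ A) i j,
      ((N.map (Polynomial.C : A →+* A[X])) i j).natDegree ≤ 0 := fun N i j => by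
    rw [Matrix.map_apply]; exact (natDegree_C _).le
  have hCrefl : ∀ {ι κ : Type} (N : Matrix ι κ A),
      (N.map (Polynomial.C : A →+* A[X])).map (reflect 0) =
        N.map (Polynomial.C : A →+* A[X]) := fun N => by
    refine Matrix.ext fun i j => ?_
    simp [reflect_C]
  have hsm : ∀ {ι : Type} (N : Matrix ι ι A) (D : ℕ),
      ((X ^ a * g) • N.map (Polynomial.C : A →+* A[X])).map (reflect D) =
        reflect D (X ^ a * g) • N.map (Polynomial.C : A →+* A[X]) := fun N D => by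
    refine Matrix.ext fun i j => ?_
    simp only [Matrix.map_apply, Matrix.smul_apply, smul_eq_mul]
    rw [mul_comm, reflect_C_mul, mul_comm]
  have hF : (reflect (N₂ + N₁) (X ^ a * g)).Monic :=
    monic_reflect_X_pow_mul a g hg _ (hN₁.trans (Nat.le_add_left _ _))
  refine pIso_of_monic e e' hee hee' (U.map (reflect N₁)) (V.map (reflect N₂)) _ hF ?_ ?_ ?_ ?_
  · rw [map_reflect_mul V U N₂ N₁ hVdeg hUdeg, hVU, hsm]
  · rw [map_reflect_mul U V N₁ N₂ hUdeg hVdeg, hUV, hsm, add_comm]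
  · conv_lhs => rw [← hCrefl e']
    rw [map_reflect_mul _ U 0 N₁ (hCdeg e') hUdeg, he'U, zero_add]
  · conv_lhs => rw [← hCrefl e']
    rw [map_reflect_mul V _ N₂ 0 hVdeg (hCdeg e'), hVe', add_zero]

end CoeffZero

section Nzd

variable {A : Type u} [CommRing A]

lemma eq_zero_of_mul_eq_zero_of_coeff_zero (g p : A[X]) (hg : g.coeff 0 = 1) (h : g * p = 0) :
    p = 0 := by
  have hu : IsUnit (g : PowerSeries A) := by
    rw [PowerSeries.isUnit_iff_constantCoeff]
    simp [hg]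
  have h' : (g : PowerSeries A) * (p : PowerSeries A) = 0 := by
    rw [← Polynomial.coe_mul, h, Polynomial.coe_zero]
  exact Polynomial.coe_eq_zero_iff.mp (hu.mul_right_eq_zero.mp h')

lemma eq_zero_of_X_pow_mul_eq_zero (a : ℕ) (p : A[X]) (h : X ^ a * p = 0) : p = 0 := by
  have := (monic_X_pow (R := A) a).mem_nonZeroDivisors
  exact (mul_left_mem_nonZeroDivisors_eq_zero_iff this).mp h

lemma matrix_eq_zero_of_smul_eq_zero {ι κ : Type*} (f : A[X]) (hf : ∀ p : A[X], f * p = 0 → p = 0)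
    (Z : Matrix ι κ A[X]) (h : f • Z = 0) : Z = 0 := by
  refine Matrix.ext fun i j => ?_
  have := congrFun (congrFun h i) j
  simp only [Matrix.smul_apply, smul_eq_mul, Matrix.zero_apply] at this
  exact hf _ this

lemma det_one_sub_X_pow_smul_coeff_zero {n : Type*} [Fintype n] [DecidableEq n] (c : ℕ)
    (hc : 1 ≤ c) (W : Matrix n n A[X]) :
    ((1 - (X : A[X]) ^ c • W).det).coeff 0 = 1 := by
  rw [coeff_zero_eq_eval_zero, ← coe_evalRingHom, RingHom.map_det]
  have : (evalRingHom (0 : A)).mapMatrix (1 - (X : A[X]) ^ c • W) = 1 := by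
    rw [map_sub, map_one, RingHom.mapMatrix_apply, map_smul_ringHom]
    simp only [map_pow, coe_evalRingHom, eval_X]
    rw [zero_pow (by omega), zero_smul, sub_zero]
  rw [this, Matrix.det_one]

end Nzd

section Approx

variable {A : Type u} [CommRing A] {n n' : Type} [Fintype n] [DecidableEq n] [Fintype n']
  [DecidableEq n']

/-- If constant idempotents `e`, `e'` admit polynomial matrices `U`, `V` which are mutually inverse
partial isomorphisms up to the factor `X ^ p` and modulo `X ^ (p + c)`, `c ≥ 1`, then the ranges of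
`e` and `e'` are isomorphic. -/
theorem pIso_of_approx (e : Matrix n n A) (e' : Matrix n' n' A) (hee : e * e = e)
    (hee' : e' * e' = e') (U : Matrix n' n A[X]) (V : Matrix n n' A[X]) (p c : ℕ) (hc : 1 ≤ c)
    (W : Matrix n n A[X]) (W₂ : Matrix n' n' A[X])
    (hVU : V * U = (X : A[X]) ^ p • e.map (Polynomial.C : A →+* A[X]) - (X : A[X]) ^ (p + c) • W)
    (hUV : U * V = (X : A[X]) ^ p • e'.map (Polynomial.C : A →+* A[X]) -
      (X : A[X]) ^ (p + c) • W₂)
    (he'U : e'.map (Polynomial.C : A →+* A[X]) * U = U)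
    (hUe : U * e.map (Polynomial.C : A →+* A[X]) = U)
    (hVe' : V * e'.map (Polynomial.C : A →+* A[X]) = V) : PIso e e' := by
  obtain ⟨ec, hec⟩ : ∃ ec, ec = e.map (Polynomial.C : A →+* A[X]) := ⟨_, rfl⟩
  obtain ⟨ec', hec'⟩ : ∃ ec', ec' = e'.map (Polynomial.C : A →+* A[X]) := ⟨_, rfl⟩
  rw [← hec] at hVU hUe
  rw [← hec'] at hUV he'U hVe'
  have hecec : ec * ec = ec := by rw [hec, ← Matrix.map_mul, hee]
  have hecec' : ec' * ec' = ec' := by rw [hec', ← Matrix.map_mul, hee']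
  -- normalise `W`, `W₂`
  obtain ⟨W', hW'⟩ : ∃ W', W' = W * ec := ⟨_, rfl⟩
  obtain ⟨W₂', hW₂'⟩ : ∃ W₂', W₂' = W₂ * ec' := ⟨_, rfl⟩
  have H1 : V * U = (X : A[X]) ^ p • ec - (X : A[X]) ^ (p + c) • W' := by
    calc V * U = V * (U * ec) := by rw [hUe]
      _ = V * U * ec := (Matrix.mul_assoc _ _ _).symm
      _ = ((X : A[X]) ^ p • ec - (X : A[X]) ^ (p + c) • W) * ec := by rw [hVU]
      _ = (X : A[X]) ^ p • ec - (X : A[X]) ^ (p + c) • W' := by
        rw [Matrix.sub_mul, Matrix.smul_mul, Matrix.smul_mul, hecec, hW']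
  have H2 : U * V = (X : A[X]) ^ p • ec' - (X : A[X]) ^ (p + c) • W₂' := by
    calc U * V = U * (V * ec') := by rw [hVe']
      _ = U * V * ec' := (Matrix.mul_assoc _ _ _).symm
      _ = ((X : A[X]) ^ p • ec' - (X : A[X]) ^ (p + c) • W₂) * ec' := by rw [hUV]
      _ = (X : A[X]) ^ p • ec' - (X : A[X]) ^ (p + c) • W₂' := by
        rw [Matrix.sub_mul, Matrix.smul_mul, Matrix.smul_mul, hecec', hW₂']
  have hW'e : W' * ec = W' := by rw [hW', Matrix.mul_assoc, hecec]
  obtain ⟨Δ, hΔ⟩ : ∃ Δ, Δ = 1 - (X : A[X]) ^ c • W' := ⟨_, rfl⟩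
  obtain ⟨Δ₂, hΔ₂⟩ : ∃ Δ₂, Δ₂ = 1 - (X : A[X]) ^ c • W₂' := ⟨_, rfl⟩
  have hΔe : Δ * ec = ec - (X : A[X]) ^ c • W' := by
    rw [hΔ, Matrix.sub_mul, Matrix.one_mul, Matrix.smul_mul, hW'e]
  have hVUΔ : V * U = (X : A[X]) ^ p • (Δ * ec) := by
    rw [hΔe, smul_sub, smul_smul, ← pow_add, H1]
  have hh0 : Δ.det.coeff 0 = 1 := by
    rw [hΔ]; exact det_one_sub_X_pow_smul_coeff_zero c hc W'
  have hh0₂ : Δ₂.det.coeff 0 = 1 := by
    rw [hΔ₂]; exact det_one_sub_X_pow_smul_coeff_zero c hc W₂'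
  obtain ⟨V', hV'⟩ : ∃ V', V' = Δ.adjugate * V := ⟨_, rfl⟩
  have hV'U : V' * U = ((X : A[X]) ^ p * Δ.det) • ec := by
    rw [hV', Matrix.mul_assoc, hVUΔ, Matrix.mul_smul, ← Matrix.mul_assoc, Matrix.adjugate_mul,
      Matrix.smul_mul, Matrix.one_mul, smul_smul]
  have hV'e' : V' * ec' = V' := by rw [hV', Matrix.mul_assoc, hVe']
  obtain ⟨Z, hZ⟩ : ∃ Z, Z = U * V' - ((X : A[X]) ^ p * Δ.det) • ec' := ⟨_, rfl⟩
  have hZe' : Z * ec' = Z := by
    rw [hZ, Matrix.sub_mul, Matrix.mul_assoc, hV'e', Matrix.smul_mul, hecec']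
  have hZUV : Z * (U * V) = 0 := by
    have e1 : U * V' * (U * V) = ((X : A[X]) ^ p * Δ.det) • (U * V) := by
      calc U * V' * (U * V) = U * (V' * U) * V := by simp only [Matrix.mul_assoc]
        _ = ((X : A[X]) ^ p * Δ.det) • (U * V) := by
          rw [hV'U, Matrix.mul_smul, Matrix.smul_mul, hUe]
    have e2 : (((X : A[X]) ^ p * Δ.det) • ec') * (U * V) =
        ((X : A[X]) ^ p * Δ.det) • (U * V) := by
      rw [Matrix.smul_mul, ← Matrix.mul_assoc, he'U]
    rw [hZ, Matrix.sub_mul, e1, e2, sub_self]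
  have hZΔ₂ : Z * Δ₂ = 0 := by
    apply matrix_eq_zero_of_smul_eq_zero ((X : A[X]) ^ p) (eq_zero_of_X_pow_mul_eq_zero p)
    rw [← hZUV, H2, Matrix.mul_sub, Matrix.mul_smul, Matrix.mul_smul, hZe', hΔ₂, Matrix.mul_sub,
      Matrix.mul_one, Matrix.mul_smul, smul_sub, smul_smul, ← pow_add]
  have hZ0 : Z = 0 := by
    apply matrix_eq_zero_of_smul_eq_zero Δ₂.det
      (fun q hq => eq_zero_of_mul_eq_zero_of_coeff_zero _ q hh0₂ hq)
    have : Z * Δ₂ * Δ₂.adjugate = 0 := by rw [hZΔ₂, Matrix.zero_mul]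
    rw [Matrix.mul_assoc, Matrix.mul_adjugate, Matrix.mul_smul, Matrix.mul_one] at this
    exact this
  have hUV' : U * V' = ((X : A[X]) ^ p * Δ.det) • ec' := by
    rw [hZ] at hZ0
    exact sub_eq_zero.mp hZ0
  rw [hec] at hV'U
  rw [hec'] at hUV' he'U hV'e'
  exact pIso_of_coeff_zero e e' hee hee' U V' p Δ.det hh0 hV'U hUV' he'U hV'e'

end Approx

end Groth.Agent.Lib.Helper85.Horrocks
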