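import Mathlib
import Groth.Agent.Lib.Helper85.HorrocksGlobal

/-!
# Affine Horrocks theorem, module form with a semilinear gluing isomorphism (helper85)
-/

open Polynomial LaurentPolynomial TensorProduct

namespace Groth.Agent.Lib.Helper85.Horrocks

universe u

section Bridge

variable {A : Type u} [CommRing A] {M N : Type u} [AddCommGroup M] [Module A[X] M]
  [AddCommGroup N] [Module A[X] N]

/-- `A[T;T⁻¹] ⊗ A[X]^n ≃ A[T;T⁻¹]^n`. -/
noncomputable abbrev piL (A : Type u) [CommRing A] (n : ℕ) :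
    (A[T;T⁻¹] ⊗[A[X]] (Fin n → A[X])) ≃ₗ[A[T;T⁻¹]] (Fin n → A[T;T⁻¹]) :=
  TensorProduct.piScalarRight A[X] A[T;T⁻¹] A[T;T⁻¹] (Fin n)

/-- Base change of a map between free modules, in coordinates. -/
lemma piL_baseChange {n m : ℕ} (h : (Fin n → A[X]) →ₗ[A[X]] (Fin m → A[X]))
    (v : Fin n → A[T;T⁻¹]) :
    piL A m (h.baseChange A[T;T⁻¹] ((piL A n).symm v)) =
      ((LinearMap.toMatrix' h).map (Polynomial.toLaurent : A[X] →+* A[T;T⁻¹])).mulVec v := by
  have key : (piL A m).toLinearMap ∘ₗ (h.baseChange A[T;T⁻¹]) ∘ₗ (piL A n).symm.toLinearMap =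
      Matrix.toLin' ((LinearMap.toMatrix' h).map
        (Polynomial.toLaurent : A[X] →+* A[T;T⁻¹])) := by
    apply LinearMap.pi_ext
    intro j a
    funext i
    simp only [LinearMap.coe_comp, LinearEquiv.coe_coe, Function.comp_apply,
      TensorProduct.piScalarRight_symm_single, LinearMap.baseChange_tmul,
      TensorProduct.piScalarRight_apply, TensorProduct.piScalarRightHom_tmul,
      Matrix.toLin'_apply, Matrix.mulVec, dotProduct, Matrix.map_apply,
      LinearMap.toMatrix'_apply, Pi.single_apply, mul_ite, mul_zero, Finset.sum_ite_eq',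
      Finset.mem_univ, if_true, Algebra.smul_def, LaurentPolynomial.algebraMap_eq_toLaurent]
  exact LinearMap.congr_fun key v

variable {n n' : ℕ}
  (fM : (Fin n → A[X]) →ₗ[A[X]] M) (gM : M →ₗ[A[X]] (Fin n → A[X]))
  (fN : (Fin n' → A[X]) →ₗ[A[X]] N) (gN : N →ₗ[A[X]] (Fin n' → A[X]))
  (e : (A[T;T⁻¹] ⊗[A[X]] M) →ₛₗ[(LaurentPolynomial.invert (R := A)).toRingEquiv.toRingHom]
    (A[T;T⁻¹] ⊗[A[X]] N))

lemma e_smul (a : A[T;T⁻¹]) (x : A[T;T⁻¹] ⊗[A[X]] M) : e (a • x) = invert a • e x :=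
  e.map_smulₛₗ a x

variable (he : Function.Bijective e)

/-- Inverse of the gluing map. -/
noncomputable def einv : (A[T;T⁻¹] ⊗[A[X]] N) → (A[T;T⁻¹] ⊗[A[X]] M) :=
  (Equiv.ofBijective e he).symm

lemma e_einv (y : A[T;T⁻¹] ⊗[A[X]] N) : e (einv e he y) = y :=
  (Equiv.ofBijective e he).apply_symm_apply y

lemma einv_e (x : A[T;T⁻¹] ⊗[A[X]] M) : einv e he (e x) = x :=
  (Equiv.ofBijective e he).symm_apply_apply x

lemma einv_add (y z : A[T;T⁻¹] ⊗[A[X]] N) : einv e he (y + z) = einv e he y + einv e he z := by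
  apply he.1
  rw [map_add, e_einv, e_einv, e_einv]

lemma einv_smul (a : A[T;T⁻¹]) (y : A[T;T⁻¹] ⊗[A[X]] N) :
    einv e he (a • y) = invert a • einv e he y := by
  apply he.1
  rw [e_smul, e_einv, e_einv, LaurentPolynomial.involutive_invert]

/-- The gluing map in coordinates (linearised by `invert`). -/
noncomputable def Phi : (Fin n → A[T;T⁻¹]) →ₗ[A[T;T⁻¹]] (Fin n' → A[T;T⁻¹]) where
  toFun v := fun i => invert
    (piL A n' (gN.baseChange A[T;T⁻¹] (e (fM.baseChange A[T;T⁻¹] ((piL A n).symm v)))) i)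
  map_add' v w := by
    funext i
    simp only [map_add, Pi.add_apply]
  map_smul' a v := by
    funext i
    simp only [map_smul, e_smul, Pi.smul_apply, smul_eq_mul, map_mul, RingHom.id_apply,
      LaurentPolynomial.involutive_invert a]

/-- The inverse gluing map in coordinates. -/
noncomputable def Phi' : (Fin n' → A[T;T⁻¹]) →ₗ[A[T;T⁻¹]] (Fin n → A[T;T⁻¹]) where
  toFun w := piL A n (gM.baseChange A[T;T⁻¹] (einv e he (fN.baseChange A[T;T⁻¹]
    ((piL A n').symm (fun i => invert (w i))))))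
  map_add' v w := by
    have : (fun i => invert ((v + w) i)) = (fun i => invert (v i)) + fun i => invert (w i) := by
      funext i; simp
    simp only [this, map_add, einv_add]
  map_smul' a v := by
    have : (fun i => invert ((a • v) i)) = invert a • fun i => invert (v i) := by
      funext i; simp
    simp only [this, map_smul, einv_smul, LaurentPolynomial.involutive_invert a,
      RingHom.id_apply]

variable (hM : fM ∘ₗ gM = LinearMap.id) (hN : fN ∘ₗ gN = LinearMap.id)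

lemma bc_comp {X1 X2 X3 : Type*} [AddCommGroup X1] [Module A[X] X1] [AddCommGroup X2]
    [Module A[X] X2] [AddCommGroup X3] [Module A[X] X3] (h1 : X1 →ₗ[A[X]] X2)
    (h2 : X2 →ₗ[A[X]] X3) (x : A[T;T⁻¹] ⊗[A[X]] X1) :
    h2.baseChange A[T;T⁻¹] (h1.baseChange A[T;T⁻¹] x) = (h2 ∘ₗ h1).baseChange A[T;T⁻¹] x := by
  rw [LinearMap.baseChange_comp]; rfl

include hN in
lemma Phi'_Phi (v : Fin n → A[T;T⁻¹]) :
    Phi' gM fN e he (Phi fM gN e v) =
      ((LinearMap.toMatrix' (gM ∘ₗ fM)).map (Polynomial.toLaurent : A[X] →+* A[T;T⁻¹])).mulVec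
        v := by
  simp only [Phi', Phi, LinearMap.coe_mk, AddHom.coe_mk]
  have h1 : (fun i => invert (invert ((piL A n') ((LinearMap.baseChange A[T;T⁻¹] gN)
      (e ((LinearMap.baseChange A[T;T⁻¹] fM) ((piL A n).symm v)))) i))) =
      (piL A n') ((LinearMap.baseChange A[T;T⁻¹] gN)
      (e ((LinearMap.baseChange A[T;T⁻¹] fM) ((piL A n).symm v)))) := by
    funext i; exact LaurentPolynomial.involutive_invert _
  rw [h1, LinearEquiv.symm_apply_apply, bc_comp, hN, LinearMap.baseChange_id, LinearMap.id_apply,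
    einv_e, bc_comp, piL_baseChange]

include hM in
lemma Phi_Phi' (w : Fin n' → A[T;T⁻¹]) :
    Phi fM gN e (Phi' gM fN e he w) =
      (((LinearMap.toMatrix' (gN ∘ₗ fN)).map (Polynomial.toLaurent : A[X] →+* A[T;T⁻¹])).map
        (LaurentPolynomial.invert (R := A) : A[T;T⁻¹] ≃ₐ[A] A[T;T⁻¹])).mulVec w := by
  simp only [Phi', Phi, LinearMap.coe_mk, AddHom.coe_mk]
  rw [LinearEquiv.symm_apply_apply, bc_comp, hM, LinearMap.baseChange_id, LinearMap.id_apply,
    e_einv, bc_comp, piL_baseChange]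
  have := invert_mulVec ((LinearMap.toMatrix' (gN ∘ₗ fN)).map
    (Polynomial.toLaurent : A[X] →+* A[T;T⁻¹])) (fun i => invert (w i))
  rw [this, invert_invert_vec]

include hM in
lemma Phi_eM (v : Fin n → A[T;T⁻¹]) :
    Phi fM gN e (((LinearMap.toMatrix' (gM ∘ₗ fM)).map
      (Polynomial.toLaurent : A[X] →+* A[T;T⁻¹])).mulVec v) = Phi fM gN e v := by
  rw [← piL_baseChange]
  simp only [Phi, LinearMap.coe_mk, AddHom.coe_mk]
  rw [LinearEquiv.symm_apply_apply, bc_comp]
  have : fM ∘ₗ gM ∘ₗ fM = fM := by rw [← LinearMap.comp_assoc, hM, LinearMap.id_comp]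
  rw [this]

include hM in
lemma eM_Phi' (w : Fin n' → A[T;T⁻¹]) :
    ((LinearMap.toMatrix' (gM ∘ₗ fM)).map (Polynomial.toLaurent : A[X] →+* A[T;T⁻¹])).mulVec
      (Phi' gM fN e he w) = Phi' gM fN e he w := by
  rw [← piL_baseChange]
  simp only [Phi', LinearMap.coe_mk, AddHom.coe_mk]
  rw [LinearEquiv.symm_apply_apply, bc_comp]
  have : (gM ∘ₗ fM) ∘ₗ gM = gM := by rw [LinearMap.comp_assoc, hM, LinearMap.comp_id]
  rw [this]

end Bridge

section Main

variable {A : Type u} [CommRing A] {M N : Type u} [AddCommGroup M] [Module A[X] M]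
  [AddCommGroup N] [Module A[X] N] [Module.Finite A[X] M] [Module.Projective A[X] M]
  [Module.Finite A[X] N] [Module.Projective A[X] N]

/-- **Affine Horrocks theorem** (Quillen): a finitely generated projective `A[X]`-module that
extends to a vector bundle on the projective line over `A` is extended from `A`. -/
theorem extended_of_semilinear_glue
    (e : (A[T;T⁻¹] ⊗[A[X]] M) →ₛₗ[(LaurentPolynomial.invert (R := A)).toRingEquiv.toRingHom]
      (A[T;T⁻¹] ⊗[A[X]] N)) (he : Function.Bijective e) :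
    ∃ (P : Type u) (_ : AddCommGroup P) (_ : Module A P),
      Nonempty (M ≃ₗ[A[X]] (A[X] ⊗[A] P)) := by
  classical
  obtain ⟨n, fM, gM, -, -, hM⟩ := Module.Finite.exists_comp_eq_id_of_projective A[X] M
  obtain ⟨n', fN, gN, -, -, hN⟩ := Module.Finite.exists_comp_eq_id_of_projective A[X] N
  have k1 : Phi' gM fN e he ∘ₗ Phi fM gN e = Matrix.toLin' ((LinearMap.toMatrix' (gM ∘ₗ fM)).map
      (Polynomial.toLaurent : A[X] →+* A[T;T⁻¹])) :=
    LinearMap.ext fun v => by
      rw [LinearMap.comp_apply, Phi'_Phi fM gM fN gN e he hN, Matrix.toLin'_apply]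
  have k2 : Phi fM gN e ∘ₗ Phi' gM fN e he = Matrix.toLin' (((LinearMap.toMatrix' (gN ∘ₗ fN)).map
      (Polynomial.toLaurent : A[X] →+* A[T;T⁻¹])).map
        (LaurentPolynomial.invert (R := A) : A[T;T⁻¹] ≃ₐ[A] A[T;T⁻¹])) :=
    LinearMap.ext fun w => by
      rw [LinearMap.comp_apply, Phi_Phi' fM gM fN gN e he hM, Matrix.toLin'_apply]
  have heN : LinearMap.toMatrix' (gN ∘ₗ fN) * LinearMap.toMatrix' (gN ∘ₗ fN) =
      LinearMap.toMatrix' (gN ∘ₗ fN) := by
    rw [← LinearMap.toMatrix'_comp]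
    congr 1
    calc (gN ∘ₗ fN) ∘ₗ (gN ∘ₗ fN) = gN ∘ₗ (fN ∘ₗ gN) ∘ₗ fN := by simp only [LinearMap.comp_assoc]
      _ = gN ∘ₗ fN := by rw [hN, LinearMap.id_comp]
  apply extended_of_glue fM gM hM (LinearMap.toMatrix' (gN ∘ₗ fN)) heN
    (LinearMap.toMatrix' (Phi fM gN e)) (LinearMap.toMatrix' (Phi' gM fN e he))
  · rw [← LinearMap.toMatrix'_comp, k1, LinearMap.toMatrix'_toLin']
  · rw [← LinearMap.toMatrix'_comp, k2, LinearMap.toMatrix'_toLin']
  · rw [Matrix.mul_assoc, ← LinearMap.toMatrix'_comp, ← LinearMap.toMatrix'_comp]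
    congr 1
    apply LinearMap.ext
    intro v
    rw [LinearMap.comp_apply, k1, Matrix.toLin'_apply, Phi_eM fM gM gN e hM]
  · rw [← LinearMap.toMatrix'_comp, ← LinearMap.toMatrix'_comp]
    congr 1
    apply LinearMap.ext
    intro w
    rw [LinearMap.comp_apply, k1, Matrix.toLin'_apply, eM_Phi' fM gM fN e he hM]

end Main

end Groth.Agent.Lib.Helper85.Horrocks
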