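import Groth.Agent.Lib.Helper85.HorrocksBridge
import Mathlib

/-!
# Consequences of affine Horrocks: local freeness over a cover of the base
-/

set_option autoImplicit false
open Polynomial LaurentPolynomial
open scoped TensorProduct
universe u

namespace Groth.Agent.Lib.Helper85.Horrocks


section Zero

variable {R : Type u} [CommRing R] {P₀ : Type u} [AddCommGroup P₀] [Module R P₀]

/-- If `R[X] ⊗[R] P₀` is finite projective over `R[X]`, then `P₀` is finite projective over `R`. -/
lemma finite_projective_of_extended
    [Module.Finite R[X] (R[X] ⊗[R] P₀)] [Module.Projective R[X] (R[X] ⊗[R] P₀)] :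
    Module.Finite R P₀ ∧ Module.Projective R P₀ := by
  let _ : Algebra R[X] R := (Polynomial.evalRingHom (0 : R)).toAlgebra
  have : IsScalarTower R R[X] R := IsScalarTower.of_algebraMap_eq' (by
    ext a
    simp [RingHom.algebraMap_toAlgebra])
  let c : R ⊗[R[X]] (R[X] ⊗[R] P₀) ≃ₗ[R] P₀ :=
    (TensorProduct.AlgebraTensorModule.cancelBaseChange R R[X] R R P₀).trans (TensorProduct.lid R P₀)
  exact ⟨Module.Finite.equiv c, Module.Projective.of_equiv c⟩

end Zero



section Loc

variable {R : Type u} [CommRing R] {P₀ : Type u} [AddCommGroup P₀] [Module R P₀]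
  {P : Type u} [AddCommGroup P] [Module R[X] P]

lemma free_localizedModule_of_extended (φ : P ≃ₗ[R[X]] (R[X] ⊗[R] P₀)) (r : R)
    [Module.Free (Localization.Away r) (LocalizedModule.Away r P₀)] :
    Module.Free (Localization.Away (Polynomial.C r : R[X]))
      (LocalizedModule (Submonoid.powers (Polynomial.C r : R[X])) P) := by
  set B := Localization.Away (Polynomial.C r : R[X]) with hB
  have hu : IsUnit (algebraMap R B r) := by
    have : algebraMap R B r = algebraMap R[X] B (Polynomial.C r) := by
      rw [IsScalarTower.algebraMap_apply R R[X] B]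
      rfl
    rw [this]
    exact IsLocalization.Away.algebraMap_isUnit (Polynomial.C r)
  let _ : Algebra (Localization.Away r) B := (IsLocalization.Away.lift r hu).toAlgebra
  have : IsScalarTower R (Localization.Away r) B := IsScalarTower.of_algebraMap_eq' (by
    rw [RingHom.algebraMap_toAlgebra, IsLocalization.Away.lift_comp])
  -- `R_r ⊗ P₀` is free
  let c0 : (Localization.Away r) ⊗[R] P₀ ≃ₗ[Localization.Away r] LocalizedModule.Away r P₀ :=
    (IsLocalizedModule.isBaseChange (Submonoid.powers r) (Localization.Away r)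
      (LocalizedModule.mkLinearMap (Submonoid.powers r) P₀)).equiv
  haveI : Module.Free (Localization.Away r) ((Localization.Away r) ⊗[R] P₀) :=
    Module.Free.of_equiv c0.symm
  let c1 : B ⊗[R[X]] P ≃ₗ[B] LocalizedModule (Submonoid.powers (Polynomial.C r : R[X])) P :=
    (IsLocalizedModule.isBaseChange (Submonoid.powers (Polynomial.C r : R[X])) B
      (LocalizedModule.mkLinearMap (Submonoid.powers (Polynomial.C r : R[X])) P)).equiv
  let c2 : B ⊗[R[X]] P ≃ₗ[B] B ⊗[R[X]] (R[X] ⊗[R] P₀) :=
    TensorProduct.AlgebraTensorModule.congr (LinearEquiv.refl B B) φ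
  let c3 : B ⊗[R[X]] (R[X] ⊗[R] P₀) ≃ₗ[B] B ⊗[R] P₀ :=
    TensorProduct.AlgebraTensorModule.cancelBaseChange R R[X] B B P₀
  let c4 : B ⊗[Localization.Away r] ((Localization.Away r) ⊗[R] P₀) ≃ₗ[B] B ⊗[R] P₀ :=
    TensorProduct.AlgebraTensorModule.cancelBaseChange R (Localization.Away r) B B P₀
  exact Module.Free.of_equiv (c4.trans (c3.symm.trans (c2.symm.trans c1)))

end Loc



section Cover

variable (R : Type u) [CommRing R] (P₀ : Type u) [AddCommGroup P₀] [Module R P₀]

lemma exists_free_cover [Module.Finite R P₀] [Module.Projective R P₀] :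
    ∃ (n : ℕ) (g : Fin n → R), Ideal.span (Set.range g) = ⊤ ∧
      ∀ i, Module.Free (Localization.Away (g i)) (LocalizedModule.Away (g i) P₀) := by
  classical
  haveI : Module.FinitePresentation R P₀ := Module.finitePresentation_of_projective R P₀
  set S : Set R := {r | Module.Free (Localization.Away r) (LocalizedModule.Away r P₀)} with hS
  have htop : Ideal.span S = ⊤ := by
    by_contra hne
    obtain ⟨m, hm, hle⟩ := Ideal.exists_le_maximal _ hne
    haveI := hm
    haveI : Module.Free (Localization.AtPrime m) (LocalizedModule m.primeCompl P₀) :=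
      Module.free_of_flat_of_isLocalRing
    obtain ⟨r, hr, hfree, -⟩ := Module.FinitePresentation.exists_free_localizedModule_powers
      m.primeCompl (LocalizedModule.mkLinearMap m.primeCompl P₀) (Localization.AtPrime m)
    exact hr (hle (Ideal.subset_span (show r ∈ S from hfree)))
  obtain ⟨s, hsS, hs⟩ := (Ideal.span_eq_top_iff_finite S).mp htop
  refine ⟨s.card, fun i => (s.equivFin.symm i : R), ?_, fun i => ?_⟩
  · have : Set.range (fun i => (s.equivFin.symm i : R)) = (s : Set R) := by
      ext x
      constructor
      · rintro ⟨i, rfl⟩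
        exact (s.equivFin.symm i).2
      · intro hx
        exact ⟨s.equivFin ⟨x, hx⟩, by simp⟩
    rw [this, hs]
  · exact hsS (s.equivFin.symm i).2

end Cover


section Main

variable {R : Type u} [CommRing R] {P : Type u} [AddCommGroup P] [Module R[X] P]
  [Module.Finite R[X] P] [Module.Projective R[X] P]

/-- A finitely generated projective `R[X]`-module which is extended from `R` is free over
`R_g[X]` for a finite cover `D(g_i)` of `Spec R`. -/
theorem exists_cover_free_of_extended {P₀ : Type u} [AddCommGroup P₀] [Module R P₀]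
    (φ : P ≃ₗ[R[X]] (R[X] ⊗[R] P₀)) :
    ∃ (n : ℕ) (g : Fin n → R), Ideal.span (Set.range g) = ⊤ ∧
      ∀ i, Module.Free (Localization.Away (Polynomial.C (g i) : R[X]))
        (LocalizedModule (Submonoid.powers (Polynomial.C (g i) : R[X])) P) := by
  haveI : Module.Finite R[X] (R[X] ⊗[R] P₀) := Module.Finite.equiv φ
  haveI : Module.Projective R[X] (R[X] ⊗[R] P₀) := Module.Projective.of_equiv φ
  obtain ⟨h1, h2⟩ := finite_projective_of_extended (R := R) (P₀ := P₀)
  obtain ⟨n, g, hg, hfree⟩ := exists_free_cover R P₀
  refine ⟨n, g, hg, fun i => ?_⟩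
  haveI := hfree i
  exact free_localizedModule_of_extended φ (g i)

end Main

end Groth.Agent.Lib.Helper85.Horrocks
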