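import Mathlib
import Groth.Agent.Lib.Helper85.HorrocksApprox
import Groth.Agent.Lib.Helper85.HorrocksDescentMod

/-!
# Finite projective modules isomorphic over `R((X))` are isomorphic (helper85)
-/

set_option autoImplicit false
open Polynomial

namespace Groth.Agent.Lib.Helper85.Horrocks

universe u

section Trunc

variable {R : Type u} [CommRing R]

lemma const_mul_map_trunc {l m n : Type*} [Fintype m] (N₀ : Matrix l m R)
    (Mp : Matrix m n (PowerSeries R)) (N : ℕ) :
    N₀.map (Polynomial.C : R →+* R[X]) * Mp.map (PowerSeries.trunc N) =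
      (N₀.map (PowerSeries.C : R →+* PowerSeries R) * Mp).map (PowerSeries.trunc N) := by
  refine Matrix.ext fun i j => ?_
  simp only [Matrix.mul_apply, Matrix.map_apply, map_sum, PowerSeries.trunc_C_mul]

lemma map_trunc_mul_const {l m n : Type*} [Fintype m] (Mp : Matrix l m (PowerSeries R))
    (N₀ : Matrix m n R) (N : ℕ) :
    Mp.map (PowerSeries.trunc N) * N₀.map (Polynomial.C : R →+* R[X]) =
      (Mp * N₀.map (PowerSeries.C : R →+* PowerSeries R)).map (PowerSeries.trunc N) := by
  refine Matrix.ext fun i j => ?_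
  simp only [Matrix.mul_apply, Matrix.map_apply, map_sum, PowerSeries.trunc_mul_C]

lemma coeff_map_trunc_mul {l m n : Type*} [Fintype m] (Mp₁ : Matrix l m (PowerSeries R))
    (Mp₂ : Matrix m n (PowerSeries R)) (N d : ℕ) (hd : d < N) (i : l) (j : n) :
    ((Mp₁.map (PowerSeries.trunc N) * Mp₂.map (PowerSeries.trunc N)) i j).coeff d =
      PowerSeries.coeff d ((Mp₁ * Mp₂) i j) := by
  simp only [Matrix.mul_apply, Matrix.map_apply, finsetSum_coeff, map_sum]
  refine Finset.sum_congr rfl fun k _ => ?_
  rw [PowerSeries.coeff_mul_eq_coeff_trunc_mul_trunc _ _ hd, ← Polynomial.coe_mul,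
    Polynomial.coeff_coe]

end Trunc

section Laurent

variable {R : Type u} [CommRing R] {n n' : Type} [Fintype n] [DecidableEq n] [Fintype n']
  [DecidableEq n']

lemma algebraMap_laurentSeries_eq (r : R) :
    algebraMap R (LaurentSeries R) r =
      algebraMap (PowerSeries R) (LaurentSeries R) (PowerSeries.C r) := by
  rw [HahnSeries.algebraMap_apply', LaurentSeries.coe_algebraMap, PowerSeries.algebraMap_apply,
    Algebra.algebraMap_self, RingHom.id_apply]

/-- Constant idempotent matrices which are partially isomorphic over `R((X))` are partially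
isomorphic over `R`. -/
theorem pIso_of_laurentSeries (e : Matrix n n R) (e' : Matrix n' n' R) (hee : e * e = e)
    (hee' : e' * e' = e') (Ut : Matrix n' n (LaurentSeries R)) (Vt : Matrix n n' (LaurentSeries R))
    (h1 : Vt * Ut = e.map (algebraMap R (LaurentSeries R)))
    (h2 : Ut * Vt = e'.map (algebraMap R (LaurentSeries R)))
    (h3 : e'.map (algebraMap R (LaurentSeries R)) * Ut = Ut)
    (h4 : Vt * e'.map (algebraMap R (LaurentSeries R)) = Vt) : PIso e e' := by
  have h5 : Ut * e.map (algebraMap R (LaurentSeries R)) = Ut := by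
    rw [← h1, ← Matrix.mul_assoc, h2, h3]
  obtain ⟨b, Up, Vp, hUp, hVp⟩ := exists_clear_denominators
    (Submonoid.powers (PowerSeries.X : PowerSeries R)) Ut Vt
  obtain ⟨_, m, rfl⟩ := b
  simp only at hUp hVp
  have hinj : Function.Injective (algebraMap (PowerSeries R) (LaurentSeries R)) := by
    rw [LaurentSeries.coe_algebraMap]
    exact HahnSeries.ofPowerSeries_injective
  have hC : ∀ {ι κ : Type} (N : Matrix ι κ R),
      (N.map (PowerSeries.C : R →+* PowerSeries R)).map
        (algebraMap (PowerSeries R) (LaurentSeries R)) = N.map (algebraMap R (LaurentSeries R)) := by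
    intro ι κ N
    refine Matrix.ext fun i j => ?_
    simp only [Matrix.map_apply]
    exact (algebraMap_laurentSeries_eq _).symm
  obtain ⟨β, hβ⟩ : ∃ β, β = algebraMap (PowerSeries R) (LaurentSeries R) (PowerSeries.X ^ m) :=
    ⟨_, rfl⟩
  rw [← hβ] at hUp hVp
  have hββ : algebraMap (PowerSeries R) (LaurentSeries R) (PowerSeries.X ^ (2 * m)) = β * β := by
    rw [hβ, ← map_mul, ← pow_add, two_mul]
  -- identities over power series
  have g1 : Vp * Up = (PowerSeries.X : PowerSeries R) ^ (2 * m) •
      e.map (PowerSeries.C : R →+* PowerSeries R) := by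
    have hi : Function.Injective (fun N : Matrix n n (PowerSeries R) =>
        N.map (algebraMap (PowerSeries R) (LaurentSeries R))) := Matrix.map_injective hinj
    apply hi
    change (Vp * Up).map (algebraMap (PowerSeries R) (LaurentSeries R)) =
      ((PowerSeries.X : PowerSeries R) ^ (2 * m) •
        e.map (PowerSeries.C : R →+* PowerSeries R)).map
          (algebraMap (PowerSeries R) (LaurentSeries R))
    rw [Matrix.map_mul, hUp, hVp, smul_mul_smul', h1, map_smul_ringHom, hC, hββ]
  have g2 : Up * Vp = (PowerSeries.X : PowerSeries R) ^ (2 * m) •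
      e'.map (PowerSeries.C : R →+* PowerSeries R) := by
    have hi : Function.Injective (fun N : Matrix n' n' (PowerSeries R) =>
        N.map (algebraMap (PowerSeries R) (LaurentSeries R))) := Matrix.map_injective hinj
    apply hi
    change (Up * Vp).map (algebraMap (PowerSeries R) (LaurentSeries R)) =
      ((PowerSeries.X : PowerSeries R) ^ (2 * m) •
        e'.map (PowerSeries.C : R →+* PowerSeries R)).map
          (algebraMap (PowerSeries R) (LaurentSeries R))
    rw [Matrix.map_mul, hUp, hVp, smul_mul_smul', h2, map_smul_ringHom, hC, hββ]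
  have g3 : e'.map (PowerSeries.C : R →+* PowerSeries R) * Up = Up := by
    have hi : Function.Injective (fun N : Matrix n' n (PowerSeries R) =>
        N.map (algebraMap (PowerSeries R) (LaurentSeries R))) := Matrix.map_injective hinj
    apply hi
    change (e'.map (PowerSeries.C : R →+* PowerSeries R) * Up).map
      (algebraMap (PowerSeries R) (LaurentSeries R)) =
        Up.map (algebraMap (PowerSeries R) (LaurentSeries R))
    rw [Matrix.map_mul, hC, hUp, Matrix.mul_smul, h3]
  have g4 : Vp * e'.map (PowerSeries.C : R →+* PowerSeries R) = Vp := by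
    have hi : Function.Injective (fun N : Matrix n n' (PowerSeries R) =>
        N.map (algebraMap (PowerSeries R) (LaurentSeries R))) := Matrix.map_injective hinj
    apply hi
    change (Vp * e'.map (PowerSeries.C : R →+* PowerSeries R)).map
      (algebraMap (PowerSeries R) (LaurentSeries R)) =
        Vp.map (algebraMap (PowerSeries R) (LaurentSeries R))
    rw [Matrix.map_mul, hC, hVp, Matrix.smul_mul, h4]
  have g5 : Up * e.map (PowerSeries.C : R →+* PowerSeries R) = Up := by
    have hi : Function.Injective (fun N : Matrix n' n (PowerSeries R) =>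
        N.map (algebraMap (PowerSeries R) (LaurentSeries R))) := Matrix.map_injective hinj
    apply hi
    change (Up * e.map (PowerSeries.C : R →+* PowerSeries R)).map
      (algebraMap (PowerSeries R) (LaurentSeries R)) =
        Up.map (algebraMap (PowerSeries R) (LaurentSeries R))
    rw [Matrix.map_mul, hC, hUp, Matrix.smul_mul, h5]
  -- truncation
  obtain ⟨N, hN⟩ : ∃ N, N = 2 * m + 1 := ⟨_, rfl⟩
  obtain ⟨U₁, hU₁⟩ : ∃ U₁, U₁ = Up.map (PowerSeries.trunc N) := ⟨_, rfl⟩
  obtain ⟨V₁, hV₁⟩ : ∃ V₁, V₁ = Vp.map (PowerSeries.trunc N) := ⟨_, rfl⟩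
  have hcoef : ∀ (a : R) (d : ℕ), PowerSeries.coeff d
      ((PowerSeries.X : PowerSeries R) ^ (2 * m) * PowerSeries.C a) =
      ((X : R[X]) ^ (2 * m) * Polynomial.C a).coeff d := fun a d => by
    rw [← Polynomial.coeff_coe, Polynomial.coe_mul, Polynomial.coe_pow, Polynomial.coe_X,
      Polynomial.coe_C]
  have q1 : ∀ i j, ∃ w : R[X], ((X : R[X]) ^ (2 * m) • e.map (Polynomial.C : R →+* R[X]) -
      V₁ * U₁) i j = X ^ N * w := fun i j => by
    apply Polynomial.X_pow_dvd_iff.mpr
    intro d hd
    rw [Matrix.sub_apply, coeff_sub, hV₁, hU₁, coeff_map_trunc_mul Vp Up N d hd, g1]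
    simp only [Matrix.smul_apply, Matrix.map_apply, smul_eq_mul]
    rw [hcoef, sub_self]
  have q2 : ∀ i j, ∃ w : R[X], ((X : R[X]) ^ (2 * m) • e'.map (Polynomial.C : R →+* R[X]) -
      U₁ * V₁) i j = X ^ N * w := fun i j => by
    apply Polynomial.X_pow_dvd_iff.mpr
    intro d hd
    rw [Matrix.sub_apply, coeff_sub, hV₁, hU₁, coeff_map_trunc_mul Up Vp N d hd, g2]
    simp only [Matrix.smul_apply, Matrix.map_apply, smul_eq_mul]
    rw [hcoef, sub_self]
  choose W hW using q1
  choose W₂ hW₂ using q2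
  have r1 : V₁ * U₁ = (X : R[X]) ^ (2 * m) • e.map (Polynomial.C : R →+* R[X]) -
      (X : R[X]) ^ (2 * m + 1) • (Matrix.of W) := by
    rw [← hN]
    refine Matrix.ext fun i j => ?_
    have := hW i j
    simp only [Matrix.sub_apply, Matrix.smul_apply, smul_eq_mul, Matrix.of_apply] at this ⊢
    rw [← this]
    ring
  have r2 : U₁ * V₁ = (X : R[X]) ^ (2 * m) • e'.map (Polynomial.C : R →+* R[X]) -
      (X : R[X]) ^ (2 * m + 1) • (Matrix.of W₂) := by
    rw [← hN]
    refine Matrix.ext fun i j => ?_
    have := hW₂ i j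
    simp only [Matrix.sub_apply, Matrix.smul_apply, smul_eq_mul, Matrix.of_apply] at this ⊢
    rw [← this]
    ring
  have r3 : e'.map (Polynomial.C : R →+* R[X]) * U₁ = U₁ := by
    rw [hU₁, const_mul_map_trunc, g3]
  have r4 : U₁ * e.map (Polynomial.C : R →+* R[X]) = U₁ := by
    rw [hU₁, map_trunc_mul_const, g5]
  have r5 : V₁ * e'.map (Polynomial.C : R →+* R[X]) = V₁ := by
    rw [hV₁, map_trunc_mul_const, g4]
  exact pIso_of_approx e e' hee hee' U₁ V₁ (2 * m) 1 le_rfl _ _ r1 r2 r3 r4 r5

end Laurent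

section FinalLaurent

open scoped TensorProduct

variable (R : Type u) [CommRing R] (L : Type u) [CommRing L] [Algebra R L]
  (M N : Type u) [AddCommGroup M] [Module R M] [Module.Finite R M] [Module.Projective R M]
  [AddCommGroup N] [Module R N] [Module.Finite R N] [Module.Projective R N]

/-- Finitely generated projective `R`-modules which become isomorphic over `R((X))` are
isomorphic. -/
theorem nonempty_linearEquiv_of_laurentSeries (eL : L ≃ₐ[R] LaurentSeries R)
    (ψ : L ⊗[R] M ≃ₗ[L] L ⊗[R] N) : Nonempty (M ≃ₗ[R] N) := by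
  obtain ⟨n, f, g, -, -, hfg⟩ := Module.Finite.exists_comp_eq_id_of_projective R M
  obtain ⟨n', f', g', -, -, hfg'⟩ := Module.Finite.exists_comp_eq_id_of_projective R N
  obtain ⟨e, he⟩ : ∃ e, e = LinearMap.toMatrix' (g ∘ₗ f) := ⟨_, rfl⟩
  obtain ⟨e', he'⟩ : ∃ e', e' = LinearMap.toMatrix' (g' ∘ₗ f') := ⟨_, rfl⟩
  have hee : e * e = e := by
    rw [he, ← LinearMap.toMatrix'_comp]
    congr 1
    calc (g ∘ₗ f) ∘ₗ (g ∘ₗ f) = g ∘ₗ (f ∘ₗ g) ∘ₗ f := by simp only [LinearMap.comp_assoc]
      _ = g ∘ₗ f := by rw [hfg, LinearMap.id_comp]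
  have hee' : e' * e' = e' := by
    rw [he', ← LinearMap.toMatrix'_comp]
    congr 1
    calc (g' ∘ₗ f') ∘ₗ (g' ∘ₗ f') = g' ∘ₗ (f' ∘ₗ g') ∘ₗ f' := by
          simp only [LinearMap.comp_assoc]
      _ = g' ∘ₗ f' := by rw [hfg', LinearMap.id_comp]
  obtain ⟨Ut, Vt, h1, h2, h3, h4⟩ := exists_matrices_of_baseChange_equiv L f g hfg f' g' hfg' ψ
  rw [← he] at h1
  rw [← he'] at h2 h3 h4
  obtain ⟨φ, hφ⟩ : ∃ φ : L →+* LaurentSeries R, φ = (eL : L →+* LaurentSeries R) := ⟨_, rfl⟩
  have hC : ∀ {ι κ : Type} (N₀ : Matrix ι κ R),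
      (N₀.map (algebraMap R L)).map φ = N₀.map (algebraMap R (LaurentSeries R)) := by
    intro ι κ N₀
    refine Matrix.ext fun i j => ?_
    simp only [Matrix.map_apply, hφ]
    exact eL.commutes _
  have k1 : Vt.map φ * Ut.map φ = e.map (algebraMap R (LaurentSeries R)) := by
    rw [← Matrix.map_mul, h1, hC]
  have k2 : Ut.map φ * Vt.map φ = e'.map (algebraMap R (LaurentSeries R)) := by
    rw [← Matrix.map_mul, h2, hC]
  have k3 : e'.map (algebraMap R (LaurentSeries R)) * Ut.map φ = Ut.map φ := by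
    rw [← hC, ← Matrix.map_mul, h3]
  have k4 : Vt.map φ * e'.map (algebraMap R (LaurentSeries R)) = Vt.map φ := by
    rw [← hC, ← Matrix.map_mul, h4]
  obtain ⟨x, y, hyx, hxy⟩ := pIso_of_laurentSeries e e' hee hee' _ _ k1 k2 k3 k4
  exact linearEquiv_of_partialIso f g hfg f' g' hfg' x y (hyx.trans he) (hxy.trans he')

end FinalLaurent

end Groth.Agent.Lib.Helper85.Horrocks
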