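import Mathlib
import Groth.Prelude.Def_Isoc

/-!
# Lattice calculus for isocrystals (`Isoc.pPow`, `Isoc.latImg`, `Isoc.IsOrd`)

Everything is stated for a ring endomorphism `τ` of `K = Frac W(k)` which maps `W` bijectively
onto `W` (predicate `PresW`); this holds for `Isoc.frob p k a` and is stable under powers.
-/

set_option linter.unusedSectionVars false

open scoped Pointwise Isocrystal
open Isoc

namespace Groth.Agent.Lib.Helper85.IsocLattice

universe u v

section general

variable {p : ℕ} [Fact p.Prime] {k : Type u} [Field k] [CharP k p] [PerfectRing k p]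

/-- `τ` maps `W` bijectively onto `W`. -/
structure PresW (τ : K(p, k) →+* K(p, k)) : Prop where
  into : ∀ w : WittVector p k, ∃ w' : WittVector p k,
    τ (algebraMap (WittVector p k) K(p, k) w) = algebraMap (WittVector p k) K(p, k) w'
  onto : ∀ w' : WittVector p k, ∃ w : WittVector p k,
    τ (algebraMap (WittVector p k) K(p, k) w) = algebraMap (WittVector p k) K(p, k) w'

theorem presW_frob (a : ℤ) : PresW (Isoc.frob p k a) where
  into w := ⟨_, Isoc.frob_algebraMap p k a w⟩
  onto w' := ⟨(WittVector.frobeniusEquiv p k ^ a).symm w', by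
    rw [Isoc.frob_algebraMap, RingEquiv.apply_symm_apply]⟩

theorem PresW.one : PresW (1 : K(p, k) →+* K(p, k)) where
  into w := ⟨w, rfl⟩
  onto w := ⟨w, rfl⟩

theorem PresW.mul {τ τ' : K(p, k) →+* K(p, k)} (h : PresW τ) (h' : PresW τ') : PresW (τ * τ') where
  into w := by
    obtain ⟨w1, hw1⟩ := h'.into w
    obtain ⟨w2, hw2⟩ := h.into w1
    exact ⟨w2, by rw [RingHom.mul_def, RingHom.comp_apply, hw1, hw2]⟩
  onto w := by
    obtain ⟨w1, hw1⟩ := h.onto w
    obtain ⟨w2, hw2⟩ := h'.onto w1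
    exact ⟨w2, by rw [RingHom.mul_def, RingHom.comp_apply, hw2, hw1]⟩

theorem PresW.pow {τ : K(p, k) →+* K(p, k)} (h : PresW τ) (n : ℕ) : PresW (τ ^ n) := by
  induction n with
  | zero => rw [pow_zero]; exact PresW.one
  | succ n ih => rw [pow_succ]; exact ih.mul h

theorem p_ne_zero : (p : K(p, k)) ≠ 0 := by
  have h : (p : WittVector p k) ≠ 0 := WittVector.p_nonzero p k
  have : (p : K(p, k)) = algebraMap (WittVector p k) K(p, k) (p : WittVector p k) := by simp
  rw [this]
  exact (map_ne_zero_iff _ (IsFractionRing.injective (WittVector p k) K(p, k))).2 h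

theorem map_p_zpow (τ : K(p, k) →+* K(p, k)) (r : ℤ) : τ ((p : K(p, k)) ^ r) = (p : K(p, k)) ^ r := by
  rw [map_zpow₀, map_natCast]

theorem p_pow_eq_algebraMap (n : ℕ) :
    (p : K(p, k)) ^ n = algebraMap (WittVector p k) K(p, k) ((p : WittVector p k) ^ n) := by
  simp

/-- every element of `K` becomes integral after multiplication by a power of `p`. -/
theorem exists_pow_mul_eq_algebraMap (x : K(p, k)) :
    ∃ (c : ℕ) (w : WittVector p k), (p : K(p, k)) ^ c * x = algebraMap (WittVector p k) K(p, k) w := by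
  obtain ⟨a, b, hb, rfl⟩ := IsFractionRing.div_surjective (A := WittVector p k) x
  have hb0 : b ≠ 0 := nonZeroDivisors.ne_zero hb
  obtain ⟨m, u, hu⟩ := WittVector.exists_eq_pow_p_mul' b hb0
  refine ⟨m, a * ((u⁻¹ : (WittVector p k)ˣ) : WittVector p k), ?_⟩
  have hbK : algebraMap (WittVector p k) K(p, k) b ≠ 0 :=
    (map_ne_zero_iff _ (IsFractionRing.injective (WittVector p k) K(p, k))).2 hb0
  rw [mul_div_assoc', div_eq_iff hbK, map_mul, p_pow_eq_algebraMap, ← map_mul, ← map_mul, ← map_mul]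
  congr 1
  rw [hu]
  have : ((u⁻¹ : (WittVector p k)ˣ) : WittVector p k) * (u : WittVector p k) = 1 := Units.inv_mul u
  calc (p : WittVector p k) ^ m * a = (p : WittVector p k) ^ m * a * (((u⁻¹ : (WittVector p k)ˣ) : WittVector p k) * (u : WittVector p k)) := by
        rw [this, mul_one]
    _ = _ := by ring

end general


section lattice

variable {p : ℕ} [Fact p.Prime] {k : Type u} [Field k] [CharP k p] [PerfectRing k p]
variable {N : Type v} [AddCommGroup N] [Module (WittVector p k) N] [Module K(p, k) N]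
  [IsScalarTower (WittVector p k) K(p, k) N]
variable {τ : K(p, k) →+* K(p, k)}

/-! ### `pPow` -/

theorem mem_pPow_iff (r : ℤ) (M : Submodule (WittVector p k) N) (x : N) :
    x ∈ pPow r M ↔ ∃ m ∈ M, ((p : K(p, k)) ^ r) • m = x := by
  unfold pPow
  exact Submodule.mem_smul_pointwise_iff_exists _ _ _

theorem smul_mem_pPow (r : ℤ) {M : Submodule (WittVector p k) N} {m : N} (hm : m ∈ M) :
    ((p : K(p, k)) ^ r) • m ∈ pPow r M :=
  (mem_pPow_iff r M _).2 ⟨m, hm, rfl⟩

theorem pPow_zero (M : Submodule (WittVector p k) N) : pPow 0 M = M := by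
  ext x
  rw [mem_pPow_iff]
  constructor
  · rintro ⟨m, hm, rfl⟩; simpa using hm
  · intro hx; exact ⟨x, hx, by simp⟩

theorem pPow_add (r r' : ℤ) (M : Submodule (WittVector p k) N) :
    pPow (r + r') M = pPow r (pPow r' M) := by
  ext x
  simp only [mem_pPow_iff]
  constructor
  · rintro ⟨m, hm, rfl⟩
    exact ⟨((p : K(p, k)) ^ r') • m, ⟨m, hm, rfl⟩, by rw [← mul_smul, ← zpow_add₀ p_ne_zero]⟩
  · rintro ⟨_, ⟨m, hm, rfl⟩, rfl⟩
    exact ⟨m, hm, by rw [← mul_smul, ← zpow_add₀ p_ne_zero]⟩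

theorem pPow_mono (r : ℤ) {M M' : Submodule (WittVector p k) N} (h : M ≤ M') :
    pPow r M ≤ pPow r M' := by
  intro x hx
  rw [mem_pPow_iff] at hx ⊢
  obtain ⟨m, hm, rfl⟩ := hx
  exact ⟨m, h hm, rfl⟩

theorem natpow_smul_mem (n : ℕ) {M : Submodule (WittVector p k) N} {m : N} (hm : m ∈ M) :
    ((p : K(p, k)) ^ n) • m ∈ M := by
  rw [p_pow_eq_algebraMap, algebraMap_smul]
  exact M.smul_mem _ hm

theorem pPow_le_self_of_nonneg {r : ℤ} (hr : 0 ≤ r) (M : Submodule (WittVector p k) N) :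
    pPow r M ≤ M := by
  intro x hx
  rw [mem_pPow_iff] at hx
  obtain ⟨m, hm, rfl⟩ := hx
  obtain ⟨n, rfl⟩ := Int.eq_ofNat_of_zero_le hr
  rw [zpow_natCast]
  exact natpow_smul_mem n hm

theorem pPow_anti {r r' : ℤ} (h : r' ≤ r) (M : Submodule (WittVector p k) N) :
    pPow r M ≤ pPow r' M := by
  have : r = r' + (r - r') := by ring
  rw [this, pPow_add]
  exact pPow_mono r' (pPow_le_self_of_nonneg (by omega) M)

theorem pPow_le_pPow_iff_le (r : ℤ) {M M' : Submodule (WittVector p k) N} :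
    pPow r M ≤ pPow r M' ↔ M ≤ M' := by
  constructor
  · intro h
    have := pPow_mono (-r) h
    rwa [← pPow_add, ← pPow_add, neg_add_cancel, pPow_zero, pPow_zero] at this
  · exact pPow_mono r

theorem le_pPow_iff (r : ℤ) {M M' : Submodule (WittVector p k) N} :
    M ≤ pPow r M' ↔ pPow (-r) M ≤ M' := by
  rw [← pPow_le_pPow_iff_le (-r) (M' := pPow r M'), ← pPow_add, neg_add_cancel, pPow_zero]

/-! ### `latImg` -/

theorem map_wsmul_into (hτ : PresW τ) (F : N →ₛₗ[τ] N) (w : WittVector p k) :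
    ∃ w' : WittVector p k, ∀ x : N, F (w • x) = w' • F x := by
  obtain ⟨w', hw'⟩ := hτ.into w
  refine ⟨w', fun x => ?_⟩
  rw [← algebraMap_smul K(p, k) w x, F.map_smulₛₗ, hw', algebraMap_smul]

theorem map_wsmul_onto (hτ : PresW τ) (F : N →ₛₗ[τ] N) (w' : WittVector p k) :
    ∃ w : WittVector p k, ∀ x : N, F (w • x) = w' • F x := by
  obtain ⟨w, hw⟩ := hτ.onto w'
  refine ⟨w, fun x => ?_⟩
  rw [← algebraMap_smul K(p, k) w x, F.map_smulₛₗ, hw, algebraMap_smul]

theorem mem_latImg_one_iff (hτ : PresW τ) (F : N →ₛₗ[τ] N) (M : Submodule (WittVector p k) N)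
    (x : N) : x ∈ Submodule.span (WittVector p k) (⇑F '' (M : Set N)) ↔ ∃ m ∈ M, F m = x := by
  constructor
  · intro hx
    refine Submodule.span_induction ?_ ?_ ?_ ?_ hx
    · rintro _ ⟨m, hm, rfl⟩; exact ⟨m, hm, rfl⟩
    · exact ⟨0, M.zero_mem, map_zero F⟩
    · rintro _ _ _ _ ⟨m, hm, rfl⟩ ⟨m', hm', rfl⟩
      exact ⟨m + m', M.add_mem hm hm', map_add F m m'⟩
    · rintro w _ _ ⟨m, hm, rfl⟩
      obtain ⟨w0, hw0⟩ := map_wsmul_onto hτ F w
      exact ⟨w0 • m, M.smul_mem _ hm, hw0 m⟩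
  · rintro ⟨m, hm, rfl⟩
    exact Submodule.subset_span ⟨m, hm, rfl⟩

theorem mem_latImg_iff (hτ : PresW τ) (F : N →ₛₗ[τ] N) (s : ℕ) (M : Submodule (WittVector p k) N)
    (x : N) : x ∈ latImg F s M ↔ ∃ m ∈ M, (⇑F)^[s] m = x := by
  have := mem_latImg_one_iff (hτ.pow s) (Isoc.iter F s) M x
  rw [Isoc.coe_iter] at this
  exact this

theorem iterate_mem_latImg (F : N →ₛₗ[τ] N) (s : ℕ) {M : Submodule (WittVector p k) N} {m : N}
    (hm : m ∈ M) : (⇑F)^[s] m ∈ latImg F s M :=
  Submodule.subset_span ⟨m, hm, rfl⟩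

theorem latImg_mono (F : N →ₛₗ[τ] N) (s : ℕ) {M M' : Submodule (WittVector p k) N} (h : M ≤ M') :
    latImg F s M ≤ latImg F s M' :=
  Submodule.span_mono (Set.image_mono h)

theorem latImg_zero (F : N →ₛₗ[τ] N) (M : Submodule (WittVector p k) N) : latImg F 0 M = M := by
  unfold latImg
  simp

theorem latImg_add (hτ : PresW τ) (F : N →ₛₗ[τ] N) (s t : ℕ) (M : Submodule (WittVector p k) N) :
    latImg F (s + t) M = latImg F s (latImg F t M) := by
  ext x
  simp only [mem_latImg_iff hτ]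
  constructor
  · rintro ⟨m, hm, rfl⟩
    exact ⟨(⇑F)^[t] m, ⟨m, hm, rfl⟩, (Function.iterate_add_apply _ _ _ _).symm⟩
  · rintro ⟨_, ⟨m, hm, rfl⟩, rfl⟩
    exact ⟨m, hm, Function.iterate_add_apply _ _ _ _⟩

theorem iterate_zpow_smul (F : N →ₛₗ[τ] N) (s : ℕ) (r : ℤ) (m : N) :
    (⇑F)^[s] (((p : K(p, k)) ^ r) • m) = ((p : K(p, k)) ^ r) • (⇑F)^[s] m := by
  rw [← Isoc.iter_apply, (Isoc.iter F s).map_smulₛₗ, map_p_zpow, Isoc.iter_apply]

theorem latImg_pPow (hτ : PresW τ) (F : N →ₛₗ[τ] N) (s : ℕ) (r : ℤ)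
    (M : Submodule (WittVector p k) N) : latImg F s (pPow r M) = pPow r (latImg F s M) := by
  ext x
  simp only [mem_latImg_iff hτ, mem_pPow_iff]
  constructor
  · rintro ⟨_, ⟨m, hm, rfl⟩, rfl⟩
    exact ⟨(⇑F)^[s] m, ⟨m, hm, rfl⟩, (iterate_zpow_smul F s r m).symm⟩
  · rintro ⟨_, ⟨m, hm, rfl⟩, rfl⟩
    exact ⟨_, ⟨m, hm, rfl⟩, iterate_zpow_smul F s r m⟩

theorem latImg_mul (hτ : PresW τ) (F : N →ₛₗ[τ] N) (s n : ℕ) (M : Submodule (WittVector p k) N) :
    latImg F (n * s) M = (fun M' => latImg F s M')^[n] M := by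
  induction n with
  | zero => simp [latImg_zero]
  | succ n ih =>
    rw [Function.iterate_succ_apply', ← ih, ← latImg_add hτ]
    congr 1; ring

end lattice

section lattices2

variable {p : ℕ} [Fact p.Prime] {k : Type u} [Field k] [CharP k p] [PerfectRing k p]
variable {N : Type v} [AddCommGroup N] [Module (WittVector p k) N] [Module K(p, k) N]
  [IsScalarTower (WittVector p k) K(p, k) N]
variable {τ : K(p, k) →+* K(p, k)}

theorem PresW.surjective (hτ : PresW τ) : Function.Surjective τ := by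
  intro x
  obtain ⟨c, w, hw⟩ := exists_pow_mul_eq_algebraMap x
  obtain ⟨w', hw'⟩ := hτ.onto w
  refine ⟨((p : K(p, k)) ^ c)⁻¹ * algebraMap (WittVector p k) K(p, k) w', ?_⟩
  rw [map_mul, hw', ← hw, map_inv₀, map_pow, map_natCast, ← mul_assoc,
    inv_mul_cancel₀ (pow_ne_zero _ p_ne_zero), one_mul]

/-- `pPow` as the action of a unit. -/
theorem pPow_eq_units_smul (r : ℤ) (M : Submodule (WittVector p k) N) :
    pPow r M = (Units.mk0 ((p : K(p, k)) ^ r) (zpow_ne_zero r p_ne_zero)) • M := rfl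

theorem fg_pPow (r : ℤ) {M : Submodule (WittVector p k) N} (hM : M.FG) : (pPow r M).FG :=
  hM.map (DistribMulAction.toLinearMap (WittVector p k) N ((p : K(p, k)) ^ r))

theorem isLattice_pPow (r : ℤ) (M : Submodule (WittVector p k) N) [hM : M.IsLattice K(p, k)] :
    (pPow r M).IsLattice K(p, k) := by
  rw [pPow_eq_units_smul]
  infer_instance

theorem latImg_span (hτ : PresW τ) (F : N →ₛₗ[τ] N) (s : ℕ) (S : Set N) :
    latImg F s (Submodule.span (WittVector p k) S) =
      Submodule.span (WittVector p k) ((⇑F)^[s] '' S) := by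
  apply le_antisymm
  · intro x hx
    rw [mem_latImg_iff hτ] at hx
    obtain ⟨m, hm, rfl⟩ := hx
    refine Submodule.span_induction ?_ ?_ ?_ ?_ hm
    · intro y hy; exact Submodule.subset_span ⟨y, hy, rfl⟩
    · rw [← Isoc.iter_apply, map_zero]; exact Submodule.zero_mem _
    · intro y z _ _ hy hz
      rw [← Isoc.iter_apply, map_add]; exact Submodule.add_mem _ hy hz
    · intro w y _ hy
      obtain ⟨w', hw'⟩ := map_wsmul_into (hτ.pow s) (Isoc.iter F s) w
      rw [← Isoc.iter_apply, hw']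
      exact Submodule.smul_mem _ _ hy
  · exact Submodule.span_mono (Set.image_mono Submodule.subset_span)

theorem fg_latImg (hτ : PresW τ) (F : N →ₛₗ[τ] N) (s : ℕ) {M : Submodule (WittVector p k) N}
    (hM : M.FG) : (latImg F s M).FG := by
  obtain ⟨S, rfl⟩ := hM
  rw [latImg_span hτ]
  exact Submodule.fg_span ((Finset.finite_toSet S).image _)

theorem span_latImg_eq_top (_hτ : PresW τ) (F : N →ₛₗ[τ] N) (hF : Function.Surjective F) (s : ℕ)
    {M : Submodule (WittVector p k) N} (hM : Submodule.span K(p, k) (M : Set N) = ⊤) :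
    Submodule.span K(p, k) (latImg F s M : Set N) = ⊤ := by
  rw [eq_top_iff]
  intro y _
  obtain ⟨x, rfl⟩ := (hF.iterate s) y
  have hx : x ∈ Submodule.span K(p, k) (M : Set N) := by rw [hM]; trivial
  refine Submodule.span_induction ?_ ?_ ?_ ?_ hx
  · intro m hm
    exact Submodule.subset_span (iterate_mem_latImg F s hm)
  · rw [← Isoc.iter_apply, map_zero]; exact Submodule.zero_mem _
  · intro y z _ _ hy hz
    rw [← Isoc.iter_apply, map_add]; exact Submodule.add_mem _ hy hz
  · intro c y _ hy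
    rw [← Isoc.iter_apply, (Isoc.iter F s).map_smulₛₗ]
    exact Submodule.smul_mem _ _ hy

theorem isLattice_latImg (hτ : PresW τ) (F : N →ₛₗ[τ] N) (hF : Function.Surjective F) (s : ℕ)
    (M : Submodule (WittVector p k) N) [hM : M.IsLattice K(p, k)] :
    (latImg F s M).IsLattice K(p, k) :=
  ⟨fg_latImg hτ F s hM.fg, span_latImg_eq_top hτ F hF s hM.span_eq_top⟩

/-- elements of the `K`-span of `M'` are carried into `M'` by a power of `p`. -/
theorem exists_natpow_smul_mem_of_mem_span {M' : Submodule (WittVector p k) N} {x : N}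
    (hx : x ∈ Submodule.span K(p, k) (M' : Set N)) : ∃ c : ℕ, ((p : K(p, k)) ^ c) • x ∈ M' := by
  refine Submodule.span_induction ?_ ?_ ?_ ?_ hx
  · intro m hm; exact ⟨0, by simpa using hm⟩
  · exact ⟨0, by simp⟩
  · rintro y z _ _ ⟨c, hc⟩ ⟨c', hc'⟩
    refine ⟨c + c', ?_⟩
    rw [smul_add]
    refine M'.add_mem ?_ ?_
    · rw [add_comm, pow_add, mul_smul]; exact natpow_smul_mem c' hc
    · rw [pow_add, mul_smul]; exact natpow_smul_mem c hc'
  · rintro a y _ ⟨c, hc⟩
    obtain ⟨c', w, hw⟩ := exists_pow_mul_eq_algebraMap a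
    refine ⟨c' + c, ?_⟩
    rw [pow_add, smul_smul, mul_assoc, mul_comm _ a, ← mul_assoc, hw, ← smul_smul, algebraMap_smul]
    exact M'.smul_mem _ hc

/-- commensurability: a finitely generated `W`-submodule is carried into any spanning
`W`-submodule by a power of `p`. -/
theorem exists_pPow_le {M M' : Submodule (WittVector p k) N} (hM : M.FG)
    (hM' : Submodule.span K(p, k) (M' : Set N) = ⊤) : ∃ c : ℕ, pPow (c : ℤ) M ≤ M' := by
  obtain ⟨S, rfl⟩ := hM
  have h1 : ∀ g : N, ∃ c : ℕ, ((p : K(p, k)) ^ c) • g ∈ M' := fun g =>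
    exists_natpow_smul_mem_of_mem_span (by rw [hM']; trivial)
  choose c hc using h1
  refine ⟨S.sup c, ?_⟩
  intro x hx
  rw [mem_pPow_iff] at hx
  obtain ⟨m, hm, rfl⟩ := hx
  rw [zpow_natCast]
  refine Submodule.span_induction ?_ ?_ ?_ ?_ hm
  · intro g hg
    have hle : c g ≤ S.sup c := Finset.le_sup (f := c) hg
    obtain ⟨d, hd⟩ := Nat.exists_eq_add_of_le hle
    rw [hd, add_comm, pow_add, mul_smul]
    exact natpow_smul_mem d (hc g)
  · simp
  · intro y z _ _ hy hz; rw [smul_add]; exact M'.add_mem hy hz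
  · intro w y _ hy
    rw [← algebraMap_smul K(p, k) w y, smul_comm, algebraMap_smul]
    exact M'.smul_mem _ hy

/-- Krull intersection for finitely generated `W`-submodules. -/
theorem eq_zero_of_forall_mem_pPow {M : Submodule (WittVector p k) N} (hM : M.FG) {x : N}
    (hx : ∀ n : ℕ, x ∈ pPow (n : ℤ) M) : x = 0 := by
  have : Module.Finite (WittVector p k) M := Module.Finite.iff_fg.2 hM
  have hI : Ideal.span {(p : WittVector p k)} ≠ ⊤ := by
    rw [Ne, Ideal.span_singleton_eq_top]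
    exact (WittVector.irreducible p).not_isUnit
  have : IsHausdorff (Ideal.span {(p : WittVector p k)}) M := IsHausdorff.of_isLocalRing _ _ hI
  have hxM : x ∈ M := by
    have := hx 0
    rwa [Nat.cast_zero, pPow_zero] at this
  have : (⟨x, hxM⟩ : M) = 0 := by
    refine IsHausdorff.haus' (I := Ideal.span {(p : WittVector p k)}) _ fun n => ?_
    rw [SModEq.zero, Ideal.span_singleton_pow, Submodule.ideal_span_singleton_smul,
      Submodule.mem_smul_pointwise_iff_exists]
    have := hx n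
    rw [mem_pPow_iff] at this
    obtain ⟨m, hm, hmx⟩ := this
    refine ⟨⟨m, hm⟩, Submodule.mem_top, ?_⟩
    apply Subtype.ext
    show (p : WittVector p k) ^ n • m = x
    rw [← hmx, zpow_natCast, p_pow_eq_algebraMap, algebraMap_smul]
  exact congrArg Subtype.val this

theorem exists_not_le_pPow {M Q : Submodule (WittVector p k) N} (hM : M.FG) (hQ : Q ≠ ⊥) :
    ∃ r : ℕ, ¬ Q ≤ pPow (r : ℤ) M := by
  by_contra hcon
  push Not at hcon
  apply hQ
  rw [eq_bot_iff]
  intro x hx
  rw [Submodule.mem_bot]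
  exact eq_zero_of_forall_mem_pPow hM fun n => hcon n hx

theorem le_of_pPow_le_pPow {M : Submodule (WittVector p k) N} (hM : M.FG) (hM0 : M ≠ ⊥)
    {a b : ℤ} (h : pPow a M ≤ pPow b M) : b ≤ a := by
  by_contra hlt
  push Not at hlt
  -- M ≤ pPow 1 M
  have h1 : M ≤ pPow 1 M := by
    have h2 : pPow (-a) (pPow a M) ≤ pPow (-a) (pPow b M) := pPow_mono _ h
    rw [← pPow_add, ← pPow_add, neg_add_cancel, pPow_zero] at h2
    exact h2.trans (pPow_anti (by omega) M)
  have h3 : ∀ n : ℕ, M ≤ pPow (n : ℤ) M := by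
    intro n
    induction n with
    | zero => rw [Nat.cast_zero, pPow_zero]
    | succ n ih =>
      calc M ≤ pPow 1 M := h1
        _ ≤ pPow 1 (pPow (n : ℤ) M) := pPow_mono 1 ih
        _ = pPow ((n + 1 : ℕ) : ℤ) M := by rw [← pPow_add]; congr 1; push_cast; ring
  obtain ⟨r, hr⟩ := exists_not_le_pPow hM hM0
  exact hr (h3 r)

end lattices2

section ord

variable {p : ℕ} [Fact p.Prime] {k : Type u} [Field k] [CharP k p] [PerfectRing k p]
variable {N : Type v} [AddCommGroup N] [Module (WittVector p k) N] [Module K(p, k) N]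
  [IsScalarTower (WittVector p k) K(p, k) N]
variable {τ : K(p, k) →+* K(p, k)}

theorem ne_bot_of_span_eq_top [Nontrivial N] {M : Submodule (WittVector p k) N}
    (hM : Submodule.span K(p, k) (M : Set N) = ⊤) : M ≠ ⊥ := by
  rintro rfl
  rw [Submodule.bot_coe, Submodule.span_singleton_eq_bot.mpr rfl] at hM
  exact bot_ne_top hM

theorem isOrd_unique {M : Submodule (WittVector p k) N} {F : N →ₛₗ[τ] N} {s : ℕ} {r r' : ℤ}
    (h : IsOrd M F s r) (h' : IsOrd M F s r') : r = r' := by
  by_contra hne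
  rcases lt_or_gt_of_ne hne with hlt | hlt
  · exact h.2 (h'.1.trans (pPow_anti (by omega) M))
  · exact h'.2 (h.1.trans (pPow_anti (by omega) M))

theorem isOrd_le_of_le {M : Submodule (WittVector p k) N} {F : N →ₛₗ[τ] N} {s : ℕ} {r r' : ℤ}
    (h : IsOrd M F s r) (h' : latImg F s M ≤ pPow r' M) : r' ≤ r := by
  by_contra hlt
  push Not at hlt
  exact h.2 (h'.trans (pPow_anti (by omega) M))

/-- existence of the order of `F^s` relative to a lattice. -/
theorem exists_isOrd [Nontrivial N] (hτ : PresW τ) (F : N →ₛₗ[τ] N) (hF : Function.Bijective F)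
    (M : Submodule (WittVector p k) N) (hM : M.IsLattice K(p, k)) (s : ℕ) :
    ∃ r : ℤ, IsOrd M F s r := by
  have hL : (latImg F s M).IsLattice K(p, k) := isLattice_latImg hτ F hF.surjective s M
  have hne : latImg F s M ≠ ⊥ := ne_bot_of_span_eq_top hL.span_eq_top
  obtain ⟨c, hc⟩ := exists_pPow_le hL.fg hM.span_eq_top
  obtain ⟨r0, hr0⟩ := exists_not_le_pPow hM.fg hne
  have hex : ∃ r : ℤ, latImg F s M ≤ pPow r M := ⟨-(c : ℤ), by rw [le_pPow_iff, neg_neg]; exact hc⟩
  have hbdd : ∃ b : ℤ, ∀ r : ℤ, latImg F s M ≤ pPow r M → r ≤ b := by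
    refine ⟨r0, fun r hr => ?_⟩
    by_contra hlt
    push Not at hlt
    exact hr0 (hr.trans (pPow_anti hlt.le M))
  obtain ⟨r, hr, hmax⟩ := Int.exists_greatest_of_bdd hbdd hex
  refine ⟨r, hr, fun h => ?_⟩
  have := hmax (r + 1) h
  omega

theorem isOrd_zero [Nontrivial N] (F : N →ₛₗ[τ] N)
    (M : Submodule (WittVector p k) N) (hM : M.IsLattice K(p, k)) : IsOrd M F 0 0 := by
  refine ⟨by rw [latImg_zero, pPow_zero], fun h => ?_⟩
  rw [latImg_zero, zero_add] at h
  have h0 : pPow 0 M ≤ pPow 1 M := by rwa [pPow_zero]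
  have := le_of_pPow_le_pPow hM.fg (ne_bot_of_span_eq_top hM.span_eq_top) h0
  omega

theorem latImg_le_pPow_add (hτ : PresW τ) (F : N →ₛₗ[τ] N) {M : Submodule (WittVector p k) N}
    {m n : ℕ} {a b : ℤ} (ha : latImg F m M ≤ pPow a M) (hb : latImg F n M ≤ pPow b M) :
    latImg F (m + n) M ≤ pPow (a + b) M := by
  calc latImg F (m + n) M = latImg F m (latImg F n M) := latImg_add hτ F m n M
    _ ≤ latImg F m (pPow b M) := latImg_mono F m hb
    _ = pPow b (latImg F m M) := latImg_pPow hτ F m b M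
    _ ≤ pPow b (pPow a M) := pPow_mono b ha
    _ = pPow (a + b) M := by rw [← pPow_add, add_comm]

theorem isOrd_superadditive (hτ : PresW τ) (F : N →ₛₗ[τ] N) {M : Submodule (WittVector p k) N}
    {m n : ℕ} {a b c : ℤ} (ha : IsOrd M F m a) (hb : IsOrd M F n b) (hc : IsOrd M F (m + n) c) :
    a + b ≤ c :=
  isOrd_le_of_le hc (latImg_le_pPow_add hτ F ha.1 hb.1)

/-- a linear upper bound for the orders of the iterates. -/
theorem exists_isOrd_le_mul [Nontrivial N] (hτ : PresW τ) (F : N →ₛₗ[τ] N)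
    (hF : Function.Bijective F) (M : Submodule (WittVector p k) N) (hM : M.IsLattice K(p, k)) :
    ∃ c : ℕ, ∀ (n : ℕ) (r : ℤ), latImg F n M ≤ pPow r M → r ≤ n * c := by
  have hL : (latImg F 1 M).IsLattice K(p, k) := isLattice_latImg hτ F hF.surjective 1 M
  obtain ⟨c, hc⟩ := exists_pPow_le hM.fg hL.span_eq_top
  refine ⟨c, fun n r hr => ?_⟩
  have hlow : ∀ n : ℕ, pPow ((n : ℤ) * c) M ≤ latImg F n M := by
    intro n
    induction n with
    | zero => simp [pPow_zero, latImg_zero]
    | succ n ih =>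
      calc pPow (((n + 1 : ℕ) : ℤ) * c) M = pPow ((n : ℤ) * c) (pPow c M) := by
            rw [← pPow_add]; congr 1; push_cast; ring
        _ ≤ pPow ((n : ℤ) * c) (latImg F 1 M) := pPow_mono _ hc
        _ = latImg F 1 (pPow ((n : ℤ) * c) M) := (latImg_pPow hτ F 1 _ M).symm
        _ ≤ latImg F 1 (latImg F n M) := latImg_mono F 1 ih
        _ = latImg F (n + 1) M := by rw [← latImg_add hτ, add_comm]
  exact le_of_pPow_le_pPow hM.fg (ne_bot_of_span_eq_top hM.span_eq_top) ((hlow n).trans hr)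

/-- Fekete: the orders of the iterates divided by `n` converge. -/
theorem exists_ord_tendsto [Nontrivial N] (hτ : PresW τ) (F : N →ₛₗ[τ] N)
    (hF : Function.Bijective F) (M : Submodule (WittVector p k) N) (hM : M.IsLattice K(p, k)) :
    ∃ o : ℕ → ℤ, (∀ n : ℕ, IsOrd M F n (o n)) ∧
      ∃ lam : ℝ, Filter.Tendsto (fun n : ℕ => (o n : ℝ) / n) Filter.atTop (nhds lam) := by
  choose o ho using fun n => exists_isOrd hτ F hF M hM n
  refine ⟨o, ho, ?_⟩
  obtain ⟨c, hc⟩ := exists_isOrd_le_mul hτ F hF M hM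
  let u : ℕ → ℝ := fun n => -(o n : ℝ)
  have hsub : Subadditive u := by
    intro m n
    have := isOrd_superadditive hτ F (ho m) (ho n) (ho (m + n))
    show -(o (m + n) : ℝ) ≤ -(o m : ℝ) + -(o n : ℝ)
    have h2 : ((o m + o n : ℤ) : ℝ) ≤ (o (m + n) : ℝ) := by exact_mod_cast this
    push_cast at h2
    linarith
  have hbdd : BddBelow (Set.range fun n => u n / n) := by
    refine ⟨-(c : ℝ), ?_⟩
    rintro _ ⟨n, rfl⟩
    show -(c : ℝ) ≤ -(o n : ℝ) / n
    rcases Nat.eq_zero_or_pos n with rfl | hn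
    · simp
    · have h1 : o n ≤ n * c := hc n (o n) (ho n).1
      have h2 : (o n : ℝ) ≤ (n : ℝ) * c := by exact_mod_cast h1
      have hn' : (0 : ℝ) < n := by exact_mod_cast hn
      rw [le_div_iff₀ hn']
      nlinarith
  refine ⟨-hsub.lim, ?_⟩
  have := (hsub.tendsto_lim hbdd).neg
  refine this.congr fun n => ?_
  show -(-(o n : ℝ) / n) = (o n : ℝ) / n
  ring

end ord

section twist

variable {p : ℕ} [Fact p.Prime] {k : Type u} [Field k] [CharP k p] [PerfectRing k p]
variable {N : Type v} [AddCommGroup N] [Module (WittVector p k) N] [Module K(p, k) N]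
  [IsScalarTower (WittVector p k) K(p, k) N]
variable {τ : K(p, k) →+* K(p, k)}

theorem ne_bot_of_isOrd {M : Submodule (WittVector p k) N} {F : N →ₛₗ[τ] N} {s : ℕ} {r : ℤ}
    (h : IsOrd M F s r) : M ≠ ⊥ := by
  rintro rfl
  apply h.2
  have : latImg F s (⊥ : Submodule (WittVector p k) N) = ⊥ := by
    unfold latImg
    rw [Submodule.span_eq_bot]
    rintro _ ⟨x, hx, rfl⟩
    rw [SetLike.mem_coe, Submodule.mem_bot] at hx
    rw [hx, ← Isoc.iter_apply, map_zero]
  rw [this]
  exact bot_le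

theorem isOrd_zero' (F : N →ₛₗ[τ] N) {M : Submodule (WittVector p k) N} (hM : M.FG) (hM0 : M ≠ ⊥) :
    IsOrd M F 0 0 := by
  refine ⟨by rw [latImg_zero, pPow_zero], fun h => ?_⟩
  rw [latImg_zero, zero_add] at h
  have h0 : pPow 0 M ≤ pPow 1 M := by rwa [pPow_zero]
  have := le_of_pPow_le_pPow hM hM0 h0
  omega

theorem twist_iterate (F : N →ₛₗ[τ] N) (m : ℤ) (n j : ℕ) (x : N) :
    (⇑(((p : K(p, k)) ^ m) • Isoc.iter F n))^[j] x = ((p : K(p, k)) ^ (m * j)) • (⇑F)^[n * j] x := by
  induction j with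
  | zero => simp
  | succ j ih =>
    rw [Function.iterate_succ_apply', ih, LinearMap.smul_apply, Isoc.iter_apply, iterate_zpow_smul,
      smul_smul, ← zpow_add₀ p_ne_zero, ← Function.iterate_add_apply]
    congr 2
    · push_cast; ring
    · ring

theorem latImg_twist (hτ : PresW τ) (F : N →ₛₗ[τ] N) (m : ℤ) (n j : ℕ)
    (M : Submodule (WittVector p k) N) :
    latImg (((p : K(p, k)) ^ m) • Isoc.iter F n) j M = pPow (m * j) (latImg F (n * j) M) := by
  ext x
  rw [mem_latImg_iff (hτ.pow n), mem_pPow_iff]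
  constructor
  · rintro ⟨y, hy, rfl⟩
    exact ⟨_, iterate_mem_latImg F _ hy, (twist_iterate F m n j y).symm⟩
  · rintro ⟨z, hz, rfl⟩
    rw [mem_latImg_iff hτ] at hz
    obtain ⟨y, hy, rfl⟩ := hz
    exact ⟨y, hy, twist_iterate F m n j y⟩

theorem isOrd_twist (hτ : PresW τ) (F : N →ₛₗ[τ] N) (m : ℤ) (n j : ℕ)
    (M : Submodule (WittVector p k) N) (r : ℤ) (h : IsOrd M F (n * j) r) :
    IsOrd M (((p : K(p, k)) ^ m) • Isoc.iter F n) j (r + m * j) := by
  unfold IsOrd
  rw [latImg_twist hτ]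
  have e1 : pPow (r + m * j) M = pPow (m * j) (pPow r M) := by rw [← pPow_add, add_comm]
  have e2 : pPow (r + m * j + 1) M = pPow (m * j) (pPow (r + 1) M) := by
    rw [← pPow_add]; congr 1; ring
  rw [e1, e2, pPow_le_pPow_iff_le, pPow_le_pPow_iff_le]
  exact h

end twist

section maps

variable {p : ℕ} [Fact p.Prime] {k : Type u} [Field k] [CharP k p] [PerfectRing k p]
variable {N : Type v} [AddCommGroup N] [Module (WittVector p k) N] [Module K(p, k) N]
  [IsScalarTower (WittVector p k) K(p, k) N]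
variable {N' : Type*} [AddCommGroup N'] [Module (WittVector p k) N'] [Module K(p, k) N']
  [IsScalarTower (WittVector p k) K(p, k) N']
variable {τ : K(p, k) →+* K(p, k)}

theorem map_iterate_comm {F : N →ₛₗ[τ] N} {F' : N' →ₛₗ[τ] N'} (f : N →ₗ[K(p, k)] N')
    (hf : ∀ x, f (F x) = F' (f x)) (s : ℕ) (x : N) : f ((⇑F)^[s] x) = (⇑F')^[s] (f x) := by
  induction s generalizing x with
  | zero => rfl
  | succ s ih => rw [Function.iterate_succ_apply, ih, hf, ← Function.iterate_succ_apply]

theorem map_latImg (hτ : PresW τ) {F : N →ₛₗ[τ] N} {F' : N' →ₛₗ[τ] N'} (f : N →ₗ[K(p, k)] N')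
    (hf : ∀ x, f (F x) = F' (f x)) (s : ℕ) (M : Submodule (WittVector p k) N) :
    (latImg F s M).map (f.restrictScalars (WittVector p k)) =
      latImg F' s (M.map (f.restrictScalars (WittVector p k))) := by
  ext y
  simp only [Submodule.mem_map, mem_latImg_iff hτ, LinearMap.coe_restrictScalars]
  constructor
  · rintro ⟨_, ⟨m, hm, rfl⟩, rfl⟩
    exact ⟨f m, ⟨m, hm, rfl⟩, (map_iterate_comm f hf s m).symm⟩
  · rintro ⟨_, ⟨m, hm, rfl⟩, rfl⟩
    exact ⟨_, ⟨m, hm, rfl⟩, map_iterate_comm f hf s m⟩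

theorem map_pPow (f : N →ₗ[K(p, k)] N') (r : ℤ) (M : Submodule (WittVector p k) N) :
    (pPow r M).map (f.restrictScalars (WittVector p k)) =
      pPow r (M.map (f.restrictScalars (WittVector p k))) := by
  ext y
  simp only [Submodule.mem_map, mem_pPow_iff, LinearMap.coe_restrictScalars]
  constructor
  · rintro ⟨_, ⟨m, hm, rfl⟩, rfl⟩
    exact ⟨f m, ⟨m, hm, rfl⟩, (map_smul f _ m).symm⟩
  · rintro ⟨_, ⟨m, hm, rfl⟩, rfl⟩
    exact ⟨_, ⟨m, hm, rfl⟩, map_smul f _ m⟩

theorem span_map_restrictScalars (f : N →ₗ[K(p, k)] N') (M : Submodule (WittVector p k) N) :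
    Submodule.span K(p, k) ((M.map (f.restrictScalars (WittVector p k)) : Submodule _ N') : Set N') =
      (Submodule.span K(p, k) (M : Set N)).map f := by
  rw [Submodule.map_span]
  rfl

theorem latImg_sup (hτ : PresW τ) (F : N →ₛₗ[τ] N) (s : ℕ) (M M' : Submodule (WittVector p k) N) :
    latImg F s (M ⊔ M') = latImg F s M ⊔ latImg F s M' := by
  apply le_antisymm
  · intro x hx
    rw [mem_latImg_iff hτ] at hx
    obtain ⟨m, hm, rfl⟩ := hx
    obtain ⟨a, ha, b, hb, rfl⟩ := Submodule.mem_sup.1 hm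
    rw [← Isoc.iter_apply, map_add]
    exact Submodule.add_mem_sup (iterate_mem_latImg F s ha) (iterate_mem_latImg F s hb)
  · exact sup_le (latImg_mono F s le_sup_left) (latImg_mono F s le_sup_right)

theorem pPow_sup (r : ℤ) (M M' : Submodule (WittVector p k) N) :
    pPow r (M ⊔ M') = pPow r M ⊔ pPow r M' := by
  apply le_antisymm
  · intro x hx
    rw [mem_pPow_iff] at hx
    obtain ⟨m, hm, rfl⟩ := hx
    obtain ⟨a, ha, b, hb, rfl⟩ := Submodule.mem_sup.1 hm
    rw [smul_add]
    exact Submodule.add_mem_sup (smul_mem_pPow r ha) (smul_mem_pPow r hb)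
  · exact sup_le (pPow_mono r le_sup_left) (pPow_mono r le_sup_right)

/-- iterating an isoclinic relation -/
theorem latImg_mul_eq_pPow (hτ : PresW τ) (F : N →ₛₗ[τ] N) {s : ℕ} {r : ℤ}
    {M : Submodule (WittVector p k) N} (h : latImg F s M = pPow r M) (n : ℕ) :
    latImg F (n * s) M = pPow (n * r) M := by
  induction n with
  | zero => simp [latImg_zero, pPow_zero]
  | succ n ih =>
    have e : (n + 1) * s = s + n * s := by ring
    rw [e, latImg_add hτ, ih, latImg_pPow hτ, h, ← pPow_add]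
    congr 1; push_cast; ring

end maps

section restrict

variable {p : ℕ} [Fact p.Prime] {k : Type u} [Field k] [CharP k p] [PerfectRing k p]
variable {N : Type v} [AddCommGroup N] [Module (WittVector p k) N] [Module K(p, k) N]
  [IsScalarTower (WittVector p k) K(p, k) N]
variable {τ : K(p, k) →+* K(p, k)}

/-- an injective semilinear endomorphism (w.r.t. a surjective ring hom) of a finite-dimensional
space is surjective. -/
theorem surjective_of_injective_semilinear {K : Type*} [Field K] {σ : K →+* K}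
    (hσ : Function.Surjective σ) {V : Type*} [AddCommGroup V] [Module K V] [Module.Finite K V]
    (G : V →ₛₗ[σ] V) (hG : Function.Injective G) : Function.Surjective G := by
  classical
  let b := Module.finBasis K V
  have hli : LinearIndependent K (fun i => G (b i)) := by
    rw [Fintype.linearIndependent_iff]
    intro g hg
    choose g' hg' using fun i => hσ (g i)
    have h1 : G (∑ i, g' i • b i) = 0 := by
      rw [map_sum, ← hg]
      refine Finset.sum_congr rfl fun i _ => ?_
      rw [G.map_smulₛₗ, hg']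
    have h2 : ∑ i, g' i • b i = 0 := hG (by rw [h1, map_zero])
    have h3 := Fintype.linearIndependent_iff.1 b.linearIndependent g' h2
    intro i
    rw [← hg' i, h3 i, map_zero]
  have hspan := hli.span_eq_top_of_card_eq_finrank' (by simp)
  intro y
  have hy : y ∈ Submodule.span K (Set.range fun i => G (b i)) := by rw [hspan]; trivial
  obtain ⟨c, rfl⟩ := (Submodule.mem_span_range_iff_exists_fun K).1 hy
  choose c' hc' using fun i => hσ (c i)
  refine ⟨∑ i, c' i • b i, ?_⟩
  rw [map_sum]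
  refine Finset.sum_congr rfl fun i _ => ?_
  rw [G.map_smulₛₗ, hc']

variable (P : Submodule K(p, k) N) (F : N →ₛₗ[τ] N) (hP : ∀ x ∈ P, F x ∈ P)

theorem restrict_iterate (s : ℕ) (x : P) :
    (((⇑(F.restrict hP))^[s] x : P) : N) = (⇑F)^[s] (x : N) := by
  induction s generalizing x with
  | zero => rfl
  | succ s ih => rw [Function.iterate_succ_apply, ih, Function.iterate_succ_apply]; rfl

include hP in
theorem iterate_mem_of_stable (s : ℕ) {x : N} (hx : x ∈ P) : (⇑F)^[s] x ∈ P := by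
  induction s generalizing x with
  | zero => exact hx
  | succ s ih => rw [Function.iterate_succ_apply]; exact ih (hP x hx)

include hP in
/-- `F^s` maps a stable finite-dimensional subspace onto itself. -/
theorem exists_iterate_eq_of_mem_stable [Module.Finite K(p, k) N] (hτ : PresW τ)
    (hF : Function.Injective F) (s : ℕ) {y : N} (hy : y ∈ P) : ∃ x ∈ P, (⇑F)^[s] x = y := by
  have hinj : Function.Injective (F.restrict hP) := by
    intro a b hab
    apply Subtype.ext
    apply hF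
    have := congrArg Subtype.val hab
    exact this
  have hsurj := surjective_of_injective_semilinear hτ.surjective (F.restrict hP) hinj
  obtain ⟨x, hx⟩ := (hsurj.iterate s) ⟨y, hy⟩
  refine ⟨x, x.2, ?_⟩
  rw [← restrict_iterate P F hP s x, hx]

theorem exists_of_isIsoclinic_restrict (hτ : PresW τ) {μ : ℚ}
    (h : IsIsoclinic (F.restrict hP) μ) :
    ∃ M : Submodule (WittVector p k) N, M.FG ∧ Submodule.span K(p, k) (M : Set N) = P ∧
      ∃ (r : ℤ) (s : ℕ), 0 < s ∧ (r : ℚ) / s = μ ∧ latImg F s M = pPow r M := by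
  obtain ⟨M', hM', r, s, hs, hrs, hMF⟩ := h
  have hf : ∀ x, P.subtype ((F.restrict hP) x) = F (P.subtype x) := fun x => rfl
  refine ⟨M'.map (P.subtype.restrictScalars (WittVector p k)), hM'.fg.map _, ?_, r, s, hs, hrs, ?_⟩
  · rw [span_map_restrictScalars, hM'.span_eq_top, Submodule.map_top, Submodule.range_subtype]
  · rw [← map_latImg hτ P.subtype hf, hMF, map_pPow]

theorem isIsoclinic_restrict_of (hτ : PresW τ) {μ : ℚ} {M : Submodule (WittVector p k) N}
    (hfg : M.FG) (hspan : Submodule.span K(p, k) (M : Set N) = P) {r : ℤ} {s : ℕ} (hs : 0 < s)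
    (hrs : (r : ℚ) / s = μ) (h : latImg F s M = pPow r M) : IsIsoclinic (F.restrict hP) μ := by
  have hf : ∀ x, P.subtype ((F.restrict hP) x) = F (P.subtype x) := fun x => rfl
  let ι : P →ₗ[WittVector p k] N := P.subtype.restrictScalars (WittVector p k)
  have hιinj : Function.Injective ι := Subtype.val_injective
  have hMP : ∀ x ∈ M, x ∈ P := fun x hx => hspan ▸ Submodule.subset_span hx
  let M' : Submodule (WittVector p k) P := M.comap ι
  have hmap : M'.map ι = M := by
    apply le_antisymm (Submodule.map_comap_le _ _)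
    intro x hx
    exact ⟨⟨x, hMP x hx⟩, hx, rfl⟩
  refine ⟨M', ⟨?_, ?_⟩, r, s, hs, hrs, ?_⟩
  · exact Submodule.fg_of_fg_map_injective ι hιinj (by rw [hmap]; exact hfg)
  · apply Submodule.map_injective_of_injective (f := P.subtype) Subtype.val_injective
    rw [← span_map_restrictScalars, Submodule.map_top, Submodule.range_subtype]
    show Submodule.span K(p, k) ((M'.map ι : Submodule _ N) : Set N) = P
    rw [hmap, hspan]
  · apply Submodule.map_injective_of_injective (f := ι) hιinj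
    show (latImg (F.restrict hP) s M').map (P.subtype.restrictScalars (WittVector p k)) =
      (pPow r M').map (P.subtype.restrictScalars (WittVector p k))
    rw [map_latImg hτ P.subtype hf, map_pPow]
    show latImg F s (M'.map ι) = pPow r (M'.map ι)
    rw [hmap, h]

end restrict

section inj

variable {p : ℕ} [Fact p.Prime] {k : Type u} [Field k] [CharP k p] [PerfectRing k p]
variable {N : Type v} [AddCommGroup N] [Module (WittVector p k) N] [Module K(p, k) N]
  [IsScalarTower (WittVector p k) K(p, k) N]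
variable {τ : K(p, k) →+* K(p, k)}

theorem le_of_latImg_le_latImg (hτ : PresW τ) (F : N →ₛₗ[τ] N) (hF : Function.Injective F)
    (s : ℕ) {A B : Submodule (WittVector p k) N} (h : latImg F s A ≤ latImg F s B) : A ≤ B := by
  intro x hx
  have h1 := h (iterate_mem_latImg F s hx)
  rw [mem_latImg_iff hτ] at h1
  obtain ⟨y, hy, hxy⟩ := h1
  have : y = x := (hF.iterate s) hxy
  rwa [← this]

end inj

end Groth.Agent.Lib.Helper85.IsocLattice
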