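import Mathlib
import Groth.Prelude.Def_Isoc
import Groth.Agent.Lib.Helper85.IsocLattice
import Groth.Agent.S19231

/-!
# Orders of scalars and determinants of semilinear endomorphisms (namespace `Isoc`)
-/

set_option linter.unusedSectionVars false

open scoped Pointwise Isocrystal
open Isoc

namespace Groth.Agent.Lib.Helper85.IsocDet

open Groth.Agent.Lib.Helper85.IsocLattice

universe u v

section ordp

variable {p : ℕ} [Fact p.Prime] {k : Type u} [Field k] [CharP k p] [PerfectRing k p]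
variable {τ : K(p, k) →+* K(p, k)}

theorem isOrdP_one : IsOrdP (1 : K(p, k)) 0 := ⟨1, by simp⟩

theorem isOrdP_mul {c c' : K(p, k)} {r r' : ℤ} (h : IsOrdP c r) (h' : IsOrdP c' r') :
    IsOrdP (c * c') (r + r') := by
  obtain ⟨u, rfl⟩ := h
  obtain ⟨u', rfl⟩ := h'
  refine ⟨u * u', ?_⟩
  rw [zpow_add₀ p_ne_zero, Units.val_mul, map_mul]
  ring

theorem isOrdP_inv {c : K(p, k)} {r : ℤ} (h : IsOrdP c r) : IsOrdP c⁻¹ (-r) := by
  obtain ⟨u, rfl⟩ := h
  refine ⟨u⁻¹, ?_⟩
  rw [mul_inv, zpow_neg]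
  congr 1
  have h1 : algebraMap (WittVector p k) K(p, k) ((u⁻¹ : (WittVector p k)ˣ) : WittVector p k) *
      algebraMap (WittVector p k) K(p, k) (u : WittVector p k) = 1 := by
    rw [← map_mul, Units.inv_mul, map_one]
  exact (eq_inv_of_mul_eq_one_left h1).symm

theorem IsOrdP_ne_zero {c : K(p, k)} {r : ℤ} (h : IsOrdP c r) : c ≠ 0 := by
  obtain ⟨u, rfl⟩ := h
  refine mul_ne_zero (zpow_ne_zero _ p_ne_zero) ?_
  exact (map_ne_zero_iff _ (IsFractionRing.injective (WittVector p k) K(p, k))).2 u.ne_zero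

theorem isOrdP_zpow (r : ℤ) : IsOrdP ((p : K(p, k)) ^ r) r := ⟨1, by simp⟩

/-- every nonzero scalar has an order -/
theorem exists_isOrdP {c : K(p, k)} (hc : c ≠ 0) : ∃ r : ℤ, IsOrdP c r := by
  obtain ⟨n, w, hw⟩ := exists_pow_mul_eq_algebraMap c
  have hw0 : w ≠ 0 := by
    rintro rfl
    rw [map_zero] at hw
    exact mul_ne_zero (pow_ne_zero _ p_ne_zero) hc hw
  obtain ⟨m, u, hu⟩ := WittVector.exists_eq_pow_p_mul' w hw0
  refine ⟨(m : ℤ) - n, u, ?_⟩
  have h1 : c = ((p : K(p, k)) ^ n)⁻¹ * algebraMap (WittVector p k) K(p, k) w := by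
    rw [← hw, ← mul_assoc, inv_mul_cancel₀ (pow_ne_zero _ p_ne_zero), one_mul]
  rw [h1, hu, map_mul, map_pow, map_natCast, zpow_sub₀ p_ne_zero, zpow_natCast, zpow_natCast]
  field_simp

/-- an integral scalar of order `r` has `r ≥ 0` -/
theorem nonneg_of_isOrdP_algebraMap {w : WittVector p k} {r : ℤ}
    (h : IsOrdP (algebraMap (WittVector p k) K(p, k) w) r) : 0 ≤ r := by
  by_contra hlt
  push Not at hlt
  obtain ⟨u, hu⟩ := h
  obtain ⟨m, hm⟩ : ∃ m : ℕ, r = -((m : ℤ) + 1) := ⟨(-r - 1).toNat, by omega⟩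
  -- p^(m+1) * w = u
  have h1 : algebraMap (WittVector p k) K(p, k) ((p : WittVector p k) ^ (m + 1) * w) =
      algebraMap (WittVector p k) K(p, k) (u : WittVector p k) := by
    rw [map_mul, hu, hm, zpow_neg, map_pow, map_natCast, ← mul_assoc]
    rw [show ((m : ℤ) + 1) = ((m + 1 : ℕ) : ℤ) by push_cast; ring, zpow_natCast,
      mul_inv_cancel₀ (pow_ne_zero _ p_ne_zero), one_mul]
  have h2 := IsFractionRing.injective (WittVector p k) K(p, k) h1
  have h3 : IsUnit ((p : WittVector p k) ^ (m + 1) * w) := h2 ▸ u.isUnit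
  have h4 : IsUnit (p : WittVector p k) := by
    have := isUnit_of_mul_isUnit_left h3
    exact (isUnit_pow_iff (Nat.succ_ne_zero m)).1 this
  exact (WittVector.irreducible p).not_isUnit h4

theorem isOrdP_unique {c : K(p, k)} {r r' : ℤ} (h : IsOrdP c r) (h' : IsOrdP c r') : r = r' := by
  have key : ∀ {a b : ℤ}, IsOrdP c a → IsOrdP c b → a ≤ b := by
    intro a b ha hb
    -- p^(b - a) = u_a / u_b is integral
    obtain ⟨ua, hua⟩ := ha
    obtain ⟨ub, hub⟩ := hb
    have h1 : IsOrdP (algebraMap (WittVector p k) K(p, k) ((ua * ub⁻¹ : (WittVector p k)ˣ) : WittVector p k))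
        (b - a) := by
      refine ⟨1, ?_⟩
      have hne : algebraMap (WittVector p k) K(p, k) (ub : WittVector p k) ≠ 0 :=
        (map_ne_zero_iff _ (IsFractionRing.injective (WittVector p k) K(p, k))).2 ub.ne_zero
      have hinv : algebraMap (WittVector p k) K(p, k) ((ub⁻¹ : (WittVector p k)ˣ) : WittVector p k) =
          (algebraMap (WittVector p k) K(p, k) (ub : WittVector p k))⁻¹ := by
        apply eq_inv_of_mul_eq_one_left
        rw [← map_mul, Units.inv_mul, map_one]
      rw [Units.val_mul, map_mul, hinv, Units.val_one, map_one, mul_one, zpow_sub₀ p_ne_zero]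
      have h2 : (p : K(p, k)) ^ a * algebraMap (WittVector p k) K(p, k) (ua : WittVector p k) =
          (p : K(p, k)) ^ b * algebraMap (WittVector p k) K(p, k) (ub : WittVector p k) := by
        rw [← hua, ← hub]
      have hpa : (p : K(p, k)) ^ a ≠ 0 := zpow_ne_zero _ p_ne_zero
      rw [eq_div_iff hpa]
      calc algebraMap (WittVector p k) K(p, k) (ua : WittVector p k) *
            (algebraMap (WittVector p k) K(p, k) (ub : WittVector p k))⁻¹ * (p : K(p, k)) ^ a
          = ((p : K(p, k)) ^ a * algebraMap (WittVector p k) K(p, k) (ua : WittVector p k)) *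
            (algebraMap (WittVector p k) K(p, k) (ub : WittVector p k))⁻¹ := by ring
        _ = (p : K(p, k)) ^ b := by rw [h2, mul_assoc, mul_inv_cancel₀ hne, mul_one]
    have := nonneg_of_isOrdP_algebraMap h1
    omega
  exact le_antisymm (key h h') (key h' h)

theorem PresW.map_isOrdP (hτ : PresW τ) {c : K(p, k)} {r : ℤ} (h : IsOrdP c r) :
    IsOrdP (τ c) r := by
  obtain ⟨u, rfl⟩ := h
  obtain ⟨w, hw⟩ := hτ.into (u : WittVector p k)
  obtain ⟨w', hw'⟩ := hτ.into ((u⁻¹ : (WittVector p k)ˣ) : WittVector p k)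
  have h1 : w * w' = 1 := by
    apply IsFractionRing.injective (WittVector p k) K(p, k)
    rw [map_mul, ← hw, ← hw', ← map_mul, ← map_mul, Units.mul_inv]
    simp
  refine ⟨⟨w, w', h1, by rw [mul_comm]; exact h1⟩, ?_⟩
  rw [map_mul, map_p_zpow, hw]

end ordp

section mat

variable {p : ℕ} [Fact p.Prime] {k : Type u} [Field k] [CharP k p] [PerfectRing k p]
variable {N : Type v} [AddCommGroup N] [Module (WittVector p k) N] [Module K(p, k) N]
  [IsScalarTower (WittVector p k) K(p, k) N]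
variable {τ : K(p, k) →+* K(p, k)} {h : ℕ}

/-- matrix of a semilinear map in a basis -/
noncomputable def mat (b : Module.Basis (Fin h) K(p, k) N) (F : N →ₛₗ[τ] N) :
    Matrix (Fin h) (Fin h) K(p, k) :=
  Matrix.of fun i j => b.repr (F (b j)) i

theorem detCoeff_eq (b : Module.Basis (Fin h) K(p, k) N) (F : N →ₛₗ[τ] N) :
    detCoeff b F = (mat b F).det := rfl

theorem apply_basis (b : Module.Basis (Fin h) K(p, k) N) (F : N →ₛₗ[τ] N) (j : Fin h) :
    F (b j) = ∑ i, mat b F i j • b i := by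
  conv_lhs => rw [← b.sum_repr (F (b j))]
  rfl

theorem mat_change (b b' : Module.Basis (Fin h) K(p, k) N) (F : N →ₛₗ[τ] N) :
    b.toMatrix b' * mat b' F = mat b F * (b.toMatrix b').map ⇑τ :=
  Groth.Agent.S19231.result K(p, k) τ N h b b' F (b.toMatrix b') (mat b F) (mat b' F)
    (fun j => (b.sum_toMatrix_smul_self b' j).symm) (apply_basis b F) (apply_basis b' F)

theorem det_toMatrix_ne_zero (b b' : Module.Basis (Fin h) K(p, k) N) : (b.toMatrix b').det ≠ 0 := by
  have h1 : b.toMatrix b' * b'.toMatrix b = 1 := b.toMatrix_mul_toMatrix_flip b'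
  have h2 := congrArg Matrix.det h1
  rw [Matrix.det_mul, Matrix.det_one] at h2
  exact left_ne_zero_of_mul_eq_one h2

theorem isOrdP_detCoeff_change (hτ : PresW τ) (b b' : Module.Basis (Fin h) K(p, k) N)
    (F : N →ₛₗ[τ] N) {d : ℤ} (hd : IsOrdP (detCoeff b F) d) : IsOrdP (detCoeff b' F) d := by
  have h1 := congrArg Matrix.det (mat_change b b' F)
  rw [Matrix.det_mul, Matrix.det_mul] at h1
  have h2 : ((b.toMatrix b').map ⇑τ).det = τ (b.toMatrix b').det := by
    rw [RingHom.map_det]; rfl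
  rw [h2] at h1
  have hP := det_toMatrix_ne_zero b b'
  obtain ⟨e, he⟩ := exists_isOrdP hP
  have h3 : detCoeff b' F = detCoeff b F * τ (b.toMatrix b').det * ((b.toMatrix b').det)⁻¹ := by
    rw [detCoeff_eq, detCoeff_eq, ← h1, mul_comm (b.toMatrix b').det, mul_assoc,
      mul_inv_cancel₀ hP, mul_one]
  rw [h3]
  have := isOrdP_mul (isOrdP_mul hd (PresW.map_isOrdP hτ he)) (isOrdP_inv he)
  rwa [show d + e + -e = d by ring] at this

theorem mat_iter_succ (b : Module.Basis (Fin h) K(p, k) N) (F : N →ₛₗ[τ] N) (n : ℕ) :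
    mat b (Isoc.iter F (n + 1)) = mat b F * (mat b (Isoc.iter F n)).map ⇑τ := by
  ext i j
  have h1 : Isoc.iter F (n + 1) (b j) = F (Isoc.iter F n (b j)) := by
    rw [Isoc.iter_apply, Isoc.iter_apply, Function.iterate_succ_apply']
  have h2 : F (Isoc.iter F n (b j)) = ∑ l, (mat b F * (mat b (Isoc.iter F n)).map ⇑τ) l j • b l := by
    rw [apply_basis b (Isoc.iter F n) j, map_sum]
    simp only [LinearMap.map_smulₛₗ, apply_basis b F, Finset.smul_sum, smul_smul]
    rw [Finset.sum_comm]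
    refine Finset.sum_congr rfl fun l _ => ?_
    rw [← Finset.sum_smul]
    congr 1
    simp only [Matrix.mul_apply, Matrix.map_apply]
    exact Finset.sum_congr rfl fun i _ => mul_comm _ _
  show b.repr (Isoc.iter F (n + 1) (b j)) i = _
  rw [h1, h2, b.repr_sum_self]

theorem isOrdP_detCoeff_iter (hτ : PresW τ) (b : Module.Basis (Fin h) K(p, k) N)
    (F : N →ₛₗ[τ] N) {d : ℤ} (hd : IsOrdP (detCoeff b F) d) (n : ℕ) :
    IsOrdP (detCoeff b (Isoc.iter F n)) (n * d) := by
  induction n with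
  | zero =>
    have : mat b (Isoc.iter F 0) = 1 := by
      ext i j
      show b.repr (Isoc.iter F 0 (b j)) i = _
      rw [Isoc.iter_apply, Function.iterate_zero, id, b.repr_self, Matrix.one_apply,
        Finsupp.single_apply]
      simp [eq_comm]
    rw [detCoeff_eq, this, Matrix.det_one]
    simpa using isOrdP_one (p := p) (k := k)
  | succ n ih =>
    rw [detCoeff_eq, mat_iter_succ, Matrix.det_mul]
    have h2 : ((mat b (Isoc.iter F n)).map ⇑τ).det = τ (mat b (Isoc.iter F n)).det := by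
      rw [RingHom.map_det]; rfl
    rw [h2]
    have := isOrdP_mul hd (PresW.map_isOrdP hτ ih)
    rw [detCoeff_eq, detCoeff_eq] at this
    convert this using 1
    push_cast; ring

end mat

section latdet

variable {p : ℕ} [Fact p.Prime] {k : Type u} [Field k] [CharP k p] [PerfectRing k p]
variable {N : Type v} [AddCommGroup N] [Module (WittVector p k) N] [Module K(p, k) N]
  [IsScalarTower (WittVector p k) K(p, k) N]
variable {τ : K(p, k) →+* K(p, k)} {h : ℕ}

theorem exists_intMat (F : N →ₛₗ[τ] N) {s : ℕ} {r : ℤ} {M : Submodule (WittVector p k) N}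
    (bM : Module.Basis (Fin h) (WittVector p k) M) (hle : latImg F s M ≤ pPow r M) :
    ∃ A₀ : Matrix (Fin h) (Fin h) (WittVector p k), ∀ j,
      (⇑F)^[s] (bM j : N) = ((p : K(p, k)) ^ r) • (((∑ i, A₀ i j • bM i : M)) : N) := by
  have h1 : ∀ j, ∃ m : M, ((p : K(p, k)) ^ r) • (m : N) = (⇑F)^[s] (bM j : N) := by
    intro j
    have := hle (iterate_mem_latImg F s (bM j).2)
    rw [mem_pPow_iff] at this
    obtain ⟨m, hm, hmeq⟩ := this
    exact ⟨⟨m, hm⟩, hmeq⟩
  choose m hm using h1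
  refine ⟨Matrix.of fun i j => bM.repr (m j) i, fun j => ?_⟩
  rw [← hm j]
  congr 2
  exact (bM.sum_repr (m j)).symm

theorem coe_sum_smul {M : Submodule (WittVector p k) N} [M.IsLattice K(p, k)]
    (bM : Module.Basis (Fin h) (WittVector p k) M) (c : Fin h → WittVector p k) :
    (((∑ i, c i • bM i : M)) : N) =
      ∑ i, algebraMap (WittVector p k) K(p, k) (c i) • (bM.extendOfIsLattice K(p, k)) i := by
  rw [Submodule.coe_sum]
  refine Finset.sum_congr rfl fun i _ => ?_
  rw [Submodule.coe_smul, Module.Basis.extendOfIsLattice_apply, algebraMap_smul]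

theorem mat_eq_of_intMat (F : N →ₛₗ[τ] N) {s : ℕ} {r : ℤ} {M : Submodule (WittVector p k) N}
    [M.IsLattice K(p, k)] (bM : Module.Basis (Fin h) (WittVector p k) M)
    (A₀ : Matrix (Fin h) (Fin h) (WittVector p k))
    (hA₀ : ∀ j, (⇑F)^[s] (bM j : N) = ((p : K(p, k)) ^ r) • (((∑ i, A₀ i j • bM i : M)) : N)) :
    mat (bM.extendOfIsLattice K(p, k)) (Isoc.iter F s) =
      ((p : K(p, k)) ^ r) • A₀.map (algebraMap (WittVector p k) K(p, k)) := by
  ext i j
  show (bM.extendOfIsLattice K(p, k)).repr (Isoc.iter F s ((bM.extendOfIsLattice K(p, k)) j)) i = _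
  rw [Isoc.iter_apply, Module.Basis.extendOfIsLattice_apply, hA₀ j, coe_sum_smul, Finset.smul_sum]
  simp only [smul_smul]
  rw [(bM.extendOfIsLattice K(p, k)).repr_sum_self]
  simp [Matrix.smul_apply, Matrix.map_apply]

theorem det_mat_of_intMat (F : N →ₛₗ[τ] N) {s : ℕ} {r : ℤ} {M : Submodule (WittVector p k) N}
    [M.IsLattice K(p, k)] (bM : Module.Basis (Fin h) (WittVector p k) M)
    (A₀ : Matrix (Fin h) (Fin h) (WittVector p k))
    (hA₀ : ∀ j, (⇑F)^[s] (bM j : N) = ((p : K(p, k)) ^ r) • (((∑ i, A₀ i j • bM i : M)) : N)) :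
    detCoeff (bM.extendOfIsLattice K(p, k)) (Isoc.iter F s) =
      (p : K(p, k)) ^ (r * h) * algebraMap (WittVector p k) K(p, k) A₀.det := by
  rw [detCoeff_eq, mat_eq_of_intMat F bM A₀ hA₀, Matrix.det_smul, Fintype.card_fin,
    ← zpow_natCast, ← zpow_mul]
  congr 1
  rw [RingHom.map_det]; rfl

/-- a lattice basis indexed by `Fin h` where `h` is the dimension -/
theorem exists_lattice_basis (b : Module.Basis (Fin h) K(p, k) N)
    (M : Submodule (WittVector p k) N) [hM : M.IsLattice K(p, k)] :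
    Nonempty (Module.Basis (Fin h) (WittVector p k) M) := by
  have h1 : Module.finrank (WittVector p k) M = Module.finrank K(p, k) N :=
    congrArg Cardinal.toNat (Submodule.IsLattice.rank' K(p, k) M)
  have h2 : Module.finrank K(p, k) N = h := by
    rw [Module.finrank_eq_card_basis b, Fintype.card_fin]
  exact ⟨(Module.finBasis (WittVector p k) M).reindex (finCongr (h1.trans h2))⟩

/-- orders of determinants versus lattice inclusions: `F^s M ⊆ p^r M ⇒ r h ≤ s d`. -/
theorem mul_le_of_latImg_le (hτ : PresW τ) (b : Module.Basis (Fin h) K(p, k) N) (F : N →ₛₗ[τ] N)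
    {d : ℤ} (hd : IsOrdP (detCoeff b F) d) {M : Submodule (WittVector p k) N}
    (hM : M.IsLattice K(p, k)) {s : ℕ} {r : ℤ} (hle : latImg F s M ≤ pPow r M) :
    r * h ≤ s * d := by
  obtain ⟨bM⟩ := exists_lattice_basis b M
  obtain ⟨A₀, hA₀⟩ := exists_intMat F bM hle
  have h1 := isOrdP_detCoeff_iter hτ _ F
    (isOrdP_detCoeff_change hτ b (bM.extendOfIsLattice K(p, k)) F hd) s
  rw [det_mat_of_intMat F bM A₀ hA₀] at h1
  have h2 := isOrdP_mul (isOrdP_inv (isOrdP_zpow (p := p) (k := k) (r * h))) h1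
  rw [← mul_assoc, inv_mul_cancel₀ (zpow_ne_zero _ p_ne_zero), one_mul] at h2
  have := nonneg_of_isOrdP_algebraMap h2
  linarith

end latdet

section unitdet

variable {p : ℕ} [Fact p.Prime] {k : Type u} [Field k] [CharP k p] [PerfectRing k p]
variable {N : Type v} [AddCommGroup N] [Module (WittVector p k) N] [Module K(p, k) N]
  [IsScalarTower (WittVector p k) K(p, k) N]
variable {τ : K(p, k) →+* K(p, k)} {h : ℕ}

/-- `F^s` applied to a `W`-combination of lattice basis vectors, via the integral matrix. -/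
theorem iterate_sum_smul (F : N →ₛₗ[τ] N) {s : ℕ} {r : ℤ} {M : Submodule (WittVector p k) N}
    (bM : Module.Basis (Fin h) (WittVector p k) M)
    (A₀ : Matrix (Fin h) (Fin h) (WittVector p k))
    (hA₀ : ∀ j, (⇑F)^[s] (bM j : N) = ((p : K(p, k)) ^ r) • (((∑ i, A₀ i j • bM i : M)) : N))
    (c c' : Fin h → WittVector p k)
    (hc : ∀ (j : Fin h) (x : N), Isoc.iter F s (c j • x) = c' j • Isoc.iter F s x) :
    (⇑F)^[s] (((∑ j, c j • bM j : M)) : N) =
      ((p : K(p, k)) ^ r) • (((∑ i, (∑ j, A₀ i j * c' j) • bM i : M)) : N) := by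
  rw [← Isoc.iter_apply, Submodule.coe_sum, map_sum]
  have h1 : ∀ j, Isoc.iter F s (((c j • bM j : M)) : N) =
      ((p : K(p, k)) ^ r) • (((∑ i, (A₀ i j * c' j) • bM i : M)) : N) := by
    intro j
    rw [Submodule.coe_smul, hc, Isoc.iter_apply, hA₀ j, smul_comm]
    congr 1
    rw [← Submodule.coe_smul, Finset.smul_sum]
    congr 1
    refine Finset.sum_congr rfl fun i _ => ?_
    rw [smul_smul, mul_comm]
  simp only [h1]
  rw [← Finset.smul_sum, ← Submodule.coe_sum]
  congr 2
  rw [Finset.sum_comm]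
  refine Finset.sum_congr rfl fun i _ => ?_
  rw [Finset.sum_smul]

theorem isUnit_det_of_latImg_eq (hτ : PresW τ) (F : N →ₛₗ[τ] N) {s : ℕ} {r : ℤ}
    {M : Submodule (WittVector p k) N} (bM : Module.Basis (Fin h) (WittVector p k) M)
    (A₀ : Matrix (Fin h) (Fin h) (WittVector p k))
    (hA₀ : ∀ j, (⇑F)^[s] (bM j : N) = ((p : K(p, k)) ^ r) • (((∑ i, A₀ i j • bM i : M)) : N))
    (heq : latImg F s M = pPow r M) : IsUnit A₀.det := by
  classical
  choose g hg using map_wsmul_into (hτ.pow s) (Isoc.iter F s)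
  have h1 : ∀ l, ∃ m' : M, (⇑F)^[s] (m' : N) = ((p : K(p, k)) ^ r) • (bM l : N) := by
    intro l
    have : ((p : K(p, k)) ^ r) • (bM l : N) ∈ latImg F s M := by
      rw [heq]; exact smul_mem_pPow r (bM l).2
    rw [mem_latImg_iff hτ] at this
    obtain ⟨m', hm', hm'eq⟩ := this
    exact ⟨⟨m', hm'⟩, hm'eq⟩
  choose m' hm' using h1
  let C : Matrix (Fin h) (Fin h) (WittVector p k) := Matrix.of fun j l => g (bM.repr (m' l) j)
  have hAC : A₀ * C = 1 := by
    ext i l
    have h2 := iterate_sum_smul F bM A₀ hA₀ (fun j => bM.repr (m' l) j)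
      (fun j => g (bM.repr (m' l) j)) (fun j x => hg _ x)
    rw [bM.sum_repr (m' l), hm' l] at h2
    have h3 := smul_right_injective N (zpow_ne_zero r (p_ne_zero (p := p) (k := k))) h2
    have h4 : bM l = ∑ i, (∑ j, A₀ i j * g (bM.repr (m' l) j)) • bM i := Subtype.ext h3
    have h5 := congrArg (fun x => bM.repr x i) h4
    simp only [bM.repr_self, bM.repr_sum_self] at h5
    rw [Matrix.mul_apply, Matrix.one_apply]
    simp only [C, Matrix.of_apply]
    rw [← h5, Finsupp.single_apply]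
    simp [eq_comm]
  have := congrArg Matrix.det hAC
  rw [Matrix.det_mul, Matrix.det_one] at this
  exact IsUnit.of_mul_eq_one _ this

theorem pPow_le_latImg_of_isUnit_det (hτ : PresW τ) (F : N →ₛₗ[τ] N) {s : ℕ} {r : ℤ}
    {M : Submodule (WittVector p k) N} (bM : Module.Basis (Fin h) (WittVector p k) M)
    (A₀ : Matrix (Fin h) (Fin h) (WittVector p k))
    (hA₀ : ∀ j, (⇑F)^[s] (bM j : N) = ((p : K(p, k)) ^ r) • (((∑ i, A₀ i j • bM i : M)) : N))
    (hu : IsUnit A₀.det) : pPow r M ≤ latImg F s M := by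
  classical
  choose c0 hc0 using map_wsmul_onto (hτ.pow s) (Isoc.iter F s)
  have hAB : A₀ * A₀⁻¹ = 1 := Matrix.mul_nonsing_inv A₀ hu
  -- each `p^r • bM l` is in the image
  have h1 : ∀ l, ((p : K(p, k)) ^ r) • (bM l : N) ∈ latImg F s M := by
    intro l
    have h2 := iterate_sum_smul F bM A₀ hA₀ (fun j => c0 (A₀⁻¹ j l)) (fun j => A₀⁻¹ j l)
      (fun j x => hc0 _ x)
    have h3 : (∑ i, (∑ j, A₀ i j * A₀⁻¹ j l) • bM i : M) = bM l := by
      have : ∀ i, (∑ j, A₀ i j * A₀⁻¹ j l) = (1 : Matrix (Fin h) (Fin h) (WittVector p k)) i l := by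
        intro i; rw [← hAB, Matrix.mul_apply]
      simp only [this, Matrix.one_apply]
      simp
    rw [h3] at h2
    rw [← h2]
    exact iterate_mem_latImg F s (Submodule.coe_mem _)
  intro x hx
  rw [mem_pPow_iff] at hx
  obtain ⟨m, hm, rfl⟩ := hx
  have hm' : (⟨m, hm⟩ : M) = ∑ l, bM.repr ⟨m, hm⟩ l • bM l := (bM.sum_repr _).symm
  have hm'' : m = ∑ l, bM.repr ⟨m, hm⟩ l • (bM l : N) := by
    have := congrArg Subtype.val hm'
    rw [Submodule.coe_sum] at this
    simpa using this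
  rw [hm'', Finset.smul_sum]
  refine Submodule.sum_mem _ fun l _ => ?_
  rw [smul_comm]
  exact Submodule.smul_mem _ _ (h1 l)

end unitdet

end Groth.Agent.Lib.Helper85.IsocDet
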