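import Mathlib
import Groth.Prelude.Def_Isoc
import Groth.Agent.Lib.Helper85.IsocLattice
import Groth.Agent.Lib.Helper85.IsocDet

/-!
# Katz-type lattice lemmas for isocrystals
-/

set_option linter.unusedSectionVars false

open scoped Pointwise Isocrystal
open Isoc

namespace Groth.Agent.Lib.Helper85.IsocKatz

open Groth.Agent.Lib.Helper85.IsocLattice Groth.Agent.Lib.Helper85.IsocDet

universe u v

section

variable {p : ℕ} [Fact p.Prime] {k : Type u} [Field k] [CharP k p] [PerfectRing k p]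
variable {N : Type v} [AddCommGroup N] [Module (WittVector p k) N] [Module K(p, k) N]
  [IsScalarTower (WittVector p k) K(p, k) N]
variable {τ : K(p, k) →+* K(p, k)}

theorem exists_algebraMap_of_isOrdP_nonneg {c : K(p, k)} {e : ℤ} (h : IsOrdP c e) (he : 0 ≤ e) :
    ∃ w : WittVector p k, c = algebraMap (WittVector p k) K(p, k) w := by
  obtain ⟨u, rfl⟩ := h
  obtain ⟨n, rfl⟩ := Int.eq_ofNat_of_zero_le he
  exact ⟨(p : WittVector p k) ^ n * u, by simp⟩

theorem exists_p_mul_algebraMap_of_isOrdP_pos {c : K(p, k)} {e : ℤ} (h : IsOrdP c e) (he : 1 ≤ e) :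
    ∃ w : WittVector p k, c = (p : K(p, k)) * algebraMap (WittVector p k) K(p, k) w := by
  have h1 : IsOrdP ((p : K(p, k))⁻¹ * c) (-1 + e) := by
    have := isOrdP_mul (isOrdP_inv (isOrdP_zpow (p := p) (k := k) 1)) h
    simpa using this
  obtain ⟨w, hw⟩ := exists_algebraMap_of_isOrdP_nonneg h1 (by omega)
  refine ⟨w, ?_⟩
  rw [← hw, ← mul_assoc, mul_inv_cancel₀ p_ne_zero, one_mul]

/-- normalised linear dependence: among `h+1` vectors in an `h`-dimensional space, one is a
combination of the others with integral coefficients, divisible by `p` for indices with larger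
key. -/
theorem exists_normalised_relation_key [Module.Finite K(p, k) N] {h : ℕ}
    (hh : Module.finrank K(p, k) N = h) (v : Fin (h + 1) → N) (key : Fin (h + 1) → Fin (h + 1)) :
    ∃ (j : Fin (h + 1)) (q : Fin (h + 1) → K(p, k)),
      v j = ∑ i ∈ Finset.univ.erase j, q i • v i ∧
      (∀ i, key i < key j → ∃ w : WittVector p k, q i = algebraMap (WittVector p k) K(p, k) w) ∧
      (∀ i, key j < key i → ∃ w : WittVector p k,
        q i = (p : K(p, k)) * algebraMap (WittVector p k) K(p, k) w) := by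
  classical
  have hnli : ¬ LinearIndependent K(p, k) v := by
    intro hli
    have := hli.fintype_card_le_finrank
    rw [hh, Fintype.card_fin] at this
    omega
  obtain ⟨a, ha, i0, hi0⟩ := Fintype.not_linearIndependent_iff.1 hnli
  -- orders of the nonzero coefficients
  have hex : ∀ i, ∃ e : ℤ, a i ≠ 0 → IsOrdP (a i) e := by
    intro i
    by_cases hai : a i = 0
    · exact ⟨0, fun h => absurd hai h⟩
    · obtain ⟨e, he⟩ := exists_isOrdP hai
      exact ⟨e, fun _ => he⟩
  choose e he using hex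
  let T : Finset (Fin (h + 1)) := Finset.univ.filter fun i => a i ≠ 0
  have hT : T.Nonempty := ⟨i0, by simp [T, hi0]⟩
  obtain ⟨j, hjT, hjmax⟩ := Finset.exists_max_image T (fun i => toLex (-(e i), key i)) hT
  have haj : a j ≠ 0 := (Finset.mem_filter.1 hjT).2
  have hcmp : ∀ i, a i ≠ 0 → e j < e i ∨ (e i = e j ∧ key i ≤ key j) := by
    intro i hai
    have := hjmax i (by simp [T, hai])
    rw [Prod.Lex.toLex_le_toLex] at this
    rcases this with h1 | ⟨h1, h2⟩
    · left; simpa using h1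
    · right; exact ⟨by simpa using h1, h2⟩
  refine ⟨j, fun i => -(a i / a j), ?_, ?_, ?_⟩
  · -- the relation
    have h1 : a j • v j = -∑ i ∈ Finset.univ.erase j, a i • v i := by
      rw [eq_neg_iff_add_eq_zero, Finset.add_sum_erase _ (fun i => a i • v i) (Finset.mem_univ j)]
      exact ha
    have h2 : v j = (a j)⁻¹ • (a j • v j) := by rw [smul_smul, inv_mul_cancel₀ haj, one_smul]
    rw [h2, h1, smul_neg, Finset.smul_sum, ← Finset.sum_neg_distrib]
    refine Finset.sum_congr rfl fun i _ => ?_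
    rw [smul_smul, neg_smul, div_eq_mul_inv, mul_comm]
  · intro i hij
    by_cases hai : a i = 0
    · exact ⟨0, by simp [hai]⟩
    · have hord : IsOrdP (-(a i / a j)) (e i - e j) := by
        have h1 := isOrdP_mul (he i hai) (isOrdP_inv (he j haj))
        have h2 : IsOrdP (-1 : K(p, k)) 0 := ⟨-1, by simp⟩
        have h3 := isOrdP_mul h2 h1
        rw [zero_add, neg_one_mul, ← div_eq_mul_inv, ← sub_eq_add_neg] at h3
        exact h3
      rcases hcmp i hai with h1 | ⟨h1, _⟩
      · exact exists_algebraMap_of_isOrdP_nonneg hord (by omega)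
      · exact exists_algebraMap_of_isOrdP_nonneg hord (by omega)
  · intro i hji
    by_cases hai : a i = 0
    · exact ⟨0, by simp [hai]⟩
    · have hord : IsOrdP (-(a i / a j)) (e i - e j) := by
        have h1 := isOrdP_mul (he i hai) (isOrdP_inv (he j haj))
        have h2 : IsOrdP (-1 : K(p, k)) 0 := ⟨-1, by simp⟩
        have h3 := isOrdP_mul h2 h1
        rw [zero_add, neg_one_mul, ← div_eq_mul_inv, ← sub_eq_add_neg] at h3
        exact h3
      rcases hcmp i hai with h1 | ⟨_, h2⟩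
      · exact exists_p_mul_algebraMap_of_isOrdP_pos hord (by omega)
      · exact absurd hji (not_lt.2 h2)

theorem exists_normalised_relation [Module.Finite K(p, k) N] {h : ℕ}
    (hh : Module.finrank K(p, k) N = h) (v : Fin (h + 1) → N) :
    ∃ (j : Fin (h + 1)) (q : Fin (h + 1) → K(p, k)),
      v j = ∑ i ∈ Finset.univ.erase j, q i • v i ∧
      (∀ i, i < j → ∃ w : WittVector p k, q i = algebraMap (WittVector p k) K(p, k) w) ∧
      (∀ i, j < i → ∃ w : WittVector p k,
        q i = (p : K(p, k)) * algebraMap (WittVector p k) K(p, k) w) :=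
  exists_normalised_relation_key hh v id

theorem exists_normalised_relation_rev [Module.Finite K(p, k) N] {h : ℕ}
    (hh : Module.finrank K(p, k) N = h) (v : Fin (h + 1) → N) :
    ∃ (j : Fin (h + 1)) (q : Fin (h + 1) → K(p, k)),
      v j = ∑ i ∈ Finset.univ.erase j, q i • v i ∧
      (∀ i, j < i → ∃ w : WittVector p k, q i = algebraMap (WittVector p k) K(p, k) w) ∧
      (∀ i, i < j → ∃ w : WittVector p k,
        q i = (p : K(p, k)) * algebraMap (WittVector p k) K(p, k) w) := by
  obtain ⟨j, q, h1, h2, h3⟩ := exists_normalised_relation_key hh v Fin.rev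
  exact ⟨j, q, h1, fun i hi => h2 i (Fin.rev_lt_rev.2 hi), fun i hi => h3 i (Fin.rev_lt_rev.2 hi)⟩

end

section katz

variable {p : ℕ} [Fact p.Prime] {k : Type u} [Field k] [CharP k p] [PerfectRing k p]
variable {N : Type v} [AddCommGroup N] [Module (WittVector p k) N] [Module K(p, k) N]
  [IsScalarTower (WittVector p k) K(p, k) N]
variable {τ : K(p, k) →+* K(p, k)}

theorem latImg_succ_le_iSup [Module.Finite K(p, k) N] (hτ : PresW τ) (F : N →ₛₗ[τ] N) {h : ℕ}
    (hh : Module.finrank K(p, k) N = h) (M : Submodule (WittVector p k) N)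
    (hFM : latImg F (h + 1) M ≤ pPow (-1) M) :
    latImg F (h + 1) M ≤ ⨆ i : Fin (h + 1), latImg F i.val M := by
  classical
  intro x' hx'
  rw [mem_latImg_iff hτ] at hx'
  obtain ⟨x, hx, rfl⟩ := hx'
  obtain ⟨j, q, hrel, hlow, hhigh⟩ := exists_normalised_relation hh (fun i : Fin (h + 1) => (⇑F)^[i.val] x)
  have hj : j.val ≤ h := Nat.lt_succ_iff.mp j.2
  let t : ℕ := h + 1 - j.val
  have ht : t + j.val = h + 1 := by simp only [t]; omega
  have h1 : (⇑F)^[h + 1] x = Isoc.iter F t ((⇑F)^[j.val] x) := by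
    rw [Isoc.iter_apply, ← Function.iterate_add_apply, ht]
  rw [h1, hrel, map_sum]
  refine Submodule.sum_mem _ fun i hi => ?_
  have hij : i ≠ j := Finset.ne_of_mem_erase hi
  rw [(Isoc.iter F t).map_smulₛₗ, Isoc.iter_apply, ← Function.iterate_add_apply]
  rcases lt_or_gt_of_ne hij with hlt | hgt
  · -- `i < j`
    obtain ⟨w, hw⟩ := hlow i hlt
    obtain ⟨w', hw'⟩ := (hτ.pow t).into w
    rw [hw, hw', algebraMap_smul]
    refine Submodule.smul_mem _ _ ?_
    have hlt' : i.val < j.val := hlt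
    have hle : t + i.val < h + 1 := by simp only [t]; omega
    exact (le_iSup (fun i : Fin (h + 1) => latImg F i.val M) ⟨t + i.val, hle⟩)
      (iterate_mem_latImg F _ hx)
  · -- `j < i`
    obtain ⟨w, hw⟩ := hhigh i hgt
    obtain ⟨w', hw'⟩ := (hτ.pow t).into w
    have hgt' : j.val < i.val := hgt
    have hi' : i.val ≤ h := Nat.lt_succ_iff.mp i.2
    have e1 : t + i.val = (i.val - j.val) + (h + 1) := by simp only [t]; omega
    have h2 := hFM (iterate_mem_latImg F (h + 1) hx)
    rw [mem_pPow_iff] at h2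
    obtain ⟨m, hm, hmeq⟩ := h2
    rw [hw, map_mul, map_natCast, hw', e1, Function.iterate_add_apply, ← hmeq, iterate_zpow_smul,
      smul_smul]
    have e2 : (p : K(p, k)) * algebraMap (WittVector p k) K(p, k) w' * (p : K(p, k)) ^ (-1 : ℤ) =
        algebraMap (WittVector p k) K(p, k) w' := by
      rw [zpow_neg_one, mul_comm (p : K(p, k)), mul_assoc, mul_inv_cancel₀ p_ne_zero, mul_one]
    rw [e2, algebraMap_smul]
    refine Submodule.smul_mem _ _ ?_
    have hle : i.val - j.val < h + 1 := by omega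
    exact (le_iSup (fun i : Fin (h + 1) => latImg F i.val M) ⟨i.val - j.val, hle⟩)
      (iterate_mem_latImg F _ hm)

/-- Katz's lemma: `F^(h+1) M ⊆ p⁻¹ M` forces an `F`-stable lattice. -/
theorem isEffective_of_latImg_le [Module.Finite K(p, k) N] (hτ : PresW τ) (F : N →ₛₗ[τ] N) {h : ℕ}
    (hh : Module.finrank K(p, k) N = h) (M : Submodule (WittVector p k) N)
    (hM : M.IsLattice K(p, k)) (hFM : latImg F (h + 1) M ≤ pPow (-1) M) : IsEffective F := by
  classical
  let M'' : Submodule (WittVector p k) N := ⨆ i : Fin (h + 1), latImg F i.val M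
  have hle0 : M ≤ M'' := by
    have := le_iSup (fun i : Fin (h + 1) => latImg F i.val M) ⟨0, Nat.succ_pos h⟩
    simpa [latImg_zero] using this
  have hfg : M''.FG := Submodule.fg_iSup _ fun i => fg_latImg hτ F i.val hM.fg
  haveI := hM
  refine ⟨M'', Submodule.IsLattice.of_le_of_isLattice_of_fg K(p, k) hle0 hfg, ?_⟩
  intro y hy
  rw [mem_latImg_iff hτ] at hy
  obtain ⟨m, hm, rfl⟩ := hy
  rw [Function.iterate_one]
  refine Submodule.iSup_induction (fun i : Fin (h + 1) => latImg F i.val M)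
    (motive := fun m => F m ∈ M'') hm ?_ ?_ ?_
  · intro i z hz
    have h1 : F z ∈ latImg F (i.val + 1) M := by
      rw [add_comm, latImg_add hτ]
      have := iterate_mem_latImg F 1 hz
      rwa [Function.iterate_one] at this
    by_cases hi : i.val + 1 < h + 1
    · exact (le_iSup (fun i : Fin (h + 1) => latImg F i.val M) ⟨i.val + 1, hi⟩) h1
    · have hi' : i.val + 1 = h + 1 := by have := i.2; omega
      rw [hi'] at h1
      exact latImg_succ_le_iSup hτ F hh M hFM h1
  · rw [map_zero]; exact Submodule.zero_mem _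
  · intro y z hy hz
    rw [map_add]; exact Submodule.add_mem _ hy hz

end katz

section slope

variable {p : ℕ} [Fact p.Prime] {k : Type u} [Field k] [CharP k p] [PerfectRing k p]
variable {N : Type v} [AddCommGroup N] [Module (WittVector p k) N] [Module K(p, k) N]
  [IsScalarTower (WittVector p k) K(p, k) N]
variable {τ : K(p, k) →+* K(p, k)}

/-- first slope of a twisted iterate -/
theorem isFirstSlope_twist (hτ : PresW τ) (F : N →ₛₗ[τ] N) {lam : ℝ} (hlam : IsFirstSlope F lam)
    (m : ℤ) (n : ℕ) : IsFirstSlope (((p : K(p, k)) ^ m) • Isoc.iter F n) (n * lam + m) := by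
  classical
  obtain ⟨M, hM, o, ho, hlim⟩ := hlam
  have hM0 : M ≠ ⊥ := ne_bot_of_isOrd (ho 1 le_rfl)
  let o0 : ℕ → ℤ := fun t => if t = 0 then 0 else o t
  have ho0 : ∀ t, IsOrd M F t (o0 t) := by
    intro t
    by_cases ht : t = 0
    · subst ht
      simp only [o0, if_true]
      exact isOrd_zero' F hM.fg hM0
    · simp only [o0, if_neg ht]
      exact ho t (Nat.one_le_iff_ne_zero.mpr ht)
  refine ⟨M, hM, fun j => o0 (n * j) + m * j, fun j _ => ?_, ?_⟩
  · exact isOrd_twist hτ F m n j M _ (ho0 (n * j))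
  · rcases Nat.eq_zero_or_pos n with hn | hn
    · subst hn
      have : (fun j : ℕ => (((o0 (0 * j) + m * j : ℤ)) : ℝ) / j) =ᶠ[Filter.atTop]
          fun _ => ((0 : ℕ) : ℝ) * lam + m := by
        filter_upwards [Filter.eventually_ge_atTop 1] with j hj
        have hj' : (j : ℝ) ≠ 0 := by
          have : (0 : ℝ) < j := by exact_mod_cast hj
          exact this.ne'
        simp only [zero_mul, o0, if_true]
        push_cast
        field_simp
        ring
      exact (Filter.tendsto_congr' this).2 tendsto_const_nhds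
    · have hsub : Filter.Tendsto (fun j : ℕ => n * j) Filter.atTop Filter.atTop := by
        refine Filter.tendsto_atTop_atTop.2 fun b => ⟨b, fun j hj => ?_⟩
        exact le_trans hj (Nat.le_mul_of_pos_left j hn)
      have h1 := hlim.comp hsub
      have h2 : Filter.Tendsto (fun j : ℕ => (n : ℝ) * ((o (n * j) : ℝ) / ((n * j : ℕ) : ℝ)) + m)
          Filter.atTop (nhds ((n : ℝ) * lam + m)) := (h1.const_mul (n : ℝ)).add_const (m : ℝ)
      refine (Filter.tendsto_congr' ?_).2 h2
      filter_upwards [Filter.eventually_ge_atTop 1] with j hj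
      have hj' : (j : ℝ) ≠ 0 := by
        have : (0 : ℝ) < j := by exact_mod_cast hj
        exact this.ne'
      have hn' : (n : ℝ) ≠ 0 := by
        have : (0 : ℝ) < n := by exact_mod_cast hn
        exact this.ne'
      have hnj : n * j ≠ 0 := Nat.mul_ne_zero hn.ne' (by omega)
      simp only [o0, if_neg hnj]
      push_cast
      field_simp

/-- if the first slope is `> -1/(h+1)` then the isocrystal is effective -/
theorem isEffective_of_firstSlope_gt [Module.Finite K(p, k) N] (hτ : PresW τ) (G : N →ₛₗ[τ] N)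
    {h : ℕ} (hh : Module.finrank K(p, k) N = h) {lam : ℝ} (hlam : IsFirstSlope G lam)
    (hgt : -(1 : ℝ) / (h + 1) < lam) : IsEffective G := by
  classical
  obtain ⟨M, hM, o, ho, hlim⟩ := hlam
  -- eventually `o n / n > -1/(h+1)`
  have hev : ∀ᶠ n : ℕ in Filter.atTop, -(1 : ℝ) / (h + 1) < (o n : ℝ) / n :=
    hlim.eventually (lt_mem_nhds hgt)
  obtain ⟨n0, hn0⟩ := Filter.eventually_atTop.1 hev
  let t : ℕ := n0 + 1
  have ht1 : 1 ≤ t := Nat.succ_pos n0
  have hn : n0 ≤ (h + 1) * t := by simp only [t]; nlinarith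
  have h1 := hn0 _ hn
  have hpos : (0 : ℝ) < ((h + 1) * t : ℕ) := by
    have : 0 < (h + 1) * t := Nat.mul_pos (Nat.succ_pos h) ht1
    exact_mod_cast this
  have h2 : -(t : ℝ) < (o ((h + 1) * t) : ℝ) := by
    rw [lt_div_iff₀ hpos] at h1
    have e : -(1 : ℝ) / (h + 1) * (((h + 1) * t : ℕ) : ℝ) = -(t : ℝ) := by
      push_cast
      field_simp
    rw [e] at h1
    exact h1
  have h3 : -(t : ℤ) ≤ o ((h + 1) * t) := by
    have h3' : -(t : ℤ) < o ((h + 1) * t) := by exact_mod_cast h2
    omega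
  have hord : latImg G ((h + 1) * t) M ≤ pPow (-(t : ℤ)) M :=
    (ho _ (Nat.mul_pos (Nat.succ_pos h) ht1)).1.trans (pPow_anti h3 M)
  -- the lattice `M' = Σ_{i<t} p^i H^i M`
  let M' : Submodule (WittVector p k) N :=
    ⨆ i : Fin t, pPow (i.val : ℤ) (latImg G ((h + 1) * i.val) M)
  have hle0 : M ≤ M' := by
    have := le_iSup (fun i : Fin t => pPow (i.val : ℤ) (latImg G ((h + 1) * i.val) M)) ⟨0, ht1⟩
    simpa [latImg_zero, pPow_zero] using this
  have hfg : M'.FG := Submodule.fg_iSup _ fun i =>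
    fg_pPow _ (fg_latImg hτ G ((h + 1) * i.val) hM.fg)
  haveI := hM
  have hM'lat : M'.IsLattice K(p, k) := Submodule.IsLattice.of_le_of_isLattice_of_fg K(p, k) hle0 hfg
  refine isEffective_of_latImg_le hτ G hh M' hM'lat ?_
  -- `H M' ⊆ p⁻¹ M'`
  intro y hy
  rw [mem_latImg_iff hτ] at hy
  obtain ⟨m, hm, rfl⟩ := hy
  refine Submodule.iSup_induction (fun i : Fin t => pPow (i.val : ℤ) (latImg G ((h + 1) * i.val) M))
    (motive := fun m => (⇑G)^[h + 1] m ∈ pPow (-1) M') hm ?_ ?_ ?_
  · intro i z hz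
    -- z = p^i • G^[(h+1) i] m0
    rw [mem_pPow_iff] at hz
    obtain ⟨z0, hz0, rfl⟩ := hz
    rw [mem_latImg_iff hτ] at hz0
    obtain ⟨m0, hm0, rfl⟩ := hz0
    rw [iterate_zpow_smul, ← Function.iterate_add_apply]
    have e1 : h + 1 + (h + 1) * i.val = (h + 1) * (i.val + 1) := by ring
    rw [e1, mem_pPow_iff]
    -- target element: p^(i+1) • G^[(h+1)(i+1)] m0 ∈ M'
    refine ⟨((p : K(p, k)) ^ ((i.val : ℤ) + 1)) • (⇑G)^[(h + 1) * (i.val + 1)] m0, ?_, ?_⟩
    · by_cases hi : i.val + 1 < t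
      · have := le_iSup (fun i : Fin t => pPow (i.val : ℤ) (latImg G ((h + 1) * i.val) M))
          ⟨i.val + 1, hi⟩
        apply this
        rw [mem_pPow_iff]
        exact ⟨_, iterate_mem_latImg G _ hm0, by push_cast; rfl⟩
      · have hi' : i.val + 1 = t := by have := i.2; omega
        apply hle0
        rw [hi']
        have h4 := hord (iterate_mem_latImg G ((h + 1) * t) hm0)
        rw [mem_pPow_iff] at h4
        obtain ⟨m1, hm1, hm1eq⟩ := h4
        rw [← hm1eq, smul_smul]
        have e2 : (p : K(p, k)) ^ ((i.val : ℤ) + 1) * (p : K(p, k)) ^ (-(t : ℤ)) = 1 := by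
          rw [← zpow_add₀ p_ne_zero]
          have : ((i.val : ℤ) + 1) + -(t : ℤ) = 0 := by
            have : ((i.val + 1 : ℕ) : ℤ) = (t : ℤ) := by exact_mod_cast hi'
            push_cast at this
            omega
          rw [this, zpow_zero]
        rw [e2, one_smul]
        exact hm1
    · rw [smul_smul, ← zpow_add₀ p_ne_zero]
      congr 2
      ring
  · rw [← Isoc.iter_apply, map_zero]; exact Submodule.zero_mem _
  · intro y z hy hz
    rw [← Isoc.iter_apply, map_add]
    exact Submodule.add_mem _ hy hz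

/-- below the first slope there is a lattice with `F^s M ⊆ p^r M`. -/
theorem exists_lattice_latImg_le_of_le_firstSlope [Module.Finite K(p, k) N] (hτ : PresW τ)
    (F : N →ₛₗ[τ] N) {lam : ℝ} (hlam : IsFirstSlope F lam) (r : ℤ) (s : ℕ) (hs : 0 < s)
    (hrs : (r : ℝ) / s ≤ lam) :
    ∃ M : Submodule (WittVector p k) N, M.IsLattice K(p, k) ∧ latImg F s M ≤ pPow r M := by
  have h1 := isFirstSlope_twist hτ F hlam (-r) s
  have hs' : (0 : ℝ) < s := by exact_mod_cast hs
  have h2 : (0 : ℝ) ≤ s * lam + ((-r : ℤ) : ℝ) := by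
    rw [div_le_iff₀ hs'] at hrs
    push_cast
    linarith
  have h3 : -(1 : ℝ) / ((Module.finrank K(p, k) N : ℕ) + 1) < s * lam + ((-r : ℤ) : ℝ) := by
    refine lt_of_lt_of_le ?_ h2
    have : (0 : ℝ) < (Module.finrank K(p, k) N : ℝ) + 1 := by positivity
    rw [neg_div]
    exact neg_neg_of_pos (div_pos one_pos this)
  obtain ⟨M, hM, hMG⟩ := isEffective_of_firstSlope_gt (hτ.pow s) _ rfl h1 h3
  refine ⟨M, hM, ?_⟩
  rw [latImg_twist hτ] at hMG
  have h4 := pPow_mono r hMG
  rw [← pPow_add] at h4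
  simp only [Nat.cast_one, mul_one, add_neg_cancel] at h4
  rwa [pPow_zero] at h4

end slope

section indep

variable {p : ℕ} [Fact p.Prime] {k : Type u} [Field k] [CharP k p] [PerfectRing k p]
variable {N : Type v} [AddCommGroup N] [Module (WittVector p k) N] [Module K(p, k) N]
  [IsScalarTower (WittVector p k) K(p, k) N]
variable {τ : K(p, k) →+* K(p, k)}

theorem ord_compare (hτ : PresW τ)
    (F : N →ₛₗ[τ] N) (M₁ M₂ : Submodule (WittVector p k) N) (c : ℕ)
    (h12 : pPow (c : ℤ) M₁ ≤ M₂) (h21 : pPow (c : ℤ) M₂ ≤ M₁)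
    (n : ℕ) (r₁ r₂ : ℤ) (h₁ : IsOrd M₁ F n r₁) (h₂ : IsOrd M₂ F n r₂) :
    r₁ - 2 * c ≤ r₂ := by
  apply isOrd_le_of_le h₂
  have hM2 : M₂ ≤ pPow (-(c : ℤ)) M₁ := by rw [le_pPow_iff, neg_neg]; exact h21
  calc latImg F n M₂ ≤ latImg F n (pPow (-(c : ℤ)) M₁) := latImg_mono F n hM2
    _ = pPow (-(c : ℤ)) (latImg F n M₁) := latImg_pPow hτ F n _ M₁
    _ ≤ pPow (-(c : ℤ)) (pPow r₁ M₁) := pPow_mono _ h₁.1
    _ = pPow (r₁ - 2 * c) (pPow (c : ℤ) M₁) := by
        rw [← pPow_add, ← pPow_add]; congr 1; ring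
    _ ≤ pPow (r₁ - 2 * c) M₂ := pPow_mono _ h12

/-- the first slope can be computed with any lattice -/
theorem tendsto_ord_of_tendsto_ord (hτ : PresW τ) (F : N →ₛₗ[τ] N)
    (M₁ M₂ : Submodule (WittVector p k) N) (hM₁ : M₁.IsLattice K(p, k)) (hM₂ : M₂.IsLattice K(p, k))
    (o₁ o₂ : ℕ → ℤ) (ho₁ : ∀ n : ℕ, 1 ≤ n → IsOrd M₁ F n (o₁ n))
    (ho₂ : ∀ n : ℕ, 1 ≤ n → IsOrd M₂ F n (o₂ n)) (lam : ℝ)
    (h₁ : Filter.Tendsto (fun n : ℕ => (o₁ n : ℝ) / n) Filter.atTop (nhds lam)) :
    Filter.Tendsto (fun n : ℕ => (o₂ n : ℝ) / n) Filter.atTop (nhds lam) := by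
  classical
  obtain ⟨c1, hc1⟩ := exists_pPow_le hM₁.fg hM₂.span_eq_top
  obtain ⟨c2, hc2⟩ := exists_pPow_le hM₂.fg hM₁.span_eq_top
  let c := max c1 c2
  have h12 : pPow (c : ℤ) M₁ ≤ M₂ :=
    (pPow_anti (by exact_mod_cast le_max_left c1 c2) M₁).trans hc1
  have h21 : pPow (c : ℤ) M₂ ≤ M₁ :=
    (pPow_anti (by exact_mod_cast le_max_right c1 c2) M₂).trans hc2
  have hbound : ∀ n : ℕ, 1 ≤ n → |(o₂ n : ℝ) / n - (o₁ n : ℝ) / n| ≤ 2 * c / n := by
    intro n hn
    have ha := ord_compare hτ F M₁ M₂ c h12 h21 n _ _ (ho₁ n hn) (ho₂ n hn)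
    have hb := ord_compare hτ F M₂ M₁ c h21 h12 n _ _ (ho₂ n hn) (ho₁ n hn)
    have hn' : (0 : ℝ) < n := by exact_mod_cast hn
    rw [← sub_div, abs_div, abs_of_pos hn']
    apply div_le_div_of_nonneg_right _ hn'.le
    rw [abs_le]
    have ha' : (o₁ n : ℝ) - 2 * c ≤ o₂ n := by exact_mod_cast ha
    have hb' : (o₂ n : ℝ) - 2 * c ≤ o₁ n := by exact_mod_cast hb
    constructor <;> linarith
  have hdiff : Filter.Tendsto (fun n : ℕ => (o₂ n : ℝ) / n - (o₁ n : ℝ) / n) Filter.atTop (nhds 0) := by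
    have hz : Filter.Tendsto (fun n : ℕ => 2 * (c : ℝ) / n) Filter.atTop (nhds 0) :=
      tendsto_const_div_atTop_nhds_zero_nat _
    rw [tendsto_zero_iff_abs_tendsto_zero]
    refine tendsto_of_tendsto_of_tendsto_of_le_of_le' tendsto_const_nhds hz ?_ ?_
    · exact Filter.Eventually.of_forall fun n => abs_nonneg _
    · filter_upwards [Filter.eventually_ge_atTop 1] with n hn
      exact hbound n hn
  have h2' : Filter.Tendsto (fun n : ℕ => (o₂ n : ℝ) / n) Filter.atTop (nhds (lam + 0)) := by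
    have := h₁.add hdiff
    refine this.congr fun n => ?_
    ring
  rwa [add_zero] at h2'

theorem tendsto_ord_of_isFirstSlope (hτ : PresW τ) (F : N →ₛₗ[τ] N) {lam : ℝ}
    (hlam : IsFirstSlope F lam) (M : Submodule (WittVector p k) N) (hM : M.IsLattice K(p, k))
    (o : ℕ → ℤ) (ho : ∀ n : ℕ, 1 ≤ n → IsOrd M F n (o n)) :
    Filter.Tendsto (fun n : ℕ => (o n : ℝ) / n) Filter.atTop (nhds lam) := by
  obtain ⟨M₀, hM₀, o₀, ho₀, hlim⟩ := hlam
  exact tendsto_ord_of_tendsto_ord hτ F M₀ M hM₀ hM o₀ o ho₀ ho lam hlim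

theorem nontrivial_of_isFirstSlope {F : N →ₛₗ[τ] N} {lam : ℝ} (hlam : IsFirstSlope F lam) :
    Nontrivial N := by
  obtain ⟨M₀, -, o₀, ho₀, -⟩ := hlam
  have hne := ne_bot_of_isOrd (ho₀ 1 le_rfl)
  by_contra hnt
  rw [not_nontrivial_iff_subsingleton] at hnt
  apply hne
  rw [eq_bot_iff]
  intro x _
  rw [Submodule.mem_bot]
  exact Subsingleton.elim _ _

/-- a lattice inclusion `F^s M ⊆ p^r M` bounds the first slope from below -/
theorem le_firstSlope_of_latImg_le (hτ : PresW τ) (F : N →ₛₗ[τ] N) (hF : Function.Bijective F)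
    {lam : ℝ} (hlam : IsFirstSlope F lam) (M : Submodule (WittVector p k) N)
    (hM : M.IsLattice K(p, k)) {r : ℤ} {s : ℕ} (hs : 0 < s) (hle : latImg F s M ≤ pPow r M) :
    (r : ℝ) / s ≤ lam := by
  haveI := nontrivial_of_isFirstSlope hlam
  choose o ho using fun n => exists_isOrd hτ F hF M hM n
  have hlim := tendsto_ord_of_isFirstSlope hτ F hlam M hM o (fun n _ => ho n)
  have hsub : Filter.Tendsto (fun j : ℕ => (j + 1) * s) Filter.atTop Filter.atTop := by
    refine Filter.tendsto_atTop_atTop.2 fun b => ⟨b, fun j hj => ?_⟩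
    calc b ≤ j := hj
      _ ≤ (j + 1) * s := by nlinarith
  have h3 := hlim.comp hsub
  refine ge_of_tendsto' h3 fun j => ?_
  have hkey : ∀ m : ℕ, latImg F (m * s) M ≤ pPow ((m : ℤ) * r) M := by
    intro m
    induction m with
    | zero => simp [latImg_zero, pPow_zero]
    | succ m ih =>
      have := latImg_le_pPow_add hτ F ih hle
      convert this using 2
      · ring
      · push_cast; ring
  have h4 := isOrd_le_of_le (ho ((j + 1) * s)) (hkey (j + 1))
  have h5 : (((j + 1 : ℕ) : ℤ) * r : ℝ) ≤ (o ((j + 1) * s) : ℝ) := by exact_mod_cast h4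
  have hs' : (0 : ℝ) < s := by exact_mod_cast hs
  have hj' : (0 : ℝ) < (j : ℝ) + 1 := by positivity
  show (r : ℝ) / s ≤ (o ((j + 1) * s) : ℝ) / (((j + 1) * s : ℕ) : ℝ)
  rw [div_le_div_iff₀ hs' (by push_cast; positivity)]
  push_cast at h5 ⊢
  nlinarith

end indep

section nilp

variable {p : ℕ} [Fact p.Prime] {k : Type u} [Field k] [CharP k p] [PerfectRing k p]
variable {N : Type v} [AddCommGroup N] [Module (WittVector p k) N] [Module K(p, k) N]
  [IsScalarTower (WittVector p k) K(p, k) N]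
variable {τ : K(p, k) →+* K(p, k)}

theorem latImg_le_self (hτ : PresW τ) (G : N →ₛₗ[τ] N) {M : Submodule (WittVector p k) N}
    (hGM : latImg G 1 M ≤ M) (t : ℕ) : latImg G t M ≤ M := by
  induction t with
  | zero => rw [latImg_zero]
  | succ t ih =>
    rw [latImg_add hτ]
    exact (latImg_mono G t hGM).trans ih

theorem latImg_anti (hτ : PresW τ) (G : N →ₛₗ[τ] N) {M : Submodule (WittVector p k) N}
    (hGM : latImg G 1 M ≤ M) {a b : ℕ} (hab : a ≤ b) : latImg G b M ≤ latImg G a M := by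
  obtain ⟨c, rfl⟩ := Nat.exists_eq_add_of_le hab
  rw [latImg_add hτ]
  exact latImg_mono G a (latImg_le_self hτ G hGM c)

/-- a semilinear endomorphism of a lattice of rank `h` which is nilpotent modulo `p` has
`G^h M ⊆ p M`. -/
theorem latImg_le_pPow_one_of_nilp [Module.Finite K(p, k) N] (hτ : PresW τ) (G : N →ₛₗ[τ] N)
    {h : ℕ} (hh : Module.finrank K(p, k) N = h) (M : Submodule (WittVector p k) N)
    (hGM : latImg G 1 M ≤ M) {n : ℕ} (hn : latImg G n M ≤ pPow 1 M) :
    latImg G h M ≤ pPow 1 M := by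
  classical
  intro y hy
  rw [mem_latImg_iff hτ] at hy
  obtain ⟨x, hx, rfl⟩ := hy
  have hvM : ∀ i : ℕ, (⇑G)^[i] x ∈ M := fun i => latImg_le_self hτ G hGM i (iterate_mem_latImg G i hx)
  obtain ⟨j, q, hrel, hhigh, hlow⟩ :=
    exists_normalised_relation_rev hh (fun i : Fin (h + 1) => (⇑G)^[i.val] x)
  have hj : j.val ≤ h := Nat.lt_succ_iff.mp j.2
  -- `v_j ∈ C_m` for all `m`
  have hC : ∀ m : ℕ, (⇑G)^[j.val] x ∈ latImg G m M ⊔ pPow 1 M := by
    intro m
    induction m with
    | zero => rw [latImg_zero]; exact (le_sup_left : M ≤ M ⊔ pPow 1 M) (hvM _)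
    | succ m ih =>
      rw [hrel]
      refine Submodule.sum_mem _ fun i hi => ?_
      have hij : i ≠ j := Finset.ne_of_mem_erase hi
      rcases lt_or_gt_of_ne hij with hlt | hgt
      · obtain ⟨w, hw⟩ := hlow i hlt
        apply (le_sup_right : pPow 1 M ≤ latImg G (m + 1) M ⊔ pPow 1 M)
        rw [hw, mul_smul, algebraMap_smul, mem_pPow_iff]
        exact ⟨w • (⇑G)^[i.val] x, M.smul_mem _ (hvM _), by rw [zpow_one]⟩
      · obtain ⟨w, hw⟩ := hhigh i hgt
        have hgt' : j.val < i.val := hgt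
        have e1 : i.val = (i.val - j.val) + j.val := by omega
        rw [hw, algebraMap_smul]
        refine Submodule.smul_mem _ _ ?_
        show (⇑G)^[i.val] x ∈ _
        rw [e1, Function.iterate_add_apply]
        obtain ⟨a, ha, b, hb, hab⟩ := Submodule.mem_sup.1 ih
        rw [← hab, ← Isoc.iter_apply, map_add]
        refine Submodule.add_mem_sup ?_ ?_
        · rw [Isoc.iter_apply]
          have h1 : (⇑G)^[i.val - j.val] a ∈ latImg G ((i.val - j.val) + m) M := by
            rw [latImg_add hτ]; exact iterate_mem_latImg G _ ha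
          exact latImg_anti hτ G hGM (by omega) h1
        · rw [Isoc.iter_apply]
          have h1 : (⇑G)^[i.val - j.val] b ∈ latImg G (i.val - j.val) (pPow 1 M) :=
            iterate_mem_latImg G _ hb
          rw [latImg_pPow hτ] at h1
          exact pPow_mono 1 (latImg_le_self hτ G hGM _) h1
  have h1 : (⇑G)^[j.val] x ∈ pPow 1 M := by
    have := hC n
    exact (sup_le hn le_rfl) this
  have e2 : h = (h - j.val) + j.val := by omega
  rw [e2, Function.iterate_add_apply]
  have h2 : (⇑G)^[h - j.val] ((⇑G)^[j.val] x) ∈ latImg G (h - j.val) (pPow 1 M) :=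
    iterate_mem_latImg G _ h1
  rw [latImg_pPow hτ] at h2
  exact pPow_mono 1 (latImg_le_self hτ G hGM _) h2

end nilp

end Groth.Agent.Lib.Helper85.IsocKatz
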