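import Mathlib
import Groth.Prelude.Def_Isoc
import Groth.Agent.Lib.Helper85.IsocLattice
import Groth.Agent.Lib.Helper85.IsocDet
import Groth.Agent.Lib.Helper85.IsocKatz
import Groth.Agent.Lib.Helper85.AdicBasis

/-!
# Fitting decomposition of a lattice with respect to a semilinear endomorphism
-/

set_option linter.unusedSectionVars false
set_option linter.style.haveILetI false

open scoped Pointwise Isocrystal
open Isoc

namespace Groth.Agent.Lib.Helper85.IsocFitting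

open Groth.Agent.Lib.Helper85.IsocLattice Groth.Agent.Lib.Helper85.IsocDet
  Groth.Agent.Lib.Helper85.IsocKatz

universe u v

section complete

variable {p : ℕ} [Fact p.Prime] {k : Type u} [Field k] [CharP k p] [PerfectRing k p]
variable {N : Type v} [AddCommGroup N] [Module (WittVector p k) N] [Module K(p, k) N]
  [IsScalarTower (WittVector p k) K(p, k) N]

theorem coe_mem_pPow_iff (M : Submodule (WittVector p k) N) (n : ℕ) (u : M) :
    u ∈ ((Ideal.span {(p : WittVector p k)}) ^ n • ⊤ : Submodule (WittVector p k) M) ↔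
      (u : N) ∈ pPow (n : ℤ) M := by
  rw [AdicBasis.mem_span_pow_smul_top_iff, mem_pPow_iff]
  have key : ∀ t : N, ((p : WittVector p k) ^ n) • t = ((p : K(p, k)) ^ (n : ℤ)) • t := by
    intro t
    rw [zpow_natCast, p_pow_eq_algebraMap, algebraMap_smul]
  constructor
  · rintro ⟨t, rfl⟩
    exact ⟨(t : N), t.2, by rw [← key]; rfl⟩
  · rintro ⟨m, hm, hmu⟩
    refine ⟨⟨m, hm⟩, Subtype.ext ?_⟩
    rw [← hmu, ← key]
    rfl

/-- lattices are `p`-adically complete. -/
theorem exists_limit_of_step [Module.Finite K(p, k) N] (M : Submodule (WittVector p k) N)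
    (hM : M.IsLattice K(p, k)) (j0 : ℕ) (x : ℕ → N) (hx : ∀ i, x i ∈ M)
    (hstep : ∀ i, x (i + 1) - x i ∈ pPow ((j0 + i : ℕ) : ℤ) M) :
    ∃ y ∈ M, ∀ i, y - x i ∈ pPow ((j0 + i : ℕ) : ℤ) M := by
  classical
  haveI := hM
  obtain ⟨bM⟩ := exists_lattice_basis (Module.finBasis K(p, k) N) M
  haveI : IsPrecomplete (Ideal.span {(p : WittVector p k)}) M :=
    AdicBasis.isPrecomplete_of_basis _ bM
  -- telescoping
  have htel : ∀ i d : ℕ, x (i + d) - x i ∈ pPow ((j0 + i : ℕ) : ℤ) M := by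
    intro i d
    induction d with
    | zero => simp
    | succ d ih =>
      have h1 : x (i + (d + 1)) - x i = (x (i + d + 1) - x (i + d)) + (x (i + d) - x i) := by
        rw [← add_assoc]; abel
      rw [h1]
      refine Submodule.add_mem _ ?_ ih
      exact pPow_anti (by push_cast; omega) M (hstep (i + d))
  let f : ℕ → M := fun n => ⟨x (n - j0), hx _⟩
  have hf : ∀ {m n : ℕ}, m ≤ n →
      f m ≡ f n [SMOD ((Ideal.span {(p : WittVector p k)}) ^ m • ⊤ : Submodule (WittVector p k) M)] := by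
    intro m n hmn
    rw [SModEq.sub_mem, coe_mem_pPow_iff]
    show x (m - j0) - x (n - j0) ∈ _
    obtain ⟨d, hd⟩ := Nat.exists_eq_add_of_le (Nat.sub_le_sub_right hmn j0)
    rw [hd, ← neg_sub]
    refine Submodule.neg_mem _ ?_
    exact pPow_anti (by push_cast; omega) M (htel (m - j0) d)
  obtain ⟨L, hL⟩ := IsPrecomplete.prec' (I := Ideal.span {(p : WittVector p k)}) f hf
  refine ⟨L, L.2, fun i => ?_⟩
  have h1 := hL (j0 + i)
  rw [SModEq.sub_mem, coe_mem_pPow_iff] at h1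
  have h2 : ((f (j0 + i) - L : M) : N) = x i - L := by
    show x (j0 + i - j0) - (L : N) = _
    rw [Nat.add_sub_cancel_left]
  rw [h2] at h1
  rw [← neg_sub]
  exact Submodule.neg_mem _ h1

/-- abstract successive approximation. -/
theorem exists_mem_iInter_of_step [Module.Finite K(p, k) N] (M : Submodule (WittVector p k) N)
    (hM : M.IsLattice K(p, k)) (j0 : ℕ) (A : ℕ → Set N)
    (hA1 : ∀ i x, x ∈ A i → ∀ m ∈ pPow ((j0 + i : ℕ) : ℤ) M, x + m ∈ A i)
    (hA2 : ∀ i x, x ∈ A i → ∃ x' ∈ A (i + 1), x' - x ∈ pPow ((j0 + i : ℕ) : ℤ) M)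
    (hA3 : ∀ i x, x ∈ A i → x ∈ M) {x : N} (hx : x ∈ A 0) :
    ∃ y, (∀ i, y ∈ A i) ∧ y - x ∈ pPow (j0 : ℤ) M := by
  classical
  choose g hg1 hg2 using hA2
  let seq : (i : ℕ) → {z : N // z ∈ A i} :=
    fun i => Nat.rec ⟨x, hx⟩ (fun i z => ⟨g i z.1 z.2, hg1 i z.1 z.2⟩) i
  have hseq : ∀ i, ((seq (i + 1)).1) - (seq i).1 ∈ pPow ((j0 + i : ℕ) : ℤ) M := by
    intro i
    exact hg2 i (seq i).1 (seq i).2
  obtain ⟨y, _, hy⟩ := exists_limit_of_step M hM j0 (fun i => (seq i).1)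
    (fun i => hA3 i _ (seq i).2) hseq
  refine ⟨y, fun i => ?_, ?_⟩
  · have h1 := hA1 i (seq i).1 (seq i).2 _ (hy i)
    rwa [add_sub_cancel] at h1
  · have h0 := hy 0
    have e0 : (seq 0).1 = x := rfl
    simp only [e0, Nat.add_zero] at h0
    exact h0

end complete

section fitting

variable {p : ℕ} [Fact p.Prime] {k : Type u} [Field k] [CharP k p] [PerfectRing k p]
variable {N : Type v} [AddCommGroup N] [Module (WittVector p k) N] [Module K(p, k) N]
  [IsScalarTower (WittVector p k) K(p, k) N]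
variable {τ : K(p, k) →+* K(p, k)}

/-- from the reverse normalised relation: some iterate `T^j x` (`j ≤ h`) lies in all
`T^m M + p M`. -/
theorem exists_iterate_mem_sup [Module.Finite K(p, k) N] (hτ : PresW τ) (T : N →ₛₗ[τ] N)
    {h : ℕ} (hh : Module.finrank K(p, k) N = h) (M : Submodule (WittVector p k) N)
    (hTM : latImg T 1 M ≤ M) {x : N} (hx : x ∈ M) :
    ∃ j ≤ h, ∀ m : ℕ, (⇑T)^[j] x ∈ latImg T m M ⊔ pPow 1 M := by
  classical
  have hvM : ∀ i : ℕ, (⇑T)^[i] x ∈ M := fun i => latImg_le_self hτ T hTM i (iterate_mem_latImg T i hx)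
  obtain ⟨j, q, hrel, hhigh, hlow⟩ :=
    exists_normalised_relation_rev hh (fun i : Fin (h + 1) => (⇑T)^[i.val] x)
  have hj : j.val ≤ h := Nat.lt_succ_iff.mp j.2
  refine ⟨j.val, hj, ?_⟩
  intro m
  induction m with
  | zero => rw [latImg_zero]; exact (le_sup_left : M ≤ M ⊔ pPow 1 M) (hvM _)
  | succ m ih =>
    rw [hrel]
    refine Submodule.sum_mem _ fun i hi => ?_
    have hij : i ≠ j := Finset.ne_of_mem_erase hi
    rcases lt_or_gt_of_ne hij with hlt | hgt
    · obtain ⟨w, hw⟩ := hlow i hlt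
      apply (le_sup_right : pPow 1 M ≤ latImg T (m + 1) M ⊔ pPow 1 M)
      rw [hw, mul_smul, algebraMap_smul, mem_pPow_iff]
      exact ⟨w • (⇑T)^[i.val] x, M.smul_mem _ (hvM _), by rw [zpow_one]⟩
    · obtain ⟨w, hw⟩ := hhigh i hgt
      have hgt' : j.val < i.val := hgt
      have e1 : i.val = (i.val - j.val) + j.val := by omega
      rw [hw, algebraMap_smul]
      refine Submodule.smul_mem _ _ ?_
      show (⇑T)^[i.val] x ∈ _
      rw [e1, Function.iterate_add_apply]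
      obtain ⟨a, ha, b, hb, hab⟩ := Submodule.mem_sup.1 ih
      rw [← hab, ← Isoc.iter_apply, map_add]
      refine Submodule.add_mem_sup ?_ ?_
      · rw [Isoc.iter_apply]
        have h1 : (⇑T)^[i.val - j.val] a ∈ latImg T ((i.val - j.val) + m) M := by
          rw [latImg_add hτ]; exact iterate_mem_latImg T _ ha
        exact latImg_anti hτ T hTM (by omega) h1
      · rw [Isoc.iter_apply]
        have h1 : (⇑T)^[i.val - j.val] b ∈ latImg T (i.val - j.val) (pPow 1 M) :=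
          iterate_mem_latImg T _ hb
        rw [latImg_pPow hτ] at h1
        exact pPow_mono 1 (latImg_le_self hτ T hTM _) h1

/-- (F1) the images `T^n M` stabilise modulo `p` from `n = h` on. -/
theorem latImg_finrank_le_sup [Module.Finite K(p, k) N] (hτ : PresW τ) (T : N →ₛₗ[τ] N)
    {h : ℕ} (hh : Module.finrank K(p, k) N = h) (M : Submodule (WittVector p k) N)
    (hTM : latImg T 1 M ≤ M) (m : ℕ) : latImg T h M ≤ latImg T m M ⊔ pPow 1 M := by
  intro y hy
  rw [mem_latImg_iff hτ] at hy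
  obtain ⟨x, hx, rfl⟩ := hy
  obtain ⟨j, hj, hC⟩ := exists_iterate_mem_sup hτ T hh M hTM hx
  have e2 : h = (h - j) + j := by omega
  rw [e2, Function.iterate_add_apply]
  obtain ⟨a, ha, b, hb, hab⟩ := Submodule.mem_sup.1 (hC m)
  rw [← hab, ← Isoc.iter_apply, map_add]
  refine Submodule.add_mem_sup ?_ ?_
  · rw [Isoc.iter_apply]
    have h1 : (⇑T)^[h - j] a ∈ latImg T ((h - j) + m) M := by
      rw [latImg_add hτ]; exact iterate_mem_latImg T _ ha
    exact latImg_anti hτ T hTM (by omega) h1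
  · rw [Isoc.iter_apply]
    have h1 := iterate_mem_latImg T (h - j) hb
    rw [latImg_pPow hτ] at h1
    exact pPow_mono 1 (latImg_le_self hτ T hTM _) h1

/-- the images `T^n M` stabilise modulo `p^j` from `n = j h` on. -/
theorem latImg_mul_finrank_le_sup [Module.Finite K(p, k) N] (hτ : PresW τ) (T : N →ₛₗ[τ] N)
    {h : ℕ} (hh : Module.finrank K(p, k) N = h) (M : Submodule (WittVector p k) N)
    (hTM : latImg T 1 M ≤ M) (j m : ℕ) :
    latImg T (j * h) M ≤ latImg T m M ⊔ pPow (j : ℤ) M := by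
  induction j generalizing m with
  | zero =>
    rw [Nat.zero_mul, latImg_zero, Nat.cast_zero, pPow_zero]
    exact le_sup_right
  | succ j ih =>
    have e : (j + 1) * h = h + j * h := by ring
    rw [e, latImg_add hτ]
    calc latImg T h (latImg T (j * h) M) ≤ latImg T h (latImg T m M ⊔ pPow (j : ℤ) M) :=
          latImg_mono T h (ih m)
      _ = latImg T h (latImg T m M) ⊔ latImg T h (pPow (j : ℤ) M) := latImg_sup hτ T h _ _
      _ = latImg T (h + m) M ⊔ pPow (j : ℤ) (latImg T h M) := by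
          rw [← latImg_add hτ, latImg_pPow hτ]
      _ ≤ latImg T m M ⊔ pPow ((j + 1 : ℕ) : ℤ) M := by
          apply sup_le
          · exact (latImg_anti hτ T hTM (by omega)).trans le_sup_left
          · calc pPow (j : ℤ) (latImg T h M) ≤ pPow (j : ℤ) (latImg T m M ⊔ pPow 1 M) :=
                  pPow_mono _ (latImg_finrank_le_sup hτ T hh M hTM m)
              _ = pPow (j : ℤ) (latImg T m M) ⊔ pPow (j : ℤ) (pPow 1 M) := pPow_sup _ _ _
              _ ≤ latImg T m M ⊔ pPow ((j + 1 : ℕ) : ℤ) M := by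
                  apply sup_le_sup (pPow_le_self_of_nonneg (by positivity) _)
                  rw [← pPow_add]
                  push_cast
                  exact le_rfl

/-- the bijective part of the lattice: `⋂ T^n M`. -/
noncomputable def bijLat (T : N →ₛₗ[τ] N) (M : Submodule (WittVector p k) N) : Submodule (WittVector p k) N :=
  ⨅ n : ℕ, latImg T n M

theorem mem_bijLat_iff (T : N →ₛₗ[τ] N) (M : Submodule (WittVector p k) N) (x : N) :
    x ∈ bijLat T M ↔ ∀ n, x ∈ latImg T n M := Submodule.mem_iInf _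

theorem bijLat_le (T : N →ₛₗ[τ] N) (M : Submodule (WittVector p k) N) : bijLat T M ≤ M := by
  intro x hx
  have := (mem_bijLat_iff T M x).1 hx 0
  rwa [latImg_zero] at this

/-- (F2) the bijective part surjects onto the stable image modulo `p`. -/
theorem latImg_finrank_le_bijLat_sup [Module.Finite K(p, k) N] (hτ : PresW τ) (T : N →ₛₗ[τ] N)
    (hT : Function.Surjective T) {h : ℕ} (hh : Module.finrank K(p, k) N = h) (hh0 : 0 < h)
    (M : Submodule (WittVector p k) N) (hM : M.IsLattice K(p, k)) (hTM : latImg T 1 M ≤ M) :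
    latImg T h M ≤ bijLat T M ⊔ pPow 1 M := by
  intro x hx
  let A : ℕ → Set N := fun i =>
    ((latImg T ((1 + i) * h) M ⊔ pPow ((1 + i : ℕ) : ℤ) M : Submodule (WittVector p k) N) : Set N)
  have hA1 : ∀ i x, x ∈ A i → ∀ m ∈ pPow ((1 + i : ℕ) : ℤ) M, x + m ∈ A i := by
    intro i x hx m hm
    exact Submodule.add_mem _ hx ((le_sup_right : _ ≤ latImg T ((1 + i) * h) M ⊔ _) hm)
  have hA2 : ∀ i x, x ∈ A i → ∃ x' ∈ A (i + 1), x' - x ∈ pPow ((1 + i : ℕ) : ℤ) M := by
    intro i x hx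
    obtain ⟨a, ha, b, hb, rfl⟩ := Submodule.mem_sup.1 hx
    have h1 := latImg_mul_finrank_le_sup hτ T hh M hTM (1 + i) ((1 + (i + 1)) * h) ha
    obtain ⟨a', ha', b', hb', rfl⟩ := Submodule.mem_sup.1 h1
    refine ⟨a', (le_sup_left : _ ≤ _ ⊔ pPow ((1 + (i + 1) : ℕ) : ℤ) M) ha', ?_⟩
    have e : a' - (a' + b' + b) = -(b' + b) := by abel
    rw [e]
    exact Submodule.neg_mem _ (Submodule.add_mem _ hb' hb)
  have hA3 : ∀ i x, x ∈ A i → x ∈ M := by
    intro i x hx
    exact (sup_le (latImg_le_self hτ T hTM _) (pPow_le_self_of_nonneg (by positivity) M)) hx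
  have hx0 : x ∈ A 0 := by
    show x ∈ latImg T ((1 + 0) * h) M ⊔ pPow ((1 + 0 : ℕ) : ℤ) M
    rw [Nat.add_zero, Nat.one_mul]
    exact (le_sup_left : _ ≤ _ ⊔ pPow ((1 : ℕ) : ℤ) M) hx
  obtain ⟨y, hyA, hyx⟩ := exists_mem_iInter_of_step M hM 1 A hA1 hA2 hA3 hx0
  have hyb : y ∈ bijLat T M := by
    rw [mem_bijLat_iff]
    intro n
    obtain ⟨c, hc⟩ := exists_pPow_le hM.fg (span_latImg_eq_top hτ T hT n hM.span_eq_top)
    have h1 : y ∈ latImg T ((1 + (c + n)) * h) M ⊔ pPow ((1 + (c + n) : ℕ) : ℤ) M := hyA (c + n)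
    refine (sup_le (latImg_anti hτ T hTM ?_) ((pPow_anti ?_ M).trans hc)) h1
    · nlinarith
    · push_cast; omega
  have e : x = y + -(y - x) := by abel
  rw [e]
  exact Submodule.add_mem_sup hyb (Submodule.neg_mem _ (by simpa using hyx))

/-- `T` maps the bijective part onto itself. -/
theorem latImg_bijLat (hτ : PresW τ) (T : N →ₛₗ[τ] N) (hT : Function.Injective T)
    (M : Submodule (WittVector p k) N) (hTM : latImg T 1 M ≤ M) :
    latImg T 1 (bijLat T M) = bijLat T M := by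
  apply le_antisymm
  · intro y hy
    rw [mem_latImg_iff hτ] at hy
    obtain ⟨m, hm, rfl⟩ := hy
    rw [mem_bijLat_iff] at hm ⊢
    intro n
    have h1 : (⇑T)^[1] m ∈ latImg T (1 + n) M := by
      rw [latImg_add hτ]; exact iterate_mem_latImg T 1 (hm n)
    exact latImg_anti hτ T hTM (by omega) h1
  · intro y hy
    rw [mem_bijLat_iff] at hy
    have h1 : ∀ n, ∃ x ∈ latImg T n M, T x = y := by
      intro n
      have := hy (1 + n)
      rw [latImg_add hτ, mem_latImg_iff hτ] at this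
      obtain ⟨x, hx, hxy⟩ := this
      exact ⟨x, hx, hxy⟩
    choose x hx hxy using h1
    have hxe : ∀ n, x n = x 0 := fun n => hT (by rw [hxy, hxy])
    rw [mem_latImg_iff hτ]
    refine ⟨x 0, ?_, hxy 0⟩
    rw [mem_bijLat_iff]
    intro n
    rw [← hxe n]
    exact hx n

/-- (F4) Fitting decomposition modulo `p`. -/
theorem exists_decomp_mod [Module.Finite K(p, k) N] (hτ : PresW τ) (T : N →ₛₗ[τ] N)
    {h : ℕ} (hh : Module.finrank K(p, k) N = h) (M : Submodule (WittVector p k) N)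
    (hTM : latImg T 1 M ≤ M) {x : N} (hx : x ∈ M) (m : ℕ) :
    ∃ y ∈ M, ∃ z ∈ M, x = (⇑T)^[m] y + z ∧ (⇑T)^[h] z ∈ pPow 1 M := by
  have h1 := latImg_finrank_le_sup hτ T hh M hTM (h + m) (iterate_mem_latImg T h hx)
  obtain ⟨a, ha, b, hb, hab⟩ := Submodule.mem_sup.1 h1
  rw [mem_latImg_iff hτ] at ha
  obtain ⟨y, hy, rfl⟩ := ha
  refine ⟨y, hy, x - (⇑T)^[m] y,
    M.sub_mem hx (latImg_le_self hτ T hTM m (iterate_mem_latImg T m hy)), by abel, ?_⟩
  have h2 : (⇑T)^[h] (x - (⇑T)^[m] y) = b := by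
    rw [← Isoc.iter_apply, map_sub, Isoc.iter_apply, Isoc.iter_apply, ← Function.iterate_add_apply,
      ← hab]
    abel
  rw [h2]
  exact hb

theorem iterate_mem_pPow_of_le (hτ : PresW τ) (T : N →ₛₗ[τ] N) (M : Submodule (WittVector p k) N)
    (hTM : latImg T 1 M ≤ M) {x : N} {j : ℤ} {n n' : ℕ} (hnn : n ≤ n')
    (h : (⇑T)^[n] x ∈ pPow j M) : (⇑T)^[n'] x ∈ pPow j M := by
  obtain ⟨d, rfl⟩ := Nat.exists_eq_add_of_le hnn
  rw [add_comm, Function.iterate_add_apply]
  have := iterate_mem_latImg T d h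
  rw [latImg_pPow hτ] at this
  exact pPow_mono j (latImg_le_self hτ T hTM d) this

/-- one step of the successive approximation for the nilpotent part. -/
theorem exists_step_nil [Module.Finite K(p, k) N] (hτ : PresW τ) (T : N →ₛₗ[τ] N)
    {h : ℕ} (hh : Module.finrank K(p, k) N = h) (M : Submodule (WittVector p k) N)
    (hTM : latImg T 1 M ≤ M) {x : N} (hx : x ∈ M) (j n : ℕ)
    (hn : (⇑T)^[n] x ∈ pPow (j : ℤ) M) :
    ∃ x' ∈ M, (∃ n', (⇑T)^[n'] x' ∈ pPow ((j + 1 : ℕ) : ℤ) M) ∧ x' - x ∈ pPow (j : ℤ) M := by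
  rw [mem_pPow_iff] at hn
  obtain ⟨u, hu, hux⟩ := hn
  obtain ⟨y, hy, z, hz, huyz, hzp⟩ := exists_decomp_mod hτ T hh M hTM hu n
  have hpy : ((p : K(p, k)) ^ (j : ℤ)) • y ∈ M :=
    pPow_le_self_of_nonneg (by positivity) M (smul_mem_pPow _ hy)
  refine ⟨x - ((p : K(p, k)) ^ (j : ℤ)) • y, M.sub_mem hx hpy, ⟨h + n, ?_⟩, ?_⟩
  · have h1 : (⇑T)^[n] (x - ((p : K(p, k)) ^ (j : ℤ)) • y) = ((p : K(p, k)) ^ (j : ℤ)) • z := by
      rw [← Isoc.iter_apply, map_sub, Isoc.iter_apply, Isoc.iter_apply, iterate_zpow_smul, ← hux,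
        ← smul_sub, huyz, add_sub_cancel_left]
    rw [Function.iterate_add_apply, h1, iterate_zpow_smul]
    rw [mem_pPow_iff] at hzp
    obtain ⟨m', hm', hm'z⟩ := hzp
    rw [← hm'z, smul_smul, ← zpow_add₀ p_ne_zero]
    have e : ((j : ℤ) + 1) = ((j + 1 : ℕ) : ℤ) := by push_cast; ring
    rw [e]
    exact smul_mem_pPow _ hm'
  · have e : x - ((p : K(p, k)) ^ (j : ℤ)) • y - x = -(((p : K(p, k)) ^ (j : ℤ)) • y) := by abel
    rw [e]
    exact Submodule.neg_mem _ (smul_mem_pPow _ hy)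

/-- the topologically nilpotent part: `{x | T^n x → 0}`. -/
noncomputable def nilPart (hτ : PresW τ) (T : N →ₛₗ[τ] N) (M : Submodule (WittVector p k) N)
    (hTM : latImg T 1 M ≤ M) : Submodule K(p, k) N where
  carrier := {x | ∀ j : ℕ, ∃ n : ℕ, (⇑T)^[n] x ∈ pPow (j : ℤ) M}
  zero_mem' := fun j => ⟨0, by simp⟩
  add_mem' := by
    intro x y hx hy j
    obtain ⟨n1, h1⟩ := hx j
    obtain ⟨n2, h2⟩ := hy j
    refine ⟨max n1 n2, ?_⟩
    rw [← Isoc.iter_apply, map_add]
    exact Submodule.add_mem _ (iterate_mem_pPow_of_le hτ T M hTM (le_max_left _ _) h1)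
      (iterate_mem_pPow_of_le hτ T M hTM (le_max_right _ _) h2)
  smul_mem' := by
    intro c x hx j
    obtain ⟨e, w, hw⟩ := exists_pow_mul_eq_algebraMap c
    obtain ⟨n, hn⟩ := hx (j + e)
    refine ⟨n, ?_⟩
    show (⇑T)^[n] (c • x) ∈ _
    rw [← Isoc.iter_apply, (Isoc.iter T n).map_smulₛₗ, Isoc.iter_apply]
    obtain ⟨w', hw'⟩ := (hτ.pow n).into w
    have hpe : ((p : K(p, k)) ^ e) ≠ 0 := pow_ne_zero _ p_ne_zero
    have hc : (τ ^ n) c = ((p : K(p, k)) ^ e)⁻¹ * algebraMap (WittVector p k) K(p, k) w' := by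
      have hc0 : c = ((p : K(p, k)) ^ e)⁻¹ * algebraMap (WittVector p k) K(p, k) w := by
        rw [← hw, ← mul_assoc, inv_mul_cancel₀ hpe, one_mul]
      rw [hc0, map_mul, map_inv₀, map_pow, map_natCast, hw']
    rw [hc, mem_pPow_iff] at *
    obtain ⟨m, hm, hmx⟩ := hn
    refine ⟨w' • m, M.smul_mem _ hm, ?_⟩
    rw [← hmx, smul_smul, ← algebraMap_smul K(p, k) w' m, smul_smul]
    congr 1
    push_cast
    rw [zpow_add₀ p_ne_zero, zpow_natCast, zpow_natCast]
    field_simp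

theorem mem_nilPart_iff (hτ : PresW τ) (T : N →ₛₗ[τ] N) (M : Submodule (WittVector p k) N)
    (hTM : latImg T 1 M ≤ M) (x : N) :
    x ∈ nilPart hτ T M hTM ↔ ∀ j : ℕ, ∃ n : ℕ, (⇑T)^[n] x ∈ pPow (j : ℤ) M := Iff.rfl

/-- (F3) lifting nilpotent-mod-`p` elements to topologically nilpotent ones. -/
theorem exists_mem_nilPart_sub_mem [Module.Finite K(p, k) N] (hτ : PresW τ) (T : N →ₛₗ[τ] N)
    {h : ℕ} (hh : Module.finrank K(p, k) N = h) (M : Submodule (WittVector p k) N)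
    (hM : M.IsLattice K(p, k)) (hTM : latImg T 1 M ≤ M) {x : N} (hx : x ∈ M)
    (hxp : (⇑T)^[h] x ∈ pPow 1 M) :
    ∃ z ∈ M, z ∈ nilPart hτ T M hTM ∧ z - x ∈ pPow 1 M := by
  let A : ℕ → Set N := fun i => {x | x ∈ M ∧ ∃ n, (⇑T)^[n] x ∈ pPow ((1 + i : ℕ) : ℤ) M}
  have hA1 : ∀ i x, x ∈ A i → ∀ m ∈ pPow ((1 + i : ℕ) : ℤ) M, x + m ∈ A i := by
    rintro i x ⟨hxM, n, hn⟩ m hm
    refine ⟨M.add_mem hxM (pPow_le_self_of_nonneg (by positivity) M hm), n, ?_⟩
    rw [← Isoc.iter_apply, map_add]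
    refine Submodule.add_mem _ hn ?_
    exact iterate_mem_pPow_of_le hτ T M hTM (Nat.zero_le n) (by simpa using hm)
  have hA2 : ∀ i x, x ∈ A i → ∃ x' ∈ A (i + 1), x' - x ∈ pPow ((1 + i : ℕ) : ℤ) M := by
    rintro i x ⟨hxM, n, hn⟩
    obtain ⟨x', hx'M, ⟨n', hn'⟩, hsub⟩ := exists_step_nil hτ T hh M hTM hxM (1 + i) n hn
    refine ⟨x', ⟨hx'M, n', ?_⟩, hsub⟩
    have e : (1 + (i + 1) : ℕ) = 1 + i + 1 := by ring
    rw [e]
    exact hn'
  have hA3 : ∀ i x, x ∈ A i → x ∈ M := fun i x hx => hx.1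
  have hx0 : x ∈ A 0 := ⟨hx, h, by simpa using hxp⟩
  obtain ⟨y, hyA, hyx⟩ := exists_mem_iInter_of_step M hM 1 A hA1 hA2 hA3 hx0
  refine ⟨y, (hyA 0).1, ?_, by simpa using hyx⟩
  intro j
  obtain ⟨n, hn⟩ := (hyA j).2
  exact ⟨n, pPow_anti (by push_cast; omega) M hn⟩

theorem span_p_le_jacobson :
    Ideal.span {(p : WittVector p k)} ≤ Ideal.jacobson (⊥ : Ideal (WittVector p k)) := by
  rw [IsLocalRing.jacobson_eq_maximalIdeal ⊥ bot_ne_top, Ideal.span_le]
  intro x hx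
  rw [Set.mem_singleton_iff] at hx
  rw [hx]
  exact (WittVector.irreducible p).not_isUnit

/-- the Fitting decomposition of the lattice. -/
theorem le_bijLat_sup_nilPart [Module.Finite K(p, k) N] (hτ : PresW τ) (T : N →ₛₗ[τ] N)
    (hT : Function.Surjective T) {h : ℕ} (hh : Module.finrank K(p, k) N = h) (hh0 : 0 < h)
    (M : Submodule (WittVector p k) N) (hM : M.IsLattice K(p, k)) (hTM : latImg T 1 M ≤ M) :
    M ≤ bijLat T M ⊔ ((nilPart hτ T M hTM).restrictScalars (WittVector p k) ⊓ M) := by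
  apply Submodule.le_of_le_smul_of_le_jacobson_bot hM.fg (span_p_le_jacobson (p := p) (k := k))
  intro x hx
  obtain ⟨y, hy, z, hz, hxyz, hzp⟩ := exists_decomp_mod hτ T hh M hTM hx h
  have hpM : pPow 1 M ≤ Ideal.span {(p : WittVector p k)} • M := by
    intro u hu
    rw [mem_pPow_iff] at hu
    obtain ⟨m, hm, rfl⟩ := hu
    have e : ((p : K(p, k)) ^ (1 : ℤ)) • m = (p : WittVector p k) • m := by
      rw [zpow_one, ← algebraMap_smul K(p, k) (p : WittVector p k) m, map_natCast]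
    rw [e]
    exact Submodule.smul_mem_smul (Ideal.mem_span_singleton_self _) hm
  have h1 := latImg_finrank_le_bijLat_sup hτ T hT hh hh0 M hM hTM (iterate_mem_latImg T h hy)
  obtain ⟨a, ha, b, hb, hab⟩ := Submodule.mem_sup.1 h1
  obtain ⟨z', hz'M, hz'n, hz'z⟩ := exists_mem_nilPart_sub_mem hτ T hh M hM hTM hz hzp
  have e : x = (a + z') + (b + -(z' - z)) := by rw [hxyz, ← hab]; abel
  rw [e]
  refine Submodule.add_mem_sup (Submodule.add_mem_sup ha ⟨hz'n, hz'M⟩) (hpM ?_)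
  exact Submodule.add_mem _ hb (Submodule.neg_mem _ hz'z)

end fitting

end Groth.Agent.Lib.Helper85.IsocFitting
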