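import Mathlib
import Groth.Prelude.Def_Isoc
import Groth.Agent.Lib.Helper85.IsocLattice
import Groth.Agent.Lib.Helper85.IsocDet

/-!
# The standard isocrystals `Isoc.stdIsoc τ d h`
-/

set_option linter.unusedSectionVars false

open scoped Pointwise Isocrystal
open Isoc
open Fin.NatCast

namespace Groth.Agent.Lib.Helper85.IsocStd

open Groth.Agent.Lib.Helper85.IsocLattice

universe u

variable {p : ℕ} [Fact p.Prime] {k : Type u} [Field k] [CharP k p] [PerfectRing k p]

theorem finRotate_symm_apply (n : ℕ) (i : Fin (n + 1)) : (finRotate (n + 1)).symm i = i - 1 := by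
  rw [Equiv.symm_apply_eq, finRotate_apply, sub_add_cancel]

theorem stdIsoc_iterate (τ : K(p, k) →+* K(p, k)) (d : ℤ) (n : ℕ) (t : ℕ) (ht : t ≤ n + 1)
    (x : Fin (n + 1) → K(p, k)) (i : Fin (n + 1)) :
    ((⇑(stdIsoc τ d (n + 1)))^[t] x) i =
      (if i.val < t then (p : K(p, k)) ^ d else 1) *
        (τ ^ t) (x (i - (Nat.cast t : Fin (n + 1)))) := by
  induction t generalizing i with
  | zero => simp
  | succ t ih =>
    rw [Function.iterate_succ_apply', stdIsoc_apply, ih (by omega), finRotate_symm_apply, map_mul,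
      Nat.cast_succ, sub_sub, add_comm (1 : Fin (n + 1)), pow_succ', RingHom.mul_def,
      RingHom.comp_apply, ← mul_assoc]
    congr 1
    by_cases hi : i.val = 0
    · have hi0 : i = 0 := Fin.ext hi
      subst hi0
      have h1 : ((0 : Fin (n + 1)) - 1).val = n := by simp
      rw [h1, if_pos hi, if_neg (by omega), map_one, mul_one, if_pos (by simp)]
    · have hi0 : i ≠ 0 := fun h => hi (by rw [h]; rfl)
      rw [Fin.val_sub_one_of_ne_zero hi0, if_neg hi, one_mul]
      by_cases h2 : i.val - 1 < t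
      · rw [if_pos h2, if_pos (by omega), map_p_zpow]
      · rw [if_neg h2, if_neg (by omega), map_one]

theorem stdIsoc_iterate_self (τ : K(p, k) →+* K(p, k)) (d : ℤ) (n : ℕ)
    (x : Fin (n + 1) → K(p, k)) :
    ((⇑(stdIsoc τ d (n + 1)))^[n + 1] x) = ((p : K(p, k)) ^ d) • fun i => (τ ^ (n + 1)) (x i) := by
  funext i
  rw [stdIsoc_iterate τ d n (n + 1) le_rfl x i, if_pos i.isLt]
  simp

/-- the standard lattice `W^h ⊆ K^h`. -/
noncomputable def stdLat (p : ℕ) [Fact p.Prime] (k : Type u) [Field k] [CharP k p] [PerfectRing k p] (h : ℕ) :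
    Submodule (WittVector p k) (Fin h → K(p, k)) :=
  Submodule.span (WittVector p k) (Set.range (Pi.basisFun K(p, k) (Fin h)))

theorem mem_stdLat_iff (h : ℕ) (x : Fin h → K(p, k)) :
    x ∈ stdLat p k h ↔ ∀ i, x i ∈ Set.range (algebraMap (WittVector p k) K(p, k)) := by
  rw [stdLat, Module.Basis.mem_span_iff_repr_mem]
  simp

theorem fg_stdLat (h : ℕ) : (stdLat p k h).FG :=
  Submodule.fg_span (Set.finite_range _)

theorem span_stdLat (h : ℕ) :
    Submodule.span K(p, k) (stdLat p k h : Set (Fin h → K(p, k))) = ⊤ := by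
  rw [stdLat, Submodule.span_span_of_tower, Module.Basis.span_eq]

theorem isLattice_stdLat (h : ℕ) : (stdLat p k h).IsLattice K(p, k) :=
  ⟨fg_stdLat h, span_stdLat h⟩

theorem latImg_stdIsoc_stdLat {τ : K(p, k) →+* K(p, k)} (hτ : PresW τ) (d : ℤ) (n : ℕ) :
    latImg (stdIsoc τ d (n + 1)) (n + 1) (stdLat p k (n + 1)) = pPow d (stdLat p k (n + 1)) := by
  have hτn := hτ.pow (n + 1)
  ext y
  rw [mem_latImg_iff hτ, mem_pPow_iff]
  constructor
  · rintro ⟨m, hm, rfl⟩
    refine ⟨fun i => (τ ^ (n + 1)) (m i), ?_, (stdIsoc_iterate_self τ d n m).symm⟩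
    rw [mem_stdLat_iff] at hm ⊢
    intro i
    obtain ⟨w, hw⟩ := hm i
    obtain ⟨w', hw'⟩ := hτn.into w
    exact ⟨w', by rw [← hw, hw']⟩
  · rintro ⟨m, hm, rfl⟩
    rw [mem_stdLat_iff] at hm
    choose w hw using hm
    choose w' hw' using fun i => hτn.onto (w i)
    refine ⟨fun i => algebraMap (WittVector p k) K(p, k) (w' i), ?_, ?_⟩
    · rw [mem_stdLat_iff]
      exact fun i => ⟨w' i, rfl⟩
    · rw [stdIsoc_iterate_self]
      congr 1
      funext i
      rw [hw', hw]

theorem injective_stdIsoc (τ : K(p, k) →+* K(p, k)) (d : ℤ) (h : ℕ) :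
    Function.Injective (stdIsoc τ d h) := by
  intro x y hxy
  funext j
  have h1 := congrFun hxy (finRotate h j)
  rw [stdIsoc_apply, stdIsoc_apply, Equiv.symm_apply_apply] at h1
  have hc : (if (finRotate h j).val = 0 then (p : K(p, k)) ^ d else 1) ≠ 0 := by
    split_ifs
    · exact zpow_ne_zero _ p_ne_zero
    · exact one_ne_zero
  exact τ.injective (mul_left_cancel₀ hc h1)

theorem isIsoc_stdIsoc {τ : K(p, k) →+* K(p, k)} (hτ : PresW τ) (d : ℤ) (h : ℕ) :
    IsIsoc (stdIsoc τ d h) :=
  ⟨inferInstance, injective_stdIsoc τ d h,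
    surjective_of_injective_semilinear hτ.surjective _ (injective_stdIsoc τ d h)⟩

theorem isIsoclinic_stdIsoc {τ : K(p, k) →+* K(p, k)} (hτ : PresW τ) (d : ℤ) (h : ℕ) (hh : 0 < h) :
    IsIsoclinic (stdIsoc τ d h) ((d : ℚ) / h) := by
  obtain ⟨n, rfl⟩ := Nat.exists_eq_succ_of_ne_zero hh.ne'
  exact ⟨stdLat p k (n + 1), isLattice_stdLat _, d, n + 1, Nat.succ_pos n, rfl,
    latImg_stdIsoc_stdLat hτ d n⟩

section det

universe v
variable {N : Type v} [AddCommGroup N] [Module K(p, k) N]
variable {τ : K(p, k) →+* K(p, k)} {h : ℕ}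

open Groth.Agent.Lib.Helper85.IsocDet in
/-- the determinant coefficient of an injective semilinear map is non-zero. -/
theorem detCoeff_ne_zero (hτ : Function.Surjective τ) (b : Module.Basis (Fin h) K(p, k) N)
    (F : N →ₛₗ[τ] N) (hF : Function.Injective F) : detCoeff b F ≠ 0 := by
  classical
  rcases Nat.eq_zero_or_pos h with rfl | hpos
  · rw [detCoeff, Matrix.det_isEmpty]
    exact one_ne_zero
  haveI : Nonempty (Fin h) := ⟨⟨0, hpos⟩⟩
  have hli : LinearIndependent K(p, k) (fun i => F (b i)) := by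
    rw [Fintype.linearIndependent_iff]
    intro g hg
    choose g' hg' using fun i => hτ (g i)
    have h1 : F (∑ i, g' i • b i) = 0 := by
      rw [map_sum, ← hg]
      refine Finset.sum_congr rfl fun i _ => ?_
      rw [F.map_smulₛₗ, hg']
    have h2 : ∑ i, g' i • b i = 0 := hF (by rw [h1, map_zero])
    have h3 := Fintype.linearIndependent_iff.1 b.linearIndependent g' h2
    intro i
    rw [← hg' i, h3 i, map_zero]
  have hcard : Fintype.card (Fin h) = Module.finrank K(p, k) N := by
    rw [Module.finrank_eq_card_basis b]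
  let v := basisOfLinearIndependentOfCardEqFinrank hli hcard
  have h4 : detCoeff b F = (b.toMatrix v).det := by
    rw [detCoeff]
    congr 1
    ext i j
    simp [Module.Basis.toMatrix_apply, v]
  rw [h4]
  have h5 : b.toMatrix v * v.toMatrix b = 1 := b.toMatrix_mul_toMatrix_flip v
  have h6 := congrArg Matrix.det h5
  rw [Matrix.det_mul, Matrix.det_one] at h6
  exact left_ne_zero_of_mul_eq_one h6

end det

end Groth.Agent.Lib.Helper85.IsocStd
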