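import Mathlib
import Groth.Prelude.Def_Isoc
import Groth.Agent.Lib.Helper85.IsocLattice
import Groth.Agent.Lib.Helper85.IsocDet
import Groth.Agent.Lib.Helper85.IsocKatz
import Groth.Agent.Lib.Helper85.IsocStd
import Groth.Agent.Lib.Helper85.IsocFitting
import Groth.Agent.S17146
import Groth.Agent.S17148
import Groth.Agent.S17150
import Groth.Agent.S17151

/-!
# The slope decomposition of an isocrystal
-/

set_option linter.unusedSectionVars false
set_option linter.style.haveILetI false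

open scoped Pointwise Isocrystal
open Isoc

namespace Groth.Agent.Lib.Helper85.IsocSlope

open Groth.Agent.Lib.Helper85.IsocLattice Groth.Agent.Lib.Helper85.IsocDet
  Groth.Agent.Lib.Helper85.IsocKatz Groth.Agent.Lib.Helper85.IsocFitting

universe u v

section general

variable {p : ℕ} [Fact p.Prime] {k : Type u} [Field k] [CharP k p] [PerfectRing k p]
variable {N : Type v} [AddCommGroup N] [Module (WittVector p k) N] [Module K(p, k) N]
  [IsScalarTower (WittVector p k) K(p, k) N]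
variable {τ : K(p, k) →+* K(p, k)}

/-- the subspace `A` is isoclinic of slope `μ` for `F`, in external lattice form. -/
def HasSlope (F : N →ₛₗ[τ] N) (A : Submodule K(p, k) N) (μ : ℚ) : Prop :=
  ∃ M : Submodule (WittVector p k) N, M.FG ∧ Submodule.span K(p, k) (M : Set N) = A ∧
    ∃ (r : ℤ) (s : ℕ), 0 < s ∧ (r : ℚ) / s = μ ∧ latImg F s M = pPow r M

theorem hasSlope_iff_restrict (hτ : PresW τ) (F : N →ₛₗ[τ] N) (A : Submodule K(p, k) N)
    (hA : ∀ x ∈ A, F x ∈ A) (μ : ℚ) : HasSlope F A μ ↔ IsIsoclinic (F.restrict hA) μ := by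
  constructor
  · rintro ⟨M, hfg, hspan, r, s, hs, hrs, h⟩
    exact isIsoclinic_restrict_of A F hA hτ hfg hspan hs hrs h
  · intro h
    exact exists_of_isIsoclinic_restrict A F hA hτ h

/-- the twisted iterate `p^(-r) F^s`. -/
noncomputable abbrev twist (F : N →ₛₗ[τ] N) (r : ℤ) (s : ℕ) : N →ₛₗ[τ ^ s] N :=
  ((p : K(p, k)) ^ (-r)) • Isoc.iter F s

theorem twist_apply (F : N →ₛₗ[τ] N) (r : ℤ) (s : ℕ) (x : N) :
    twist F r s x = ((p : K(p, k)) ^ (-r)) • (⇑F)^[s] x := rfl

theorem map_twist (F : N →ₛₗ[τ] N) (r : ℤ) (s : ℕ) (x : N) :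
    F (twist F r s x) = twist F r s (F x) := by
  rw [twist_apply, twist_apply, F.map_smulₛₗ, map_p_zpow, ← Function.iterate_succ_apply,
    Function.iterate_succ_apply']

theorem map_twist_iterate (F : N →ₛₗ[τ] N) (r : ℤ) (s : ℕ) (n : ℕ) (x : N) :
    F ((⇑(twist F r s))^[n] x) = (⇑(twist F r s))^[n] (F x) := by
  induction n generalizing x with
  | zero => rfl
  | succ n ih => rw [Function.iterate_succ_apply, ih, map_twist, Function.iterate_succ_apply]

theorem latImg_twist_one (hτ : PresW τ) (F : N →ₛₗ[τ] N) (r : ℤ) (s : ℕ)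
    (M : Submodule (WittVector p k) N) :
    latImg (twist F r s) 1 M = pPow (-r) (latImg F s M) := by
  have := latImg_twist hτ F (-r) s 1 M
  rw [Nat.mul_one, Nat.cast_one, mul_one] at this
  exact this

theorem twist_injective (F : N →ₛₗ[τ] N) (hF : Function.Injective F) (r : ℤ) (s : ℕ) :
    Function.Injective (twist F r s) := by
  intro x y hxy
  rw [twist_apply, twist_apply] at hxy
  have h1 := smul_right_injective N (zpow_ne_zero (-r) (p_ne_zero (p := p) (k := k))) hxy
  exact (hF.iterate s) h1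

/-- the key splitting: the slope `r/s` part (bijective part of `p^(-r) F^s`) and an `F`-stable
proper subspace which together span `N`. -/
theorem exists_splitting_of_ord [Module.Finite K(p, k) N] [Nontrivial N] (hτ : PresW τ)
    (F : N →ₛₗ[τ] N) (hF : Function.Bijective F)
    (M : Submodule (WittVector p k) N) (hM : M.IsLattice K(p, k)) (r : ℤ) (s : ℕ) (hs : 0 < s)
    (h1 : latImg F s M ≤ pPow r M)
    (h2 : ∀ n : ℕ, ¬ latImg F (s * n) M ≤ pPow (r * n + 1) M) :
    ∃ (N' N'' : Submodule K(p, k) N), (∀ x ∈ N', F x ∈ N') ∧ (∀ x ∈ N'', F x ∈ N'') ∧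
      HasSlope F N' ((r : ℚ) / s) ∧ N' ⊔ N'' = ⊤ ∧ N'' ≠ ⊤ := by
  classical
  have hτs := hτ.pow s
  set T := twist F r s with hT
  have hTM : latImg T 1 M ≤ M := by
    rw [hT, latImg_twist_one hτ]
    calc pPow (-r) (latImg F s M) ≤ pPow (-r) (pPow r M) := pPow_mono _ h1
      _ = M := by rw [← pPow_add, neg_add_cancel, pPow_zero]
  have hTinj : Function.Injective T := twist_injective F hF.injective r s
  have hTsurj : Function.Surjective T :=
    surjective_of_injective_semilinear hτs.surjective T hTinj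
  have hh0 : 0 < Module.finrank K(p, k) N := Module.finrank_pos
  -- commensurability constant for `F M`
  obtain ⟨c, hc⟩ := exists_pPow_le (fg_latImg hτ F 1 hM.fg) hM.span_eq_top
  have hFc : ∀ m ∈ M, ((p : K(p, k)) ^ (c : ℤ)) • F m ∈ M := by
    intro m hm
    apply hc
    exact smul_mem_pPow _ (iterate_mem_latImg F 1 hm)
  have hpc : ((p : K(p, k)) ^ (c : ℤ)) ≠ 0 := zpow_ne_zero _ p_ne_zero
  refine ⟨Submodule.span K(p, k) (bijLat T M : Set N), nilPart hτs T M hTM, ?_, ?_, ?_, ?_, ?_⟩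
  · -- `F`-stability of the bijective part
    intro x hx
    refine Submodule.span_induction ?_ ?_ ?_ ?_ hx
    · intro y hy
      have h3 : ((p : K(p, k)) ^ (c : ℤ)) • F y ∈ bijLat T M := by
        rw [SetLike.mem_coe] at hy
        rw [mem_bijLat_iff] at hy ⊢
        intro n
        have := hy n
        rw [mem_latImg_iff hτs] at this ⊢
        obtain ⟨m, hm, rfl⟩ := this
        refine ⟨((p : K(p, k)) ^ (c : ℤ)) • F m, hFc m hm, ?_⟩
        rw [iterate_zpow_smul, hT, map_twist_iterate]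
      have h4 : F y = ((p : K(p, k)) ^ (c : ℤ))⁻¹ • (((p : K(p, k)) ^ (c : ℤ)) • F y) := by
        rw [smul_smul, inv_mul_cancel₀ hpc, one_smul]
      rw [h4]
      exact Submodule.smul_mem _ _ (Submodule.subset_span h3)
    · rw [map_zero]; exact Submodule.zero_mem _
    · intro y z _ _ hy hz
      rw [map_add]; exact Submodule.add_mem _ hy hz
    · intro a y _ hy
      rw [F.map_smulₛₗ]; exact Submodule.smul_mem _ _ hy
  · -- `F`-stability of the nilpotent part
    intro x hx
    rw [mem_nilPart_iff] at hx ⊢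
    intro j
    obtain ⟨n, hn⟩ := hx (j + c)
    refine ⟨n, ?_⟩
    rw [hT, ← map_twist_iterate, ← hT]
    rw [mem_pPow_iff] at hn ⊢
    obtain ⟨m, hm, hmx⟩ := hn
    refine ⟨((p : K(p, k)) ^ (c : ℤ)) • F m, hFc m hm, ?_⟩
    rw [← hmx, F.map_smulₛₗ, map_p_zpow, smul_smul, ← zpow_add₀ p_ne_zero]
    congr 2
  · -- the bijective part is isoclinic
    refine ⟨bijLat T M, hM.fg.of_le (bijLat_le T M), rfl, r, s, hs, rfl, ?_⟩
    have h3 := latImg_bijLat hτs T hTinj M hTM
    rw [hT, latImg_twist_one hτ] at h3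
    have h4 := congrArg (pPow r) h3
    rw [← pPow_add, add_neg_cancel, pPow_zero] at h4
    exact h4
  · -- they span
    rw [eq_top_iff, ← hM.span_eq_top, Submodule.span_le]
    intro x hx
    have h3 := le_bijLat_sup_nilPart hτs T hTsurj rfl hh0 M hM hTM hx
    obtain ⟨a, ha, b, hb, rfl⟩ := Submodule.mem_sup.1 h3
    exact Submodule.add_mem_sup (Submodule.subset_span ha) hb.1
  · -- the nilpotent part is proper
    intro htop
    obtain ⟨S, hS⟩ := hM.fg
    have h3 : ∀ g : N, ∃ n : ℕ, (⇑T)^[n] g ∈ pPow 1 M := by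
      intro g
      have hg : g ∈ nilPart hτs T M hTM := by rw [htop]; trivial
      obtain ⟨n, hn⟩ := (mem_nilPart_iff hτs T M hTM g).1 hg 1
      exact ⟨n, by simpa using hn⟩
    choose n hn using h3
    apply h2 (S.sup n)
    have h4 : latImg T (S.sup n) M ≤ pPow 1 M := by
      rw [← hS, latImg_span hτs, Submodule.span_le]
      rintro _ ⟨g, hg, rfl⟩
      rw [hS]
      exact iterate_mem_pPow_of_le hτs T M hTM (Finset.le_sup (f := n) hg) (hn g)
    rw [hT, latImg_twist hτ] at h4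
    have h5 := pPow_mono (r * (S.sup n : ℕ)) h4
    rw [← pPow_add, ← pPow_add] at h5
    have e1 : r * (S.sup n : ℕ) + -r * (S.sup n : ℕ) = 0 := by ring
    rw [e1, pPow_zero] at h5
    exact h5

end general

section maps

variable {p : ℕ} [Fact p.Prime] {k : Type u} [Field k] [CharP k p] [PerfectRing k p]
variable {N : Type v} [AddCommGroup N] [Module (WittVector p k) N] [Module K(p, k) N]
  [IsScalarTower (WittVector p k) K(p, k) N]
variable {N₂ : Type*} [AddCommGroup N₂] [Module (WittVector p k) N₂] [Module K(p, k) N₂]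
  [IsScalarTower (WittVector p k) K(p, k) N₂]
variable {τ : K(p, k) →+* K(p, k)}

theorem HasSlope.map (hτ : PresW τ) {F : N →ₛₗ[τ] N} {F' : N₂ →ₛₗ[τ] N₂} (f : N →ₗ[K(p, k)] N₂)
    (hf : ∀ x, f (F x) = F' (f x)) {A : Submodule K(p, k) N} {μ : ℚ} (h : HasSlope F A μ) :
    HasSlope F' (A.map f) μ := by
  obtain ⟨M, hfg, hspan, r, s, hs, hrs, hM⟩ := h
  refine ⟨M.map (f.restrictScalars (WittVector p k)), hfg.map _, ?_, r, s, hs, hrs, ?_⟩
  · rw [span_map_restrictScalars, hspan]
  · rw [← map_latImg hτ f hf, hM, map_pPow]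

theorem map_stable {F : N →ₛₗ[τ] N} {F' : N₂ →ₛₗ[τ] N₂} (f : N →ₗ[K(p, k)] N₂)
    (hf : ∀ x, f (F x) = F' (f x)) {A : Submodule K(p, k) N} (hA : ∀ x ∈ A, F x ∈ A) :
    ∀ y ∈ A.map f, F' y ∈ A.map f := by
  rintro _ ⟨x, hx, rfl⟩
  exact ⟨F x, hA x hx, hf x⟩

end maps

section frob

variable {p : ℕ} [Fact p.Prime] {k : Type u} [Field k] [CharP k p] [PerfectRing k p]
variable {N : Type v} [AddCommGroup N] [Module (WittVector p k) N] [Module K(p, k) N]
  [IsScalarTower (WittVector p k) K(p, k) N]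
variable {τ : K(p, k) →+* K(p, k)}

theorem restrict_injective {F : N →ₛₗ[τ] N} (hF : Function.Injective F) (A : Submodule K(p, k) N)
    (hA : ∀ x ∈ A, F x ∈ A) : Function.Injective (F.restrict hA) := by
  intro x y hxy
  apply Subtype.ext
  apply hF
  exact congrArg Subtype.val hxy

theorem isIsoc_restrict (hτ : PresW τ) {F : N →ₛₗ[τ] N} (hF : IsIsoc F) (A : Submodule K(p, k) N)
    (hA : ∀ x ∈ A, F x ∈ A) : IsIsoc (F.restrict hA) := by
  haveI := hF.finite
  exact ⟨inferInstance, restrict_injective hF.bijective.injective A hA,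
    surjective_of_injective_semilinear hτ.surjective _
      (restrict_injective hF.bijective.injective A hA)⟩

theorem stable_iSup {ι : Sort*} {F : N →ₛₗ[τ] N} (f : ι → Submodule K(p, k) N)
    (hf : ∀ i, ∀ x ∈ f i, F x ∈ f i) : ∀ x ∈ ⨆ i, f i, F x ∈ ⨆ i, f i := by
  intro x hx
  refine Submodule.iSup_induction f (motive := fun x => F x ∈ ⨆ i, f i) hx ?_ ?_ ?_
  · intro i x hx
    exact (le_iSup f i) (hf i x hx)
  · rw [map_zero]; exact Submodule.zero_mem _
  · intro x y hx hy
    rw [map_add]; exact Submodule.add_mem _ hx hy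

theorem stable_sup {F : N →ₛₗ[τ] N} {A B : Submodule K(p, k) N}
    (hA : ∀ x ∈ A, F x ∈ A) (hB : ∀ x ∈ B, F x ∈ B) : ∀ x ∈ A ⊔ B, F x ∈ A ⊔ B := by
  intro x hx
  obtain ⟨a, ha, b, hb, rfl⟩ := Submodule.mem_sup.1 hx
  rw [map_add]
  exact Submodule.add_mem_sup (hA a ha) (hB b hb)

theorem stable_finset_sup {ι : Type*} {F : N →ₛₗ[τ] N} (S : Finset ι)
    (f : ι → Submodule K(p, k) N) (hf : ∀ i, ∀ x ∈ f i, F x ∈ f i) :
    ∀ x ∈ S.sup f, F x ∈ S.sup f := by
  classical
  induction S using Finset.induction_on with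
  | empty =>
    intro x hx
    rw [Finset.sup_empty, Submodule.mem_bot] at hx
    rw [hx, map_zero]; exact Submodule.zero_mem _
  | insert i S _ ih =>
    rw [Finset.sup_insert]
    exact stable_sup (hf i) ih

variable (a : ℤ)

theorem HasSlope.sub {F : N →ₛₗ[Isoc.frob p k a] N} (hF : IsIsoc F) {A B : Submodule K(p, k) N}
    (hA : ∀ x ∈ A, F x ∈ A) (hB : ∀ x ∈ B, F x ∈ B) (hBA : B ≤ A) {μ : ℚ}
    (h : HasSlope F A μ) : HasSlope F B μ := by
  have hτ := presW_frob (p := p) (k := k) a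
  have h1 : IsIsoclinic (F.restrict hA) μ := (hasSlope_iff_restrict hτ F A hA μ).1 h
  have hFA := isIsoc_restrict hτ hF A hA
  let B' : Submodule K(p, k) A := B.comap A.subtype
  have hB' : ∀ x ∈ B', (F.restrict hA) x ∈ B' := fun x hx => hB _ hx
  have h2 := Groth.Agent.S17148.result p k a A (F.restrict hA) hFA μ h1 B' hB'
  have h3 : HasSlope (F.restrict hA) B' μ := (hasSlope_iff_restrict hτ _ B' hB' μ).2 h2
  have h4 := HasSlope.map hτ (F' := F) A.subtype (fun x => rfl) h3
  have e : B'.map A.subtype = B := by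
    rw [Submodule.map_comap_subtype]
    exact inf_eq_right.2 hBA
  rwa [e] at h4

theorem inf_eq_bot_of_hasSlope {F : N →ₛₗ[Isoc.frob p k a] N} (hF : IsIsoc F)
    {A C : Submodule K(p, k) N} (hA : ∀ x ∈ A, F x ∈ A) (hC : ∀ x ∈ C, F x ∈ C) {μ ν : ℚ}
    (hne : μ ≠ ν) (h1 : HasSlope F A μ) (h2 : HasSlope F C ν) : A ⊓ C = ⊥ := by
  have hτ := presW_frob (p := p) (k := k) a
  have hB : ∀ x ∈ A ⊓ C, F x ∈ A ⊓ C := fun x hx => ⟨hA x hx.1, hC x hx.2⟩
  have h3 := (hasSlope_iff_restrict hτ F _ hB μ).1 (HasSlope.sub a hF hA hB inf_le_left h1)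
  have h4 := (hasSlope_iff_restrict hτ F _ hB ν).1 (HasSlope.sub a hF hC hB inf_le_right h2)
  have hFB := isIsoc_restrict hτ hF _ hB
  have h5 := Groth.Agent.S17150.result p k a _ _ (F.restrict hB) (F.restrict hB) hFB hFB μ ν h3 h4 hne
    LinearMap.id (fun x => rfl)
  rw [eq_bot_iff]
  intro x hx
  have h6 : (LinearMap.id : (A ⊓ C : Submodule K(p, k) N) →ₗ[K(p, k)] _) ⟨x, hx⟩ = 0 := by
    rw [h5]; rfl
  rw [Submodule.mem_bot]
  exact congrArg Subtype.val h6

theorem slopePart_stable_hasSlope {F : N →ₛₗ[Isoc.frob p k a] N} (hF : IsIsoc F) (μ : ℚ) :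
    (∀ x ∈ slopePart F μ, F x ∈ slopePart F μ) ∧ HasSlope F (slopePart F μ) μ := by
  have hτ := presW_frob (p := p) (k := k) a
  obtain ⟨hP, h⟩ := Groth.Agent.S17151.result p k a N F hF μ
  exact ⟨hP, (hasSlope_iff_restrict hτ F _ hP μ).2 h⟩

theorem le_slopePart {F : N →ₛₗ[Isoc.frob p k a] N} {A : Submodule K(p, k) N}
    (hA : ∀ x ∈ A, F x ∈ A) {μ : ℚ} (h : HasSlope F A μ) : A ≤ slopePart F μ := by
  have hτ := presW_frob (p := p) (k := k) a
  exact le_sSup ⟨hA, (hasSlope_iff_restrict hτ F A hA μ).1 h⟩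

/-- the quotient isocrystal. -/
theorem isIsoc_mapQ {F : N →ₛₗ[Isoc.frob p k a] N} (hF : IsIsoc F) (Q : Submodule K(p, k) N)
    (hQ : Q ≤ Q.comap F) : IsIsoc (Q.mapQ Q F hQ) := by
  have hτ := presW_frob (p := p) (k := k) a
  haveI := hF.finite
  refine ⟨inferInstance, ?_, ?_⟩
  · rw [injective_iff_map_eq_zero]
    intro x hx
    obtain ⟨x, rfl⟩ := Q.mkQ_surjective x
    have h1 : F x ∈ Q := by
      have : Q.mkQ (F x) = 0 := hx
      rwa [Submodule.mkQ_apply, Submodule.Quotient.mk_eq_zero] at this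
    obtain ⟨q, hq, hqx⟩ := exists_iterate_eq_of_mem_stable Q F (fun x hx => hQ hx) hτ
      hF.bijective.injective 1 h1
    have : q = x := hF.bijective.injective hqx
    rw [Submodule.mkQ_apply, Submodule.Quotient.mk_eq_zero, ← this]
    exact hq
  · intro y
    obtain ⟨y, rfl⟩ := Q.mkQ_surjective y
    obtain ⟨x, rfl⟩ := hF.bijective.surjective y
    exact ⟨Q.mkQ x, rfl⟩

/-- independence of the slope parts, finite form. -/
theorem eq_bot_of_le_sup_slopePart {F : N →ₛₗ[Isoc.frob p k a] N} (hF : IsIsoc F)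
    (S : Finset ℚ) (μ : ℚ) (hμ : μ ∉ S) (P : Submodule K(p, k) N) (hP : ∀ x ∈ P, F x ∈ P)
    (hPs : HasSlope F P μ) (hle : P ≤ S.sup (slopePart F)) : P = ⊥ := by
  classical
  have hτ := presW_frob (p := p) (k := k) a
  induction S using Finset.induction_on generalizing P with
  | empty =>
    rw [Finset.sup_empty] at hle
    exact eq_bot_iff.2 hle
  | insert ν S' hν ih =>
    rw [Finset.mem_insert, not_or] at hμ
    obtain ⟨hμν, hμS'⟩ := hμ
    rw [Finset.sup_insert] at hle
    set Q' := S'.sup (slopePart F) with hQ'def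
    have hQ'st : ∀ x ∈ Q', F x ∈ Q' :=
      stable_finset_sup S' (slopePart F) fun i => (slopePart_stable_hasSlope a hF i).1
    have hQ' : Q' ≤ Q'.comap F := fun x hx => hQ'st x hx
    have hFQ := isIsoc_mapQ a hF Q' hQ'
    have hf : ∀ x, Q'.mkQ (F x) = (Q'.mapQ Q' F hQ') (Q'.mkQ x) := fun x => rfl
    obtain ⟨hνst, hνs⟩ := slopePart_stable_hasSlope a hF ν
    have h1 : HasSlope (Q'.mapQ Q' F hQ') (P.map Q'.mkQ) μ := HasSlope.map hτ Q'.mkQ hf hPs
    have h2 : HasSlope (Q'.mapQ Q' F hQ') ((slopePart F ν).map Q'.mkQ) ν :=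
      HasSlope.map hτ Q'.mkQ hf hνs
    have h3 := inf_eq_bot_of_hasSlope a hFQ (map_stable Q'.mkQ hf hP) (map_stable Q'.mkQ hf hνst)
      hμν h1 h2
    have h4 : P.map Q'.mkQ ≤ (slopePart F ν).map Q'.mkQ := by
      calc P.map Q'.mkQ ≤ (slopePart F ν ⊔ Q').map Q'.mkQ := Submodule.map_mono hle
        _ = (slopePart F ν).map Q'.mkQ := by
            rw [Submodule.map_sup, Submodule.mkQ_map_self, sup_bot_eq]
    have h5 : P.map Q'.mkQ = ⊥ := by
      rw [← h3]
      exact (inf_eq_left.2 h4).symm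
    have h6 : P ≤ Q' := by
      intro x hx
      have h7 : Q'.mkQ x ∈ P.map Q'.mkQ := ⟨x, hx, rfl⟩
      rw [h5, Submodule.mem_bot, Submodule.mkQ_apply, Submodule.Quotient.mk_eq_zero] at h7
      exact h7
    exact ih hμS' P hP hPs h6

theorem iSupIndep_slopePart {F : N →ₛₗ[Isoc.frob p k a] N} (hF : IsIsoc F) :
    iSupIndep (fun μ : ℚ => slopePart F μ) := by
  classical
  rw [iSupIndep_iff_supIndep]
  intro s t _ μ _ hμt
  rw [disjoint_iff]
  obtain ⟨hst, hs⟩ := slopePart_stable_hasSlope a hF μ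
  have hst2 : ∀ x ∈ t.sup (slopePart F), F x ∈ t.sup (slopePart F) :=
    stable_finset_sup t (slopePart F) fun i => (slopePart_stable_hasSlope a hF i).1
  have hB : ∀ x ∈ slopePart F μ ⊓ t.sup (slopePart F), F x ∈ slopePart F μ ⊓ t.sup (slopePart F) :=
    fun x hx => ⟨hst x hx.1, hst2 x hx.2⟩
  exact eq_bot_of_le_sup_slopePart a hF t μ hμt _ hB (HasSlope.sub a hF hst hB inf_le_left hs)
    inf_le_right

/-- existence of the splitting for `σ^a`-isocrystals. -/
theorem exists_splitting [Nontrivial N] {F : N →ₛₗ[Isoc.frob p k a] N} (hF : IsIsoc F) :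
    ∃ (N' N'' : Submodule K(p, k) N) (μ : ℚ), (∀ x ∈ N', F x ∈ N') ∧ (∀ x ∈ N'', F x ∈ N'') ∧
      HasSlope F N' μ ∧ N' ⊔ N'' = ⊤ ∧ N'' ≠ ⊤ := by
  classical
  have hτ := presW_frob (p := p) (k := k) a
  haveI := hF.finite
  let b := Module.finBasis K(p, k) N
  let M₀ : Submodule (WittVector p k) N := Submodule.span (WittVector p k) (Set.range b)
  have hM₀ : M₀.IsLattice K(p, k) :=
    ⟨Submodule.fg_span (Set.finite_range _), by
      rw [Submodule.span_span_of_tower, Module.Basis.span_eq]⟩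
  obtain ⟨o, ho, lam, hlim⟩ := exists_ord_tendsto hτ F hF.bijective M₀ hM₀
  have hlam : IsFirstSlope F lam := ⟨M₀, hM₀, o, fun n _ => ho n, hlim⟩
  obtain ⟨d, hd⟩ := exists_isOrdP
    (Groth.Agent.Lib.Helper85.IsocStd.detCoeff_ne_zero hτ.surjective b F hF.bijective.injective)
  obtain ⟨r, s, M, hs, -, hlamrs, hM, hord, -⟩ :=
    Groth.Agent.S17146.result p k a N F hF _ b d hd lam hlam
  obtain ⟨N', N'', h⟩ := exists_splitting_of_ord hτ F hF.bijective M hM r s hs hord.1 (by
    intro n hn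
    rcases Nat.eq_zero_or_pos n with rfl | hn0
    · rw [Nat.mul_zero, latImg_zero, Nat.cast_zero, mul_zero, zero_add] at hn
      have := le_of_pPow_le_pPow hM.fg (ne_bot_of_span_eq_top hM.span_eq_top) (a := 0) (b := 1)
        (by rwa [pPow_zero])
      omega
    · have h3 := le_firstSlope_of_latImg_le hτ F hF.bijective hlam M hM (Nat.mul_pos hs hn0) hn
      rw [hlamrs] at h3
      have hs' : (0 : ℝ) < s := by exact_mod_cast hs
      have hn' : (0 : ℝ) < n := by exact_mod_cast hn0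
      rw [div_le_div_iff₀ (by positivity) hs'] at h3
      push_cast at h3
      nlinarith)
  exact ⟨N', N'', _, h⟩

end frob

section span

variable {p : ℕ} [Fact p.Prime] {k : Type u} [Field k] [CharP k p] [PerfectRing k p]

/-- the slope parts span (strong induction on the dimension). -/
theorem iSup_slopePart_eq_top_aux (a : ℤ) : ∀ (n : ℕ) (N : Type v) [AddCommGroup N]
    [Module (WittVector p k) N] [Module K(p, k) N] [IsScalarTower (WittVector p k) K(p, k) N]
    (F : N →ₛₗ[Isoc.frob p k a] N), IsIsoc F → Module.finrank K(p, k) N = n →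
    ⨆ μ : ℚ, slopePart F μ = ⊤ := by
  intro n
  induction n using Nat.strong_induction_on with
  | _ n ih =>
    intro N _ _ _ _ F hF hn
    have hτ := presW_frob (p := p) (k := k) a
    haveI := hF.finite
    rcases subsingleton_or_nontrivial N with hsub | hnt
    · exact Subsingleton.elim _ _
    obtain ⟨N', N'', μ₀, hN', hN'', hs, hsup, hne⟩ := exists_splitting a hF
    have h1 : N' ≤ ⨆ μ : ℚ, slopePart F μ := (le_slopePart a hN' hs).trans (le_iSup _ μ₀)
    have hlt : Module.finrank K(p, k) N'' < n := by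
      rw [← hn]
      exact Submodule.finrank_lt hne
    have hF'' := isIsoc_restrict hτ hF N'' hN''
    have h2 := ih _ hlt N'' (F.restrict hN'') hF'' rfl
    have h3 : N'' ≤ ⨆ μ : ℚ, slopePart F μ := by
      have e : N'' = (⊤ : Submodule K(p, k) N'').map N''.subtype := by
        rw [Submodule.map_top, Submodule.range_subtype]
      rw [e, ← h2, Submodule.map_iSup]
      refine iSup_le fun μ => ?_
      obtain ⟨hst, hsl⟩ := slopePart_stable_hasSlope a hF'' μ
      have hf : ∀ x, N''.subtype ((F.restrict hN'') x) = F (N''.subtype x) := fun x => rfl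
      exact (le_slopePart a (map_stable N''.subtype hf hst) (HasSlope.map hτ N''.subtype hf hsl)).trans
        (le_iSup _ μ)
    rw [eq_top_iff, ← hsup]
    exact sup_le h1 h3

variable {N : Type v} [AddCommGroup N] [Module (WittVector p k) N] [Module K(p, k) N]
  [IsScalarTower (WittVector p k) K(p, k) N]

theorem iSup_slopePart_eq_top (a : ℤ) {F : N →ₛₗ[Isoc.frob p k a] N} (hF : IsIsoc F) :
    ⨆ μ : ℚ, slopePart F μ = ⊤ :=
  iSup_slopePart_eq_top_aux a _ N F hF rfl

theorem isInternal_slopePart (a : ℤ) {F : N →ₛₗ[Isoc.frob p k a] N} (hF : IsIsoc F) :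
    DirectSum.IsInternal (fun μ : ℚ => slopePart F μ) :=
  DirectSum.isInternal_submodule_of_iSupIndep_of_iSup_eq_top (iSupIndep_slopePart a hF)
    (iSup_slopePart_eq_top a hF)

end span

end Groth.Agent.Lib.Helper85.IsocSlope
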