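import Mathlib
import Groth.Agent.Lib.Helper82.SigmaLinAC

/-!
# Solvability conditions (h2), (h3) of the SigmaLin family over an algebraically closed field
of characteristic `p`, for `σ = Frobenius ^ ν` (`x ↦ x ^ (p ^ ν)`), `ν ≥ 1`.
-/

namespace Groth.Agent.Lib.Helper85.IterFrob

open Polynomial Groth.Agent.Lib.Helper82.SigmaLinAC

variable (p : ℕ) [Fact p.Prime] (k : Type*) [Field k] [CharP k p] [IsAlgClosed k]

theorem iterate_iterateFrobenius (ν m : ℕ) (x : k) :
    (⇑(iterateFrobenius k p ν))^[m] x = x ^ ((p ^ ν) ^ m) := by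
  induction m generalizing x with
  | zero => simp
  | succ m ih =>
    rw [Function.iterate_succ_apply, ih, iterateFrobenius_def, ← pow_mul, pow_succ', ]

theorem h3_iterFrob (ν : ℕ) (hν : 1 ≤ ν) (c : k) :
    ∃ y : k, iterateFrobenius k p ν y - y + c = 0 := by
  have hp : p.Prime := Fact.out
  have hq : 2 ≤ p ^ ν := by
    calc 2 ≤ p := hp.two_le
      _ = p ^ 1 := (pow_one p).symm
      _ ≤ p ^ ν := Nat.pow_le_pow_right hp.pos hν
  set q := p ^ ν with hqdef
  have hcoef : (X ^ q - X + C c : k[X]).coeff q = 1 := by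
    rw [coeff_add, coeff_sub, coeff_X_pow, if_pos rfl, coeff_X, if_neg (by omega), coeff_C,
      if_neg (by omega)]
    ring
  have hdeg : (X ^ q - X + C c : k[X]).degree ≠ 0 := by
    intro hdeg0
    have h1 := eq_C_of_degree_eq_zero hdeg0
    have h2 : (X ^ q - X + C c : k[X]).coeff q = 0 := by
      rw [h1, coeff_C, if_neg (by omega)]
    rw [hcoef] at h2
    exact one_ne_zero h2
  obtain ⟨y, hy⟩ := IsAlgClosed.exists_root _ hdeg
  refine ⟨y, ?_⟩
  rw [iterateFrobenius_def]
  simpa [IsRoot.def] using hy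

theorem h2_iterFrob (ν : ℕ) (hν : 1 ≤ ν) (n : ℕ) (b : Fin (n + 1) → k) (hb : b ≠ 0) :
    ∃ x : k, x ≠ 0 ∧ x = ∑ i : Fin (n + 1),
      (⇑(iterateFrobenius k p ν))^[i.val + 1] x *
        (⇑(iterateFrobenius k p ν))^[i.val] (b (Fin.rev i)) := by
  have hp : p.Prime := Fact.out
  have hq : 2 ≤ p ^ ν := by
    calc 2 ≤ p := hp.two_le
      _ = p ^ 1 := (pow_one p).symm
      _ ≤ p ^ ν := Nat.pow_le_pow_right hp.pos hν
  set q := p ^ ν with hqdef
  set c : Fin (n + 1) → k := fun i => (⇑(iterateFrobenius k p ν))^[i.val] (b (Fin.rev i)) with hc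
  set E : Fin (n + 1) → ℕ := fun i => q ^ (i.val + 1) with hE
  have hEinj : Function.Injective E := by
    intro i j hij
    have := Nat.pow_right_injective hq hij
    apply Fin.ext
    omega
  obtain ⟨l, hl⟩ : ∃ l, b l ≠ 0 := by
    by_contra h; push Not at h; exact hb (funext h)
  set j := Fin.rev l with hj
  have hcj : c j ≠ 0 := by
    rw [hc]; simp only
    rw [hj, Fin.rev_rev, iterate_iterateFrobenius]
    exact pow_ne_zero _ hl
  set P : k[X] := X - ∑ i, C (c i) * X ^ (E i) with hP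
  have hEne : ∀ i, E i ≠ 1 := by
    intro i h
    have h1 : q ^ (i.val + 1) = q ^ 0 := by rw [pow_zero]; exact h
    have := Nat.pow_right_injective hq h1
    omega
  have hco1 : P.coeff 1 ≠ 0 := by
    rw [hP, coeff_sub, coeff_X_one, coeff_sum_monomials_of_notMem c E _ hEne, sub_zero]
    exact one_ne_zero
  have hco2 : P.coeff (E j) ≠ 0 := by
    rw [hP, coeff_sub, coeff_X, if_neg (hEne j).symm, coeff_sum_monomials c E hEinj, zero_sub]
    exact neg_ne_zero.mpr hcj
  obtain ⟨z, hz0, hz⟩ := exists_ne_zero_root P _ _ (hEne j).symm hco1 hco2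
  refine ⟨z, hz0, ?_⟩
  rw [hP, eval_sub, eval_X, eval_finsetSum, sub_eq_zero] at hz
  conv_lhs => rw [hz]
  apply Finset.sum_congr rfl
  intro i _
  rw [iterate_iterateFrobenius]
  simp only [eval_mul, eval_C, eval_pow, eval_X, hE]
  rw [mul_comm]

end Groth.Agent.Lib.Helper85.IterFrob
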