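import Mathlib
import Groth.Prelude.Def_Isoc
import Groth.Agent.Lib.Helper85.IsocLattice
import Groth.Agent.Lib.Helper85.IsocSlope
import Groth.Agent.S16854

/-!
# Lang's lemma for isoclinic isocrystals over an algebraically closed field
-/

set_option linter.unusedSectionVars false
set_option linter.style.haveILetI false

open scoped Pointwise Isocrystal
open Isoc

namespace Groth.Agent.Lib.Helper85.IsocLang

open Groth.Agent.Lib.Helper85.IsocLattice Groth.Agent.Lib.Helper85.IsocSlope

universe u v

section witt

variable {p : ℕ} [Fact p.Prime] {k : Type u} [Field k] [CharP k p] [PerfectRing k p]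

/-- the automorphism of `W` induced by `σ^a`. -/
noncomputable abbrev θ (p : ℕ) [Fact p.Prime] (k : Type u) [Field k] [CharP k p] [PerfectRing k p]
    (a : ℤ) : WittVector p k ≃+* WittVector p k := WittVector.frobeniusEquiv p k ^ a

theorem frob_pow_algebraMap (a : ℤ) (n : ℕ) (w : WittVector p k) :
    (Isoc.frob p k a ^ n) (algebraMap (WittVector p k) K(p, k) w) =
      algebraMap (WittVector p k) K(p, k) ((⇑(θ p k a))^[n] w) := by
  induction n generalizing w with
  | zero => simp
  | succ n ih =>
    rw [pow_succ, RingHom.mul_def, RingHom.comp_apply, Isoc.frob_algebraMap, ih,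
      Function.iterate_succ_apply]

theorem θ_natCast_iterate (a' h : ℕ) (w : WittVector p k) :
    (⇑(θ p k (a' : ℤ)))^[h] w =
      (⇑(WittVector.frobenius : WittVector p k →+* WittVector p k))^[a' * h] w := by
  have h1 : ⇑(θ p k (a' : ℤ)) =
      (⇑(WittVector.frobenius : WittVector p k →+* WittVector p k))^[a'] := by
    show ⇑(WittVector.frobeniusEquiv p k ^ (a' : ℤ)) = _
    rw [zpow_natCast, RingAut.coe_pow]
    rfl
  rw [h1, ← Function.iterate_mul]

theorem θ_neg_natCast_iterate (a' h : ℕ) (w : WittVector p k) :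
    (⇑(θ p k (-(a' : ℤ))))^[h]
      ((⇑(WittVector.frobenius : WittVector p k →+* WittVector p k))^[a' * h] w) = w := by
  have h1 : Function.LeftInverse (⇑(θ p k (-(a' : ℤ))))
      ((⇑(WittVector.frobenius : WittVector p k →+* WittVector p k))^[a']) := by
    intro x
    show (WittVector.frobeniusEquiv p k ^ (-(a' : ℤ))) _ = x
    rw [zpow_neg, zpow_natCast, RingAut.inv_apply, RingEquiv.symm_apply_eq, RingAut.coe_pow]
    rfl
  have h2 := h1.iterate h
  rw [Function.iterate_mul]
  exact h2 w

end witt

section iSup

variable {p : ℕ} [Fact p.Prime] {k : Type u} [Field k] [CharP k p] [PerfectRing k p]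
variable {N : Type v} [AddCommGroup N] [Module (WittVector p k) N] [Module K(p, k) N]
  [IsScalarTower (WittVector p k) K(p, k) N]
variable {τ : K(p, k) →+* K(p, k)}

theorem latImg_iSup {ι : Sort*} (hτ : PresW τ) (F : N →ₛₗ[τ] N) (s : ℕ)
    (f : ι → Submodule (WittVector p k) N) :
    latImg F s (⨆ i, f i) = ⨆ i, latImg F s (f i) := by
  apply le_antisymm
  · intro y hy
    rw [mem_latImg_iff hτ] at hy
    obtain ⟨x, hx, rfl⟩ := hy
    refine Submodule.iSup_induction f (motive := fun x => (⇑F)^[s] x ∈ ⨆ i, latImg F s (f i)) hx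
      ?_ ?_ ?_
    · intro i x hx
      exact (le_iSup (fun i => latImg F s (f i)) i) (iterate_mem_latImg F s hx)
    · rw [← Isoc.iter_apply, map_zero]; exact Submodule.zero_mem _
    · intro x y hx hy
      rw [← Isoc.iter_apply, map_add]; exact Submodule.add_mem _ hx hy
  · exact iSup_le fun i => latImg_mono F s (le_iSup f i)

end iSup

section lang

variable {p : ℕ} [Fact p.Prime] {k : Type u} [Field k] [CharP k p] [IsAlgClosed k]
variable {N : Type v} [AddCommGroup N] [Module (WittVector p k) N] [Module K(p, k) N]
  [IsScalarTower (WittVector p k) K(p, k) N]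

/-- Lang's lemma: if `F^(h t) M = p^(d t) M` for a lattice `M` then the vectors with
`F^h x = p^d x` span `N` (over an algebraically closed field, for `a ≠ 0`). -/
theorem span_fixed_eq_top (a : ℤ) (ha : a ≠ 0) (F : N →ₛₗ[Isoc.frob p k a] N) (hF : IsIsoc F)
    (M : Submodule (WittVector p k) N) (hM : M.IsLattice K(p, k)) (d : ℤ) (h t : ℕ) (hh : 0 < h)
    (ht : 0 < t) (hFM : latImg F (h * t) M = pPow (d * t) M) :
    Submodule.span K(p, k) {x : N | (⇑F)^[h] x = ((p : K(p, k)) ^ d) • x} = ⊤ := by
  classical
  haveI : PerfectRing k p := inferInstance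
  have hτ := presW_frob (p := p) (k := k) a
  have hτh := hτ.pow h
  haveI := hF.finite
  haveI := hM
  set G := twist F d h with hG
  have hGinj : Function.Injective G := twist_injective F hF.bijective.injective d h
  -- `G^t M = M`
  have hGt : latImg G t M = M := by
    rw [hG, latImg_twist hτ, hFM, ← pPow_add]
    have e : -d * (t : ℤ) + d * t = 0 := by ring
    rw [e, pPow_zero]
  -- the `G`-stable lattice
  let Mp : Submodule (WittVector p k) N := ⨆ i : Fin t, latImg G i.val M
  have hMle : M ≤ Mp := by
    have := le_iSup (fun i : Fin t => latImg G i.val M) ⟨0, ht⟩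
    simpa [latImg_zero] using this
  have hMpfg : Mp.FG := Submodule.fg_iSup _ fun i => fg_latImg hτh G i.val hM.fg
  haveI hMp : Mp.IsLattice K(p, k) := Submodule.IsLattice.of_le_of_isLattice_of_fg K(p, k) hMle hMpfg
  have hGMp : latImg G 1 Mp = Mp := by
    rw [latImg_iSup hτh]
    apply le_antisymm
    · refine iSup_le fun i => ?_
      rw [← latImg_add hτh]
      by_cases hi : 1 + i.val < t
      · exact le_iSup (fun i : Fin t => latImg G i.val M) ⟨1 + i.val, hi⟩
      · have e : 1 + i.val = t := by have := i.2; omega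
        rw [e, hGt]
        exact hMle
    · refine iSup_le fun j => ?_
      by_cases hj : j.val = 0
      · rw [hj, latImg_zero]
        have e : M = latImg G 1 (latImg G (t - 1) M) := by
          rw [← latImg_add hτh]
          have : 1 + (t - 1) = t := by omega
          rw [this, hGt]
        exact (le_of_eq e).trans
          (le_iSup (fun i : Fin t => latImg G 1 (latImg G i.val M)) ⟨t - 1, by omega⟩)
      · have e : latImg G j.val M = latImg G 1 (latImg G (j.val - 1) M) := by
          rw [← latImg_add hτh]
          congr 1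
          omega
        exact (le_of_eq e).trans (le_iSup (fun i : Fin t => latImg G 1 (latImg G i.val M))
          ⟨j.val - 1, by have := j.2; omega⟩)
  -- the restricted additive bijection
  have hGmem : ∀ x : Mp, G (x : N) ∈ Mp := by
    intro x
    have : (⇑G)^[1] (x : N) ∈ latImg G 1 Mp := iterate_mem_latImg G 1 x.2
    rw [hGMp] at this
    exact this
  let g : Mp →+ Mp :=
    { toFun := fun x => ⟨G (x : N), hGmem x⟩
      map_zero' := by ext; simp
      map_add' := fun x y => by ext; simp }
  have hgcoe : ∀ x : Mp, ((g x : Mp) : N) = G (x : N) := fun x => rfl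
  have hgbij : Function.Bijective g := by
    constructor
    · intro x y hxy
      apply Subtype.ext
      apply hGinj
      exact congrArg Subtype.val hxy
    · intro y
      have : (y : N) ∈ latImg G 1 Mp := by rw [hGMp]; exact y.2
      rw [mem_latImg_iff hτh] at this
      obtain ⟨m, hm, hmy⟩ := this
      exact ⟨⟨m, hm⟩, Subtype.ext hmy⟩
  have hgsl : ∀ (w : WittVector p k) (x : Mp), g (w • x) = ((⇑(θ p k a))^[h] w) • g x := by
    intro w x
    apply Subtype.ext
    show G (w • (x : N)) = ((⇑(θ p k a))^[h] w) • G (x : N)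
    rw [← algebraMap_smul K(p, k) w (x : N), G.map_smulₛₗ, frob_pow_algebraMap, algebraMap_smul]
  -- fixed basis
  have hfix : ∃ (ι : Type v) (b : Module.Basis ι (WittVector p k) Mp), ∀ i, g (b i) = b i := by
    rcases lt_or_gt_of_ne ha with hneg | hpos
    · -- negative `a`: use the inverse
      obtain ⟨a', ha'⟩ : ∃ a' : ℕ, a = -(a' : ℤ) := ⟨(-a).toNat, by omega⟩
      have ha'pos : 0 < a' := by omega
      let ge : Mp ≃+ Mp := AddEquiv.ofBijective g hgbij
      have hge : ∀ x, ge x = g x := fun x => rfl
      have hsl : ∀ (w : WittVector p k) (m : Mp), ge.symm.toAddMonoidHom (w • m) =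
          ((⇑(WittVector.frobenius : WittVector p k →+* WittVector p k))^[a' * h] w) •
            ge.symm.toAddMonoidHom m := by
        intro w m
        show ge.symm (w • m) = _ • ge.symm m
        rw [AddEquiv.symm_apply_eq, hge, hgsl, ← hge, AddEquiv.apply_symm_apply, ha',
          θ_neg_natCast_iterate]
      obtain ⟨ι, b, hb⟩ := Groth.Agent.S16854.result k p (a' * h) (Nat.mul_pos ha'pos hh) Mp
        ge.symm.toAddMonoidHom hsl ge.symm.bijective
      refine ⟨ι, b, fun i => ?_⟩
      have := hb i
      have h2 : ge.symm (b i) = b i := this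
      rw [AddEquiv.symm_apply_eq] at h2
      exact h2.symm
    · obtain ⟨a', ha'⟩ : ∃ a' : ℕ, a = (a' : ℤ) := ⟨a.toNat, by omega⟩
      have ha'pos : 0 < a' := by omega
      have hsl : ∀ (w : WittVector p k) (m : Mp), g (w • m) =
          ((⇑(WittVector.frobenius : WittVector p k →+* WittVector p k))^[a' * h] w) • g m := by
        intro w m
        rw [hgsl, ha', θ_natCast_iterate]
      exact Groth.Agent.S16854.result k p (a' * h) (Nat.mul_pos ha'pos hh) Mp g hsl hgbij
  obtain ⟨ι, b, hb⟩ := hfix
  -- conclusion
  rw [eq_top_iff, ← hMp.span_eq_top, Submodule.span_le]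
  intro x hx
  have hx' : (⟨x, hx⟩ : Mp) ∈ Submodule.span (WittVector p k) (Set.range b) := by
    rw [b.span_eq]; trivial
  have key : ∀ y : Mp, y ∈ Submodule.span (WittVector p k) (Set.range b) →
      (y : N) ∈ Submodule.span K(p, k) {x : N | (⇑F)^[h] x = ((p : K(p, k)) ^ d) • x} := by
    intro y hy
    refine Submodule.span_induction ?_ ?_ ?_ ?_ hy
    · rintro _ ⟨i, rfl⟩
      apply Submodule.subset_span
      have h1 : G ((b i : Mp) : N) = ((b i : Mp) : N) := by
        rw [← hgcoe, hb i]
      rw [hG, twist_apply] at h1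
      show (⇑F)^[h] ((b i : Mp) : N) = ((p : K(p, k)) ^ d) • ((b i : Mp) : N)
      rw [← h1, smul_smul, ← zpow_add₀ p_ne_zero, add_neg_cancel, zpow_zero, one_smul, h1]
    · exact Submodule.zero_mem _
    · intro y z _ _ hy hz
      exact Submodule.add_mem _ hy hz
    · intro w y _ hy
      show ((w • y : Mp) : N) ∈ _
      rw [Submodule.coe_smul, ← algebraMap_smul K(p, k) w (y : N)]
      exact Submodule.smul_mem _ _ hy
  exact key ⟨x, hx⟩ hx'

end lang

end Groth.Agent.Lib.Helper85.IsocLang
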