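import Mathlib
import Groth.Prelude.Def_Isoc
import Groth.Agent.Lib.Helper85.IsocLattice
import Groth.Agent.Lib.Helper85.IsocStd
import Groth.Agent.Lib.Helper85.IsocSlope
import Groth.Agent.Lib.Helper85.IsocLang
import Groth.Agent.S17153

/-!
# Semisimplicity of isocrystals over an algebraically closed field
-/

set_option linter.unusedSectionVars false
set_option linter.style.haveILetI false

open scoped Pointwise Isocrystal
open Isoc

namespace Groth.Agent.Lib.Helper85.IsocSemisimple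

open Groth.Agent.Lib.Helper85.IsocLattice Groth.Agent.Lib.Helper85.IsocSlope
  Groth.Agent.Lib.Helper85.IsocLang

universe u v

section cyclic

variable {p : ℕ} [Fact p.Prime] {k : Type u} [Field k] [CharP k p] [PerfectRing k p]
variable {N : Type v} [AddCommGroup N] [Module K(p, k) N]
variable {τ : K(p, k) →+* K(p, k)}

/-- the map `K^h → N`, `e_i ↦ F^i x`. -/
noncomputable def cyc (F : N →ₛₗ[τ] N) (h : ℕ) (x : N) : (Fin h → K(p, k)) →ₗ[K(p, k)] N :=
  Fintype.linearCombination K(p, k) (fun i : Fin h => (⇑F)^[i.val] x)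

theorem cyc_apply (F : N →ₛₗ[τ] N) (h : ℕ) (x : N) (c : Fin h → K(p, k)) :
    cyc F h x c = ∑ i, c i • (⇑F)^[i.val] x :=
  Fintype.linearCombination_apply _ _ _

theorem cyc_single_zero (F : N →ₛₗ[τ] N) (n : ℕ) (x : N) :
    cyc F (n + 1) x (Pi.single 0 1) = x := by
  rw [cyc_apply, Finset.sum_eq_single 0]
  · simp
  · intro i _ hi
    rw [Pi.single_eq_of_ne hi, zero_smul]
  · simp

/-- equivariance of `cyc` when `F^h x = p^d x`. -/
theorem cyc_stdIsoc (F : N →ₛₗ[τ] N) (d : ℤ) (n : ℕ) (x : N)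
    (hx : (⇑F)^[n + 1] x = ((p : K(p, k)) ^ d) • x) (c : Fin (n + 1) → K(p, k)) :
    cyc F (n + 1) x (stdIsoc τ d (n + 1) c) = F (cyc F (n + 1) x c) := by
  rw [cyc_apply, cyc_apply, map_sum, ← Equiv.sum_comp (finRotate (n + 1))]
  refine Finset.sum_congr rfl fun j _ => ?_
  rw [stdIsoc_apply, Equiv.symm_apply_apply, F.map_smulₛₗ, ← Function.iterate_succ_apply' (⇑F)]
  have hv : ((finRotate (n + 1)) j).val = if j = Fin.last n then 0 else j.val + 1 := by
    rw [finRotate_apply, Fin.val_add_one]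
  by_cases hj : j = Fin.last n
  · rw [hv, if_pos hj, if_pos rfl, Function.iterate_zero_apply, hj, Fin.val_last, hx, smul_smul,
      mul_comm]
  · rw [hv, if_neg hj, if_neg (Nat.succ_ne_zero _), one_mul]

theorem range_cyc_stable (F : N →ₛₗ[τ] N) (d : ℤ) (n : ℕ) (x : N)
    (hx : (⇑F)^[n + 1] x = ((p : K(p, k)) ^ d) • x) :
    ∀ y ∈ LinearMap.range (cyc F (n + 1) x), F y ∈ LinearMap.range (cyc F (n + 1) x) := by
  rintro _ ⟨c, rfl⟩
  exact ⟨stdIsoc τ d (n + 1) c, cyc_stdIsoc F d n x hx c⟩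

theorem mem_range_cyc (F : N →ₛₗ[τ] N) (n : ℕ) (x : N) :
    x ∈ LinearMap.range (cyc F (n + 1) x) :=
  ⟨Pi.single 0 1, cyc_single_zero F n x⟩

end cyclic

section simple

variable {p : ℕ} [Fact p.Prime] {k : Type u} [Field k] [CharP k p] [PerfectRing k p]
variable {N : Type v} [AddCommGroup N] [Module K(p, k) N]

/-- the cyclic subspace generated by a vector with `F^h x = p^d x`, `gcd(d, h) = 1`, has no
non-trivial `F`-stable subspaces. -/
theorem range_cyc_simple (a : ℤ) (F : N →ₛₗ[Isoc.frob p k a] N) (d : ℤ) (n : ℕ)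
    (hdh : Int.gcd d (n + 1 : ℕ) = 1) (x : N)
    (hx : (⇑F)^[n + 1] x = ((p : K(p, k)) ^ d) • x)
    (Q : Submodule K(p, k) N) (hQ : ∀ y ∈ Q, F y ∈ Q)
    (hle : Q ≤ LinearMap.range (cyc F (n + 1) x)) :
    Q = ⊥ ∨ Q = LinearMap.range (cyc F (n + 1) x) := by
  let Q' : Submodule K(p, k) (Fin (n + 1) → K(p, k)) := Q.comap (cyc F (n + 1) x)
  have hQ' : ∀ c ∈ Q', stdIsoc (Isoc.frob p k a) d (n + 1) c ∈ Q' := by
    intro c hc
    show cyc F (n + 1) x (stdIsoc (Isoc.frob p k a) d (n + 1) c) ∈ Q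
    rw [cyc_stdIsoc F d n x hx c]
    exact hQ _ hc
  have hmap : Q'.map (cyc F (n + 1) x) = Q := by
    rw [Submodule.map_comap_eq]
    exact inf_eq_right.2 hle
  rcases Groth.Agent.S17153.result p k a d (n + 1) (Nat.succ_pos n) hdh Q' hQ' with h1 | h1
  · left
    rw [← hmap, h1, Submodule.map_bot]
  · right
    rw [← hmap, h1, Submodule.map_top]

theorem stable_sup' {τ : K(p, k) →+* K(p, k)} {F : N →ₛₗ[τ] N} {A B : Submodule K(p, k) N}
    (hA : ∀ x ∈ A, F x ∈ A) (hB : ∀ x ∈ B, F x ∈ B) : ∀ x ∈ A ⊔ B, F x ∈ A ⊔ B := by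
  intro x hx
  obtain ⟨a, ha, b, hb, rfl⟩ := Submodule.mem_sup.1 hx
  rw [map_add]
  exact Submodule.add_mem_sup (hA a ha) (hB b hb)

/-- in a space spanned by `F`-stable subspaces without non-trivial `F`-stable subspaces, every
`F`-stable subspace has an `F`-stable complement. -/
theorem exists_isCompl_of_sSup_simple {τ : K(p, k) →+* K(p, k)} [Module.Finite K(p, k) N]
    (F : N →ₛₗ[τ] N)
    (𝒮 : Set (Submodule K(p, k) N)) (h𝒮st : ∀ S ∈ 𝒮, ∀ y ∈ S, F y ∈ S)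
    (h𝒮 : ∀ S ∈ 𝒮, ∀ Q : Submodule K(p, k) N, (∀ y ∈ Q, F y ∈ Q) → Q ≤ S → Q = ⊥ ∨ Q = S)
    (htop : sSup 𝒮 = ⊤) (P : Submodule K(p, k) N) (hP : ∀ y ∈ P, F y ∈ P) :
    ∃ Q : Submodule K(p, k) N, (∀ y ∈ Q, F y ∈ Q) ∧ IsCompl P Q := by
  classical
  have key : ∀ m : ℕ, ∀ Q : Submodule K(p, k) N, (∀ y ∈ Q, F y ∈ Q) → P ⊓ Q = ⊥ →
      Module.finrank K(p, k) N - Module.finrank K(p, k) Q = m →
      ∃ Q' : Submodule K(p, k) N, (∀ y ∈ Q', F y ∈ Q') ∧ P ⊓ Q' = ⊥ ∧ P ⊔ Q' = ⊤ := by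
    intro m
    induction m using Nat.strong_induction_on with
    | _ m ih =>
      intro Q hQ hPQ hm
      by_cases htop' : P ⊔ Q = ⊤
      · exact ⟨Q, hQ, hPQ, htop'⟩
      obtain ⟨S, hS, hSle⟩ : ∃ S ∈ 𝒮, ¬ S ≤ P ⊔ Q := by
        by_contra hcon
        push Not at hcon
        apply htop'
        rw [eq_top_iff, ← htop]
        exact sSup_le hcon
      have hPQst : ∀ y ∈ P ⊔ Q, F y ∈ P ⊔ Q := stable_sup' hP hQ
      have hinf : S ⊓ (P ⊔ Q) = ⊥ := by
        rcases h𝒮 S hS (S ⊓ (P ⊔ Q)) (fun y hy => ⟨h𝒮st S hS y hy.1, hPQst y hy.2⟩) inf_le_left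
          with h1 | h1
        · exact h1
        · exact absurd (inf_eq_left.1 h1) hSle
      have hQS : ∀ y ∈ Q ⊔ S, F y ∈ Q ⊔ S := stable_sup' hQ (h𝒮st S hS)
      have hPQS : P ⊓ (Q ⊔ S) = ⊥ := by
        rw [eq_bot_iff]
        rintro y ⟨hyP, hyQS⟩
        obtain ⟨q, hq, s, hs, rfl⟩ := Submodule.mem_sup.1 hyQS
        have hs' : s ∈ S ⊓ (P ⊔ Q) := by
          refine ⟨hs, ?_⟩
          have e : s = (q + s) + -q := by abel
          rw [e]
          exact Submodule.add_mem_sup hyP (Q.neg_mem hq)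
        rw [hinf, Submodule.mem_bot] at hs'
        rw [hs', add_zero] at hyP ⊢
        have : q ∈ P ⊓ Q := ⟨hyP, hq⟩
        rwa [hPQ] at this
      have hlt : Q < Q ⊔ S := by
        refine lt_of_le_of_ne le_sup_left ?_
        intro heq
        apply hSle
        have : S ≤ Q := by rw [heq]; exact le_sup_right
        exact this.trans le_sup_right
      have hfr := Submodule.finrank_lt_finrank_of_lt hlt
      have hle := Submodule.finrank_le (Q ⊔ S)
      exact ih (Module.finrank K(p, k) N - Module.finrank K(p, k) (Q ⊔ S : Submodule K(p, k) N))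
        (by omega) (Q ⊔ S) hQS hPQS rfl
  obtain ⟨Q, hQ, h1, h2⟩ := key _ ⊥ (fun y hy => by
    rw [Submodule.mem_bot] at hy ⊢; rw [hy, map_zero]) (inf_bot_eq _) rfl
  exact ⟨Q, hQ, ⟨disjoint_iff.2 h1, codisjoint_iff.2 h2⟩⟩

theorem range_cyc_stable' {τ : K(p, k) →+* K(p, k)} (F : N →ₛₗ[τ] N) (d : ℤ) (h : ℕ) (hh : 0 < h)
    (x : N) (hx : (⇑F)^[h] x = ((p : K(p, k)) ^ d) • x) :
    ∀ y ∈ LinearMap.range (cyc F h x), F y ∈ LinearMap.range (cyc F h x) := by
  obtain ⟨n, rfl⟩ := Nat.exists_eq_succ_of_ne_zero hh.ne'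
  exact range_cyc_stable F d n x hx

theorem mem_range_cyc' {τ : K(p, k) →+* K(p, k)} (F : N →ₛₗ[τ] N) (h : ℕ) (hh : 0 < h) (x : N) :
    x ∈ LinearMap.range (cyc F h x) := by
  obtain ⟨n, rfl⟩ := Nat.exists_eq_succ_of_ne_zero hh.ne'
  exact mem_range_cyc F n x

theorem range_cyc_simple' (a : ℤ) (F : N →ₛₗ[Isoc.frob p k a] N) (d : ℤ) (h : ℕ) (hh : 0 < h)
    (hdh : Int.gcd d h = 1) (x : N)
    (hx : (⇑F)^[h] x = ((p : K(p, k)) ^ d) • x)
    (Q : Submodule K(p, k) N) (hQ : ∀ y ∈ Q, F y ∈ Q)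
    (hle : Q ≤ LinearMap.range (cyc F h x)) :
    Q = ⊥ ∨ Q = LinearMap.range (cyc F h x) := by
  obtain ⟨n, rfl⟩ := Nat.exists_eq_succ_of_ne_zero hh.ne'
  exact range_cyc_simple a F d n hdh x hx Q hQ hle

theorem rat_gcd (μ : ℚ) : Int.gcd μ.num (μ.den : ℤ) = 1 := by
  have := μ.reduced
  rw [Nat.Coprime] at this
  rw [Int.gcd, Int.natAbs_natCast]
  exact this

/-- `r / s = μ` forces `r = num t`, `s = den t`. -/
theorem exists_mul_of_div_eq (μ : ℚ) (r : ℤ) (s : ℕ) (hs : 0 < s) (h : (r : ℚ) / s = μ) :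
    ∃ t : ℕ, 0 < t ∧ s = μ.den * t ∧ r = μ.num * (t : ℤ) := by
  have hsQ : (s : ℚ) ≠ 0 := by exact_mod_cast hs.ne'
  have hdQ : (μ.den : ℚ) ≠ 0 := by exact_mod_cast μ.den_pos.ne'
  have h1 : (r : ℚ) * μ.den = μ.num * s := by
    have h2 := Rat.num_div_den μ
    rw [← h2] at h
    field_simp at h
    linarith
  have h1' : r * (μ.den : ℤ) = μ.num * (s : ℤ) := by exact_mod_cast h1
  have hcop : IsCoprime (μ.den : ℤ) μ.num := by
    rw [Int.isCoprime_iff_gcd_eq_one, Int.gcd_comm]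
    exact rat_gcd μ
  have hdvd : (μ.den : ℤ) ∣ (s : ℤ) := by
    apply hcop.dvd_of_dvd_mul_left
    rw [← h1']
    exact dvd_mul_left _ _
  have hdvd' : μ.den ∣ s := by exact_mod_cast hdvd
  obtain ⟨t, ht⟩ := hdvd'
  have htpos : 0 < t := by
    rcases Nat.eq_zero_or_pos t with h0 | h0
    · rw [h0, Nat.mul_zero] at ht; omega
    · exact h0
  refine ⟨t, htpos, ht, ?_⟩
  have hd0 : (μ.den : ℤ) ≠ 0 := by exact_mod_cast μ.den_pos.ne'
  apply mul_right_cancel₀ hd0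
  rw [h1', ht]
  push_cast
  ring

end simple

section algclosed

variable {p : ℕ} [Fact p.Prime] {k : Type u} [Field k] [CharP k p] [IsAlgClosed k]
variable {N : Type v} [AddCommGroup N] [Module (WittVector p k) N] [Module K(p, k) N]
  [IsScalarTower (WittVector p k) K(p, k) N]

/-- the family of cyclic simple sub-isocrystals. -/
def simpleFamily (a : ℤ) (F : N →ₛₗ[Isoc.frob p k a] N) : Set (Submodule K(p, k) N) :=
  {S | ∃ (μ : ℚ) (x : N), (⇑F)^[μ.den] x = ((p : K(p, k)) ^ μ.num) • x ∧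
    S = LinearMap.range (cyc F μ.den x)}

theorem simpleFamily_stable (a : ℤ) (F : N →ₛₗ[Isoc.frob p k a] N) :
    ∀ S ∈ simpleFamily a F, ∀ y ∈ S, F y ∈ S := by
  rintro S ⟨μ, x, hx, rfl⟩
  exact range_cyc_stable' F μ.num μ.den μ.den_pos x hx

theorem simpleFamily_simple (a : ℤ) (F : N →ₛₗ[Isoc.frob p k a] N) :
    ∀ S ∈ simpleFamily a F, ∀ Q : Submodule K(p, k) N, (∀ y ∈ Q, F y ∈ Q) → Q ≤ S →
      Q = ⊥ ∨ Q = S := by
  haveI : PerfectRing k p := inferInstance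
  rintro S ⟨μ, x, hx, rfl⟩ Q hQ hle
  exact range_cyc_simple' a F μ.num μ.den μ.den_pos (rat_gcd μ) x hx Q hQ hle

theorem sSup_simpleFamily (a : ℤ) (ha : a ≠ 0) (F : N →ₛₗ[Isoc.frob p k a] N) (hF : IsIsoc F) :
    sSup (simpleFamily a F) = ⊤ := by
  haveI : PerfectRing k p := inferInstance
  have hτ := presW_frob (p := p) (k := k) a
  rw [eq_top_iff, ← iSup_slopePart_eq_top a hF]
  refine iSup_le fun μ => ?_
  obtain ⟨hst, hiso⟩ := Groth.Agent.S17151.result p k a N F hF μ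
  obtain ⟨M, hM, r, s, hs, hrs, hMF⟩ := hiso
  obtain ⟨t, ht, hst', hrt⟩ := exists_mul_of_div_eq μ r s hs hrs
  have hFP := isIsoc_restrict hτ hF _ hst
  subst hst' hrt
  have hspan := span_fixed_eq_top a ha (F.restrict hst) hFP M hM μ.num μ.den t μ.den_pos ht hMF
  intro y hy
  have hmem : (⟨y, hy⟩ : slopePart F μ) ∈ Submodule.span K(p, k)
      {x : slopePart F μ | (⇑(F.restrict hst))^[μ.den] x = ((p : K(p, k)) ^ μ.num) • x} := by
    rw [hspan]; trivial
  have key : ∀ z : slopePart F μ, z ∈ Submodule.span K(p, k)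
      {x : slopePart F μ | (⇑(F.restrict hst))^[μ.den] x = ((p : K(p, k)) ^ μ.num) • x} →
      (z : N) ∈ sSup (simpleFamily a F) := by
    intro z hz
    refine Submodule.span_induction ?_ ?_ ?_ ?_ hz
    · intro x hx
      have hx' : (⇑F)^[μ.den] (x : N) = ((p : K(p, k)) ^ μ.num) • (x : N) := by
        rw [← restrict_iterate _ F hst]
        exact congrArg Subtype.val hx
      have hS : LinearMap.range (cyc F μ.den (x : N)) ∈ simpleFamily a F := ⟨μ, (x : N), hx', rfl⟩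
      have hle : LinearMap.range (cyc F μ.den (x : N)) ≤ sSup (simpleFamily a F) := le_sSup hS
      exact hle (mem_range_cyc' F μ.den μ.den_pos (x : N))
    · exact Submodule.zero_mem _
    · intro y z _ _ hy hz
      exact Submodule.add_mem _ hy hz
    · intro c y _ hy
      exact Submodule.smul_mem _ c hy
  exact key ⟨y, hy⟩ hmem

/-- semisimplicity: every sub-isocrystal has a complement. -/
theorem exists_isCompl (a : ℤ) (ha : a ≠ 0) (F : N →ₛₗ[Isoc.frob p k a] N) (hF : IsIsoc F)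
    (P : Submodule K(p, k) N) (hP : ∀ x ∈ P, F x ∈ P) :
    ∃ Q : Submodule K(p, k) N, (∀ x ∈ Q, F x ∈ Q) ∧ IsCompl P Q := by
  haveI : PerfectRing k p := inferInstance
  haveI := hF.finite
  exact exists_isCompl_of_sSup_simple F (simpleFamily a F) (simpleFamily_stable a F)
    (simpleFamily_simple a F) (sSup_simpleFamily a ha F hF) P hP

end algclosed

end Groth.Agent.Lib.Helper85.IsocSemisimple
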