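import Mathlib
import Groth.Prelude.Def_Isoc
import Groth.Agent.Lib.Helper85.IsocLattice
import Groth.Agent.Lib.Helper85.IsocStd
import Groth.Agent.Lib.Helper85.IsocSlope
import Groth.Agent.Lib.Helper85.IsocLang
import Groth.Agent.Lib.Helper85.IsocSemisimple

/-!
# The Dieudonné–Manin classification over an algebraically closed field
-/

set_option linter.unusedSectionVars false
set_option linter.style.haveILetI false

open scoped Pointwise Isocrystal
open Isoc

namespace Groth.Agent.Lib.Helper85.IsocClassify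

open Groth.Agent.Lib.Helper85.IsocLattice Groth.Agent.Lib.Helper85.IsocSlope
  Groth.Agent.Lib.Helper85.IsocLang Groth.Agent.Lib.Helper85.IsocSemisimple

universe u v

section cyc

variable {p : ℕ} [Fact p.Prime] {k : Type u} [Field k] [CharP k p] [PerfectRing k p]
variable {N : Type v} [AddCommGroup N] [Module (WittVector p k) N] [Module K(p, k) N]
  [IsScalarTower (WittVector p k) K(p, k) N]
variable {τ : K(p, k) →+* K(p, k)}

theorem iterate_zero (F : N →ₛₗ[τ] N) (i : ℕ) : (⇑F)^[i] 0 = 0 := by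
  rw [← Isoc.iter_apply, map_zero]

theorem cyc_zero (F : N →ₛₗ[τ] N) (h : ℕ) : cyc F h (0 : N) = 0 := by
  refine LinearMap.ext fun c => ?_
  rw [cyc_apply]
  simp [iterate_zero]

theorem cyc_stdIsoc' (F : N →ₛₗ[τ] N) (d : ℤ) (h : ℕ) (hh : 0 < h) (x : N)
    (hx : (⇑F)^[h] x = ((p : K(p, k)) ^ d) • x) (c : Fin h → K(p, k)) :
    cyc F h x (stdIsoc τ d h c) = F (cyc F h x c) := by
  obtain ⟨n, rfl⟩ := Nat.exists_eq_succ_of_ne_zero hh.ne'
  exact cyc_stdIsoc F d n x hx c

theorem cyc_coe (F : N →ₛₗ[τ] N) (Q : Submodule K(p, k) N) (hQ : ∀ y ∈ Q, F y ∈ Q) (h : ℕ)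
    (y : Q) : cyc F h (y : N) = Q.subtype ∘ₗ cyc (F.restrict hQ) h y := by
  refine LinearMap.ext fun c => ?_
  simp only [LinearMap.comp_apply, cyc_apply, map_sum, map_smul, Submodule.subtype_apply,
    restrict_iterate Q F hQ]

/-- `cyc` is injective for a non-zero fixed vector in lowest terms. -/
theorem cyc_injective (a : ℤ) (F : N →ₛₗ[Isoc.frob p k a] N) (d : ℤ) (h : ℕ) (hh : 0 < h)
    (hdh : Int.gcd d h = 1) (x : N) (hx : (⇑F)^[h] x = ((p : K(p, k)) ^ d) • x) (hx0 : x ≠ 0) :
    Function.Injective (cyc F h x) := by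
  rw [← LinearMap.ker_eq_bot]
  have hker : ∀ c ∈ LinearMap.ker (cyc F h x),
      stdIsoc (Isoc.frob p k a) d h c ∈ LinearMap.ker (cyc F h x) := by
    intro c hc
    rw [LinearMap.mem_ker] at hc ⊢
    rw [cyc_stdIsoc' F d h hh x hx, hc, map_zero]
  rcases Groth.Agent.S17153.result p k a d h hh hdh _ hker with h1 | h1
  · exact h1
  · exfalso
    obtain ⟨n, rfl⟩ := Nat.exists_eq_succ_of_ne_zero hh.ne'
    have : (Pi.single 0 1 : Fin (n + 1) → K(p, k)) ∈ LinearMap.ker (cyc F (n + 1) x) := by
      rw [h1]; trivial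
    rw [LinearMap.mem_ker, cyc_single_zero] at this
    exact hx0 this

end cyc

section algclosed

variable {p : ℕ} [Fact p.Prime] {k : Type u} [Field k] [CharP k p] [IsAlgClosed k]

/-- decomposition into cyclic simple sub-isocrystals (strong induction on the dimension). -/
theorem exists_cyclic_decomp_aux (a : ℤ) (ha : a ≠ 0) : ∀ (n : ℕ) (N : Type v) [AddCommGroup N]
    [Module (WittVector p k) N] [Module K(p, k) N] [IsScalarTower (WittVector p k) K(p, k) N]
    (F : N →ₛₗ[Isoc.frob p k a] N), IsIsoc F → Module.finrank K(p, k) N = n →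
    ∃ (ι : Type) (_ : Fintype ι) (μ : ι → ℚ) (x : ι → N),
      (∀ i, (⇑F)^[(μ i).den] (x i) = ((p : K(p, k)) ^ (μ i).num) • x i) ∧
      (⨆ i, LinearMap.range (cyc F (μ i).den (x i)) = ⊤) ∧ ∑ i, (μ i).den = n := by
  haveI : PerfectRing k p := inferInstance
  have hτ := presW_frob (p := p) (k := k) a
  intro n
  induction n using Nat.strong_induction_on with
  | _ n ih =>
    intro N _ _ _ _ F hF hn
    haveI := hF.finite
    rcases subsingleton_or_nontrivial N with hsub | hnt
    · refine ⟨Empty, inferInstance, Empty.elim, Empty.elim, fun i => i.elim, Subsingleton.elim _ _, ?_⟩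
      rw [← hn, Module.finrank_zero_of_subsingleton]
      simp
    · have hS := sSup_simpleFamily a ha F hF
      obtain ⟨S, hS𝒮, hSne⟩ : ∃ S ∈ simpleFamily a F, S ≠ ⊥ := by
        by_contra hcon
        push Not at hcon
        have : sSup (simpleFamily a F) = ⊥ := by
          rw [eq_bot_iff]
          exact sSup_le fun S hS => le_of_eq (hcon S hS)
        rw [this] at hS
        exact bot_ne_top hS
      obtain ⟨μ₀, x₀, hx₀, rfl⟩ := hS𝒮
      have hx₀ne : x₀ ≠ 0 := by
        rintro rfl
        apply hSne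
        rw [cyc_zero, LinearMap.range_zero]
      have hPst := range_cyc_stable' F μ₀.num μ₀.den μ₀.den_pos x₀ hx₀
      obtain ⟨Q, hQst, hPQ⟩ := exists_isCompl a ha F hF _ hPst
      have hinj := cyc_injective a F μ₀.num μ₀.den μ₀.den_pos (rat_gcd μ₀) x₀ hx₀ hx₀ne
      have hdimP : Module.finrank K(p, k) (LinearMap.range (cyc F μ₀.den x₀)) = μ₀.den := by
        rw [LinearMap.finrank_range_of_inj hinj, Module.finrank_fin_fun]
      have hdim := Submodule.finrank_add_eq_of_isCompl hPQ
      have hlt : Module.finrank K(p, k) Q < n := by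
        have := μ₀.den_pos
        omega
      obtain ⟨ι', hι', μ', x', hfix', hsup', hsum'⟩ :=
        ih _ hlt Q (F.restrict hQst) (isIsoc_restrict hτ hF Q hQst) rfl
      refine ⟨Option ι', inferInstance, fun o => o.elim μ₀ μ',
        fun o => o.elim x₀ (fun i => (x' i : N)), ?_, ?_, ?_⟩
      · rintro (_ | i)
        · exact hx₀
        · show (⇑F)^[(μ' i).den] (x' i : N) = ((p : K(p, k)) ^ (μ' i).num) • (x' i : N)
          rw [← restrict_iterate Q F hQst]
          exact congrArg Subtype.val (hfix' i)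
      · rw [iSup_option]
        show LinearMap.range (cyc F μ₀.den x₀) ⊔
          ⨆ i, LinearMap.range (cyc F (μ' i).den (x' i : N)) = ⊤
        have hr : ∀ i, LinearMap.range (cyc F (μ' i).den (x' i : N)) =
            (LinearMap.range (cyc (F.restrict hQst) (μ' i).den (x' i))).map Q.subtype := by
          intro i
          rw [cyc_coe F Q hQst, LinearMap.range_comp]
        simp only [hr]
        rw [← Submodule.map_iSup, hsup', Submodule.map_top, Submodule.range_subtype]
        exact hPQ.sup_eq_top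
      · rw [Fintype.sum_option]
        show μ₀.den + ∑ i, (μ' i).den = n
        omega

variable {N : Type v} [AddCommGroup N] [Module (WittVector p k) N] [Module K(p, k) N]
  [IsScalarTower (WittVector p k) K(p, k) N]

theorem exists_cyclic_decomp_fin (a : ℤ) (ha : a ≠ 0) (F : N →ₛₗ[Isoc.frob p k a] N)
    (hF : IsIsoc F) :
    ∃ (t : ℕ) (μ : Fin t → ℚ) (x : Fin t → N),
      (∀ i, (⇑F)^[(μ i).den] (x i) = ((p : K(p, k)) ^ (μ i).num) • x i) ∧
      (⨆ i, LinearMap.range (cyc F (μ i).den (x i)) = ⊤) ∧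
      ∑ i, (μ i).den = Module.finrank K(p, k) N := by
  obtain ⟨ι, hι, μ, x, hfix, hsup, hsum⟩ := exists_cyclic_decomp_aux a ha _ N F hF rfl
  let eqv := Fintype.equivFin ι
  refine ⟨Fintype.card ι, μ ∘ eqv.symm, x ∘ eqv.symm, fun i => hfix _, ?_, ?_⟩
  · rw [← hsup]
    exact Equiv.iSup_comp (g := fun j => LinearMap.range (cyc F (μ j).den (x j))) eqv.symm
  · rw [← hsum]
    exact Equiv.sum_comp eqv.symm (fun j => (μ j).den)

end algclosed

section build

variable {p : ℕ} [Fact p.Prime] {k : Type u} [Field k] [CharP k p] [PerfectRing k p]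
variable {N : Type v} [AddCommGroup N] [Module (WittVector p k) N] [Module K(p, k) N]
  [IsScalarTower (WittVector p k) K(p, k) N]
variable {τ : K(p, k) →+* K(p, k)}

/-- the sum map `∏ K^(h i) → N`. -/
noncomputable def sumMap (F : N →ₛₗ[τ] N) {t : ℕ} (h : Fin t → ℕ) (x : Fin t → N) :
    ((i : Fin t) → (Fin (h i) → K(p, k))) →ₗ[K(p, k)] N :=
  LinearMap.lsum K(p, k) (fun i => Fin (h i) → K(p, k)) ℕ (fun i => cyc F (h i) (x i))

theorem sumMap_apply (F : N →ₛₗ[τ] N) {t : ℕ} (h : Fin t → ℕ) (x : Fin t → N)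
    (c : (i : Fin t) → (Fin (h i) → K(p, k))) :
    sumMap F h x c = ∑ i, cyc F (h i) (x i) (c i) := by
  simp [sumMap, LinearMap.lsum_apply]

theorem sumMap_single (F : N →ₛₗ[τ] N) {t : ℕ} (h : Fin t → ℕ) (x : Fin t → N) (i : Fin t)
    (c₀ : Fin (h i) → K(p, k)) : sumMap F h x (Pi.single i c₀) = cyc F (h i) (x i) c₀ := by
  classical
  rw [sumMap_apply, Finset.sum_eq_single i]
  · rw [Pi.single_eq_same]
  · intro j _ hj
    rw [Pi.single_eq_of_ne hj, map_zero]
  · intro hi; exact absurd (Finset.mem_univ i) hi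

theorem sumMap_surjective (F : N →ₛₗ[τ] N) {t : ℕ} (h : Fin t → ℕ) (x : Fin t → N)
    (hsup : ⨆ i, LinearMap.range (cyc F (h i) (x i)) = ⊤) :
    Function.Surjective (sumMap F h x) := by
  intro y
  have hy : y ∈ ⨆ i, LinearMap.range (cyc F (h i) (x i)) := by rw [hsup]; trivial
  refine Submodule.iSup_induction (fun i => LinearMap.range (cyc F (h i) (x i)))
    (motive := fun y => ∃ c, sumMap F h x c = y) hy ?_ ?_ ?_
  · rintro i _ ⟨c₀, rfl⟩
    exact ⟨Pi.single i c₀, sumMap_single F h x i c₀⟩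
  · exact ⟨0, map_zero _⟩
  · rintro _ _ ⟨c, rfl⟩ ⟨c', rfl⟩
    exact ⟨c + c', map_add _ _ _⟩

theorem sumMap_bijective [Module.Finite K(p, k) N] (F : N →ₛₗ[τ] N) {t : ℕ} (h : Fin t → ℕ)
    (x : Fin t → N) (hsup : ⨆ i, LinearMap.range (cyc F (h i) (x i)) = ⊤)
    (hsum : ∑ i, h i = Module.finrank K(p, k) N) : Function.Bijective (sumMap F h x) := by
  have hsurj := sumMap_surjective F h x hsup
  have hfr : Module.finrank K(p, k) ((i : Fin t) → (Fin (h i) → K(p, k))) =
      Module.finrank K(p, k) N := by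
    rw [Module.finrank_pi_fintype, ← hsum]
    exact Finset.sum_congr rfl fun i _ => Module.finrank_fin_fun _
  exact ⟨(LinearMap.injective_iff_surjective_of_finrank_eq_finrank hfr).2 hsurj, hsurj⟩

theorem sumMap_equivariant (F : N →ₛₗ[τ] N) {t : ℕ} (d : Fin t → ℤ) (h : Fin t → ℕ)
    (hh : ∀ i, 0 < h i) (x : Fin t → N)
    (hfix : ∀ i, (⇑F)^[h i] (x i) = ((p : K(p, k)) ^ d i) • x i)
    (c : (i : Fin t) → (Fin (h i) → K(p, k))) :
    sumMap F h x (fun i => stdIsoc τ (d i) (h i) (c i)) = F (sumMap F h x c) := by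
  rw [sumMap_apply, sumMap_apply, map_sum]
  exact Finset.sum_congr rfl fun i _ => cyc_stdIsoc' F (d i) (h i) (hh i) (x i) (hfix i) (c i)

end build

section mult

variable {p : ℕ} [Fact p.Prime] {k : Type u} [Field k] [CharP k p] [PerfectRing k p]
variable {N : Type v} [AddCommGroup N] [Module (WittVector p k) N] [Module K(p, k) N]
  [IsScalarTower (WittVector p k) K(p, k) N]

theorem hasSlope_stdIsoc {τ : K(p, k) →+* K(p, k)} (hτ : PresW τ) (d : ℤ) (h : ℕ) (hh : 0 < h) :
    HasSlope (stdIsoc τ d h) ⊤ ((d : ℚ) / h) := by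
  obtain ⟨M, hM, r, s, hs, hrs, hMF⟩ := Groth.Agent.Lib.Helper85.IsocStd.isIsoclinic_stdIsoc hτ d h hh
  exact ⟨M, hM.fg, hM.span_eq_top, r, s, hs, hrs, hMF⟩

theorem hasSlope_range_cyc {τ : K(p, k) →+* K(p, k)} (hτ : PresW τ) (F : N →ₛₗ[τ] N) (μ : ℚ)
    (x : N) (hx : (⇑F)^[μ.den] x = ((p : K(p, k)) ^ μ.num) • x) :
    HasSlope F (LinearMap.range (cyc F μ.den x)) μ := by
  have h1 := HasSlope.map hτ (F := stdIsoc τ μ.num μ.den) (F' := F) (cyc F μ.den x)
    (fun c => cyc_stdIsoc' F μ.num μ.den μ.den_pos x hx c) (hasSlope_stdIsoc hτ μ.num μ.den μ.den_pos)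
  rw [Submodule.map_top, Rat.num_div_den] at h1
  exact h1

theorem finrank_finset_sup_le [Module.Finite K(p, k) N] {ι : Type*} (s : Finset ι)
    (f : ι → Submodule K(p, k) N) :
    Module.finrank K(p, k) (s.sup f : Submodule K(p, k) N) ≤
      ∑ i ∈ s, Module.finrank K(p, k) (f i) := by
  classical
  induction s using Finset.induction_on with
  | empty => simp
  | insert i s hi ih =>
    rw [Finset.sup_insert, Finset.sum_insert hi]
    exact (Submodule.finrank_add_le_finrank_add_finrank _ _).trans (Nat.add_le_add_left ih _)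

theorem newtonMult_eq (a : ℤ) (F : N →ₛₗ[Isoc.frob p k a] N) (hF : IsIsoc F) {t : ℕ}
    (μ : Fin t → ℚ) (x : Fin t → N)
    (hfix : ∀ i, (⇑F)^[(μ i).den] (x i) = ((p : K(p, k)) ^ (μ i).num) • x i)
    (hsup : ⨆ i, LinearMap.range (cyc F (μ i).den (x i)) = ⊤)
    (hsum : ∑ i, (μ i).den = Module.finrank K(p, k) N) (ν : ℚ) :
    newtonMult F ν = ∑ i, if μ i = ν then (μ i).den else 0 := by
  classical
  have hτ := presW_frob (p := p) (k := k) a
  haveI := hF.finite
  set R : Fin t → Submodule K(p, k) N := fun i => LinearMap.range (cyc F (μ i).den (x i)) with hR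
  have hRst : ∀ i, ∀ y ∈ R i, F y ∈ R i := fun i =>
    range_cyc_stable' F (μ i).num (μ i).den (μ i).den_pos (x i) (hfix i)
  have hRs : ∀ i, HasSlope F (R i) (μ i) := fun i => hasSlope_range_cyc hτ F (μ i) (x i) (hfix i)
  have hRle : ∀ i, R i ≤ slopePart F (μ i) := fun i => le_slopePart a (hRst i) (hRs i)
  have hind := iSupIndep_slopePart a hF
  -- (a) the slope part is the sum of the cyclic pieces of that slope
  have hA : ∀ ν : ℚ, slopePart F ν = ⨆ i, (if μ i = ν then R i else ⊥) := by
    intro ν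
    apply le_antisymm
    · intro y hy
      have hy' : y ∈ (⨆ i, (if μ i = ν then R i else ⊥)) ⊔ (⨆ i, (if μ i = ν then ⊥ else R i)) := by
        have : (⊤ : Submodule K(p, k) N) ≤
            (⨆ i, (if μ i = ν then R i else ⊥)) ⊔ (⨆ i, (if μ i = ν then ⊥ else R i)) := by
          rw [← hsup]
          refine iSup_le fun i => ?_
          by_cases hi : μ i = ν
          · refine le_trans ?_ le_sup_left
            refine le_trans ?_ (le_iSup _ i)
            rw [if_pos hi]
          · refine le_trans ?_ le_sup_right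
            refine le_trans ?_ (le_iSup _ i)
            rw [if_neg hi]
        exact this trivial
      obtain ⟨a', ha', b, hb, rfl⟩ := Submodule.mem_sup.1 hy'
      have hAle : (⨆ i, (if μ i = ν then R i else ⊥)) ≤ slopePart F ν := by
        refine iSup_le fun i => ?_
        by_cases hi : μ i = ν
        · rw [if_pos hi, ← hi]; exact hRle i
        · rw [if_neg hi]; exact bot_le
      have hBle : (⨆ i, (if μ i = ν then ⊥ else R i)) ≤ ⨆ (ν') (_ : ν' ≠ ν), slopePart F ν' := by
        refine iSup_le fun i => ?_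
        by_cases hi : μ i = ν
        · rw [if_pos hi]; exact bot_le
        · rw [if_neg hi]
          exact (hRle i).trans (le_iSup₂ (f := fun ν' (_ : ν' ≠ ν) => slopePart F ν') (μ i) hi)
      have hdis := (iSupIndep_def.1 hind ν).mono_right hBle
      have hb' : b ∈ slopePart F ν := by
        have e : b = (a' + b) + -a' := by abel
        rw [e]
        exact Submodule.add_mem _ hy (Submodule.neg_mem _ (hAle ha'))
      have hb0 : b = 0 := by
        have := (Submodule.disjoint_def.1 hdis) b hb' hb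
        exact this
      rw [hb0, add_zero]
      exact ha'
    · refine iSup_le fun i => ?_
      by_cases hi : μ i = ν
      · rw [if_pos hi, ← hi]; exact hRle i
      · rw [if_neg hi]; exact bot_le
  -- (b) upper bound
  have hB : ∀ ν : ℚ, newtonMult F ν ≤ ∑ i, if μ i = ν then (μ i).den else 0 := by
    intro ν
    unfold newtonMult
    rw [hA ν, ← Finset.sup_univ_eq_iSup]
    refine (finrank_finset_sup_le _ _).trans (Finset.sum_le_sum fun i _ => ?_)
    by_cases hi : μ i = ν
    · rw [if_pos hi, if_pos hi]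
      have := LinearMap.finrank_range_le (cyc F (μ i).den (x i))
      rwa [Module.finrank_fin_fun] at this
    · rw [if_neg hi, if_neg hi, finrank_bot]
  -- (c) total count
  let T : Finset ℚ := Finset.univ.image μ
  have hnotT : ∀ ν : ℚ, ν ∉ T → slopePart F ν = ⊥ := by
    intro ν hν
    rw [hA ν, eq_bot_iff]
    refine iSup_le fun i => ?_
    have hi : μ i ≠ ν := fun h => hν (h ▸ Finset.mem_image_of_mem μ (Finset.mem_univ i))
    rw [if_neg hi]
  have htopT : ⨆ ν : T, slopePart F ν.1 = ⊤ := by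
    rw [eq_top_iff, ← iSup_slopePart_eq_top a hF]
    refine iSup_le fun ν => ?_
    by_cases hν : ν ∈ T
    · exact le_iSup (fun ν : T => slopePart F ν.1) ⟨ν, hν⟩
    · rw [hnotT ν hν]; exact bot_le
  have hint : DirectSum.IsInternal (fun ν : T => slopePart F ν.1) :=
    DirectSum.isInternal_submodule_of_iSupIndep_of_iSup_eq_top
      (hind.comp Subtype.val_injective) htopT
  have hcount : ∑ ν ∈ T, newtonMult F ν = Module.finrank K(p, k) N := by
    have e1 := (LinearEquiv.ofBijective (DirectSum.coeLinearMap fun ν : T => slopePart F ν.1)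
      hint).finrank_eq
    rw [Module.finrank_directSum] at e1
    rw [← e1, ← Finset.sum_coe_sort T (fun ν => newtonMult F ν)]
    rfl
  have hcount2 : ∑ ν ∈ T, (∑ i, if μ i = ν then (μ i).den else 0) = Module.finrank K(p, k) N := by
    rw [Finset.sum_comm, ← hsum]
    refine Finset.sum_congr rfl fun i _ => ?_
    rw [Finset.sum_ite_eq, if_pos (Finset.mem_image_of_mem μ (Finset.mem_univ i))]
  by_cases hν : ν ∈ T
  · exact (Finset.sum_eq_sum_iff_of_le (fun ν _ => hB ν)).1 (hcount.trans hcount2.symm) ν hν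
  · have h0 : newtonMult F ν = 0 := by
      unfold newtonMult
      rw [hnotT ν hν, finrank_bot]
    rw [h0]
    symm
    apply Finset.sum_eq_zero
    intro i _
    have hi : μ i ≠ ν := fun h => hν (h ▸ Finset.mem_image_of_mem μ (Finset.mem_univ i))
    rw [if_neg hi]

end mult

end Groth.Agent.Lib.Helper85.IsocClassify
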