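import Mathlib
import Groth.Prelude.Def_Isoc
import Groth.Agent.Lib.Helper85.IsocLattice
import Groth.Agent.Lib.Helper85.IsocDet
import Groth.Agent.Lib.Helper85.IsocStd
import Groth.Agent.Lib.Helper85.IsocSlope
import Groth.Agent.S17139

/-!
# The end point of the Newton polygon
-/

set_option linter.unusedSectionVars false
set_option linter.style.haveILetI false

open scoped Pointwise Isocrystal
open Isoc

namespace Groth.Agent.Lib.Helper85.IsocNewton

open Groth.Agent.Lib.Helper85.IsocLattice Groth.Agent.Lib.Helper85.IsocDet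
  Groth.Agent.Lib.Helper85.IsocSlope

universe u v

variable {p : ℕ} [Fact p.Prime] {k : Type u} [Field k] [CharP k p] [PerfectRing k p]
variable {N : Type v} [AddCommGroup N] [Module (WittVector p k) N] [Module K(p, k) N]
  [IsScalarTower (WittVector p k) K(p, k) N]

theorem isOrdP_prod {ι : Type*} (s : Finset ι) (c : ι → K(p, k)) (e : ι → ℤ)
    (h : ∀ i ∈ s, IsOrdP (c i) (e i)) : IsOrdP (∏ i ∈ s, c i) (∑ i ∈ s, e i) := by
  classical
  induction s using Finset.induction_on with
  | empty => simpa using isOrdP_one (p := p) (k := k)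
  | insert i s hi ih =>
    rw [Finset.prod_insert hi, Finset.sum_insert hi]
    exact isOrdP_mul (h i (Finset.mem_insert_self i s))
      (ih fun j hj => h j (Finset.mem_insert_of_mem hj))

theorem sum_slope_mul_mult (a : ℤ) (F : N →ₛₗ[Isoc.frob p k a] N) (hF : IsIsoc F) (h : ℕ)
    (b : Module.Basis (Fin h) K(p, k) N) (d : ℤ) (hd : IsOrdP (detCoeff b F) d) :
    ∑ᶠ μ : ℚ, μ * (newtonMult F μ : ℚ) = d := by
  classical
  have hτ := presW_frob (p := p) (k := k) a
  haveI := hF.finite
  have hind := iSupIndep_slopePart a hF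
  have hfin : {ν : ℚ | slopePart F ν ≠ ⊥}.Finite := Submodule.finite_ne_bot_of_iSupIndep hind
  let T : Finset ℚ := hfin.toFinset
  have hnotT : ∀ ν : ℚ, ν ∉ T → slopePart F ν = ⊥ := by
    intro ν hν
    by_contra hne
    exact hν (hfin.mem_toFinset.2 hne)
  have htopT : ⨆ ν : T, slopePart F ν.1 = ⊤ := by
    rw [eq_top_iff, ← iSup_slopePart_eq_top a hF]
    refine iSup_le fun ν => ?_
    by_cases hν : ν ∈ T
    · exact le_iSup (fun ν : T => slopePart F ν.1) ⟨ν, hν⟩
    · rw [hnotT ν hν]; exact bot_le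
  have hint : DirectSum.IsInternal (fun ν : T => slopePart F ν.1) :=
    DirectSum.isInternal_submodule_of_iSupIndep_of_iSup_eq_top
      (hind.comp Subtype.val_injective) htopT
  let m : T → ℕ := fun ν => Module.finrank K(p, k) (slopePart F ν.1)
  let bν : ∀ ν : T, Module.Basis (Fin (m ν)) K(p, k) (slopePart F ν.1) :=
    fun ν => Module.finBasis K(p, k) _
  let B := hint.collectedBasis bν
  have hst : ∀ ν : T, ∀ x ∈ slopePart F ν.1, F x ∈ slopePart F ν.1 :=
    fun ν => (slopePart_stable_hasSlope a hF ν.1).1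
  let A : Matrix (Σ ν : T, Fin (m ν)) (Σ ν : T, Fin (m ν)) K(p, k) :=
    Matrix.of fun x y => B.repr (F (B y)) x
  have hBy : ∀ y : (Σ ν : T, Fin (m ν)), B y = ((bν y.1 y.2 : slopePart F y.1.1) : N) := by
    intro y
    show (hint.collectedBasis bν) y = _
    rw [hint.collectedBasis_coe]
  have hFB : ∀ y : (Σ ν : T, Fin (m ν)), F (B y) ∈ slopePart F y.1.1 := by
    intro y
    rw [hBy]
    exact hst _ _ (Subtype.mem _)
  have hAdiag : ∀ (ν : T) (i j : Fin (m ν)),
      A ⟨ν, i⟩ ⟨ν, j⟩ = (bν ν).repr ((F.restrict (hst ν)) (bν ν j)) i := by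
    intro ν i j
    show (hint.collectedBasis bν).repr (F (B ⟨ν, j⟩)) ⟨ν, i⟩ = _
    rw [hint.collectedBasis_repr_of_mem bν (hFB ⟨ν, j⟩)]
    congr 2
    apply Subtype.ext
    show F (B ⟨ν, j⟩) = F ((bν ν j : slopePart F ν.1) : N)
    rw [hBy]
  have hAoff : ∀ x y : (Σ ν : T, Fin (m ν)), x.1 ≠ y.1 → A x y = 0 := by
    rintro ⟨ν, i⟩ ⟨ν', j⟩ hne
    show (hint.collectedBasis bν).repr (F (B ⟨ν', j⟩)) ⟨ν, i⟩ = 0
    exact hint.collectedBasis_repr_of_mem_ne bν (Ne.symm hne) (hFB ⟨ν', j⟩)
  have hBT : A.BlockTriangular Sigma.fst := fun x y hlt => hAoff x y (ne_of_gt hlt)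
  have hdet : A.det = ∏ ν : T, detCoeff (bν ν) (F.restrict (hst ν)) := by
    rw [hBT.det_fintype]
    refine Finset.prod_congr rfl fun ν _ => ?_
    rw [← Matrix.det_submatrix_equiv_self (Equiv.sigmaSubtype ν).symm]
    unfold detCoeff
    congr 1
    ext i j
    exact hAdiag ν i j
  -- each block
  have hblock : ∀ ν : T, ∃ dν : ℤ, IsOrdP (detCoeff (bν ν) (F.restrict (hst ν))) dν ∧
      (dν : ℚ) = ν.1 * (m ν : ℚ) := by
    intro ν
    have hFν := isIsoc_restrict hτ hF _ (hst ν)
    obtain ⟨dν, hdν⟩ := exists_isOrdP (Groth.Agent.Lib.Helper85.IsocStd.detCoeff_ne_zero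
      hτ.surjective (bν ν) _ hFν.bijective.injective)
    refine ⟨dν, hdν, ?_⟩
    have hne : slopePart F ν.1 ≠ ⊥ := hfin.mem_toFinset.1 ν.2
    haveI : Nontrivial (slopePart F ν.1) := Submodule.nontrivial_iff_ne_bot.2 hne
    obtain ⟨_, hiso⟩ := Groth.Agent.S17151.result p k a N F hF ν.1
    obtain ⟨M, hM, r, s, hs, hrs, hMF⟩ := hiso
    have key := (Groth.Agent.S17139.result p k a _ (F.restrict (hst ν)) hFν (m ν) (bν ν) dν hdν
      M hM r s hs hMF).2
    have hsQ : (s : ℚ) ≠ 0 := by exact_mod_cast hs.ne'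
    have keyQ : (r : ℚ) * (m ν : ℚ) = (s : ℚ) * (dν : ℚ) := by exact_mod_cast key
    rw [← hrs]
    field_simp
    linarith
  choose dν hdν hdνeq using hblock
  have hprod : IsOrdP A.det (∑ ν : T, dν ν) := by
    rw [hdet]
    exact isOrdP_prod Finset.univ _ _ fun ν _ => hdν ν
  -- reindex to `Fin h`
  have hcard : Fintype.card (Σ ν : T, Fin (m ν)) = h := by
    rw [← Module.finrank_eq_card_basis B, Module.finrank_eq_card_basis b, Fintype.card_fin]
  let e : (Σ ν : T, Fin (m ν)) ≃ Fin h := Fintype.equivFinOfCardEq hcard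
  let B' : Module.Basis (Fin h) K(p, k) N := B.reindex e
  have hB' : detCoeff B' F = A.det := by
    unfold detCoeff
    rw [← Matrix.det_submatrix_equiv_self e.symm A]
    congr 1
    ext i j
    simp only [Matrix.of_apply, Matrix.submatrix_apply, B', A, Module.Basis.reindex_apply,
      Module.Basis.repr_reindex_apply]
  have hd' := isOrdP_detCoeff_change hτ b B' F hd
  rw [hB'] at hd'
  have hdsum : d = ∑ ν : T, dν ν := isOrdP_unique hd' hprod
  -- the finite sum
  rw [finsum_eq_sum_of_support_subset (s := T)]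
  · rw [← Finset.sum_coe_sort T (fun μ => μ * (newtonMult F μ : ℚ)), hdsum]
    push_cast
    refine Finset.sum_congr rfl fun ν _ => ?_
    rw [hdνeq ν]
    rfl
  · intro μ hμ
    rw [Function.mem_support] at hμ
    by_contra hμT
    apply hμ
    have : newtonMult F μ = 0 := by
      unfold newtonMult
      rw [hnotT μ hμT, finrank_bot]
    rw [this]
    simp

end Groth.Agent.Lib.Helper85.IsocNewton
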