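import Mathlib
import Groth.Prelude.Def_Isoc
import Groth.Agent.Lib.Helper85.IsocLattice
import Groth.Agent.Lib.Helper85.IsocDet
import Groth.Agent.Lib.Helper85.IsocSlope
import Groth.Agent.Lib.Helper85.IsocSemisimple
import Groth.Agent.Lib.Helper85.CharpolyInternal

/-!
# Slopes and the roots of the characteristic polynomial of Frobenius over a finite field
-/

set_option linter.unusedSectionVars false
set_option linter.style.haveILetI false

open scoped Pointwise Isocrystal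
open Isoc

namespace Groth.Agent.Lib.Helper85.IsocZeta

open Groth.Agent.Lib.Helper85.IsocLattice Groth.Agent.Lib.Helper85.IsocDet
  Groth.Agent.Lib.Helper85.IsocSlope

universe u v w

section claim1

variable {p : ℕ} [Fact p.Prime] {k : Type u} [Field k] [CharP k p] [PerfectRing k p]
variable {N : Type v} [AddCommGroup N] [Module (WittVector p k) N] [Module K(p, k) N]
  [IsScalarTower (WittVector p k) K(p, k) N]
variable {Ω : Type w} [Field Ω] [Algebra (WittVector p k) Ω] [Algebra K(p, k) Ω]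
  [IsScalarTower (WittVector p k) K(p, k) Ω]

/-- eigenvalues of a root of a matrix with integral invertible "twisted power". -/
theorem integral_of_isRoot {h : ℕ} (P : Matrix (Fin h) (Fin h) K(p, k)) (c : K(p, k)) (s : ℕ)
    (A₀ : Matrix (Fin h) (Fin h) (WittVector p k)) (hA₀ : IsUnit A₀.det)
    (hPA : c • P ^ s = A₀.map (algebraMap (WittVector p k) K(p, k)))
    (α : Ω) (hα : (P.charpoly.map (algebraMap K(p, k) Ω)).IsRoot α) :
    IsIntegral (WittVector p k) (algebraMap K(p, k) Ω c * α ^ s) ∧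
      IsIntegral (WittVector p k) (algebraMap K(p, k) Ω c * α ^ s)⁻¹ ∧
      algebraMap K(p, k) Ω c * α ^ s ≠ 0 := by
  classical
  set φ := algebraMap K(p, k) Ω with hφ
  set PΩ : Matrix (Fin h) (Fin h) Ω := P.map φ with hPΩ
  have hαs : α ∈ spectrum Ω PΩ := by
    rw [Matrix.mem_spectrum_iff_isRoot_charpoly, hPΩ, Matrix.charpoly_map]
    exact hα
  -- the integral matrices over `Ω`
  set GΩ : Matrix (Fin h) (Fin h) Ω := A₀.map (algebraMap (WittVector p k) Ω) with hGΩ
  set HΩ : Matrix (Fin h) (Fin h) Ω := (A₀⁻¹).map (algebraMap (WittVector p k) Ω) with hHΩ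
  have hGH : GΩ * HΩ = 1 := by
    rw [hGΩ, hHΩ, ← Matrix.map_mul, Matrix.mul_nonsing_inv A₀ hA₀, Matrix.map_one _ (map_zero _)
      (map_one _)]
  have hHG : HΩ * GΩ = 1 := by
    rw [hGΩ, hHΩ, ← Matrix.map_mul, Matrix.nonsing_inv_mul A₀ hA₀, Matrix.map_one _ (map_zero _)
      (map_one _)]
  have hGeq : GΩ = φ c • PΩ ^ s := by
    have e1 : (P ^ s).map φ = PΩ ^ s := map_pow φ.mapMatrix P s
    have e2 : (c • P ^ s).map φ = φ c • (P ^ s).map φ := by
      ext i j
      simp [Matrix.map_apply, Matrix.smul_apply]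
    rw [← e1, ← e2, hPA, Matrix.map_map, hGΩ]
    congr 1
    rw [hφ, ← RingHom.coe_comp, ← IsScalarTower.algebraMap_eq]
  -- spectral mapping
  have hβs : φ c * α ^ s ∈ spectrum Ω GΩ := by
    have h1 := spectrum.subset_polynomial_aeval PΩ (Polynomial.C (φ c) * Polynomial.X ^ s)
      ⟨α, hαs, rfl⟩
    simp only [Polynomial.eval_mul, Polynomial.eval_C, Polynomial.eval_pow, Polynomial.eval_X,
      map_mul, Polynomial.aeval_C, map_pow, Polynomial.aeval_X] at h1
    rw [hGeq, Algebra.smul_def]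
    exact h1
  have hβ0 : φ c * α ^ s ≠ 0 := by
    intro h0
    rw [h0, spectrum.zero_mem_iff] at hβs
    exact hβs ⟨⟨GΩ, HΩ, hGH, hHG⟩, rfl⟩
  have hint : ∀ (B₀ : Matrix (Fin h) (Fin h) (WittVector p k)) (β : Ω),
      β ∈ spectrum Ω (B₀.map (algebraMap (WittVector p k) Ω)) → IsIntegral (WittVector p k) β := by
    intro B₀ β hβ
    rw [Matrix.mem_spectrum_iff_isRoot_charpoly, Matrix.charpoly_map] at hβ
    refine ⟨B₀.charpoly, Matrix.charpoly_monic B₀, ?_⟩
    rw [← Polynomial.eval_map]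
    exact hβ
  refine ⟨hint A₀ _ hβs, ?_, hβ0⟩
  have h2 := (spectrum.inv_mem_iff (R := Ω) (r := Units.mk0 _ hβ0)
    (a := (⟨GΩ, HΩ, hGH, hHG⟩ : (Matrix (Fin h) (Fin h) Ω)ˣ))).1 hβs
  exact hint A₀⁻¹ _ h2

theorem pi_pow_apply {τ : K(p, k) →+* K(p, k)} (F : N →ₛₗ[τ] N) (m : ℕ) (π : N →ₗ[K(p, k)] N)
    (hπ : ∀ x : N, π x = (⇑F)^[m] x) (s : ℕ) (x : N) : (π ^ s) x = (⇑F)^[m * s] x := by
  have h1 : ⇑π = (⇑F)^[m] := funext hπ
  rw [Module.End.pow_apply, h1, ← Function.iterate_mul]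

/-- roots of the characteristic polynomial of `π = F^m` on an isoclinic isocrystal. -/
theorem integral_root_of_lattice [Module.Finite K(p, k) N] (a : ℤ) (F : N →ₛₗ[Isoc.frob p k a] N)
    (M : Submodule (WittVector p k) N) (hM : M.IsLattice K(p, k)) (r : ℤ) (s : ℕ)
    (hFM : latImg F s M = pPow r M) (m : ℕ) (π : N →ₗ[K(p, k)] N)
    (hπ : ∀ x : N, π x = (⇑F)^[m] x) (α : Ω)
    (hα : (π.charpoly.map (algebraMap K(p, k) Ω)).IsRoot α) :
    IsIntegral (WittVector p k)
        (algebraMap K(p, k) Ω ((p : K(p, k)) ^ (-((m : ℤ) * r))) * α ^ s) ∧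
      IsIntegral (WittVector p k)
        (algebraMap K(p, k) Ω ((p : K(p, k)) ^ (-((m : ℤ) * r))) * α ^ s)⁻¹ ∧
      algebraMap K(p, k) Ω ((p : K(p, k)) ^ (-((m : ℤ) * r))) * α ^ s ≠ 0 := by
  classical
  have hτ := presW_frob (p := p) (k := k) a
  haveI := hM
  obtain ⟨bM⟩ := exists_lattice_basis (Module.finBasis K(p, k) N) M
  set E := bM.extendOfIsLattice K(p, k) with hE
  have hFM' := latImg_mul_eq_pPow hτ F hFM m
  obtain ⟨A₀, hA₀⟩ := exists_intMat F bM (le_of_eq hFM')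
  have hu := isUnit_det_of_latImg_eq hτ F bM A₀ hA₀ hFM'
  have hPA : ((p : K(p, k)) ^ (-((m : ℤ) * r))) • (LinearMap.toMatrix E E π) ^ s =
      A₀.map (algebraMap (WittVector p k) K(p, k)) := by
    rw [LinearMap.toMatrix_pow, ← map_smul (LinearMap.toMatrix E E)]
    ext i j
    rw [LinearMap.toMatrix_apply, Matrix.map_apply, LinearMap.smul_apply, pi_pow_apply F m π hπ,
      hE, Module.Basis.extendOfIsLattice_apply, hA₀ j, smul_smul, ← zpow_add₀ p_ne_zero,
      neg_add_cancel, zpow_zero, one_smul, coe_sum_smul, ← hE, E.repr_sum_self]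
  have hα' : ((LinearMap.toMatrix E E π).charpoly.map (algebraMap K(p, k) Ω)).IsRoot α := by
    rw [LinearMap.charpoly_toMatrix]
    exact hα
  exact integral_of_isRoot _ _ s A₀ hu hPA α hα'

/-- roots of the characteristic polynomial of `π = F^m` on an isoclinic isocrystal of slope `ν`
have "order `ν m`". -/
theorem slope_of_root [Module.Finite K(p, k) N] (a : ℤ) (F : N →ₛₗ[Isoc.frob p k a] N) (ν : ℚ)
    (hiso : IsIsoclinic F ν) (m : ℕ) (π : N →ₗ[K(p, k)] N)
    (hπ : ∀ x : N, π x = (⇑F)^[m] x) (α : Ω)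
    (hα : (π.charpoly.map (algebraMap K(p, k) Ω)).IsRoot α) :
    (IsIntegral (WittVector p k)
        (α ^ ν.den * (algebraMap K(p, k) Ω (p : K(p, k))) ^ (-(ν.num * (m : ℤ)))) ∧
      IsIntegral (WittVector p k)
        (α ^ ν.den * (algebraMap K(p, k) Ω (p : K(p, k))) ^ (-(ν.num * (m : ℤ))))⁻¹) ∧ α ≠ 0 := by
  obtain ⟨M, hM, r, s, hs, hrs, hMF⟩ := hiso
  obtain ⟨t, ht, hst, hrt⟩ :=
    Groth.Agent.Lib.Helper85.IsocSemisimple.exists_mul_of_div_eq ν r s hs hrs
  obtain ⟨h1, h2, h3⟩ := integral_root_of_lattice (Ω := Ω) a F M hM r s hMF m π hπ α hα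
  have hγ : (α ^ ν.den * (algebraMap K(p, k) Ω (p : K(p, k))) ^ (-(ν.num * (m : ℤ)))) ^ t =
      algebraMap K(p, k) Ω ((p : K(p, k)) ^ (-((m : ℤ) * r))) * α ^ s := by
    have e1 : ((algebraMap K(p, k) Ω (p : K(p, k))) ^ (-(ν.num * (m : ℤ)))) ^ t =
        (algebraMap K(p, k) Ω (p : K(p, k))) ^ (-(ν.num * (m : ℤ)) * (t : ℤ)) := by
      rw [zpow_mul, zpow_natCast]
    rw [mul_pow, ← pow_mul, e1, map_zpow₀, hst, hrt, mul_comm]
    congr 2
    ring
  refine ⟨⟨IsIntegral.of_pow ht (by rw [hγ]; exact h1), IsIntegral.of_pow ht ?_⟩, ?_⟩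
  · rw [inv_pow, hγ]
    exact h2
  · rintro rfl
    apply h3
    rw [zero_pow hs.ne', mul_zero]

end claim1

section claim2

variable {p : ℕ} [Fact p.Prime] {k : Type u} [Field k] [CharP k p] [PerfectRing k p]
variable {Ω : Type w} [Field Ω] [Algebra (WittVector p k) Ω] [Algebra K(p, k) Ω]
  [IsScalarTower (WittVector p k) K(p, k) Ω]

theorem not_isIntegral_p_zpow_neg (e : ℕ) (he : 0 < e) :
    ¬ IsIntegral (WittVector p k) ((algebraMap K(p, k) Ω (p : K(p, k))) ^ (-(e : ℤ))) := by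
  intro h
  rw [← map_zpow₀, isIntegral_algebraMap_iff (algebraMap K(p, k) Ω).injective,
    IsIntegrallyClosed.isIntegral_iff] at h
  obtain ⟨w, hw⟩ := h
  have h1 : algebraMap (WittVector p k) K(p, k) ((p : WittVector p k) ^ e * w) = 1 := by
    rw [map_mul, hw, map_pow, map_natCast, zpow_neg, zpow_natCast,
      mul_inv_cancel₀ (pow_ne_zero _ p_ne_zero)]
  have h2 : (p : WittVector p k) ^ e * w = 1 := by
    apply IsFractionRing.injective (WittVector p k) K(p, k)
    rw [h1, map_one]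
  have h3 : IsUnit ((p : WittVector p k) ^ e) := IsUnit.of_mul_eq_one _ h2
  have h4 : IsUnit (p : WittVector p k) := (isUnit_pow_iff he.ne').1 h3
  exact (WittVector.irreducible p).not_isUnit h4

/-- an element has at most one "order". -/
theorem slope_unique (m : ℕ) (hm : 0 < m) (α : Ω) (hα : α ≠ 0) (μ ν : ℚ)
    (hμ : IsIntegral (WittVector p k)
        (α ^ μ.den * (algebraMap K(p, k) Ω (p : K(p, k))) ^ (-(μ.num * (m : ℤ)))) ∧
      IsIntegral (WittVector p k)
        (α ^ μ.den * (algebraMap K(p, k) Ω (p : K(p, k))) ^ (-(μ.num * (m : ℤ))))⁻¹)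
    (hν : IsIntegral (WittVector p k)
        (α ^ ν.den * (algebraMap K(p, k) Ω (p : K(p, k))) ^ (-(ν.num * (m : ℤ)))) ∧
      IsIntegral (WittVector p k)
        (α ^ ν.den * (algebraMap K(p, k) Ω (p : K(p, k))) ^ (-(ν.num * (m : ℤ))))⁻¹) :
    μ = ν := by
  set P := algebraMap K(p, k) Ω (p : K(p, k)) with hP
  have hP0 : P ≠ 0 := by
    rw [hP]
    exact (map_ne_zero _).2 p_ne_zero
  set x := α ^ μ.den * P ^ (-(μ.num * (m : ℤ))) with hx
  set y := α ^ ν.den * P ^ (-(ν.num * (m : ℤ))) with hy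
  -- `x^(ν.den) * (y^(μ.den))⁻¹ = P^e`
  set e : ℤ := (m : ℤ) * (ν.num * μ.den - μ.num * ν.den) with he
  have h1 : x ^ ν.den * (y ^ μ.den)⁻¹ = P ^ e := by
    rw [hx, hy, mul_pow, mul_pow, ← pow_mul, ← pow_mul, ← zpow_natCast (P ^ _), ← zpow_natCast (P ^ _),
      ← zpow_mul, ← zpow_mul, mul_inv, mul_mul_mul_comm, mul_comm ν.den μ.den,
      mul_inv_cancel₀ (pow_ne_zero _ hα), one_mul, ← zpow_neg, ← zpow_add₀ hP0]
    congr 1
    rw [he]
    ring
  clear_value x y
  have h2 : x⁻¹ ^ ν.den * (y ^ μ.den) = P ^ (-e) := by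
    rw [zpow_neg, ← h1, mul_inv, inv_inv, inv_pow]
  have hi1 : IsIntegral (WittVector p k) (P ^ e) := by
    rw [← h1, ← inv_pow]
    exact (hμ.1.pow _).mul (hν.2.pow _)
  have hi2 : IsIntegral (WittVector p k) (P ^ (-e)) := by
    rw [← h2]
    exact (hμ.2.pow _).mul (hν.1.pow _)
  by_contra hne
  have he0 : e ≠ 0 := by
    rw [he]
    refine mul_ne_zero (by exact_mod_cast hm.ne') ?_
    intro h0
    apply hne
    rw [Rat.eq_iff_mul_eq_mul]
    linarith
  rcases lt_or_gt_of_ne he0 with hneg | hpos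
  · obtain ⟨n, hn⟩ : ∃ n : ℕ, e = -(n : ℤ) := ⟨(-e).toNat, by omega⟩
    rw [hn] at hi1
    exact not_isIntegral_p_zpow_neg (p := p) (k := k) (Ω := Ω) n (by omega) hi1
  · obtain ⟨n, hn⟩ : ∃ n : ℕ, e = (n : ℤ) := ⟨e.toNat, by omega⟩
    rw [hn] at hi2
    exact not_isIntegral_p_zpow_neg (p := p) (k := k) (Ω := Ω) n (by omega) hi2

end claim2

section main

open scoped Classical

variable {p : ℕ} [Fact p.Prime] {k : Type u} [Field k] [CharP k p] [PerfectRing k p]
variable {N : Type v} [AddCommGroup N] [Module (WittVector p k) N] [Module K(p, k) N]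
  [IsScalarTower (WittVector p k) K(p, k) N] [Module.Finite K(p, k) N]
variable {Ω : Type w} [Field Ω] [IsAlgClosed Ω] [Algebra (WittVector p k) Ω] [Algebra K(p, k) Ω]
  [IsScalarTower (WittVector p k) K(p, k) Ω]

theorem newtonMult_eq_countP (a : ℤ) (m : ℕ) (hm : 0 < m) (F : N →ₛₗ[Isoc.frob p k a] N)
    (hF : IsIsoc F) (π : N →ₗ[K(p, k)] N) (hπ : ∀ x : N, π x = (⇑F)^[m] x) (μ : ℚ) :
    newtonMult F μ =
      Multiset.countP
        (fun α : Ω => IsIntegral (WittVector p k)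
            (α ^ μ.den * (algebraMap K(p, k) Ω (p : K(p, k))) ^ (-(μ.num * (m : ℤ))))
          ∧ IsIntegral (WittVector p k)
            (α ^ μ.den * (algebraMap K(p, k) Ω (p : K(p, k))) ^ (-(μ.num * (m : ℤ))))⁻¹)
        ((π.charpoly.map (algebraMap K(p, k) Ω)).roots) := by
  have hτ := presW_frob (p := p) (k := k) a
  have hind := iSupIndep_slopePart a hF
  have hfin : {ν : ℚ | slopePart F ν ≠ ⊥}.Finite := Submodule.finite_ne_bot_of_iSupIndep hind
  let T : Finset ℚ := hfin.toFinset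
  have hnotT : ∀ ν : ℚ, ν ∉ T → slopePart F ν = ⊥ := by
    intro ν hν
    by_contra hne
    exact hν (hfin.mem_toFinset.2 hne)
  have htopT : ⨆ ν : T, slopePart F ν.1 = ⊤ := by
    rw [eq_top_iff, ← iSup_slopePart_eq_top a hF]
    refine iSup_le fun ν => ?_
    by_cases hν : ν ∈ T
    · exact le_iSup (fun ν : T => slopePart F ν.1) ⟨ν, hν⟩
    · rw [hnotT ν hν]; exact bot_le
  have hint : DirectSum.IsInternal (fun ν : T => slopePart F ν.1) :=
    DirectSum.isInternal_submodule_of_iSupIndep_of_iSup_eq_top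
      (hind.comp Subtype.val_injective) htopT
  have hst : ∀ ν : T, ∀ x ∈ slopePart F ν.1, F x ∈ slopePart F ν.1 :=
    fun ν => (slopePart_stable_hasSlope a hF ν.1).1
  have hπst : ∀ ν : T, ∀ x ∈ slopePart F ν.1, π x ∈ slopePart F ν.1 := by
    intro ν x hx
    rw [hπ]
    exact iterate_mem_of_stable _ F (hst ν) m hx
  have hne : ∀ ν : T, slopePart F ν.1 ≠ ⊥ := fun ν => hfin.mem_toFinset.1 ν.2
  have hcp : π.charpoly = ∏ ν : T, (π.restrict (hπst ν)).charpoly :=
    Groth.Agent.Lib.Helper85.CharpolyInternal.charpoly_eq_prod _ hint hne π hπst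
  set φ := algebraMap K(p, k) Ω with hφ
  let Q : T → Polynomial Ω := fun ν => ((π.restrict (hπst ν)).charpoly).map φ
  have hQmonic : ∀ ν, (Q ν).Monic := fun ν => (LinearMap.charpoly_monic _).map φ
  have hQne : ∀ ν, Q ν ≠ 0 := fun ν => (hQmonic ν).ne_zero
  have hroots : (π.charpoly.map φ).roots = ∑ ν : T, (Q ν).roots := by
    rw [hcp, Polynomial.map_prod, Polynomial.roots_prod _ _
      (Finset.prod_ne_zero_iff.2 fun ν _ => hQne ν)]
    rfl
  rw [hroots]
  set Pr : Ω → Prop := fun α : Ω => IsIntegral (WittVector p k)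
      (α ^ μ.den * (φ (p : K(p, k))) ^ (-(μ.num * (m : ℤ))))
    ∧ IsIntegral (WittVector p k)
      (α ^ μ.den * (φ (p : K(p, k))) ^ (-(μ.num * (m : ℤ))))⁻¹ with hPr
  have hsum : Multiset.countP Pr (∑ ν : T, (Q ν).roots) =
      ∑ ν : T, Multiset.countP Pr (Q ν).roots := by
    have := map_sum (Multiset.countPAddMonoidHom Pr) (fun ν : T => (Q ν).roots) Finset.univ
    simpa only [Multiset.coe_countPAddMonoidHom] using this
  rw [hsum]
  have hterm : ∀ ν : T, Multiset.countP Pr (Q ν).roots =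
      if ν.1 = μ then Module.finrank K(p, k) (slopePart F ν.1) else 0 := by
    intro ν
    obtain ⟨_, hisoν⟩ := Groth.Agent.S17151.result p k a N F hF ν.1
    have hπν : ∀ x : slopePart F ν.1,
        (π.restrict (hπst ν)) x = (⇑(F.restrict (hst ν)))^[m] x := by
      intro x
      apply Subtype.ext
      rw [restrict_iterate _ F (hst ν)]
      exact hπ x
    have hroot : ∀ α ∈ (Q ν).roots,
        (IsIntegral (WittVector p k)
            (α ^ ν.1.den * (φ (p : K(p, k))) ^ (-(ν.1.num * (m : ℤ)))) ∧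
          IsIntegral (WittVector p k)
            (α ^ ν.1.den * (φ (p : K(p, k))) ^ (-(ν.1.num * (m : ℤ))))⁻¹) ∧ α ≠ 0 := by
      intro α hα
      have hα' := (Polynomial.mem_roots (hQne ν)).1 hα
      exact slope_of_root (Ω := Ω) a (F.restrict (hst ν)) ν.1 hisoν m (π.restrict (hπst ν)) hπν α hα'
    by_cases hνμ : ν.1 = μ
    · rw [if_pos hνμ]
      have hall : ∀ α ∈ (Q ν).roots, Pr α := by
        intro α hα
        have := (hroot α hα).1
        rw [hνμ] at this
        exact this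
      rw [Multiset.countP_eq_card.2 hall]
      show (Polynomial.map φ (π.restrict (hπst ν)).charpoly).roots.card = _
      rw [IsAlgClosed.card_roots_map_eq_natDegree_of_injective _ φ.injective,
        LinearMap.charpoly_natDegree]
    · rw [if_neg hνμ, Multiset.countP_eq_zero]
      intro α hα hPα
      obtain ⟨hPν, hα0⟩ := hroot α hα
      exact hνμ (slope_unique (p := p) (k := k) m hm α hα0 μ ν.1 hPα hPν).symm
  rw [Finset.sum_congr rfl fun ν _ => hterm ν]
  unfold newtonMult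
  by_cases hμT : μ ∈ T
  · rw [Finset.sum_eq_single_of_mem (⟨μ, hμT⟩ : T) (Finset.mem_univ _)]
    · rw [if_pos rfl]
    · intro ν _ hν
      rw [if_neg]
      intro h
      exact hν (Subtype.ext h)
  · rw [hnotT μ hμT, finrank_bot]
    symm
    apply Finset.sum_eq_zero
    intro ν _
    rw [if_neg]
    intro h
    exact hμT (h ▸ ν.2)

end main

end Groth.Agent.Lib.Helper85.IsocZeta
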