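import Groth.Agent.Lib.Helper85.LaurentCocycleMaps

open AddMonoidAlgebra

namespace Groth.Agent.Lib.Helper85.LaurentCocycle

universe u
variable {A : Type u} [CommRing A]

lemma mulVec_injective_of_left_inv {p q : ℕ} (M : Matrix (Fin q) (Fin p) ℤ)
    (L : Matrix (Fin p) (Fin q) ℤ) (hL : L * M = 1) :
    Function.Injective (fun v : Fin p → ℤ => M.mulVec v) := by
  intro a b hab
  have := congrArg L.mulVec hab
  simpa [Matrix.mulVec_mulVec, hL] using this

lemma E0_mulVec_injective : Function.Injective (fun v : Fin 1 → ℤ => E0.mulVec v) :=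
  mulVec_injective_of_left_inv _ _ E0_left

/-- additive vanishing of `H²` -/
lemma additive_cocycle {J : Ideal A} (m : AddMonoidAlgebra A (Fin 2 → ℤ))
    (H : (dm A D0 m - dm A D1 m + dm A D2 m - dm A D3 m) ∈ coeffIdeal (G := Fin 3 → ℤ) J) :
    ∃ g : AddMonoidAlgebra A (Fin 1 → ℤ), (∀ c, g.coeff ![c] = m.coeff ![0, c]) ∧
      m - (dm A E0 g - dm A E1 g + dm A E2 g) ∈ coeffIdeal (G := Fin 2 → ℤ) J := by
  classical
  refine ⟨AddMonoidAlgebra.comapDomain _ E0_mulVec_injective m, ?_, ?_⟩
  · intro c
    rw [coeff_comapDomain, Finsupp.comapDomain_apply, E0_mulVec]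
  · have hg : ∀ c, (AddMonoidAlgebra.comapDomain _ E0_mulVec_injective m).coeff ![c]
        = m.coeff ![0, c] := by
      intro c
      rw [coeff_comapDomain, Finsupp.comapDomain_apply, E0_mulVec]
    rw [mem_coeffIdeal] at H ⊢
    have H' : ∀ x y : ℤ, ((if x = 0 then m.coeff ![y, 0] else 0)
        - (if x = y then m.coeff ![x, 0] else 0) + (if y = 0 then m.coeff ![x, y] else 0)
        - m.coeff ![x, y]) ∈ J := by
      intro x y
      have := H ![x, y, 0]
      simpa only [coeff_sub, coeff_add, Finsupp.coe_sub, Finsupp.coe_add, Pi.sub_apply,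
        Pi.add_apply, coeff_D0, coeff_D1, coeff_D2, coeff_D3, if_true] using this
    intro v
    rw [vec2_eta v]
    generalize v 0 = a
    generalize v 1 = b
    simp only [coeff_sub, coeff_add, Finsupp.coe_sub, Finsupp.coe_add, Pi.sub_apply,
      Pi.add_apply, coeff_E0, coeff_E1, coeff_E2, hg]
    by_cases ha : a = 0
    · subst ha
      by_cases hb : b = 0
      · subst hb; simp
      · simp [hb, Ne.symm hb]
    · by_cases hb : b = 0
      · subst hb
        have := H' 0 a
        simp only [if_true, if_neg ha, if_neg (Ne.symm ha)] at this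
        simpa [ha] using this
      · by_cases hab : a = b
        · subst hab
          have h1 := H' 0 a
          have h2 := H' a a
          simp only [if_true, if_neg ha, if_neg (Ne.symm ha)] at h1 h2
          simp only [if_neg ha, if_true]
          have : m.coeff ![a, a] - (0 - m.coeff ![0, a] + 0) =
              -((m.coeff ![a, 0] - 0 + 0 - m.coeff ![0, a]) +
                (0 - m.coeff ![a, 0] + 0 - m.coeff ![a, a])) := by ring
          rw [this]
          exact J.neg_mem (J.add_mem h1 h2)
        · have := H' a b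
          simp only [if_neg ha, if_neg hab, if_neg hb] at this
          simp only [if_neg ha, if_neg hab, if_neg hb]
          have e : m.coeff ![a, b] - (0 - 0 + 0) = -(0 - 0 + 0 - m.coeff ![a, b]) := by ring
          rw [e]
          exact J.neg_mem this

end Groth.Agent.Lib.Helper85.LaurentCocycle
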