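import Mathlib

open AddMonoidAlgebra

namespace Groth.Agent.Lib.Helper85.LaurentCocycle

/-- In a commutative ring `D` without zero divisors and an additive group `G` with two unique sums, every
invertible element of `D[G]` is a monomial. -/
theorem exists_single_of_mul_eq_one {D G : Type*} [CommRing D] [IsDomain D] [AddCommGroup G]
    [TwoUniqueSums G] (u v : AddMonoidAlgebra D G) (h : u * v = 1) :
    ∃ g d, u = AddMonoidAlgebra.single g d := by
  classical
  have hu : u ≠ 0 := by rintro rfl; rw [zero_mul] at h; exact zero_ne_one h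
  have hv : v ≠ 0 := by rintro rfl; rw [mul_zero] at h; exact zero_ne_one h
  have hS : u.coeff.support.Nonempty := by
    rw [Finsupp.support_nonempty_iff]; simpa using hu
  have hT : v.coeff.support.Nonempty := by
    rw [Finsupp.support_nonempty_iff]; simpa using hv
  have hcard : ¬ 1 < u.coeff.support.card * v.coeff.support.card := by
    intro hlt
    obtain ⟨p1, hp1, p2, hp2, hne, h1, h2⟩ := TwoUniqueSums.uniqueAdd_of_one_lt_card hlt
    rw [Finset.mem_product] at hp1 hp2
    have e1 := coeff_mul_add_of_uniqueAdd h1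
    have e2 := coeff_mul_add_of_uniqueAdd h2
    rw [h] at e1 e2
    have n1 : u.coeff p1.1 * v.coeff p1.2 ≠ 0 :=
      mul_ne_zero (Finsupp.mem_support_iff.mp hp1.1) (Finsupp.mem_support_iff.mp hp1.2)
    have n2 : u.coeff p2.1 * v.coeff p2.2 ≠ 0 :=
      mul_ne_zero (Finsupp.mem_support_iff.mp hp2.1) (Finsupp.mem_support_iff.mp hp2.2)
    have z1 : p1.1 + p1.2 = 0 := by
      by_contra hz
      apply n1; rw [← e1, one_def, coeff_single, Finsupp.single_apply, if_neg (Ne.symm hz)]
    have z2 : p2.1 + p2.2 = 0 := by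
      by_contra hz
      apply n2; rw [← e2, one_def, coeff_single, Finsupp.single_apply, if_neg (Ne.symm hz)]
    have := h1 hp2.1 hp2.2 (by rw [z1, z2])
    exact hne (Prod.ext this.1.symm this.2.symm)
  have hSc : u.coeff.support.card = 1 := by
    have h1 : 0 < u.coeff.support.card := Finset.card_pos.mpr hS
    have h2 : 0 < v.coeff.support.card := Finset.card_pos.mpr hT
    by_contra hne
    have : 2 ≤ u.coeff.support.card := by omega
    apply hcard
    calc 1 < 2 * 1 := by norm_num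
      _ ≤ _ := Nat.mul_le_mul this h2
  obtain ⟨g, hg⟩ := Finset.card_eq_one.mp hSc
  refine ⟨g, u.coeff g, ?_⟩
  ext x
  rw [coeff_single, Finsupp.single_apply]
  split_ifs with hx
  · rw [hx]
  · have : x ∉ u.coeff.support := by rw [hg]; simpa using Ne.symm hx
    simpa using this


universe u
variable {A : Type u} [CommRing A]

/-- The ring map `A[ℤ^p] → A[ℤ^q]` induced by an integer matrix. -/
noncomputable abbrev dm (A : Type u) [CommRing A] {p q : ℕ} (M : Matrix (Fin q) (Fin p) ℤ) :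
    AddMonoidAlgebra A (Fin p → ℤ) →+* AddMonoidAlgebra A (Fin q → ℤ) :=
  AddMonoidAlgebra.mapDomainRingHom A (Matrix.mulVecLin M).toAddMonoidHom

lemma dm_apply {p q : ℕ} (M : Matrix (Fin q) (Fin p) ℤ) (f : AddMonoidAlgebra A (Fin p → ℤ)) :
    dm A M f = AddMonoidAlgebra.mapDomain (fun v => M.mulVec v) f := rfl

lemma dm_single {p q : ℕ} (M : Matrix (Fin q) (Fin p) ℤ) (v : Fin p → ℤ) (a : A) :
    dm A M (single v a) = single (M.mulVec v) a := by
  rw [dm_apply, mapDomain_single]

lemma dm_single_zero {p q : ℕ} (M : Matrix (Fin q) (Fin p) ℤ) (a : A) :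
    dm A M (single 0 a) = single 0 a := by
  rw [dm_single, Matrix.mulVec_zero]

lemma dm_dm {p q r : ℕ} (M : Matrix (Fin r) (Fin q) ℤ) (M' : Matrix (Fin q) (Fin p) ℤ)
    (f : AddMonoidAlgebra A (Fin p → ℤ)) : dm A M (dm A M' f) = dm A (M * M') f := by
  rw [dm_apply, dm_apply, dm_apply]
  ext : 1
  simp only [coeff_mapDomain]
  rw [← Finsupp.mapDomain_comp]
  congr 1
  funext v
  simp [Matrix.mulVec_mulVec]

lemma coeff_dm_mulVec {p q : ℕ} (M : Matrix (Fin q) (Fin p) ℤ)
    (L : Matrix (Fin p) (Fin q) ℤ) (hL : L * M = 1)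
    (f : AddMonoidAlgebra A (Fin p → ℤ)) (v : Fin p → ℤ) :
    (dm A M f).coeff (M.mulVec v) = f.coeff v := by
  rw [dm_apply, coeff_mapDomain]
  refine Finsupp.mapDomain_apply ?_ _ _
  intro a b hab
  have := congrArg L.mulVec hab
  simpa [Matrix.mulVec_mulVec, hL] using this

lemma coeff_dm_of_forall_ne {p q : ℕ} (M : Matrix (Fin q) (Fin p) ℤ)
    (f : AddMonoidAlgebra A (Fin p → ℤ)) (w : Fin q → ℤ) (hw : ∀ v, M.mulVec v ≠ w) :
    (dm A M f).coeff w = 0 := by
  rw [dm_apply, coeff_mapDomain]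
  refine Finsupp.mapDomain_of_notMem_range _ _ ?_
  rintro ⟨v, hv⟩
  exact hw v hv

/-- coefficientwise membership ideal -/
noncomputable def coeffIdeal {G : Type*} [AddCommMonoid G] (I : Ideal A) :
    Ideal (AddMonoidAlgebra A G) :=
  RingHom.ker (AddMonoidAlgebra.mapRingHom G (Ideal.Quotient.mk I))

lemma mem_coeffIdeal {G : Type*} [AddCommMonoid G] {I : Ideal A} {f : AddMonoidAlgebra A G} :
    f ∈ coeffIdeal (G := G) I ↔ ∀ x, f.coeff x ∈ I := by
  rw [coeffIdeal, RingHom.mem_ker]
  constructor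
  · intro h x
    have := congrArg (fun t => t.coeff x) h
    simpa [Ideal.Quotient.eq_zero_iff_mem] using this
  · intro h
    ext x
    simpa [Ideal.Quotient.eq_zero_iff_mem] using h x

lemma coeffIdeal_bot {G : Type*} [AddCommMonoid G] {f : AddMonoidAlgebra A G}
    (h : f ∈ coeffIdeal (G := G) (⊥ : Ideal A)) : f = 0 := by
  rw [mem_coeffIdeal] at h
  ext x
  simpa using h x

lemma coeffIdeal_mono {G : Type*} [AddCommMonoid G] {I J : Ideal A} (h : I ≤ J) :
    coeffIdeal (G := G) I ≤ coeffIdeal (G := G) J := by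
  intro f hf
  rw [mem_coeffIdeal] at hf ⊢
  exact fun x => h (hf x)

lemma mul_mem_coeffIdeal {G : Type*} [AddCommMonoid G] {I J : Ideal A}
    {f g : AddMonoidAlgebra A G} (hf : f ∈ coeffIdeal (G := G) I)
    (hg : g ∈ coeffIdeal (G := G) J) : f * g ∈ coeffIdeal (G := G) (I * J) := by
  classical
  rw [mem_coeffIdeal] at hf hg ⊢
  intro x
  rw [coeff_mul]
  refine Ideal.sum_mem _ fun a _ => Ideal.sum_mem _ fun b _ => ?_
  dsimp only
  split_ifs
  · exact Ideal.mul_mem_mul (hf a) (hg b)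
  · exact Ideal.zero_mem _

lemma pow_mem_coeffIdeal {G : Type*} [AddCommMonoid G] {I : Ideal A}
    {f : AddMonoidAlgebra A G} (hf : f ∈ coeffIdeal (G := G) I) (n : ℕ) :
    f ^ n ∈ coeffIdeal (G := G) (I ^ n) := by
  induction n with
  | zero =>
    rw [pow_zero, pow_zero, Ideal.one_eq_top, mem_coeffIdeal]
    intro x; trivial
  | succ n ih =>
    rw [pow_succ, pow_succ]
    exact mul_mem_coeffIdeal ih hf

lemma dm_mem_coeffIdeal {p q : ℕ} (M : Matrix (Fin q) (Fin p) ℤ) {I : Ideal A}
    {f : AddMonoidAlgebra A (Fin p → ℤ)} (hf : f ∈ coeffIdeal (G := Fin p → ℤ) I) :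
    dm A M f ∈ coeffIdeal (G := Fin q → ℤ) I := by
  rw [coeffIdeal, RingHom.mem_ker] at hf ⊢
  have := congrArg (fun φ => φ f)
    (AddMonoidAlgebra.mapRingHom_comp_mapDomainRingHom (Ideal.Quotient.mk I)
      (Matrix.mulVecLin M).toAddMonoidHom)
  simp only [RingHom.comp_apply] at this
  rw [this, hf, map_zero]

end Groth.Agent.Lib.Helper85.LaurentCocycle
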