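import Groth.Agent.Lib.Helper85.LaurentCocycleStep

open AddMonoidAlgebra

namespace Groth.Agent.Lib.Helper85.LaurentCocycle

universe u
variable {A : Type u} [CommRing A]

/-- a unit 2-cocycle over a domain is a nonzero constant -/
lemma cocycle_domain {D : Type u} [CommRing D] [IsDomain D]
    (ξ : (AddMonoidAlgebra D (Fin 2 → ℤ))ˣ) (hξ : d2 D ξ = 1) :
    ∃ d : D, d ≠ 0 ∧ (ξ : AddMonoidAlgebra D (Fin 2 → ℤ)) = single 0 d := by
  obtain ⟨g, d, hgd⟩ := exists_single_of_mul_eq_one (ξ : AddMonoidAlgebra D (Fin 2 → ℤ))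
    ((ξ⁻¹ : (AddMonoidAlgebra D (Fin 2 → ℤ))ˣ) : AddMonoidAlgebra D (Fin 2 → ℤ)) (Units.mul_inv ξ)
  have hd : d ≠ 0 := by
    rintro rfl
    rw [single_zero] at hgd
    have := ξ.ne_zero
    exact this hgd
  refine ⟨d, hd, ?_⟩
  have h := cocycle_ring_eq hξ
  rw [hgd, dm_single, dm_single, dm_single, dm_single, single_mul_single, single_mul_single] at h
  have hdd : d * d ≠ 0 := mul_ne_zero hd hd
  have h2 := (single_left_inj hdd).mp h
  rw [vec2_eta g, D0_mulVec, D1_mulVec, D2_mulVec, D3_mulVec] at h2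
  have e0 := congrFun h2 0
  have e2 := congrFun h2 2
  simp at e0 e2
  have hg : g = 0 := by
    rw [vec2_eta g]
    ext i; fin_cases i
    · simpa using e0
    · simpa using e2
  rw [hgd, hg]

lemma d2_mapRingHom {B : Type u} [CommRing B] (φ : A →+* B)
    (ξ : (AddMonoidAlgebra A (Fin 2 → ℤ))ˣ) (hξ : d2 A ξ = 1) :
    d2 B (Units.map (AddMonoidAlgebra.mapRingHom (Fin 2 → ℤ) φ).toMonoidHom ξ) = 1 := by
  have key : ∀ (M : Matrix (Fin 3) (Fin 2) ℤ),
      um B M (Units.map (AddMonoidAlgebra.mapRingHom (Fin 2 → ℤ) φ).toMonoidHom ξ) =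
      Units.map (AddMonoidAlgebra.mapRingHom (Fin 3 → ℤ) φ).toMonoidHom (um A M ξ) := by
    intro M
    apply Units.ext
    have := congrArg (fun ψ => ψ (ξ : AddMonoidAlgebra A (Fin 2 → ℤ)))
      (AddMonoidAlgebra.mapRingHom_comp_mapDomainRingHom φ (Matrix.mulVecLin M).toAddMonoidHom)
    simp only [RingHom.comp_apply] at this
    exact this.symm
  have e : d2 B (Units.map (AddMonoidAlgebra.mapRingHom (Fin 2 → ℤ) φ).toMonoidHom ξ) =
      Units.map (AddMonoidAlgebra.mapRingHom (Fin 3 → ℤ) φ).toMonoidHom (d2 A ξ) := by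
    rw [d2_apply, d2_apply, key, key, key, key]
    simp only [map_mul, map_inv]
  rw [e, hξ, map_one]

/-- coefficients of a unit 2-cocycle: constant coefficient is a unit, all others nilpotent. -/
theorem coeff_facts (ξ : (AddMonoidAlgebra A (Fin 2 → ℤ))ˣ) (hξ : d2 A ξ = 1) :
    IsUnit ((ξ : AddMonoidAlgebra A (Fin 2 → ℤ)).coeff 0) ∧
      ∀ x, x ≠ 0 → IsNilpotent ((ξ : AddMonoidAlgebra A (Fin 2 → ℤ)).coeff x) := by
  have hP : ∀ P : Ideal A, P.IsPrime → ∃ d : A ⧸ P, d ≠ 0 ∧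
      ∀ x, Ideal.Quotient.mk P ((ξ : AddMonoidAlgebra A (Fin 2 → ℤ)).coeff x) =
        (single (0 : Fin 2 → ℤ) d).coeff x := by
    intro P hPp
    have : IsDomain (A ⧸ P) := Ideal.Quotient.isDomain P
    obtain ⟨d, hd, hd'⟩ := cocycle_domain _ (d2_mapRingHom (Ideal.Quotient.mk P) ξ hξ)
    refine ⟨d, hd, fun x => ?_⟩
    rw [← hd']
    simp
  constructor
  · by_contra hnu
    obtain ⟨M, hM, hmem⟩ := exists_max_ideal_of_mem_nonunits (show _ ∈ nonunits A from hnu)
    obtain ⟨d, hd, hx⟩ := hP M hM.isPrime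
    apply hd
    have := hx 0
    rw [coeff_single, Finsupp.single_eq_same] at this
    rw [← this]
    exact Ideal.Quotient.eq_zero_iff_mem.mpr hmem
  · intro x hx0
    rw [nilpotent_iff_mem_prime]
    intro P hPp
    obtain ⟨d, hd, hx⟩ := hP P hPp
    have := hx x
    rw [coeff_single, Finsupp.single_apply, if_neg (Ne.symm hx0)] at this
    exact Ideal.Quotient.eq_zero_iff_mem.mp this

end Groth.Agent.Lib.Helper85.LaurentCocycle
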