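import Groth.Agent.Lib.Helper85.LaurentCocycleCoeff

open AddMonoidAlgebra

namespace Groth.Agent.Lib.Helper85.LaurentCocycle

universe u
variable {A : Type u} [CommRing A]

theorem exists_coboundary_main (ξ : (AddMonoidAlgebra A (Fin 2 → ℤ))ˣ) (hξ : d2 A ξ = 1)
    (hc : IsUnit ((ξ : AddMonoidAlgebra A (Fin 2 → ℤ)).coeff 0))
    (hnil : ∀ x, x ≠ 0 → IsNilpotent ((ξ : AddMonoidAlgebra A (Fin 2 → ℤ)).coeff x)) :
    ∃ η : (AddMonoidAlgebra A (Fin 1 → ℤ))ˣ, ξ = d1 A η := by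
  classical
  obtain ⟨c, hcdef⟩ := hc
  -- the nilpotent ideal
  set S : Finset A := Finset.image (fun x => (ξ : AddMonoidAlgebra A (Fin 2 → ℤ)).coeff x)
    ((ξ : AddMonoidAlgebra A (Fin 2 → ℤ)).coeff.support.erase 0) with hS
  set N : Ideal A := Ideal.span (S : Set A) with hNdef
  have hmemN : ∀ x, x ≠ 0 → (ξ : AddMonoidAlgebra A (Fin 2 → ℤ)).coeff x ∈ N := by
    intro x hx
    by_cases hsupp : x ∈ (ξ : AddMonoidAlgebra A (Fin 2 → ℤ)).coeff.support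
    · apply Ideal.subset_span
      rw [hS, Finset.coe_image]
      exact ⟨x, Finset.mem_coe.mpr (Finset.mem_erase.mpr ⟨hx, hsupp⟩), rfl⟩
    · rw [Finsupp.notMem_support_iff.mp hsupp]
      exact N.zero_mem
  have hNfg : N.FG := ⟨S, rfl⟩
  have hNnil : IsNilpotent N := by
    rw [Ideal.FG.isNilpotent_iff_le_nilradical hNfg, hNdef, Ideal.span_le]
    intro a ha
    rw [hS, Finset.coe_image] at ha
    obtain ⟨x, hx, rfl⟩ := ha
    rw [SetLike.mem_coe, mem_nilradical]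
    apply hnil
    have : x ∈ (ξ : AddMonoidAlgebra A (Fin 2 → ℤ)).coeff.support.erase 0 := hx
    exact (Finset.mem_erase.mp this).1
  -- constant units
  set η₀ : (AddMonoidAlgebra A (Fin 1 → ℤ))ˣ :=
    Units.map (singleZeroRingHom (R := A) (M := Fin 1 → ℤ)).toMonoidHom c with hη₀
  have hη₀coe : (η₀ : AddMonoidAlgebra A (Fin 1 → ℤ)) = single 0 (c : A) := rfl
  set κ : (AddMonoidAlgebra A (Fin 2 → ℤ))ˣ :=
    Units.map (singleZeroRingHom (R := A) (M := Fin 2 → ℤ)).toMonoidHom c with hκ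
  have hκcoe : (κ : AddMonoidAlgebra A (Fin 2 → ℤ)) = single 0 (c : A) := rfl
  have hum : ∀ M : Matrix (Fin 2) (Fin 1) ℤ, um A M η₀ = κ := by
    intro M
    apply Units.ext
    rw [coe_um, hη₀coe, dm_single_zero, hκcoe]
  have hd1 : d1 A η₀ = κ := by
    rw [d1_apply, hum, hum, hum, mul_inv_cancel, one_mul]
  refine exists_coboundary_of_nilpotent N hNnil ξ hξ η₀ ?_
  rw [hd1]
  have e : ((ξ * κ⁻¹ : (AddMonoidAlgebra A (Fin 2 → ℤ))ˣ) : AddMonoidAlgebra A (Fin 2 → ℤ)) - 1 =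
      ((κ⁻¹ : (AddMonoidAlgebra A (Fin 2 → ℤ))ˣ) : AddMonoidAlgebra A (Fin 2 → ℤ)) *
        ((ξ : AddMonoidAlgebra A (Fin 2 → ℤ)) - (κ : AddMonoidAlgebra A (Fin 2 → ℤ))) := by
    rw [mul_sub, Units.inv_mul, Units.val_mul, mul_comm]
  rw [e]
  refine Ideal.mul_mem_left _ _ ?_
  rw [mem_coeffIdeal, hκcoe]
  intro x
  rw [coeff_sub, Finsupp.sub_apply, coeff_single, Finsupp.single_apply]
  split_ifs with hx
  · rw [← hx, hcdef, sub_self]
    exact N.zero_mem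
  · rw [sub_zero]
    exact hmemN x (Ne.symm hx)

end Groth.Agent.Lib.Helper85.LaurentCocycle
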