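import Groth.Agent.Lib.Helper85.LaurentCocycleBasic

open AddMonoidAlgebra

namespace Groth.Agent.Lib.Helper85.LaurentCocycle

universe u
variable {A : Type u} [CommRing A]

abbrev D0 : Matrix (Fin 3) (Fin 2) ℤ := !![0, 0; 1, 0; 0, 1]
abbrev D1 : Matrix (Fin 3) (Fin 2) ℤ := !![1, 0; 1, 0; 0, 1]
abbrev D2 : Matrix (Fin 3) (Fin 2) ℤ := !![1, 0; 0, 1; 0, 1]
abbrev D3 : Matrix (Fin 3) (Fin 2) ℤ := !![1, 0; 0, 1; 0, 0]
abbrev E0 : Matrix (Fin 2) (Fin 1) ℤ := !![0; 1]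
abbrev E1 : Matrix (Fin 2) (Fin 1) ℤ := !![1; 1]
abbrev E2 : Matrix (Fin 2) (Fin 1) ℤ := !![1; 0]

lemma D0_mulVec (a b : ℤ) : D0.mulVec ![a, b] = ![0, a, b] := by
  ext i; fin_cases i <;> simp [Matrix.mulVec, dotProduct, Fin.sum_univ_succ]
lemma D1_mulVec (a b : ℤ) : D1.mulVec ![a, b] = ![a, a, b] := by
  ext i; fin_cases i <;> simp [Matrix.mulVec, dotProduct, Fin.sum_univ_succ]
lemma D2_mulVec (a b : ℤ) : D2.mulVec ![a, b] = ![a, b, b] := by
  ext i; fin_cases i <;> simp [Matrix.mulVec, dotProduct, Fin.sum_univ_succ]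
lemma D3_mulVec (a b : ℤ) : D3.mulVec ![a, b] = ![a, b, 0] := by
  ext i; fin_cases i <;> simp [Matrix.mulVec, dotProduct, Fin.sum_univ_succ]
lemma E0_mulVec (c : ℤ) : E0.mulVec ![c] = ![0, c] := by
  ext i; fin_cases i <;> simp [Matrix.mulVec, dotProduct, Fin.sum_univ_succ]
lemma E1_mulVec (c : ℤ) : E1.mulVec ![c] = ![c, c] := by
  ext i; fin_cases i <;> simp [Matrix.mulVec, dotProduct, Fin.sum_univ_succ]
lemma E2_mulVec (c : ℤ) : E2.mulVec ![c] = ![c, 0] := by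
  ext i; fin_cases i <;> simp [Matrix.mulVec, dotProduct, Fin.sum_univ_succ]

lemma vec2_eta (v : Fin 2 → ℤ) : v = ![v 0, v 1] := by
  ext i; fin_cases i <;> rfl
lemma vec1_eta (v : Fin 1 → ℤ) : v = ![v 0] := by
  ext i; fin_cases i; rfl

lemma D0_left : (!![0, 1, 0; 0, 0, 1] : Matrix (Fin 2) (Fin 3) ℤ) * D0 = 1 := by
  ext i j; fin_cases i <;> fin_cases j <;> simp [Matrix.mul_apply, Fin.sum_univ_succ]
lemma D1_left : (!![1, 0, 0; 0, 0, 1] : Matrix (Fin 2) (Fin 3) ℤ) * D1 = 1 := by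
  ext i j; fin_cases i <;> fin_cases j <;> simp [Matrix.mul_apply, Fin.sum_univ_succ]
lemma D2_left : (!![1, 0, 0; 0, 1, 0] : Matrix (Fin 2) (Fin 3) ℤ) * D2 = 1 := by
  ext i j; fin_cases i <;> fin_cases j <;> simp [Matrix.mul_apply, Fin.sum_univ_succ]
lemma D3_left : (!![1, 0, 0; 0, 1, 0] : Matrix (Fin 2) (Fin 3) ℤ) * D3 = 1 := by
  ext i j; fin_cases i <;> fin_cases j <;> simp [Matrix.mul_apply, Fin.sum_univ_succ]
lemma E0_left : (!![0, 1] : Matrix (Fin 1) (Fin 2) ℤ) * E0 = 1 := by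
  ext i j; fin_cases i <;> fin_cases j <;> simp [Matrix.mul_apply, Fin.sum_univ_succ]
lemma E1_left : (!![1, 0] : Matrix (Fin 1) (Fin 2) ℤ) * E1 = 1 := by
  ext i j; fin_cases i <;> fin_cases j <;> simp [Matrix.mul_apply, Fin.sum_univ_succ]
lemma E2_left : (!![1, 0] : Matrix (Fin 1) (Fin 2) ℤ) * E2 = 1 := by
  ext i j; fin_cases i <;> fin_cases j <;> simp [Matrix.mul_apply, Fin.sum_univ_succ]

lemma coeff_D0 (f : AddMonoidAlgebra A (Fin 2 → ℤ)) (x y z : ℤ) :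
    (dm A D0 f).coeff ![x, y, z] = if x = 0 then f.coeff ![y, z] else 0 := by
  split_ifs with h
  · subst h
    rw [← D0_mulVec, coeff_dm_mulVec _ _ D0_left]
  · refine coeff_dm_of_forall_ne _ _ _ fun v hv => h ?_
    rw [vec2_eta v, D0_mulVec] at hv
    have := congrFun hv 0
    simpa using this.symm

lemma coeff_D1 (f : AddMonoidAlgebra A (Fin 2 → ℤ)) (x y z : ℤ) :
    (dm A D1 f).coeff ![x, y, z] = if x = y then f.coeff ![x, z] else 0 := by
  split_ifs with h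
  · subst h
    rw [← D1_mulVec, coeff_dm_mulVec _ _ D1_left]
  · refine coeff_dm_of_forall_ne _ _ _ fun v hv => h ?_
    rw [vec2_eta v, D1_mulVec] at hv
    have h0 := congrFun hv 0
    have h1 := congrFun hv 1
    simp at h0 h1
    rw [← h0, ← h1]

lemma coeff_D2 (f : AddMonoidAlgebra A (Fin 2 → ℤ)) (x y z : ℤ) :
    (dm A D2 f).coeff ![x, y, z] = if y = z then f.coeff ![x, y] else 0 := by
  split_ifs with h
  · subst h
    rw [← D2_mulVec, coeff_dm_mulVec _ _ D2_left]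
  · refine coeff_dm_of_forall_ne _ _ _ fun v hv => h ?_
    rw [vec2_eta v, D2_mulVec] at hv
    have h1 := congrFun hv 1
    have h2 := congrFun hv 2
    simp at h1 h2
    rw [← h1, ← h2]

lemma coeff_D3 (f : AddMonoidAlgebra A (Fin 2 → ℤ)) (x y z : ℤ) :
    (dm A D3 f).coeff ![x, y, z] = if z = 0 then f.coeff ![x, y] else 0 := by
  split_ifs with h
  · subst h
    rw [← D3_mulVec, coeff_dm_mulVec _ _ D3_left]
  · refine coeff_dm_of_forall_ne _ _ _ fun v hv => h ?_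
    rw [vec2_eta v, D3_mulVec] at hv
    have h2 := congrFun hv 2
    simpa using h2.symm

lemma coeff_E0 (g : AddMonoidAlgebra A (Fin 1 → ℤ)) (a b : ℤ) :
    (dm A E0 g).coeff ![a, b] = if a = 0 then g.coeff ![b] else 0 := by
  split_ifs with h
  · subst h
    rw [← E0_mulVec, coeff_dm_mulVec _ _ E0_left]
  · refine coeff_dm_of_forall_ne _ _ _ fun v hv => h ?_
    rw [vec1_eta v, E0_mulVec] at hv
    have h0 := congrFun hv 0
    simpa using h0.symm

lemma coeff_E1 (g : AddMonoidAlgebra A (Fin 1 → ℤ)) (a b : ℤ) :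
    (dm A E1 g).coeff ![a, b] = if a = b then g.coeff ![a] else 0 := by
  split_ifs with h
  · subst h
    rw [← E1_mulVec, coeff_dm_mulVec _ _ E1_left]
  · refine coeff_dm_of_forall_ne _ _ _ fun v hv => h ?_
    rw [vec1_eta v, E1_mulVec] at hv
    have h0 := congrFun hv 0
    have h1 := congrFun hv 1
    simp at h0 h1
    rw [← h0, ← h1]

lemma coeff_E2 (g : AddMonoidAlgebra A (Fin 1 → ℤ)) (a b : ℤ) :
    (dm A E2 g).coeff ![a, b] = if b = 0 then g.coeff ![a] else 0 := by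
  split_ifs with h
  · subst h
    rw [← E2_mulVec, coeff_dm_mulVec _ _ E2_left]
  · refine coeff_dm_of_forall_ne _ _ _ fun v hv => h ?_
    rw [vec1_eta v, E2_mulVec] at hv
    have h1 := congrFun hv 1
    simpa using h1.symm

/-- cosimplicial identities -/
lemma D1E0 : D1 * E0 = D0 * E0 := by
  ext i j; fin_cases i <;> fin_cases j <;> simp [Matrix.mul_apply, Fin.sum_univ_succ]
lemma D2E0 : D2 * E0 = D0 * E1 := by
  ext i j; fin_cases i <;> fin_cases j <;> simp [Matrix.mul_apply, Fin.sum_univ_succ]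
lemma D3E0 : D3 * E0 = D0 * E2 := by
  ext i j; fin_cases i <;> fin_cases j <;> simp [Matrix.mul_apply, Fin.sum_univ_succ]
lemma D2E1 : D2 * E1 = D1 * E1 := by
  ext i j; fin_cases i <;> fin_cases j <;> simp [Matrix.mul_apply, Fin.sum_univ_succ]
lemma D3E1 : D3 * E1 = D1 * E2 := by
  ext i j; fin_cases i <;> fin_cases j <;> simp [Matrix.mul_apply, Fin.sum_univ_succ]
lemma D3E2 : D3 * E2 = D2 * E2 := by
  ext i j; fin_cases i <;> fin_cases j <;> simp [Matrix.mul_apply, Fin.sum_univ_succ]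

end Groth.Agent.Lib.Helper85.LaurentCocycle
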