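import Groth.Agent.Lib.Helper85.LaurentCocycleAdd

open AddMonoidAlgebra

namespace Groth.Agent.Lib.Helper85.LaurentCocycle

universe u
variable {A : Type u} [CommRing A]


/-- the induced map on units -/
noncomputable abbrev um (A : Type u) [CommRing A] {p q : ℕ} (M : Matrix (Fin q) (Fin p) ℤ) :
    (AddMonoidAlgebra A (Fin p → ℤ))ˣ →* (AddMonoidAlgebra A (Fin q → ℤ))ˣ :=
  Units.map (dm A M).toMonoidHom

lemma coe_um {p q : ℕ} (M : Matrix (Fin q) (Fin p) ℤ) (η : (AddMonoidAlgebra A (Fin p → ℤ))ˣ) :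
    ((um A M η : (AddMonoidAlgebra A (Fin q → ℤ))ˣ) : AddMonoidAlgebra A (Fin q → ℤ)) =
      dm A M (η : AddMonoidAlgebra A (Fin p → ℤ)) := rfl

lemma um_um {p q r : ℕ} (M : Matrix (Fin r) (Fin q) ℤ) (M' : Matrix (Fin q) (Fin p) ℤ)
    (η : (AddMonoidAlgebra A (Fin p → ℤ))ˣ) : um A M (um A M' η) = um A (M * M') η := by
  apply Units.ext
  rw [coe_um, coe_um, coe_um, dm_dm]

/-- first coboundary -/
noncomputable def d1 (A : Type u) [CommRing A] :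
    (AddMonoidAlgebra A (Fin 1 → ℤ))ˣ →* (AddMonoidAlgebra A (Fin 2 → ℤ))ˣ :=
  um A E0 * (um A E1)⁻¹ * um A E2

/-- second coboundary -/
noncomputable def d2 (A : Type u) [CommRing A] :
    (AddMonoidAlgebra A (Fin 2 → ℤ))ˣ →* (AddMonoidAlgebra A (Fin 3 → ℤ))ˣ :=
  um A D0 * (um A D1)⁻¹ * um A D2 * (um A D3)⁻¹

lemma d1_apply (η : (AddMonoidAlgebra A (Fin 1 → ℤ))ˣ) :
    d1 A η = um A E0 η * (um A E1 η)⁻¹ * um A E2 η := rfl

lemma d2_apply (ξ : (AddMonoidAlgebra A (Fin 2 → ℤ))ˣ) :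
    d2 A ξ = um A D0 ξ * (um A D1 ξ)⁻¹ * um A D2 ξ * (um A D3 ξ)⁻¹ := rfl

lemma comm_group_identity {G : Type*} [CommGroup G] (a b c d e f : G) :
    a * b⁻¹ * c * (a * d⁻¹ * e)⁻¹ * (b * d⁻¹ * f) * (c * e⁻¹ * f)⁻¹ = 1 := by
  apply Additive.ofMul.injective
  simp only [ofMul_mul, ofMul_inv, ofMul_one]
  abel

lemma d2_d1 (η : (AddMonoidAlgebra A (Fin 1 → ℤ))ˣ) : d2 A (d1 A η) = 1 := by
  rw [d2_apply, d1_apply]
  simp only [map_mul, map_inv, um_um]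
  rw [D1E0, D2E0, D3E0, D2E1, D3E1, D3E2]
  exact comm_group_identity _ _ _ _ _ _

lemma cocycle_ring_eq {ξ : (AddMonoidAlgebra A (Fin 2 → ℤ))ˣ} (hξ : d2 A ξ = 1) :
    dm A D0 (ξ : AddMonoidAlgebra A (Fin 2 → ℤ)) * dm A D2 (ξ : AddMonoidAlgebra A (Fin 2 → ℤ)) =
      dm A D1 (ξ : AddMonoidAlgebra A (Fin 2 → ℤ)) * dm A D3 (ξ : AddMonoidAlgebra A (Fin 2 → ℤ)) := by
  rw [d2_apply] at hξ
  have h1 : um A D0 ξ * um A D2 ξ = um A D1 ξ * um A D3 ξ := by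
    have h2 := mul_inv_eq_one.mp hξ
    rw [← h2]
    rw [mul_comm (um A D0 ξ) (um A D1 ξ)⁻¹, mul_assoc, mul_inv_cancel_left]
  have := congrArg (fun w : (AddMonoidAlgebra A (Fin 3 → ℤ))ˣ => (w : AddMonoidAlgebra A (Fin 3 → ℤ))) h1
  simpa only [Units.val_mul, coe_um] using this


lemma isNilpotent_of_mem_coeffIdeal {G : Type*} [AddCommMonoid G] {N : Ideal A}
    (hN : IsNilpotent N) {g : AddMonoidAlgebra A G} (hg : g ∈ coeffIdeal (G := G) N) :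
    IsNilpotent g := by
  obtain ⟨K, hK⟩ := hN
  refine ⟨K, ?_⟩
  have := pow_mem_coeffIdeal hg K
  rw [hK, Ideal.zero_eq_bot] at this
  exact coeffIdeal_bot this

lemma pow_mul_pow_le (N : Ideal A) {k : ℕ} (hk : 1 ≤ k) : N ^ k * N ^ k ≤ N ^ (k + 1) := by
  rw [← pow_add]
  exact Ideal.pow_le_pow_right (by omega)

set_option maxHeartbeats 800000 in
/-- one step of the successive approximation -/
lemma step (N : Ideal A) (hN : IsNilpotent N) (k : ℕ) (hk : 1 ≤ k)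
    (ζ : (AddMonoidAlgebra A (Fin 2 → ℤ))ˣ) (hζ : d2 A ζ = 1)
    (hm : (ζ : AddMonoidAlgebra A (Fin 2 → ℤ)) - 1 ∈ coeffIdeal (G := Fin 2 → ℤ) (N ^ k)) :
    ∃ w : (AddMonoidAlgebra A (Fin 1 → ℤ))ˣ,
      ((ζ * (d1 A w)⁻¹ : (AddMonoidAlgebra A (Fin 2 → ℤ))ˣ) : AddMonoidAlgebra A (Fin 2 → ℤ)) - 1
        ∈ coeffIdeal (G := Fin 2 → ℤ) (N ^ (k + 1)) := by
  set m : AddMonoidAlgebra A (Fin 2 → ℤ) := (ζ : AddMonoidAlgebra A (Fin 2 → ℤ)) - 1 with hmdef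
  have hζm : (ζ : AddMonoidAlgebra A (Fin 2 → ℤ)) = 1 + m := by rw [hmdef]; ring
  have hIJ := coeffIdeal_mono (G := Fin 3 → ℤ) (pow_mul_pow_le N hk)
  have hIJ2 := coeffIdeal_mono (G := Fin 2 → ℤ) (pow_mul_pow_le N hk)
  -- additive cocycle condition
  have hadd : (dm A D0 m - dm A D1 m + dm A D2 m - dm A D3 m) ∈
      coeffIdeal (G := Fin 3 → ℤ) (N ^ (k + 1)) := by
    have h := cocycle_ring_eq hζ
    rw [hζm] at h
    simp only [map_add, map_one] at h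
    have e : dm A D0 m - dm A D1 m + dm A D2 m - dm A D3 m =
        dm A D1 m * dm A D3 m - dm A D0 m * dm A D2 m := by
      linear_combination h
    rw [e]
    exact hIJ (Ideal.sub_mem _
      (mul_mem_coeffIdeal (dm_mem_coeffIdeal D1 hm) (dm_mem_coeffIdeal D3 hm))
      (mul_mem_coeffIdeal (dm_mem_coeffIdeal D0 hm) (dm_mem_coeffIdeal D2 hm)))
  obtain ⟨g, hg0, hg⟩ := additive_cocycle m hadd
  have hgI : g ∈ coeffIdeal (G := Fin 1 → ℤ) (N ^ k) := by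
    rw [mem_coeffIdeal]
    intro v
    rw [vec1_eta v, hg0]
    exact (mem_coeffIdeal.mp hm) _
  have hgN : g ∈ coeffIdeal (G := Fin 1 → ℤ) N := by
    refine coeffIdeal_mono ?_ hgI
    calc N ^ k ≤ N ^ 1 := Ideal.pow_le_pow_right hk
      _ = N := pow_one N
  have hunit : IsUnit (1 + g) := (isNilpotent_of_mem_coeffIdeal hN hgN).isUnit_one_add
  obtain ⟨w, hw⟩ := hunit
  refine ⟨w, ?_⟩
  -- key relation for d1 w
  have hd1 : ((d1 A w : (AddMonoidAlgebra A (Fin 2 → ℤ))ˣ) : AddMonoidAlgebra A (Fin 2 → ℤ)) *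
      dm A E1 (1 + g) = dm A E0 (1 + g) * dm A E2 (1 + g) := by
    have h1 : d1 A w * um A E1 w = um A E0 w * um A E2 w := by
      rw [d1_apply, mul_assoc, mul_comm (um A E2 w), ← mul_assoc, inv_mul_cancel_right]
    have := congrArg (fun t : (AddMonoidAlgebra A (Fin 2 → ℤ))ˣ =>
      (t : AddMonoidAlgebra A (Fin 2 → ℤ))) h1
    simpa only [Units.val_mul, coe_um, hw] using this
  -- ζ - d1 w ∈ J
  have hdiff : (ζ : AddMonoidAlgebra A (Fin 2 → ℤ)) -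
      ((d1 A w : (AddMonoidAlgebra A (Fin 2 → ℤ))ˣ) : AddMonoidAlgebra A (Fin 2 → ℤ)) ∈
      coeffIdeal (G := Fin 2 → ℤ) (N ^ (k + 1)) := by
    have e : (ζ : AddMonoidAlgebra A (Fin 2 → ℤ)) -
        ((d1 A w : (AddMonoidAlgebra A (Fin 2 → ℤ))ˣ) : AddMonoidAlgebra A (Fin 2 → ℤ)) =
        (((um A E1 w)⁻¹ : (AddMonoidAlgebra A (Fin 2 → ℤ))ˣ) : AddMonoidAlgebra A (Fin 2 → ℤ)) *
        (((ζ : AddMonoidAlgebra A (Fin 2 → ℤ)) -
        ((d1 A w : (AddMonoidAlgebra A (Fin 2 → ℤ))ˣ) : AddMonoidAlgebra A (Fin 2 → ℤ))) *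
          ((um A E1 w : (AddMonoidAlgebra A (Fin 2 → ℤ))ˣ) : AddMonoidAlgebra A (Fin 2 → ℤ))) := by
      rw [mul_comm _ ((um A E1 w : (AddMonoidAlgebra A (Fin 2 → ℤ))ˣ) :
        AddMonoidAlgebra A (Fin 2 → ℤ)), ← mul_assoc, Units.inv_mul, one_mul]
    rw [e]
    refine Ideal.mul_mem_left _ _ ?_
    rw [coe_um, hw, sub_mul, hd1, hζm]
    simp only [map_add, map_one]
    have e2 : (1 + m) * (1 + dm A E1 g) - (1 + dm A E0 g) * (1 + dm A E2 g) =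
        (m - (dm A E0 g - dm A E1 g + dm A E2 g)) + (m * dm A E1 g - dm A E0 g * dm A E2 g) := by
      ring
    rw [e2]
    refine Ideal.add_mem _ hg (hIJ2 (Ideal.sub_mem _ ?_ ?_))
    · exact mul_mem_coeffIdeal hm (dm_mem_coeffIdeal E1 hgI)
    · exact mul_mem_coeffIdeal (dm_mem_coeffIdeal E0 hgI) (dm_mem_coeffIdeal E2 hgI)
  have e3 : ((ζ * (d1 A w)⁻¹ : (AddMonoidAlgebra A (Fin 2 → ℤ))ˣ) :
      AddMonoidAlgebra A (Fin 2 → ℤ)) - 1 =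
      (((d1 A w)⁻¹ : (AddMonoidAlgebra A (Fin 2 → ℤ))ˣ) : AddMonoidAlgebra A (Fin 2 → ℤ)) *
      ((ζ : AddMonoidAlgebra A (Fin 2 → ℤ)) -
      ((d1 A w : (AddMonoidAlgebra A (Fin 2 → ℤ))ˣ) : AddMonoidAlgebra A (Fin 2 → ℤ))) := by
    rw [mul_sub, Units.inv_mul, Units.val_mul, mul_comm]
  rw [e3]
  exact Ideal.mul_mem_left _ _ hdiff

/-- the successive approximation -/
theorem exists_coboundary_of_nilpotent (N : Ideal A) (hN : IsNilpotent N)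
    (ξ : (AddMonoidAlgebra A (Fin 2 → ℤ))ˣ) (hξ : d2 A ξ = 1)
    (η₀ : (AddMonoidAlgebra A (Fin 1 → ℤ))ˣ)
    (h₀ : ((ξ * (d1 A η₀)⁻¹ : (AddMonoidAlgebra A (Fin 2 → ℤ))ˣ) :
      AddMonoidAlgebra A (Fin 2 → ℤ)) - 1 ∈ coeffIdeal (G := Fin 2 → ℤ) N) :
    ∃ η : (AddMonoidAlgebra A (Fin 1 → ℤ))ˣ, ξ = d1 A η := by
  have key : ∀ k : ℕ, ∃ η : (AddMonoidAlgebra A (Fin 1 → ℤ))ˣ,
      ((ξ * (d1 A η)⁻¹ : (AddMonoidAlgebra A (Fin 2 → ℤ))ˣ) :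
        AddMonoidAlgebra A (Fin 2 → ℤ)) - 1 ∈ coeffIdeal (G := Fin 2 → ℤ) (N ^ (k + 1)) := by
    intro k
    induction k with
    | zero => exact ⟨η₀, by simpa using h₀⟩
    | succ k ih =>
      obtain ⟨η, hη⟩ := ih
      have hcoc : d2 A (ξ * (d1 A η)⁻¹) = 1 := by
        rw [map_mul, map_inv, hξ, d2_d1, inv_one, mul_one]
      obtain ⟨w, hw⟩ := step N hN (k + 1) (by omega) _ hcoc hη
      refine ⟨η * w, ?_⟩
      have e : ξ * (d1 A (η * w))⁻¹ = ξ * (d1 A η)⁻¹ * (d1 A w)⁻¹ := by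
        rw [map_mul, mul_inv, mul_assoc]
      rw [e]
      exact hw
  obtain ⟨K, hK⟩ := hN
  obtain ⟨η, hη⟩ := key K
  refine ⟨η, ?_⟩
  rw [pow_succ, hK, Ideal.zero_eq_bot, Ideal.bot_mul] at hη
  have h1 := coeffIdeal_bot hη
  have h2 : ξ * (d1 A η)⁻¹ = 1 := by
    apply Units.ext
    rw [Units.val_one]
    exact sub_eq_zero.mp h1
  exact mul_inv_eq_one.mp h2

end Groth.Agent.Lib.Helper85.LaurentCocycle
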