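import Groth.Agent.Lib.Helper85.NormalConeKronecker

set_option autoImplicit false
universe u

open Polynomial TensorProduct

namespace Groth.Agent.Lib.Helper85.NormalCone

attribute [local instance] Polynomial.algebra

section NPic

variable {A : Type u} [CommRing A] [IsDomain A] [IsIntegrallyClosed A]
  {K : Type u} [Field K] [Algebra A K] [IsFractionRing A K]

instance : FaithfulSMul A[X] K[X] :=
  (faithfulSMul_iff_algebraMap_injective _ _).mpr
    (Polynomial.map_injective _ (IsFractionRing.injective A K))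

instance : IsScalarTower A A[X] K[X] :=
  IsScalarTower.of_algebraMap_eq (fun a => by
    rw [Polynomial.algebraMap_def]
    simp [Polynomial.algebraMap_apply])

lemma algebraMap_poly_apply (q : A[X]) : algebraMap A[X] K[X] q = q.map (algebraMap A K) := rfl

lemma mem_one_iff (p : K[X]) :
    p ∈ (1 : Submodule A[X] K[X]) ↔ ∀ k, p.coeff k ∈ (algebraMap A K).range := by
  rw [Submodule.one_eq_range, LinearMap.mem_range]
  constructor
  · rintro ⟨q, rfl⟩ k
    rw [Algebra.linearMap_apply, algebraMap_poly_apply, Polynomial.coeff_map]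
    exact ⟨q.coeff k, rfl⟩
  · intro h
    have : p ∈ Polynomial.lifts (algebraMap A K) := (Polynomial.lifts_iff_coeff_lifts p).mpr h
    obtain ⟨q, hq⟩ := this
    exact ⟨q, hq⟩

/-- the content module -/
def coeffSpan (J : Submodule A[X] K[X]) : Submodule A K :=
  Submodule.span A {c | ∃ f ∈ J, ∃ i : ℕ, f.coeff i = c}

lemma coeff_mem_coeffSpan {J : Submodule A[X] K[X]} {f : K[X]} (hf : f ∈ J) (i : ℕ) :
    f.coeff i ∈ coeffSpan (A := A) J :=
  Submodule.subset_span ⟨f, hf, i, rfl⟩

variable (J : (Submodule A[X] K[X])ˣ)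

lemma mul_inv_eq_one' : (J : Submodule A[X] K[X]) * ((J⁻¹ : (Submodule A[X] K[X])ˣ) : Submodule A[X] K[X]) = 1 := by
  rw [← Units.val_mul, mul_inv_cancel, Units.val_one]

lemma coeffSpan_mul_le :
    coeffSpan (A := A) (J : Submodule A[X] K[X]) *
      coeffSpan (A := A) ((J⁻¹ : (Submodule A[X] K[X])ˣ) : Submodule A[X] K[X]) ≤ 1 := by
  unfold coeffSpan
  rw [Submodule.span_mul_span, Submodule.span_le]
  rintro _ ⟨a, ⟨f, hf, i, rfl⟩, b, ⟨g, hg, j, rfl⟩, rfl⟩
  have hfg : f * g ∈ (1 : Submodule A[X] K[X]) := by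
    rw [← mul_inv_eq_one' J]
    exact Submodule.mul_mem_mul hf hg
  have := kronecker (A := A) f g ((mem_one_iff _).mp hfg) i j
  obtain ⟨c, hc⟩ := this
  rw [SetLike.mem_coe, Submodule.one_eq_range, LinearMap.mem_range]
  exact ⟨c, hc⟩

lemma one_mem_coeffSpan_mul :
    (1 : K) ∈ coeffSpan (A := A) (J : Submodule A[X] K[X]) *
      coeffSpan (A := A) ((J⁻¹ : (Submodule A[X] K[X])ˣ) : Submodule A[X] K[X]) := by
  have key : ∀ p ∈ (J : Submodule A[X] K[X]) *
      ((J⁻¹ : (Submodule A[X] K[X])ˣ) : Submodule A[X] K[X]),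
      p.coeff 0 ∈ coeffSpan (A := A) (J : Submodule A[X] K[X]) *
      coeffSpan (A := A) ((J⁻¹ : (Submodule A[X] K[X])ˣ) : Submodule A[X] K[X]) := by
    intro p hp
    refine Submodule.mul_induction_on hp ?_ ?_
    · intro f hf g hg
      rw [Polynomial.mul_coeff_zero]
      exact Submodule.mul_mem_mul (coeff_mem_coeffSpan hf 0) (coeff_mem_coeffSpan hg 0)
    · intro x y hx hy
      rw [Polynomial.coeff_add]
      exact Submodule.add_mem _ hx hy
  have h1 : (1 : K[X]) ∈ (J : Submodule A[X] K[X]) *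
      ((J⁻¹ : (Submodule A[X] K[X])ˣ) : Submodule A[X] K[X]) := by
    rw [mul_inv_eq_one' J]
    exact Submodule.one_le.mp le_rfl
  have := key 1 h1
  rwa [Polynomial.coeff_one_zero] at this

lemma coeffSpan_mul_eq_one :
    coeffSpan (A := A) (J : Submodule A[X] K[X]) *
      coeffSpan (A := A) ((J⁻¹ : (Submodule A[X] K[X])ˣ) : Submodule A[X] K[X]) = 1 :=
  le_antisymm (coeffSpan_mul_le J) (Submodule.one_le.mpr (one_mem_coeffSpan_mul J))

/-- the content module as a unit -/
noncomputable def coeffUnit : (Submodule A K)ˣ :=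
  ⟨coeffSpan (A := A) (J : Submodule A[X] K[X]),
    coeffSpan (A := A) ((J⁻¹ : (Submodule A[X] K[X])ˣ) : Submodule A[X] K[X]),
    coeffSpan_mul_eq_one J, by rw [mul_comm]; exact coeffSpan_mul_eq_one J⟩

end NPic

end Groth.Agent.Lib.Helper85.NormalCone
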