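import Mathlib

set_option autoImplicit false
universe u

open Polynomial

namespace Groth.Agent.Lib.Helper85.NormalCone

section Gauss

variable {K : Type*} [Field K] {Γ₀ : Type*} [LinearOrderedCommGroupWithZero Γ₀] (v : Valuation K Γ₀)

lemma exists_lead_index (f : K[X]) (hf : f ≠ 0) :
    ∃ i₀, f.coeff i₀ ≠ 0 ∧ (∀ i, v (f.coeff i) ≤ v (f.coeff i₀)) ∧
      (∀ i, i < i₀ → v (f.coeff i) < v (f.coeff i₀)) := by
  classical
  have hne : f.support.Nonempty := by
    rw [Finset.nonempty_iff_ne_empty, Ne, Polynomial.support_eq_empty]; exact hf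
  obtain ⟨imax, himax, hmax⟩ := Finset.exists_max_image f.support (fun i => v (f.coeff i)) hne
  have himax0 : f.coeff imax ≠ 0 := Polynomial.mem_support_iff.mp himax
  have hall : ∀ i, v (f.coeff i) ≤ v (f.coeff imax) := by
    intro i
    by_cases hi : i ∈ f.support
    · exact hmax i hi
    · rw [Polynomial.notMem_support_iff.mp hi, map_zero]; exact zero_le
  have hex : ∃ i, v (f.coeff i) = v (f.coeff imax) := ⟨imax, rfl⟩
  refine ⟨Nat.find hex, ?_, ?_, ?_⟩
  · intro h0
    have := Nat.find_spec hex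
    rw [h0, map_zero] at this
    exact (v.ne_zero_iff.mpr himax0) this.symm
  · intro i; rw [Nat.find_spec hex]; exact hall i
  · intro i hi
    rw [Nat.find_spec hex]
    exact lt_of_le_of_ne (hall i) (Nat.find_min hex hi)

/-- Gauss lemma for a valuation. -/
theorem gauss_valuation (f g : K[X]) (h : ∀ k, v ((f * g).coeff k) ≤ 1) (i j : ℕ) :
    v (f.coeff i * g.coeff j) ≤ 1 := by
  classical
  by_cases hf : f = 0
  · simp [hf]
  by_cases hg : g = 0
  · simp [hg]
  obtain ⟨i₀, hi₀, hfa, hfl⟩ := exists_lead_index v f hf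
  obtain ⟨j₀, hj₀, hga, hgl⟩ := exists_lead_index v g hg
  have hα : v (f.coeff i₀) ≠ 0 := v.ne_zero_iff.mpr hi₀
  have hβ : v (g.coeff j₀) ≠ 0 := v.ne_zero_iff.mpr hj₀
  have hαβ : v (f.coeff i₀) * v (g.coeff j₀) ≠ 0 := mul_ne_zero hα hβ
  have hmem : (i₀, j₀) ∈ Finset.HasAntidiagonal.antidiagonal (i₀ + j₀) := Finset.HasAntidiagonal.mem_antidiagonal.mpr rfl
  have hcoeff : (f * g).coeff (i₀ + j₀) = f.coeff i₀ * g.coeff j₀ +
      ∑ p ∈ (Finset.HasAntidiagonal.antidiagonal (i₀ + j₀)).erase (i₀, j₀), f.coeff p.1 * g.coeff p.2 := by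
    rw [Polynomial.coeff_mul, ← Finset.add_sum_erase _ _ hmem]
  have hrest : v (∑ p ∈ (Finset.HasAntidiagonal.antidiagonal (i₀ + j₀)).erase (i₀, j₀), f.coeff p.1 * g.coeff p.2) <
      v (f.coeff i₀) * v (g.coeff j₀) := by
    refine v.map_sum_lt hαβ ?_
    intro p hp
    rw [Finset.mem_erase, Finset.HasAntidiagonal.mem_antidiagonal] at hp
    obtain ⟨hne, hsum⟩ := hp
    rw [map_mul]
    rcases lt_trichotomy p.1 i₀ with hlt | heq | hgt
    · exact mul_lt_mul_of_lt_of_le_of_nonneg_of_pos (hfl _ hlt) (hga _) zero_le (zero_lt_iff.mpr hβ)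
    · exfalso
      apply hne
      have : p.2 = j₀ := by omega
      exact Prod.ext heq this
    · have hlt : p.2 < j₀ := by omega
      rw [mul_comm, mul_comm (v (f.coeff i₀))]
      exact mul_lt_mul_of_lt_of_le_of_nonneg_of_pos (hgl _ hlt) (hfa _) zero_le (zero_lt_iff.mpr hα)
  have hk : v ((f * g).coeff (i₀ + j₀)) = v (f.coeff i₀) * v (g.coeff j₀) := by
    rw [hcoeff, ← map_mul]
    apply Valuation.map_add_eq_of_lt_left
    rw [map_mul]; exact hrest
  have hle : v (f.coeff i₀) * v (g.coeff j₀) ≤ 1 := by rw [← hk]; exact h _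
  rw [map_mul]
  exact (mul_le_mul' (hfa i) (hga j)).trans hle

end Gauss


section Kronecker

variable {A K : Type*} [CommRing A] [IsDomain A] [IsIntegrallyClosed A] [Field K] [Algebra A K]
  [IsFractionRing A K]

/-- **Kronecker's theorem** for integrally closed domains. -/
theorem kronecker (f g : K[X]) (h : ∀ k, (f * g).coeff k ∈ (algebraMap A K).range) (i j : ℕ) :
    f.coeff i * g.coeff j ∈ (algebraMap A K).range := by
  by_contra hx
  set R : Subring K := (algebraMap A K).range with hR
  haveI : IsIntegrallyClosedIn R K := by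
    rw [Subring.isIntegrallyClosedIn_iff]
    intro x hxint
    have hxA : IsIntegral A x := by
      obtain ⟨p, hpm, hp⟩ := hxint
      -- lift coefficients
      have hlift : ∃ q : A[X], q.Monic ∧ q.map (algebraMap A K) = p.map (algebraMap R K) := by
        have hmem : p.map (algebraMap R K) ∈ Polynomial.lifts (algebraMap A K) := by
          rw [Polynomial.lifts_iff_coeff_lifts]
          intro n
          rw [Polynomial.coeff_map]
          exact (p.coeff n).2
        have hmon : (p.map (algebraMap R K)).Monic := hpm.map _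
        obtain ⟨q, hq, -, hqm⟩ := Polynomial.lifts_and_degree_eq_and_monic hmem hmon
        exact ⟨q, hqm, hq⟩
      obtain ⟨q, hqm, hq⟩ := hlift
      refine ⟨q, hqm, ?_⟩
      rw [← Polynomial.eval_map, hq, Polynomial.eval_map]
      exact hp
    obtain ⟨y, hy⟩ := IsIntegrallyClosed.algebraMap_eq_of_integral hxA
    exact ⟨y, hy⟩
  obtain ⟨V, hRV, hxV⟩ := Subring.exists_le_valuationSubring_of_isIntegrallyClosedIn hx
  apply hxV
  rw [← V.valuation_le_one_iff]
  apply gauss_valuation V.valuation f g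
  intro k
  rw [V.valuation_le_one_iff]
  exact hRV (h k)

end Kronecker

end Groth.Agent.Lib.Helper85.NormalCone
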