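import Groth.Agent.Lib.Helper85.NormalConeScale

set_option autoImplicit false
universe u

open Polynomial TensorProduct CommRing

namespace Groth.Agent.Lib.Helper85.NormalCone

section Cone

variable {k : Type u} [Field k] {n : ℕ} (I : Ideal (MvPolynomial (Fin n) k))
  (hI : ∃ s : Set (MvPolynomial (Fin n) k), (∀ f ∈ s, ∃ d : ℕ, f.IsHomogeneous d) ∧ I = Ideal.span s)

lemma eval_zero_comp_phiTilde :
    (Polynomial.evalRingHom (0 : MvPolynomial (Fin n) k ⧸ I)).comp (phiTilde I).toRingHom =
      (algebraMap k (MvPolynomial (Fin n) k ⧸ I)).comp MvPolynomial.constantCoeff := by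
  apply MvPolynomial.ringHom_ext
  · intro c
    simp only [RingHom.comp_apply, AlgHom.toRingHom_eq_coe, RingHom.coe_coe]
    rw [← MvPolynomial.algebraMap_eq, AlgHom.commutes, Polynomial.algebraMap_apply]
    simp
  · intro i
    simp only [RingHom.comp_apply, AlgHom.toRingHom_eq_coe, RingHom.coe_coe, phiTilde_X]
    simp

variable [Nontrivial (MvPolynomial (Fin n) k ⧸ I)]

include hI in
lemma constantCoeff_eq_zero_of_mem {f : MvPolynomial (Fin n) k} (hf : f ∈ I) :
    MvPolynomial.constantCoeff f = 0 := by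
  have h := congrArg (fun ψ => ψ f) (eval_zero_comp_phiTilde I)
  simp only [RingHom.comp_apply, AlgHom.toRingHom_eq_coe, RingHom.coe_coe] at h
  rw [phiTilde_eq_zero_of_mem I hI hf] at h
  simp only [coe_evalRingHom, eval_zero] at h
  have hinj : Function.Injective (algebraMap k (MvPolynomial (Fin n) k ⧸ I)) :=
    (algebraMap k (MvPolynomial (Fin n) k ⧸ I)).injective
  exact hinj (by rw [← h, map_zero])

/-- the augmentation `A → k`. -/
noncomputable def epsCone : (MvPolynomial (Fin n) k ⧸ I) →+* k :=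
  Ideal.Quotient.lift I MvPolynomial.constantCoeff
    (fun _ hf => constantCoeff_eq_zero_of_mem I hI hf)

lemma eval_zero_comp_phiCone :
    (Polynomial.evalRingHom (0 : MvPolynomial (Fin n) k ⧸ I)).comp (phiCone I hI) =
      (algebraMap k (MvPolynomial (Fin n) k ⧸ I)).comp (epsCone I hI) := by
  apply Ideal.Quotient.ringHom_ext
  refine RingHom.ext fun f => ?_
  exact congrArg (fun ψ : MvPolynomial (Fin n) k →+* (MvPolynomial (Fin n) k ⧸ I) => ψ f)
    (eval_zero_comp_phiTilde I)

include hI in
/-- **Pic of a normal affine cone is trivial.** -/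
theorem free_of_invertible_cone [IsDomain (MvPolynomial (Fin n) k ⧸ I)]
    [IsIntegrallyClosed (MvPolynomial (Fin n) k ⧸ I)]
    (M : Type u) [AddCommGroup M] [Module (MvPolynomial (Fin n) k ⧸ I) M]
    [Module.Invertible (MvPolynomial (Fin n) k ⧸ I) M] :
    Module.Free (MvPolynomial (Fin n) k ⧸ I) M := by
  set A := MvPolynomial (Fin n) k ⧸ I with hA
  rw [← Pic.mk_eq_one_iff_free]
  set x : Pic A := Pic.mk A M with hx
  obtain ⟨z, hz⟩ := exists_eq_mapAlgebra A (Pic.mapRingHom (phiCone I hI) x)
  have hC : Pic.mapAlgebra A A[X] = Pic.mapRingHom (C : A →+* A[X]) := by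
    rw [← Pic.mapRingHom_algebraMap]
    rfl
  rw [hC] at hz
  have e1 : (Polynomial.evalRingHom (1 : A)).comp (C : A →+* A[X]) = RingHom.id A :=
    RingHom.ext fun a => by simp
  have e0 : (Polynomial.evalRingHom (0 : A)).comp (C : A →+* A[X]) = RingHom.id A :=
    RingHom.ext fun a => by simp
  have h1 : x = z := by
    have := congrArg (Pic.mapRingHom (Polynomial.evalRingHom (1 : A))) hz
    rw [Pic.mapRingHom_mapRingHom, Pic.mapRingHom_mapRingHom, eval_one_comp_phiCone, e1,
      Pic.mapRingHom_id_apply, Pic.mapRingHom_id_apply] at this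
    exact this
  have h0 : (1 : Pic A) = z := by
    have := congrArg (Pic.mapRingHom (Polynomial.evalRingHom (0 : A))) hz
    rw [Pic.mapRingHom_mapRingHom, Pic.mapRingHom_mapRingHom, eval_zero_comp_phiCone, e0,
      Pic.mapRingHom_id_apply, ← Pic.mapRingHom_mapRingHom] at this
    rw [← this, Subsingleton.elim (Pic.mapRingHom (epsCone I hI) x) 1, map_one]
  rw [h1, ← h0]

end Cone

end Groth.Agent.Lib.Helper85.NormalCone
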