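import Groth.Agent.Lib.Helper85.NormalConePhi

set_option autoImplicit false
universe u

open Polynomial TensorProduct CommRing

namespace Groth.Agent.Lib.Helper85.NormalCone

attribute [local instance] Polynomial.algebra

section NPic

variable (A : Type u) [CommRing A] [IsDomain A] [IsIntegrallyClosed A]

instance subsingleton_pic_polynomial_field (K : Type u) [Field K] : Subsingleton (Pic K[X]) := by
  letI : NormalizedGCDMonoid K[X] := Classical.choice (inferInstance : Nonempty (NormalizedGCDMonoid K[X]))
  infer_instance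

/-- `NPic A = 0` for an integrally closed domain: every invertible `A[X]`-module is extended. -/
theorem exists_eq_mapAlgebra (y : Pic A[X]) : ∃ z : Pic A, y = Pic.mapAlgebra A A[X] z := by
  let K := FractionRing A
  have hy : y ∈ relPic A[X] K[X] := by rw [relPic_eq_top]; trivial
  rw [← Submodule.range_unitsToPic] at hy
  obtain ⟨J, rfl⟩ := hy
  refine ⟨Submodule.unitsToPic A K (coeffUnit J), ?_⟩
  rw [Submodule.unitsToPic_apply, Submodule.unitsToPic_apply, Pic.mapAlgebra_apply, Pic.mk_eq_mk_iff]
  haveI : Module.Invertible A (coeffSpan (A := A) (J : Submodule A[X] K[X])) :=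
    inferInstanceAs (Module.Invertible A ((coeffUnit J : (Submodule A K)ˣ) : Submodule A K))
  let e1 : A[X] ⊗[A] (Pic.mk A ((coeffUnit J : (Submodule A K)ˣ) : Submodule A K)) ≃ₗ[A[X]]
      A[X] ⊗[A] coeffSpan (A := A) (J : Submodule A[X] K[X]) :=
    AlgebraTensorModule.congr (.refl A[X] A[X]) (Pic.mk.linearEquiv A _)
  let e2 : A[X] ⊗[A] coeffSpan (A := A) (J : Submodule A[X] K[X]) ≃ₗ[A[X]]
      (J : Submodule A[X] K[X]) :=
    LinearEquiv.ofBijective (Phi J) (Module.Invertible.bijective_of_surjective (Phi_surjective J))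
  exact ⟨(e1.trans e2).symm⟩

end NPic

end Groth.Agent.Lib.Helper85.NormalCone
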