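import Groth.Agent.Lib.Helper85.NormalConeContent

set_option autoImplicit false
universe u

open Polynomial TensorProduct

namespace Groth.Agent.Lib.Helper85.NormalCone

attribute [local instance] Polynomial.algebra

section NPic

variable {A : Type u} [CommRing A] [IsDomain A] [IsIntegrallyClosed A]
  {K : Type u} [Field K] [Algebra A K] [IsFractionRing A K]

variable (J : (Submodule A[X] K[X])ˣ)

lemma C_mem (a : K) (ha : a ∈ coeffSpan (A := A) (J : Submodule A[X] K[X])) :
    (C a : K[X]) ∈ (J : Submodule A[X] K[X]) := by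
  have key : ∀ p ∈ (J : Submodule A[X] K[X]) *
      ((J⁻¹ : (Submodule A[X] K[X])ˣ) : Submodule A[X] K[X]),
      C a * p ∈ (J : Submodule A[X] K[X]) := by
    intro p hp
    refine Submodule.mul_induction_on hp ?_ ?_
    · intro f hf g hg
      have hag : C a * g ∈ (1 : Submodule A[X] K[X]) := by
        rw [mem_one_iff]
        intro k
        rw [Polynomial.coeff_C_mul]
        have h1 : a * g.coeff k ∈ coeffSpan (A := A) (J : Submodule A[X] K[X]) *
            coeffSpan (A := A) ((J⁻¹ : (Submodule A[X] K[X])ˣ) : Submodule A[X] K[X]) :=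
          Submodule.mul_mem_mul ha (coeff_mem_coeffSpan hg k)
        rw [coeffSpan_mul_eq_one J, Submodule.one_eq_range, LinearMap.mem_range] at h1
        obtain ⟨c, hc⟩ := h1
        exact ⟨c, hc⟩
      rw [Submodule.one_eq_range, LinearMap.mem_range] at hag
      obtain ⟨q, hq⟩ := hag
      have e : C a * (f * g) = q • f := by
        rw [Algebra.smul_def, ← Algebra.linearMap_apply, hq]; ring
      rw [e]
      exact Submodule.smul_mem _ _ hf
    · intro x y hx hy
      rw [mul_add]
      exact Submodule.add_mem _ hx hy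
  have h1 : (1 : K[X]) ∈ (J : Submodule A[X] K[X]) *
      ((J⁻¹ : (Submodule A[X] K[X])ˣ) : Submodule A[X] K[X]) := by
    rw [mul_inv_eq_one' J]
    exact Submodule.one_le.mp le_rfl
  have := key 1 h1
  rwa [mul_one] at this

/-- `a ↦ C a` as a map from the content module to `J` -/
noncomputable def phi0 : coeffSpan (A := A) (J : Submodule A[X] K[X]) →ₗ[A]
    (J : Submodule A[X] K[X]) where
  toFun a := ⟨C (a : K), C_mem J a a.2⟩
  map_add' a b := by
    apply Subtype.ext
    simp
  map_smul' r a := by
    apply Subtype.ext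
    change C ((r • a : coeffSpan (A := A) (J : Submodule A[X] K[X])) : K) = r • C (a : K)
    rw [Submodule.coe_smul, Algebra.smul_def, map_mul, Algebra.smul_def]
    rfl

/-- the comparison map -/
noncomputable def Phi : A[X] ⊗[A] coeffSpan (A := A) (J : Submodule A[X] K[X]) →ₗ[A[X]]
    (J : Submodule A[X] K[X]) :=
  LinearMap.liftBaseChange A[X] (phi0 J)

lemma Phi_surjective : Function.Surjective (Phi J) := by
  rintro ⟨f, hf⟩
  refine ⟨∑ i ∈ Finset.range (f.natDegree + 1),
    (X ^ i : A[X]) ⊗ₜ[A] (⟨f.coeff i, coeff_mem_coeffSpan hf i⟩ :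
      coeffSpan (A := A) (J : Submodule A[X] K[X])), ?_⟩
  apply Subtype.ext
  rw [map_sum]
  simp only [Phi, LinearMap.liftBaseChange_tmul]
  rw [AddSubmonoidClass.coe_finsetSum]
  conv_rhs => rw [Polynomial.as_sum_range_C_mul_X_pow f]
  refine Finset.sum_congr rfl fun i _ => ?_
  change (X ^ i : A[X]) • (C (f.coeff i) : K[X]) = _
  rw [Algebra.smul_def, algebraMap_poly_apply, Polynomial.map_pow, Polynomial.map_X, mul_comm]

end NPic

end Groth.Agent.Lib.Helper85.NormalCone
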