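import Groth.Agent.Lib.Helper85.NormalConeNPic

set_option autoImplicit false
universe u

open Polynomial TensorProduct CommRing

namespace Groth.Agent.Lib.Helper85.NormalCone

section Cone

variable {k : Type u} [Field k] {n : ℕ} (I : Ideal (MvPolynomial (Fin n) k))

/-- the scaling map before passing to the quotient: `x_i ↦ x_i t`. -/
noncomputable def phiTilde : MvPolynomial (Fin n) k →ₐ[k] (MvPolynomial (Fin n) k ⧸ I)[X] :=
  MvPolynomial.aeval (fun i => C (Ideal.Quotient.mk I (MvPolynomial.X i)) * X)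

lemma phiTilde_X (i : Fin n) :
    phiTilde I (MvPolynomial.X i) = C (Ideal.Quotient.mk I (MvPolynomial.X i)) * X := by
  simp [phiTilde]

lemma mk_monomial (m : Fin n →₀ ℕ) (c : k) :
    Ideal.Quotient.mk I (MvPolynomial.monomial m c) =
      algebraMap k (MvPolynomial (Fin n) k ⧸ I) c *
        m.prod fun i e => Ideal.Quotient.mk I (MvPolynomial.X i) ^ e := by
  have h : (Ideal.Quotient.mkₐ k I) = MvPolynomial.aeval (fun i => Ideal.Quotient.mk I (MvPolynomial.X i)) := by
    apply MvPolynomial.algHom_ext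
    intro i
    simp
  have := congrArg (fun φ : MvPolynomial (Fin n) k →ₐ[k] (MvPolynomial (Fin n) k ⧸ I) =>
    φ (MvPolynomial.monomial m c)) h
  simp only [Ideal.Quotient.mkₐ_eq_mk, MvPolynomial.aeval_monomial] at this
  exact this

lemma phiTilde_monomial (m : Fin n →₀ ℕ) (c : k) :
    phiTilde I (MvPolynomial.monomial m c) =
      C (Ideal.Quotient.mk I (MvPolynomial.monomial m c)) * X ^ (∑ i ∈ m.support, m i) := by
  rw [phiTilde, MvPolynomial.aeval_monomial, mk_monomial, map_mul, mul_assoc]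
  congr 1
  rw [Finsupp.prod, Finsupp.prod, map_prod]
  have h1 : ∀ a ∈ m.support, (C ((Ideal.Quotient.mk I) (MvPolynomial.X a)) * X) ^ m a =
      C ((Ideal.Quotient.mk I) (MvPolynomial.X a) ^ m a) * X ^ m a := by
    intro a _
    rw [map_pow]
    ring
  rw [Finset.prod_congr rfl h1, Finset.prod_mul_distrib, Finset.prod_pow_eq_pow_sum]

lemma phiTilde_homogeneous {f : MvPolynomial (Fin n) k} {d : ℕ} (hf : f.IsHomogeneous d) :
    phiTilde I f = C (Ideal.Quotient.mk I f) * X ^ d := by
  conv_lhs => rw [← MvPolynomial.support_sum_monomial_coeff f]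
  conv_rhs => rw [← MvPolynomial.support_sum_monomial_coeff f]
  rw [map_sum, map_sum, map_sum, Finset.sum_mul]
  refine Finset.sum_congr rfl fun m hm => ?_
  rw [phiTilde_monomial, ← hf.degree_eq_sum_deg_support hm]

variable (hI : ∃ s : Set (MvPolynomial (Fin n) k), (∀ f ∈ s, ∃ d : ℕ, f.IsHomogeneous d) ∧ I = Ideal.span s)

include hI in
lemma phiTilde_eq_zero_of_mem {f : MvPolynomial (Fin n) k} (hf : f ∈ I) : phiTilde I f = 0 := by
  obtain ⟨s, hs, hIs⟩ := hI
  have hle : I ≤ RingHom.ker (phiTilde I).toRingHom := by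
    conv_lhs => rw [hIs]
    rw [Ideal.span_le]
    intro g hg
    obtain ⟨d, hd⟩ := hs g hg
    rw [SetLike.mem_coe, RingHom.mem_ker]
    change phiTilde I g = 0
    rw [phiTilde_homogeneous I hd]
    have : g ∈ I := by rw [hIs]; exact Ideal.subset_span hg
    rw [Ideal.Quotient.eq_zero_iff_mem.mpr this, map_zero, zero_mul]
  exact hle hf

/-- the scaling map `A → A[t]`. -/
noncomputable def phiCone : (MvPolynomial (Fin n) k ⧸ I) →+* (MvPolynomial (Fin n) k ⧸ I)[X] :=
  Ideal.Quotient.lift I (phiTilde I).toRingHom (fun _ hf => phiTilde_eq_zero_of_mem I hI hf)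

lemma phiCone_mk (f : MvPolynomial (Fin n) k) :
    phiCone I hI (Ideal.Quotient.mk I f) = phiTilde I f := rfl

lemma eval_one_comp_phiCone :
    (Polynomial.evalRingHom (1 : MvPolynomial (Fin n) k ⧸ I)).comp (phiCone I hI) = RingHom.id _ := by
  apply Ideal.Quotient.ringHom_ext
  apply MvPolynomial.ringHom_ext
  · intro c
    simp only [RingHom.comp_apply, phiCone_mk, RingHom.id_apply]
    rw [← MvPolynomial.algebraMap_eq, AlgHom.commutes, Polynomial.algebraMap_apply]
    simp
    rfl
  · intro i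
    simp only [RingHom.comp_apply, phiCone_mk, RingHom.id_apply, phiTilde_X]
    simp

end Cone

end Groth.Agent.Lib.Helper85.NormalCone
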