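import Mathlib

/-!
# An abstract bound for positive "harmonic" systems (helper85)

A `Sys` is a positive integer vector `v` on `Fin n` together with nonnegative integer
coefficients `γ` (symmetric adjacency), a set `J` of harmonic indices
(`2 v j = ∑ γ j k v k`), and a bound `M` for `v` on the anchored indices (those not in `J`
or adjacent to an index not in `J`).  If the graph is connected and `J` is not everything,
then `v ≤ 6 M` everywhere.
-/

set_option autoImplicit false
open Finset

namespace Groth.Agent.Lib.Helper85.NumBd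

structure Sys (n : ℕ) where
  v : Fin n → ℤ
  γ : Fin n → Fin n → ℤ
  J : Fin n → Prop
  M : ℤ
  v_pos : ∀ j, 0 < v j
  γ_nonneg : ∀ j k, j ≠ k → 0 ≤ γ j k
  γ_symm : ∀ j k, j ≠ k → 0 < γ j k → 0 < γ k j
  harm : ∀ j, J j → ∑ k ∈ univ.erase j, γ j k * v k = 2 * v j
  anch : ∀ l, ¬ J l → v l ≤ M
  anch' : ∀ l k, l ≠ k → ¬ J k → 0 < γ l k → v l ≤ M
  conn : ∀ C : Finset (Fin n), C.Nonempty →
    (∀ s ∈ C, ∀ k, k ≠ s → 0 < γ s k → k ∈ C) → C = univ
  exK : ∃ k, ¬ J k

variable {n : ℕ} (S : Sys n)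

/-- interior indices -/
def Sys.Int (q : Fin n) : Prop := S.J q ∧ ∀ k, k ≠ q → 0 < S.γ q k → S.J k

theorem Sys.M_pos : 0 < S.M := by
  obtain ⟨k, hk⟩ := S.exK
  have h1 := S.anch k hk
  have h2 := S.v_pos k
  omega

theorem Sys.int_of_lt {q : Fin n} (h : S.M < S.v q) : S.Int q := by
  refine ⟨?_, ?_⟩
  · by_contra hJ
    exact absurd (S.anch q hJ) (not_le.2 h)
  · intro k hk hγ
    by_contra hJ
    exact absurd (S.anch' q k (Ne.symm hk) hJ hγ) (not_le.2 h)

theorem Sys.sum_le (j : Fin n) (hj : S.J j) (s : Finset (Fin n)) (hs : j ∉ s) :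
    ∑ k ∈ s, S.γ j k * S.v k ≤ 2 * S.v j := by
  rw [← S.harm j hj]
  apply Finset.sum_le_sum_of_subset_of_nonneg
  · intro k hk
    exact mem_erase.2 ⟨fun e => hs (e ▸ hk), mem_univ _⟩
  · intro k hk _
    exact mul_nonneg (S.γ_nonneg j k (ne_of_mem_erase hk).symm) (S.v_pos k).le

theorem Sys.exists_other (j : Fin n) (hj : S.J j) (s : Finset (Fin n)) (hs : j ∉ s)
    (h : ∑ k ∈ s, S.γ j k * S.v k < 2 * S.v j) : ∃ k, k ∉ s ∧ k ≠ j ∧ 0 < S.γ j k := by
  by_contra hcon
  have hcon' : ∀ k, k ∉ s → k ≠ j → S.γ j k ≤ 0 := by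
    intro k h1 h2
    by_contra h3
    exact hcon ⟨k, h1, h2, not_le.1 h3⟩
  have h1 : ∑ k ∈ s, S.γ j k * S.v k = ∑ k ∈ univ.erase j, S.γ j k * S.v k := by
    apply Finset.sum_subset
    · intro k hk
      exact mem_erase.2 ⟨fun e => hs (e ▸ hk), mem_univ _⟩
    · intro k hk hks
      have hkj := ne_of_mem_erase hk
      have h1 := hcon' k hks hkj
      have h2 := S.γ_nonneg j k hkj.symm
      have h3 : S.γ j k = 0 := le_antisymm h1 h2
      rw [h3, zero_mul]
  rw [S.harm j hj] at h1
  linarith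

theorem Sys.others_zero (j : Fin n) (hj : S.J j) (s : Finset (Fin n)) (hs : j ∉ s)
    (h : ∑ k ∈ s, S.γ j k * S.v k = 2 * S.v j) : ∀ k, k ∉ s → k ≠ j → S.γ j k = 0 := by
  classical
  intro k hks hkj
  by_contra hne
  have hpos : 0 < S.γ j k := lt_of_le_of_ne (S.γ_nonneg j k hkj.symm) (Ne.symm hne)
  have hj' : j ∉ insert k s := by
    intro hmem
    rcases mem_insert.1 hmem with e | e
    · exact hkj e.symm
    · exact hs e
  have h1 := S.sum_le j hj (insert k s) hj'
  rw [Finset.sum_insert hks, h] at h1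
  have := mul_pos hpos (S.v_pos k)
  linarith

theorem Sys.ratio (j k : Fin n) (hk : S.J k) (hne : j ≠ k) (h : 0 < S.γ k j) :
    S.v j ≤ 2 * S.v k := by
  have h1 := S.sum_le k hk {j} (by simp [hne.symm])
  rw [Finset.sum_singleton] at h1
  have := S.v_pos j
  nlinarith

/-- one step along an arm -/
theorem Sys.step (q prev : Fin n) (d : ℤ) (hq : S.Int q) (hne : prev ≠ q)
    (hγ : 0 < S.γ q prev) (hv : S.v prev = S.v q + d) (hd : 0 < d) :
    S.γ q prev = 1 ∧ ((S.v q = d ∧ ∀ k, k ≠ q → k ≠ prev → S.γ q k = 0) ∨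
      (∃ nx, nx ≠ q ∧ nx ≠ prev ∧ S.γ q nx = 1 ∧ S.v nx = S.v q - d ∧ 2 * d ≤ S.v q ∧
        ∀ k, k ≠ q → k ≠ prev → k ≠ nx → S.γ q k = 0)) := by
  classical
  have hJ := hq.1
  have hvq := S.v_pos q
  have hq1 : q ∉ ({prev} : Finset (Fin n)) := by simp [hne.symm]
  have h1 := S.sum_le q hJ {prev} hq1
  rw [Finset.sum_singleton, hv] at h1
  have hγ1 : S.γ q prev = 1 := by
    by_contra hne1
    have : 2 ≤ S.γ q prev := by omega
    nlinarith
  refine ⟨hγ1, ?_⟩
  rw [hγ1, one_mul] at h1
  rcases eq_or_lt_of_le (show d ≤ S.v q by linarith) with heq | hlt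
  · left
    refine ⟨heq.symm, ?_⟩
    intro k hkq hkp
    apply S.others_zero q hJ {prev} hq1 _ k (by simp [hkp]) hkq
    rw [Finset.sum_singleton, hγ1, hv]; linarith
  · right
    obtain ⟨nx, hnx1, hnxq, hnxγ⟩ := S.exists_other q hJ {prev} hq1
      (by rw [Finset.sum_singleton, hγ1, hv]; linarith)
    have hnxp : nx ≠ prev := by simpa using hnx1
    have hJnx := hq.2 nx hnxq hnxγ
    have hsym := S.γ_symm q nx hnxq.symm hnxγ
    have hrat := S.ratio q nx hJnx hnxq.symm hsym
    have hq2 : q ∉ ({prev, nx} : Finset (Fin n)) := by simp [hne.symm, hnxq.symm]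
    have h2 := S.sum_le q hJ {prev, nx} hq2
    rw [Finset.sum_pair hnxp.symm, hγ1, hv, one_mul] at h2
    have hγnx : S.γ q nx = 1 := by
      by_contra hne1
      have : 2 ≤ S.γ q nx := by omega
      have := S.v_pos nx
      nlinarith
    rw [hγnx, one_mul] at h2
    have heq : S.v nx = S.v q - d := by
      by_contra hne2
      have hlt2 : S.v nx < S.v q - d := lt_of_le_of_ne (by linarith) hne2
      obtain ⟨c, hc1, hcq, hcγ⟩ := S.exists_other q hJ {prev, nx} hq2
        (by rw [Finset.sum_pair hnxp.symm, hγ1, hγnx, hv]; linarith)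
      have hcp : c ≠ prev := by intro e; apply hc1; simp [e]
      have hcn : c ≠ nx := by intro e; apply hc1; simp [e]
      have hJc := hq.2 c hcq hcγ
      have hsymc := S.γ_symm q c hcq.symm hcγ
      have hratc := S.ratio q c hJc hcq.symm hsymc
      have hq3 : q ∉ ({prev, nx, c} : Finset (Fin n)) := by simp [hne.symm, hnxq.symm, hcq.symm]
      have h3 := S.sum_le q hJ {prev, nx, c} hq3
      rw [Finset.sum_insert (by simp [hnxp.symm, hcp.symm]), Finset.sum_pair hcn.symm, hγ1, hγnx,
        hv] at h3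
      have : S.v c ≤ S.γ q c * S.v c := by have := S.v_pos c; nlinarith
      linarith
    refine ⟨nx, hnxq, hnxp, hγnx, heq, by linarith, ?_⟩
    intro k hkq hkp hkn
    apply S.others_zero q hJ {prev, nx} hq2 _ k (by simp [hkp, hkn]) hkq
    rw [Finset.sum_pair hnxp.symm, hγ1, hγnx, hv, heq]; ring

/-- an arm with slope `d > M` closes up -/
theorem Sys.arm (d : ℤ) (hd : S.M < d) (hd0 : 0 < d) : ∀ N : ℕ, ∀ q prev : Fin n,
    (S.v q).toNat ≤ N → S.Int q → prev ≠ q → 0 < S.γ q prev → S.v prev = S.v q + d →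
    ∃ A : Finset (Fin n), q ∈ A ∧ (∀ s ∈ A, S.M < S.v s) ∧
      (∀ s ∈ A, ∀ k, k ≠ s → 0 < S.γ s k → k ∈ A ∨ k = prev) := by
  classical
  intro N
  induction N with
  | zero =>
    intro q prev hN
    have := S.v_pos q
    omega
  | succ N ih =>
    intro q prev hN hq hne hγ hv
    obtain ⟨hγ1, hcase⟩ := S.step q prev d hq hne hγ hv hd0
    rcases hcase with ⟨hvq, hoth⟩ | ⟨nx, hnxq, hnxp, hγnx, hvnx, h2d, hoth⟩
    · refine ⟨{q}, by simp, ?_, ?_⟩
      · intro s hs
        rw [mem_singleton.1 hs]; omega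
      · intro s hs k hks hγk
        rw [mem_singleton.1 hs] at hks hγk
        right
        by_contra hkp
        rw [hoth k hks hkp] at hγk
        exact lt_irrefl _ hγk
    · have hMnx : S.M < S.v nx := by omega
      have hIntnx := S.int_of_lt hMnx
      have hsym := S.γ_symm q nx hnxq.symm (by rw [hγnx]; norm_num)
      have hvq := S.v_pos q
      have hvnx' := S.v_pos nx
      obtain ⟨A', hA1, hA2, hA3⟩ := ih nx q (by omega) hIntnx hnxq.symm hsym (by omega)
      refine ⟨insert q A', by simp, ?_, ?_⟩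
      · intro s hs
        rcases mem_insert.1 hs with h | hs
        · rw [h]; omega
        · exact hA2 s hs
      · intro s hs k hks hγk
        rcases mem_insert.1 hs with h | hs
        · rw [h] at hks hγk
          by_cases hkp : k = prev
          · right; exact hkp
          · left
            by_cases hkn : k = nx
            · rw [hkn]; exact mem_insert_of_mem hA1
            · rw [hoth k hks hkp hkn] at hγk
              exact absurd hγk (lt_irrefl _)
        · rcases hA3 s hs k hks hγk with h | h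
          · left; exact mem_insert_of_mem h
          · left; rw [h]; exact mem_insert_self _ _

/-- a list of slots representing a weighted sum -/
theorem slots {n : ℕ} (c : Fin n → ℤ) (s : Finset (Fin n)) (hc : ∀ k ∈ s, 0 ≤ c k) :
    ∃ L : List (Fin n), (∀ f : Fin n → ℤ, ∑ k ∈ s, c k * f k = (L.map f).sum) ∧
      (∀ k, k ∈ L ↔ k ∈ s ∧ 0 < c k) := by
  classical
  induction s using Finset.induction_on with
  | empty => exact ⟨[], by simp, by simp⟩
  | insert a s ha ih =>
    obtain ⟨L, hL1, hL2⟩ := ih (fun k hk => hc k (mem_insert_of_mem hk))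
    have hca := hc a (mem_insert_self _ _)
    refine ⟨List.replicate (c a).toNat a ++ L, ?_, ?_⟩
    · intro f
      rw [Finset.sum_insert ha, hL1 f, List.map_append, List.sum_append, List.map_replicate,
        List.sum_replicate, nsmul_eq_mul, Int.toNat_of_nonneg hca]
    · intro k
      rw [List.mem_append, List.mem_replicate, hL2 k, mem_insert]
      constructor
      · rintro (⟨h1, h2⟩ | ⟨h1, h2⟩)
        · refine ⟨Or.inl h2, ?_⟩
          rw [h2]; omega
        · exact ⟨Or.inr h1, h2⟩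
      · rintro ⟨h1 | h1, h2⟩
        · left
          rw [h1] at h2
          exact ⟨by omega, h1⟩
        · right; exact ⟨h1, h2⟩

end Groth.Agent.Lib.Helper85.NumBd
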