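import Mathlib
import Groth.Agent.Lib.Helper85.NumBd1

/-!
# The bound `v ≤ 6 M` for harmonic systems (helper85)
-/

set_option autoImplicit false
open Finset

namespace Groth.Agent.Lib.Helper85.NumBd

variable {n : ℕ} (S : Sys n)

/-- arithmetic of the slots at a maximum -/
theorem slot_arith (vp : ℤ) (hvp : 0 < vp) (x : Fin n → ℤ) :
    ∀ L : List (Fin n),
    (∀ k ∈ L, vp ≤ 2 * x k ∧ x k ≤ vp ∧
      (x k = vp ∨ 2 * x k = vp ∨ (0 < vp - x k ∧ 3 * (vp - x k) ≤ vp))) →
    (L.map x).sum = 2 * vp →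
    (∀ k ∈ L, x k = vp ∨ 2 * x k = vp) ∨ (∀ k ∈ L, vp ≤ 6 * (vp - x k)) := by
  intro L hQ hsum
  rcases L with _ | ⟨a, _ | ⟨b, _ | ⟨c, _ | ⟨d, _ | ⟨e, r⟩⟩⟩⟩⟩
  · simp at hsum; omega
  · simp at hsum
    have := hQ a (by simp)
    omega
  · simp at hsum
    have ha := hQ a (by simp)
    have hb := hQ b (by simp)
    left
    simp only [List.mem_cons, List.not_mem_nil, or_false, forall_eq_or_imp, forall_eq]
    omega
  · simp at hsum
    have ha := hQ a (by simp)
    have hb := hQ b (by simp)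
    have hc := hQ c (by simp)
    simp only [List.mem_cons, List.not_mem_nil, or_false, forall_eq_or_imp, forall_eq]
    omega
  · simp at hsum
    have ha := hQ a (by simp)
    have hb := hQ b (by simp)
    have hc := hQ c (by simp)
    have hd := hQ d (by simp)
    left
    simp only [List.mem_cons, List.not_mem_nil, or_false, forall_eq_or_imp, forall_eq]
    omega
  · exfalso
    have ha := hQ a (by simp)
    have hb := hQ b (by simp)
    have hc := hQ c (by simp)
    have hd := hQ d (by simp)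
    have he := hQ e (by simp)
    have hr : 0 ≤ (r.map x).sum := by
      apply List.sum_nonneg
      intro y hy
      obtain ⟨k, hk, rfl⟩ := List.mem_map.1 hy
      have := hQ k (by simp [hk])
      omega
    simp at hsum
    omega

/-- structure of the neighbours of a global maximum which is large -/
theorem Sys.at_max (p : Fin n) (hmax : ∀ j, S.v j ≤ S.v p) (hbig : 6 * S.M < S.v p) :
    ∀ k, k ≠ p → 0 < S.γ p k → S.v k = S.v p ∨
      (2 * S.v k = S.v p ∧ ∀ k', k' ≠ k → k' ≠ p → S.γ k k' = 0) := by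
  classical
  have hM := S.M_pos
  have hvp := S.v_pos p
  have hIntp : S.Int p := S.int_of_lt (by omega)
  -- facts about each neighbour
  have hnb : ∀ k, k ≠ p → 0 < S.γ p k → S.Int k ∧ 0 < S.γ k p ∧ S.v p ≤ 2 * S.v k ∧
      S.v k ≤ S.v p ∧ (S.v k = S.v p ∨
        (2 * S.v k = S.v p ∧ ∀ k', k' ≠ k → k' ≠ p → S.γ k k' = 0) ∨
        (0 < S.v p - S.v k ∧ 3 * (S.v p - S.v k) ≤ S.v p)) := by
    intro k hk hγ
    have hJk := hIntp.2 k hk hγ
    have hsym := S.γ_symm p k hk.symm hγ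
    have hrat := S.ratio p k hJk hk.symm hsym
    have hIntk : S.Int k := S.int_of_lt (by omega)
    refine ⟨hIntk, hsym, hrat, hmax k, ?_⟩
    rcases eq_or_lt_of_le (hmax k) with heq | hlt
    · left; exact heq
    · right
      obtain ⟨-, hcase⟩ := S.step k p (S.v p - S.v k) hIntk hk.symm hsym (by ring) (by omega)
      rcases hcase with ⟨h1, h2⟩ | ⟨nx, -, -, -, -, h2d, -⟩
      · left
        exact ⟨by omega, h2⟩
      · right
        exact ⟨by omega, by omega⟩
  -- the slots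
  obtain ⟨L, hL1, hL2⟩ := slots (fun k => S.γ p k) (univ.erase p)
    (fun k hk => S.γ_nonneg p k (ne_of_mem_erase hk).symm)
  have hsum : (L.map S.v).sum = 2 * S.v p := by
    rw [← hL1 S.v]; exact S.harm p hIntp.1
  have hLmem : ∀ k, k ∈ L → k ≠ p ∧ 0 < S.γ p k := by
    intro k hk
    obtain ⟨h1, h2⟩ := (hL2 k).1 hk
    exact ⟨ne_of_mem_erase h1, h2⟩
  have harith := slot_arith (S.v p) hvp S.v L (fun k hk => by
    obtain ⟨h1, h2⟩ := hLmem k hk
    obtain ⟨-, -, h3, h4, h5⟩ := hnb k h1 h2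
    refine ⟨h3, h4, ?_⟩
    rcases h5 with h | ⟨h, -⟩ | h
    · left; exact h
    · right; left; exact h
    · right; right; exact h) hsum
  rcases harith with hI | hII
  · intro k hk hγ
    have hkL : k ∈ L := (hL2 k).2 ⟨mem_erase.2 ⟨hk, mem_univ _⟩, hγ⟩
    obtain ⟨-, -, h3, h4, h5⟩ := hnb k hk hγ
    rcases hI k hkL with h | h
    · left; exact h
    · rcases h5 with h' | h' | h'
      · left; exact h'
      · right; exact h'
      · exfalso; omega
  · exfalso
    have hII' : ∀ k, k ≠ p → 0 < S.γ p k → S.v p ≤ 6 * (S.v p - S.v k) := by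
      intro k hk hγ
      exact hII k ((hL2 k).2 ⟨mem_erase.2 ⟨hk, mem_univ _⟩, hγ⟩)
    have harm_ex : ∀ k, k ≠ p → 0 < S.γ p k → ∃ A : Finset (Fin n), k ∈ A ∧
        (∀ s ∈ A, S.M < S.v s) ∧
        (∀ s ∈ A, ∀ k', k' ≠ s → 0 < S.γ s k' → k' ∈ A ∨ k' = p) := by
      intro k hk hγ
      obtain ⟨h1, h2, -, -, -⟩ := hnb k hk hγ
      have h6 := hII' k hk hγ
      exact S.arm (S.v p - S.v k) (by omega) (by omega) _ k p le_rfl h1 hk.symm h2 (by ring)
    choose! A hA using harm_ex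
    let C : Finset (Fin n) :=
      insert p ((univ.filter fun k => k ≠ p ∧ 0 < S.γ p k).biUnion A)
    have hCint : ∀ s ∈ C, S.M < S.v s := by
      intro s hs
      rcases mem_insert.1 hs with h | h
      · rw [h]; omega
      · obtain ⟨k, hk, hsk⟩ := mem_biUnion.1 h
        obtain ⟨-, hk1, hk2⟩ := mem_filter.1 hk
        exact (hA k hk1 hk2).2.1 s hsk
    have hCclosed : ∀ s ∈ C, ∀ k, k ≠ s → 0 < S.γ s k → k ∈ C := by
      intro s hs k hks hγk
      rcases mem_insert.1 hs with h | h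
      · rw [h] at hks hγk
        apply mem_insert_of_mem
        exact mem_biUnion.2 ⟨k, mem_filter.2 ⟨mem_univ _, hks, hγk⟩, (hA k hks hγk).1⟩
      · obtain ⟨k0, hk0, hsk⟩ := mem_biUnion.1 h
        obtain ⟨-, hk1, hk2⟩ := mem_filter.1 hk0
        rcases (hA k0 hk1 hk2).2.2 s hsk k hks hγk with h' | h'
        · apply mem_insert_of_mem
          exact mem_biUnion.2 ⟨k0, hk0, h'⟩
        · rw [h']; exact mem_insert_self _ _
    have hCu := S.conn C ⟨p, mem_insert_self _ _⟩ hCclosed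
    obtain ⟨k0, hk0⟩ := S.exK
    have hk0C : k0 ∈ C := hCu ▸ mem_univ k0
    exact hk0 (S.int_of_lt (hCint k0 hk0C)).1

/-- the main bound -/
theorem Sys.bound (j : Fin n) : S.v j ≤ 6 * S.M := by
  classical
  by_contra hcon
  have hcon' : 6 * S.M < S.v j := not_le.1 hcon
  obtain ⟨p, -, hp⟩ := Finset.exists_max_image univ S.v ⟨j, mem_univ j⟩
  have hmax : ∀ i, S.v i ≤ S.v p := fun i => hp i (mem_univ i)
  have hbig : 6 * S.M < S.v p := lt_of_lt_of_le hcon' (hmax j)
  have hM := S.M_pos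
  have hall : ∀ p', S.v p' = S.v p → ∀ k, k ≠ p' → 0 < S.γ p' k → (S.v k = S.v p ∨
      (2 * S.v k = S.v p ∧ ∀ k', k' ≠ k → k' ≠ p' → S.γ k k' = 0)) := by
    intro p' hp' k hk hγ
    have := S.at_max p' (fun i => hp' ▸ hmax i) (hp' ▸ hbig) k hk hγ
    rwa [hp'] at this
  let C : Finset (Fin n) := univ.filter fun s => S.v s = S.v p ∨ (2 * S.v s = S.v p ∧
    ∃ p', p' ≠ s ∧ S.v p' = S.v p ∧ 0 < S.γ s p' ∧ ∀ k, k ≠ s → k ≠ p' → S.γ s k = 0)
  have hCint : ∀ s ∈ C, S.M < S.v s := by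
    intro s hs
    obtain ⟨-, h⟩ := mem_filter.1 hs
    rcases h with h | ⟨h, -⟩ <;> omega
  have hCclosed : ∀ s ∈ C, ∀ k, k ≠ s → 0 < S.γ s k → k ∈ C := by
    intro s hs k hks hγk
    obtain ⟨-, h⟩ := mem_filter.1 hs
    rcases h with h | ⟨h, p', hp's, hvp', hγp', hoth⟩
    · rcases hall s h k hks hγk with h1 | ⟨h1, h2⟩
      · exact mem_filter.2 ⟨mem_univ _, Or.inl h1⟩
      · refine mem_filter.2 ⟨mem_univ _, Or.inr ⟨h1, s, hks.symm, h, ?_, h2⟩⟩
        exact S.γ_symm s k hks.symm hγk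
    · have hk : k = p' := by
        by_contra hne
        rw [hoth k hks hne] at hγk
        exact lt_irrefl _ hγk
      rw [hk]
      exact mem_filter.2 ⟨mem_univ _, Or.inl hvp'⟩
  have hCu := S.conn C ⟨p, mem_filter.2 ⟨mem_univ _, Or.inl rfl⟩⟩ hCclosed
  obtain ⟨k0, hk0⟩ := S.exK
  have hk0C : k0 ∈ C := hCu ▸ mem_univ k0
  exact hk0 (S.int_of_lt (hCint k0 hk0C)).1

end Groth.Agent.Lib.Helper85.NumBd
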