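import Mathlib
import Groth.Agent.Lib.Helper85.NumBd2
import Groth.Agent.Lib.Helper11.NumTypeBound

/-!
# The bound `m_i w_i ≤ 36 (g - 1)` for minimal numerical types of genus at least two (helper85)
-/

set_option autoImplicit false
open Finset

namespace Groth.Agent.Lib.Helper85.NumBd

open Models Models.NumericalType Groth.Agent.Lib.Helper11

variable {n : ℕ} (T : Models.NumericalType n)

/-- transposed Cartan integers -/
def gam (j k : Fin n) : ℤ := T.a j k / T.w k

theorem gam_mul (j k : Fin n) : gam T j k * T.w k = T.a j k := by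
  unfold gam
  apply Int.ediv_mul_cancel
  rw [a_symm T j k]
  exact T.w_dvd k j

theorem gam_nonneg (j k : Fin n) (h : j ≠ k) : 0 ≤ gam T j k :=
  Int.ediv_nonneg (T.offDiag_nonneg j k h) (T.w_pos k).le

theorem gam_pos_iff (j k : Fin n) : 0 < gam T j k ↔ 0 < T.a j k := by
  have hw := T.w_pos k
  have h := gam_mul T j k
  constructor
  · intro hg
    rw [← h]; exact mul_pos hg hw
  · intro ha
    rw [← h] at ha
    by_contra hcon
    have : gam T j k ≤ 0 := not_lt.1 hcon
    nlinarith

theorem genus_of_all_minusTwo (h : ∀ i, T.IsMinusTwo i) : T.genus = 1 := by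
  unfold NumericalType.genus
  have e1 : ∑ i, T.m i * T.w i * (T.g i - 1) = - ∑ i, T.m i * T.w i := by
    rw [← Finset.sum_neg_distrib]
    refine Finset.sum_congr rfl fun i _ => ?_
    rw [(h i).1]; ring
  have e2 : ∑ i, T.m i * T.a i i = 2 * (- ∑ i, T.m i * T.w i) := by
    rw [← Finset.sum_neg_distrib, Finset.mul_sum]
    refine Finset.sum_congr rfl fun i _ => ?_
    rw [(h i).2]; ring
  rw [e1, e2, Int.mul_ediv_cancel_left _ (by norm_num : (2 : ℤ) ≠ 0)]
  ring

theorem w_le_abs_diag (hn : 1 < n) (i : Fin n) : T.w i ≤ |T.a i i| := by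
  have h1 := diag_neg T hn i
  apply Int.le_of_dvd (abs_pos.2 h1.ne)
  exact (dvd_abs _ _).2 (T.w_dvd i i)

/-- the harmonic system of a minimal numerical type of genus at least two -/
noncomputable def sys (hmin : T.IsMinimal) (hn : 1 < n) (hg : 2 ≤ T.genus) : Sys n where
  v := fun j => T.m j * T.w j
  γ := gam T
  J := T.IsMinusTwo
  M := 6 * T.genus - 6
  v_pos := fun j => mul_pos (T.m_pos j) (T.w_pos j)
  γ_nonneg := gam_nonneg T
  γ_symm := by
    intro j k _ h
    rw [gam_pos_iff] at h ⊢
    rwa [a_symm T k j]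
  harm := by
    intro j hj
    have h1 := row_sum T j
    rw [← Finset.add_sum_erase univ _ (mem_univ j), hj.2] at h1
    have h2 : ∑ k ∈ univ.erase j, gam T j k * (T.m k * T.w k) =
        ∑ k ∈ univ.erase j, T.a j k * T.m k := by
      refine Finset.sum_congr rfl fun k _ => ?_
      rw [← gam_mul T j k]; ring
    rw [h2]
    linarith
  anch := by
    intro l hl
    obtain ⟨-, -, h3⟩ := bounds_of_not_minusTwo T hmin hn l hl
    have h4 := tt_le_genus T hmin hn l
    have h5 := w_le_abs_diag T hn l
    have h6 := T.m_pos l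
    have : T.m l * T.w l ≤ T.m l * |T.a l l| := mul_le_mul_of_nonneg_left h5 h6.le
    linarith
  anch' := by
    intro l k hlk hk hγ
    obtain ⟨-, -, h3⟩ := bounds_of_not_minusTwo T hmin hn k hk
    have h4 := tt_le_genus T hmin hn k
    have ha : 0 < T.a l k := (gam_pos_iff T l k).1 hγ
    have h5 : T.w l ≤ T.a l k := Int.le_of_dvd ha (T.w_dvd l k)
    have h6 := T.m_pos l
    have h7 : T.m l * T.w l ≤ T.m l * T.a l k := mul_le_mul_of_nonneg_left h5 h6.le
    have h8 := mul_a_le T l k
    linarith
  conn := by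
    intro C hC hclosed
    by_contra hne
    obtain ⟨i, hi, j, hj, hij⟩ := T.connected C hC hne
    have hji : j ≠ i := fun e => hj (e ▸ hi)
    have hpos : 0 < T.a i j := lt_of_le_of_ne (T.offDiag_nonneg i j hji.symm) (Ne.symm hij)
    exact hj (hclosed i hi j hji ((gam_pos_iff T i j).2 hpos))
  exK := by
    by_contra hcon
    have hall : ∀ i, T.IsMinusTwo i := by
      intro i
      by_contra hi
      exact hcon ⟨i, hi⟩
    have := genus_of_all_minusTwo T hall
    omega

theorem mw_le (hmin : T.IsMinimal) (hn : 1 < n) (hg : 2 ≤ T.genus) (j : Fin n) :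
    T.m j * T.w j ≤ 6 * (6 * T.genus - 6) :=
  (sys T hmin hn hg).bound j

theorem diag_le (hmin : T.IsMinimal) (hn : 1 < n) (hg : 2 ≤ T.genus) (j : Fin n) :
    T.m j * |T.a j j| ≤ 72 * T.genus - 72 := by
  by_cases hj : T.IsMinusTwo j
  · have h1 := mw_le T hmin hn hg j
    have hw := T.w_pos j
    have habs : |T.a j j| = 2 * T.w j := by
      rw [hj.2, abs_of_nonpos (by linarith)]; ring
    rw [habs]
    linarith
  · obtain ⟨-, -, h3⟩ := bounds_of_not_minusTwo T hmin hn j hj
    have h4 := tt_le_genus T hmin hn j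
    linarith

/-- `m_i |a_ij| ≤ 72 (g - 1)` for minimal numerical types of genus `g ≥ 2`. -/
theorem mul_abs_le (hmin : T.IsMinimal) (hg : 2 ≤ T.genus) (i j : Fin n) :
    T.m i * |T.a i j| ≤ 72 * T.genus - 72 := by
  by_cases hn : 1 < n
  · by_cases hij : i = j
    · subst hij
      exact diag_le T hmin hn hg i
    · have h1 := T.offDiag_nonneg i j hij
      rw [abs_of_nonneg h1]
      exact le_trans (mul_a_le T i j) (diag_le T hmin hn hg j)
  · have hn1 : n = 1 := by have := T.pos; omega
    have hall : ∀ k : Fin n, k = i := fun k => Fin.ext (by have := k.2; have := i.2; omega)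
    have h1 := row_sum T i
    rw [Finset.sum_eq_single i (fun b _ hb => absurd (hall b) hb) (by simp)] at h1
    have hm := T.m_pos i
    have h0 : T.a i i = 0 := by
      rcases mul_eq_zero.1 h1 with h | h
      · exact h
      · exact absurd h hm.ne'
    rw [hall j, h0, abs_zero, mul_zero]
    linarith

end Groth.Agent.Lib.Helper85.NumBd
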