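import Mathlib
import Groth.Agent.Lib.Helper11.NumTypeAff

/-!
# General tools for the classification of genus one numerical types (arbitrary number of indices)

* `KP`: a nonnegative nonzero "subharmonic" vector is proportional to `m`;
* `rigid`: list form with lower bounds, giving exact Cartan integers;
* `superH`: a "superharmonic" vector which is strict somewhere cannot exist.
-/

set_option autoImplicit false
set_option linter.unusedSectionVars false
open Finset

namespace Groth.Agent.Lib.Helper85.NumGen

open Models Models.NumericalType Groth.Agent.Lib.Helper11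

variable {n : ℕ} (T : Models.NumericalType n)

theorem quad_eq (y : Fin n → ℤ) :
    ∑ i, ∑ j, T.a i j * y i * y j = ∑ i, y i * (T.w i * ∑ j, cart T i j * y j) := by
  refine Finset.sum_congr rfl fun i _ => ?_
  rw [Finset.mul_sum, Finset.mul_sum]
  refine Finset.sum_congr rfl fun j _ => ?_
  rw [← w_mul_cart T i j]
  ring

/-- a nonnegative nonzero subharmonic vector is a positive multiple of `m` and harmonic. -/
theorem KP (y : Fin n → ℤ) (hy0 : ∀ i, 0 ≤ y i) (hne : ∃ i, y i ≠ 0)
    (hsub : ∀ i, y i ≠ 0 → 0 ≤ ∑ j, cart T i j * y j) :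
    (∀ i j, y i * T.m j = y j * T.m i) ∧ (∀ i, 0 < y i) ∧ (∀ i, ∑ j, cart T i j * y j = 0) := by
  have hq : 0 ≤ ∑ i, ∑ j, T.a i j * y i * y j := by
    rw [quad_eq]
    refine Finset.sum_nonneg fun i _ => ?_
    by_cases hz : y i = 0
    · rw [hz, zero_mul]
    · exact mul_nonneg (hy0 i) (mul_nonneg (T.w_pos i).le (hsub i hz))
  have h0 : ∑ i, ∑ j, T.a i j * y i * y j = 0 := le_antisymm (quad_nonpos T y) hq
  have hprop := quad_eq_zero_proportional T y h0
  have hpos : ∀ i, 0 < y i := by
    intro i
    obtain ⟨k, hk⟩ := hne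
    rcases lt_or_eq_of_le (hy0 i) with h | h
    · exact h
    · exfalso
      have := hprop k i
      rw [← h, zero_mul] at this
      rcases mul_eq_zero.1 this with h1 | h1
      · exact hk h1
      · exact (T.m_pos i).ne' h1
  refine ⟨hprop, hpos, fun i => ?_⟩
  obtain ⟨k, -⟩ := hne
  have hmk := T.m_pos k
  have h1 : (∑ j, cart T i j * y j) * T.m k = 0 := by
    rw [Finset.sum_mul]
    have : ∀ j, cart T i j * y j * T.m k = y k * (cart T i j * T.m j) := by
      intro j
      have := hprop j k
      calc cart T i j * y j * T.m k = cart T i j * (y j * T.m k) := by ring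
        _ = cart T i j * (y k * T.m j) := by rw [this]
        _ = y k * (cart T i j * T.m j) := by ring
    simp_rw [this]
    rw [← Finset.mul_sum, row_sum_cart, mul_zero]
  rcases mul_eq_zero.1 h1 with h | h
  · exact h
  · exact absurd h hmk.ne'

/-- lower bound of a row sum by a list of distinct off-diagonal entries. -/
theorem rowsum_ge (hm2 : ∀ i, T.IsMinusTwo i) (y : Fin n → ℤ) (hy0 : ∀ i, 0 ≤ y i) (i : Fin n)
    (l : List (Fin n)) (hl : l.Nodup) (hil : i ∉ l) :
    (l.map fun j => cart T i j * y j).sum - 2 * y i ≤ ∑ j, cart T i j * y j := by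
  classical
  rw [← Finset.add_sum_erase univ _ (mem_univ i), cart_diag T (hm2 i)]
  have hsub : l.toFinset ⊆ univ.erase i := fun j hj =>
    Finset.mem_erase.2 ⟨fun e => hil (e ▸ List.mem_toFinset.1 hj), mem_univ j⟩
  have h1 := Finset.sum_le_sum_of_subset_of_nonneg hsub (f := fun j => cart T i j * y j)
    (fun j hj _ => mul_nonneg (cart_nonneg T (Finset.ne_of_mem_erase hj).symm) (hy0 j))
  rw [List.sum_toFinset _ hl] at h1
  linarith

/-- rigidity: a configuration carrying a subharmonic vector (with respect to lower bounds of the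
Cartan integers) is everything, and the lower bounds are sharp. -/
theorem rigid (hm2 : ∀ i, T.IsMinusTwo i) (y : Fin n → ℤ) (hy0 : ∀ i, 0 ≤ y i)
    (hne : ∃ i, y i ≠ 0) (nb : Fin n → List (Fin n)) (hnd : ∀ i, (nb i).Nodup)
    (hni : ∀ i, i ∉ nb i) (Lb : Fin n → Fin n → ℤ)
    (hLb : ∀ i, y i ≠ 0 → ∀ j ∈ nb i, Lb i j ≤ cart T i j)
    (hsub : ∀ i, y i ≠ 0 → 2 * y i ≤ ((nb i).map fun j => Lb i j * y j).sum) :
    (∀ i j, y i * T.m j = y j * T.m i) ∧ (∀ i, 0 < y i) ∧
      (∀ i, ∀ j ∈ nb i, cart T i j = Lb i j) ∧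
      (∀ i j, j ≠ i → j ∉ nb i → cart T i j = 0) := by
  classical
  have hmono : ∀ i, y i ≠ 0 → ((nb i).map fun j => Lb i j * y j).sum ≤
      ((nb i).map fun j => cart T i j * y j).sum := by
    intro i hi
    apply List.sum_le_sum
    intro j hj
    exact mul_le_mul_of_nonneg_right (hLb i hi j hj) (hy0 j)
  have hsub' : ∀ i, y i ≠ 0 → 0 ≤ ∑ j, cart T i j * y j := by
    intro i hi
    have h1 := rowsum_ge T hm2 y hy0 i (nb i) (hnd i) (hni i)
    have h2 := hmono i hi
    have h3 := hsub i hi
    linarith
  obtain ⟨hprop, hpos, hharm⟩ := KP T y hy0 hne hsub'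
  refine ⟨hprop, hpos, ?_, ?_⟩
  · intro i j hj
    have hi : y i ≠ 0 := (hpos i).ne'
    have h1 := rowsum_ge T hm2 y hy0 i (nb i) (hnd i) (hni i)
    rw [hharm i] at h1
    have h3 := hsub i hi
    -- the list sum of differences vanishes
    have hdiff : ((nb i).map fun j => (cart T i j - Lb i j) * y j).sum ≤ 0 := by
      have : ((nb i).map fun j => (cart T i j - Lb i j) * y j).sum =
          ((nb i).map fun j => cart T i j * y j).sum - ((nb i).map fun j => Lb i j * y j).sum := by
        induction (nb i) with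
        | nil => simp
        | cons a l ih =>
          simp only [List.map_cons, List.sum_cons]
          rw [ih]
          ring
      rw [this]
      linarith
    have hterm : (cart T i j - Lb i j) * y j ≤
        ((nb i).map fun j => (cart T i j - Lb i j) * y j).sum := by
      apply List.single_le_sum
      · intro x hx
        obtain ⟨j', hj', rfl⟩ := List.mem_map.1 hx
        exact mul_nonneg (sub_nonneg.2 (hLb i hi j' hj')) (hy0 j')
      · exact List.mem_map.2 ⟨j, hj, rfl⟩
    have h5 : (cart T i j - Lb i j) * y j ≤ 0 := le_trans hterm hdiff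
    have h6 := hLb i hi j hj
    have h7 := hpos j
    nlinarith
  · intro i j hji hj
    have hi : y i ≠ 0 := (hpos i).ne'
    have h1 := rowsum_ge T hm2 y hy0 i (j :: nb i) (List.nodup_cons.2 ⟨hj, hnd i⟩)
      (by
        intro h
        rcases List.mem_cons.1 h with h | h
        · exact hji h.symm
        · exact hni i h)
    rw [hharm i, List.map_cons, List.sum_cons] at h1
    have h2 := hmono i hi
    have h3 := hsub i hi
    have h4 : cart T i j * y j ≤ 0 := by linarith
    have h5 := cart_nonneg T (Ne.symm hji : i ≠ j)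
    have h7 := hpos j
    nlinarith

/-- a superharmonic vector which is strict somewhere cannot exist. -/
theorem superH (z : Fin n → ℤ) (hz : ∀ i, ∑ j, cart T i j * z j ≤ 0)
    (hstrict : ∃ i, ∑ j, cart T i j * z j < 0) : False := by
  have hzero : ∑ i, T.m i * (T.w i * ∑ j, cart T i j * z j) = 0 := by
    have e1 : ∀ i, T.m i * (T.w i * ∑ j, cart T i j * z j) = ∑ j, z j * (T.a i j * T.m i) := by
      intro i
      rw [Finset.mul_sum, Finset.mul_sum]
      refine Finset.sum_congr rfl fun j _ => ?_
      rw [← w_mul_cart T i j]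
      ring
    simp_rw [e1]
    rw [Finset.sum_comm]
    refine Finset.sum_eq_zero fun j _ => ?_
    rw [← Finset.mul_sum, col_sum, mul_zero]
  obtain ⟨i0, hi0⟩ := hstrict
  have hneg : ∑ i, T.m i * (T.w i * ∑ j, cart T i j * z j) < 0 := by
    have := Finset.sum_lt_sum (s := (univ : Finset (Fin n)))
      (f := fun i => T.m i * (T.w i * ∑ j, cart T i j * z j)) (g := fun _ => 0)
      (fun i _ => mul_nonpos_of_nonneg_of_nonpos (T.m_pos i).le
        (mul_nonpos_of_nonneg_of_nonpos (T.w_pos i).le (hz i)))
      ⟨i0, mem_univ _, mul_neg_of_pos_of_neg (T.m_pos i0)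
        (mul_neg_of_pos_of_neg (T.w_pos i0) hi0)⟩
    simpa using this
  omega

/-- exact row sum from a list carrying all nonzero off-diagonal entries. -/
theorem rowsum_eq (hm2 : ∀ i, T.IsMinusTwo i) (z : Fin n → ℤ) (i : Fin n)
    (l : List (Fin n)) (hl : l.Nodup) (hil : i ∉ l)
    (hoff : ∀ j, j ≠ i → j ∉ l → cart T i j = 0) :
    ∑ j, cart T i j * z j = (l.map fun j => cart T i j * z j).sum - 2 * z i := by
  classical
  rw [← Finset.add_sum_erase univ _ (mem_univ i), cart_diag T (hm2 i)]
  have hsub : l.toFinset ⊆ univ.erase i := fun j hj =>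
    Finset.mem_erase.2 ⟨fun e => hil (e ▸ List.mem_toFinset.1 hj), mem_univ j⟩
  have h1 := Finset.sum_subset hsub (f := fun j => cart T i j * z j)
    (fun j hj hjl => by
      have hji : j ≠ i := Finset.ne_of_mem_erase hj
      rw [hoff j hji (fun h => hjl (List.mem_toFinset.2 h)), zero_mul])
  rw [List.sum_toFinset _ hl] at h1
  rw [← h1]
  ring

end Groth.Agent.Lib.Helper85.NumGen
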