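import Mathlib
import Groth.Agent.Lib.Helper85.NumGen1

/-!
# Marked enumerations (general rigidity tool for genus one numerical types)
-/

set_option autoImplicit false
set_option linter.unusedSectionVars false
open Finset

namespace Groth.Agent.Lib.Helper85.NumGen

open Models Models.NumericalType Groth.Agent.Lib.Helper11

variable {n : ℕ} (T : Models.NumericalType n)

/-- list version of `KP` -/
theorem KPl (hm2 : ∀ i, T.IsMinusTwo i) (y : Fin n → ℤ) (hy0 : ∀ i, 0 ≤ y i)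
    (hne : ∃ i, y i ≠ 0)
    (h : ∀ i, y i ≠ 0 → ∃ l : List (Fin n), l.Nodup ∧ i ∉ l ∧
      2 * y i ≤ (l.map fun j => cart T i j * y j).sum) :
    (∀ i j, y i * T.m j = y j * T.m i) ∧ (∀ i, 0 < y i) ∧
      (∀ i, ∑ j, cart T i j * y j = 0) := by
  refine KP T y hy0 hne fun i hi => ?_
  obtain ⟨l, h1, h2, h3⟩ := h i hi
  have := rowsum_ge T hm2 y hy0 i l h1 h2
  linarith

theorem tight (hm2 : ∀ i, T.IsMinusTwo i) (y : Fin n → ℤ) (hpos : ∀ i, 0 < y i)
    (hharm : ∀ i, ∑ j, cart T i j * y j = 0) (i : Fin n)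
    (l : List (Fin n)) (hl : l.Nodup) (hil : i ∉ l)
    (h : 2 * y i ≤ (l.map fun j => cart T i j * y j).sum) :
    (l.map fun j => cart T i j * y j).sum = 2 * y i ∧
      ∀ j, j ≠ i → j ∉ l → cart T i j = 0 := by
  have hy0 : ∀ i, 0 ≤ y i := fun i => (hpos i).le
  refine ⟨?_, ?_⟩
  · have := rowsum_ge T hm2 y hy0 i l hl hil
    rw [hharm i] at this
    linarith
  · intro j hji hjl
    have h1 := rowsum_ge T hm2 y hy0 i (j :: l) (List.nodup_cons.2 ⟨hjl, hl⟩) (by
        intro hm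
        rcases List.mem_cons.1 hm with hm | hm
        · exact hji hm.symm
        · exact hil hm)
    rw [hharm i, List.map_cons, List.sum_cons] at h1
    have h5 := cart_nonneg T (Ne.symm hji : i ≠ j)
    have h7 := hpos j
    nlinarith

/-- injectivity of an enumeration on `[0, N)` -/
def Inj (e : ℕ → Fin n) (N : ℕ) : Prop := ∀ a b, a < N → b < N → e a = e b → a = b

/-- marks of an enumeration, as a function on vertices -/
def ymark (e : ℕ → Fin n) (N : ℕ) (c : ℕ → ℤ) (v : Fin n) : ℤ :=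
  ∑ k ∈ Finset.range N, if e k = v then c k else 0

theorem ymark_apply {e : ℕ → Fin n} {N : ℕ} (c : ℕ → ℤ) (hinj : Inj e N) {k : ℕ} (hk : k < N) :
    ymark e N c (e k) = c k := by
  unfold ymark
  rw [Finset.sum_eq_single k]
  · simp
  · intro b hb hbk
    rw [if_neg]
    intro h
    exact hbk (hinj b k (Finset.mem_range.1 hb) hk h)
  · intro h
    exact absurd (Finset.mem_range.2 hk) h

theorem ymark_nonneg (e : ℕ → Fin n) (N : ℕ) {c : ℕ → ℤ} (hc0 : ∀ k, 0 ≤ c k) (v : Fin n) :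
    0 ≤ ymark e N c v := by
  unfold ymark
  refine Finset.sum_nonneg fun k _ => ?_
  split_ifs
  · exact hc0 k
  · exact le_rfl

theorem ymark_ne_zero {e : ℕ → Fin n} {N : ℕ} {c : ℕ → ℤ} {v : Fin n}
    (h : ymark e N c v ≠ 0) : ∃ k, k < N ∧ e k = v ∧ c k ≠ 0 := by
  by_contra hcon
  push Not at hcon
  apply h
  unfold ymark
  refine Finset.sum_eq_zero fun k hk => ?_
  split_ifs with h1
  · exact hcon k (Finset.mem_range.1 hk) h1
  · rfl

theorem sum_map_ymark {e : ℕ → Fin n} {N : ℕ} (c : ℕ → ℤ) (hinj : Inj e N) (x : Fin n)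
    (l : List ℕ) (hlN : ∀ k' ∈ l, k' < N) :
    ((l.map e).map fun j => cart T x j * ymark e N c j).sum =
      (l.map fun k' => cart T x (e k') * c k').sum := by
  rw [List.map_map]
  congr 1
  apply List.map_congr_left
  intro k' hk'
  simp only [Function.comp]
  rw [ymark_apply c hinj (hlN k' hk')]

theorem nodup_map_enum {e : ℕ → Fin n} {N : ℕ} (hinj : Inj e N) (l : List ℕ)
    (hlN : ∀ k' ∈ l, k' < N) (hl : l.Nodup) : (l.map e).Nodup :=
  List.Nodup.map_on (fun a ha b hb hab => hinj a b (hlN a ha) (hlN b hb) hab) hl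

/-- the marked enumeration lemma -/
theorem ME (hm2 : ∀ i, T.IsMinusTwo i) (e : ℕ → Fin n) (N : ℕ) (hinj : Inj e N)
    (c : ℕ → ℤ) (hc0 : ∀ k, 0 ≤ c k) (hne : ∃ k, k < N ∧ c k ≠ 0)
    (hcert : ∀ k, k < N → c k ≠ 0 → ∃ l : List ℕ, (∀ k' ∈ l, k' < N) ∧ l.Nodup ∧ k ∉ l ∧
      2 * c k ≤ (l.map fun k' => cart T (e k) (e k') * c k').sum) :
    (∀ v, ∃ k, k < N ∧ e k = v ∧ 0 < c k) ∧
    (∀ a b, a < N → b < N → c a * T.m (e b) = c b * T.m (e a)) ∧
    (∀ k, k < N → ∀ l : List ℕ, (∀ k' ∈ l, k' < N) → l.Nodup → k ∉ l →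
      2 * c k ≤ (l.map fun k' => cart T (e k) (e k') * c k').sum →
      (l.map fun k' => cart T (e k) (e k') * c k').sum = 2 * c k ∧
        ∀ v, v ≠ e k → (∀ k' ∈ l, v ≠ e k') → cart T (e k) v = 0) := by
  have hy0 := ymark_nonneg e N hc0
  have hnotin : ∀ k, k < N → ∀ l : List ℕ, (∀ k' ∈ l, k' < N) → k ∉ l → e k ∉ l.map e := by
    intro k hk l hlN hkl hmem
    obtain ⟨k', hk', hkk'⟩ := List.mem_map.1 hmem
    exact hkl (hinj k' k (hlN k' hk') hk hkk' ▸ hk')
  obtain ⟨hprop, hpos, hharm⟩ := KPl T hm2 (ymark e N c) hy0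
    (by
      obtain ⟨k, hk, hck⟩ := hne
      exact ⟨e k, by rwa [ymark_apply c hinj hk]⟩)
    (by
      intro v hv
      obtain ⟨k, hk, rfl, hck⟩ := ymark_ne_zero hv
      obtain ⟨l, hlN, hl, hkl, hsum⟩ := hcert k hk hck
      refine ⟨l.map e, nodup_map_enum hinj l hlN hl, hnotin k hk l hlN hkl, ?_⟩
      rw [sum_map_ymark T c hinj (e k) l hlN, ymark_apply c hinj hk]
      exact hsum)
  refine ⟨fun v => ?_, fun a b ha hb => ?_, fun k hk l hlN hl hkl hsum => ?_⟩
  · obtain ⟨k, hk, hkv, hck⟩ := ymark_ne_zero (hpos v).ne'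
    exact ⟨k, hk, hkv, lt_of_le_of_ne (hc0 k) (Ne.symm hck)⟩
  · have := hprop (e a) (e b)
    rwa [ymark_apply c hinj ha, ymark_apply c hinj hb] at this
  · have := tight T hm2 (ymark e N c) hpos hharm (e k) (l.map e) (nodup_map_enum hinj l hlN hl)
      (hnotin k hk l hlN hkl)
      (by
        rw [sum_map_ymark T c hinj (e k) l hlN, ymark_apply c hinj hk]
        exact hsum)
    rw [sum_map_ymark T c hinj (e k) l hlN, ymark_apply c hinj hk] at this
    refine ⟨this.1, fun v hv hvl => this.2 v hv ?_⟩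
    intro hmem
    obtain ⟨k', hk', hkk'⟩ := List.mem_map.1 hmem
    exact hvl k' hk' hkk'.symm

end Groth.Agent.Lib.Helper85.NumGen
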