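import Mathlib
import Groth.Agent.Lib.Helper85.NumGen2

/-!
# Decorated paths (rigidity of the families of affine type)
-/

set_option autoImplicit false
set_option linter.unusedSectionVars false
open Finset

namespace Groth.Agent.Lib.Helper85.NumGen

open Models Models.NumericalType Groth.Agent.Lib.Helper11

variable {n : ℕ} (T : Models.NumericalType n)

theorem keysum_mem (D : List (ℕ × ℤ)) (hnd : (D.map Prod.fst).Nodup) (d : ℕ × ℤ) (hd : d ∈ D) :
    (D.map fun d' => if d'.1 = d.1 then d'.2 else 0).sum = d.2 := by
  induction D with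
  | nil => simp at hd
  | cons x D ih =>
    simp only [List.map_cons, List.nodup_cons, List.sum_cons] at hnd ⊢
    rcases List.mem_cons.1 hd with rfl | hd'
    · have : (D.map fun d' => if d'.1 = d.1 then d'.2 else 0).sum = 0 := by
        apply List.sum_eq_zero
        intro z hz
        obtain ⟨d', hd', rfl⟩ := List.mem_map.1 hz
        rw [if_neg]
        intro h
        exact hnd.1 (List.mem_map.2 ⟨d', hd', h⟩)
      rw [this, add_zero, if_pos rfl]
    · rw [ih hnd.2 hd', if_neg, zero_add]
      intro h
      exact hnd.1 (List.mem_map.2 ⟨d, hd', h.symm⟩)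

theorem keysum_notmem (D : List (ℕ × ℤ)) (k : ℕ) (h : ∀ d ∈ D, d.1 ≠ k) :
    (D.map fun d' => if d'.1 = k then d'.2 else 0).sum = 0 := by
  apply List.sum_eq_zero
  intro z hz
  obtain ⟨d', hd', rfl⟩ := List.mem_map.1 hz
  rw [if_neg (h d' hd')]

/-- marks of a decorated path -/
def dpMark (a b : ℕ) (D : List (ℕ × ℤ)) (k : ℕ) : ℤ :=
  if a ≤ k ∧ k ≤ b then 2 else (D.map fun d => if d.1 = k then d.2 else 0).sum

/-- the output of the decorated path lemma -/
structure DPOut (e : ℕ → Fin n) (N a b : ℕ) (D0 D1 : List (ℕ × ℤ)) : Prop where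
  cover : ∀ v, ∃ k, k < N ∧ e k = v ∧ ((a ≤ k ∧ k ≤ b) ∨ ∃ d ∈ D0 ++ D1, d.1 = k)
  pathE : ∀ k, a ≤ k → k < b → cart T (e k) (e (k + 1)) = 1 ∧ cart T (e (k + 1)) (e k) = 1
  sum0 : (D0.map fun d => cart T (e a) (e d.1) * d.2).sum = 2
  sum1 : (D1.map fun d => cart T (e b) (e d.1) * d.2).sum = 2
  dec0 : ∀ d ∈ D0, cart T (e d.1) (e a) = d.2
  dec1 : ∀ d ∈ D1, cart T (e d.1) (e b) = d.2
  zeroP : ∀ k, a ≤ k → k ≤ b → ∀ v, v ≠ e k → (a < k → v ≠ e (k - 1)) →
      (k < b → v ≠ e (k + 1)) → (k = a → ∀ d ∈ D0, v ≠ e d.1) →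
      (k = b → ∀ d ∈ D1, v ≠ e d.1) → cart T (e k) v = 0
  zeroD0 : ∀ d ∈ D0, ∀ v, v ≠ e d.1 → v ≠ e a → cart T (e d.1) v = 0
  zeroD1 : ∀ d ∈ D1, ∀ v, v ≠ e d.1 → v ≠ e b → cart T (e d.1) v = 0
  mP : ∀ k, a ≤ k → k ≤ b → T.m (e k) = T.m (e a)
  mD : ∀ d ∈ D0 ++ D1, 2 * T.m (e d.1) = d.2 * T.m (e a)
  wP : ∀ k, a ≤ k → k ≤ b → T.w (e k) = T.w (e a)

theorem DP (hm2 : ∀ i, T.IsMinusTwo i) (e : ℕ → Fin n) (N : ℕ) (hinj : Inj e N) (a b : ℕ)
    (hab : a ≤ b) (hbN : b < N)
    (hadj : ∀ k, a ≤ k → k < b → T.a (e k) (e (k + 1)) ≠ 0)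
    (D0 D1 : List (ℕ × ℤ))
    (hD : ∀ d ∈ D0 ++ D1, d.1 < N ∧ ¬(a ≤ d.1 ∧ d.1 ≤ b) ∧ 0 < d.2)
    (hDnd : ((D0 ++ D1).map Prod.fst).Nodup)
    (h0 : ∀ d ∈ D0, d.2 ≤ cart T (e d.1) (e a))
    (h1 : ∀ d ∈ D1, d.2 ≤ cart T (e d.1) (e b))
    (hS0 : 2 ≤ (D0.map fun d => cart T (e a) (e d.1) * d.2).sum)
    (hS1 : 2 ≤ (D1.map fun d => cart T (e b) (e d.1) * d.2).sum) :
    DPOut T e N a b D0 D1 := by
  classical
  obtain ⟨c, hc⟩ : ∃ c, c = dpMark a b (D0 ++ D1) := ⟨_, rfl⟩
  have hc_path : ∀ k, a ≤ k → k ≤ b → c k = 2 := by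
    intro k h1 h2
    rw [hc]
    exact if_pos ⟨h1, h2⟩
  have hc_dec : ∀ d ∈ D0 ++ D1, c d.1 = d.2 := by
    intro d hd
    rw [hc]
    unfold dpMark
    rw [if_neg (hD d hd).2.1, keysum_mem _ hDnd d hd]
  have hc0 : ∀ k, 0 ≤ c k := by
    intro k
    rw [hc]
    unfold dpMark
    split_ifs
    · norm_num
    · apply List.sum_nonneg
      intro z hz
      obtain ⟨d', hd', rfl⟩ := List.mem_map.1 hz
      split_ifs
      · exact (hD d' hd').2.2.le
      · exact le_rfl
  have hc_ne : ∀ k, c k ≠ 0 → (a ≤ k ∧ k ≤ b) ∨ ∃ d ∈ D0 ++ D1, d.1 = k := by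
    intro k hk
    by_contra hcon
    push Not at hcon
    apply hk
    rw [hc]
    unfold dpMark
    rw [if_neg (fun h => by have := hcon.1 h.1; omega), keysum_notmem _ k hcon.2]
  have hmem0 : ∀ d ∈ D0, d ∈ D0 ++ D1 := fun d hd => List.mem_append_left _ hd
  have hmem1 : ∀ d ∈ D1, d ∈ D0 ++ D1 := fun d hd => List.mem_append_right _ hd
  have hnd' := hDnd
  rw [List.map_append, List.nodup_append] at hnd'
  obtain ⟨hnd0, hnd1, hdisj⟩ := hnd'
  -- sums over the decorations
  have hsumD0 : ∀ x : Fin n, ((D0.map Prod.fst).map fun k' => cart T x (e k') * c k').sum =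
      (D0.map fun d => cart T x (e d.1) * d.2).sum := by
    intro x
    rw [List.map_map]
    congr 1
    apply List.map_congr_left
    intro d hd
    simp only [Function.comp]
    rw [hc_dec d (hmem0 d hd)]
  have hsumD1 : ∀ x : Fin n, ((D1.map Prod.fst).map fun k' => cart T x (e k') * c k').sum =
      (D1.map fun d => cart T x (e d.1) * d.2).sum := by
    intro x
    rw [List.map_map]
    congr 1
    apply List.map_congr_left
    intro d hd
    simp only [Function.comp]
    rw [hc_dec d (hmem1 d hd)]
  have hne_succ : ∀ k, a ≤ k → k < b → e k ≠ e (k + 1) := by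
    intro k _ h2 h
    have := hinj k (k + 1) (by omega) (by omega) h
    omega
  have hcart_fw : ∀ k, a ≤ k → k < b → 1 ≤ cart T (e k) (e (k + 1)) := fun k h1 h2 =>
    cart_pos T (hne_succ k h1 h2) (hadj k h1 h2)
  have hcart_bw : ∀ k, a ≤ k → k < b → 1 ≤ cart T (e (k + 1)) (e k) := fun k h1 h2 =>
    cart_pos' T (hne_succ k h1 h2) (hadj k h1 h2)
  -- the left and right lists of a path index
  have key : ∀ k, a ≤ k → k ≤ b → ∃ L R : List ℕ,
      (∀ k' ∈ L ++ R, k' < N) ∧ (L ++ R).Nodup ∧ k ∉ L ++ R ∧
      2 ≤ (L.map fun k' => cart T (e k) (e k') * c k').sum ∧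
      2 ≤ (R.map fun k' => cart T (e k) (e k') * c k').sum ∧
      (a < k → L = [k - 1]) ∧ (k = a → L = D0.map Prod.fst) ∧
      (k < b → R = [k + 1]) ∧ (k = b → R = D1.map Prod.fst) := by
    intro k hk1 hk2
    refine ⟨if k = a then D0.map Prod.fst else [k - 1],
      if k = b then D1.map Prod.fst else [k + 1], ?_, ?_, ?_, ?_, ?_, ?_, ?_, ?_, ?_⟩
    · intro k' hk'
      rcases List.mem_append.1 hk' with h | h
      · split_ifs at h with hka
        · obtain ⟨d, hd, rfl⟩ := List.mem_map.1 h
          exact (hD d (hmem0 d hd)).1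
        · simp only [List.mem_singleton] at h
          omega
      · split_ifs at h with hkb
        · obtain ⟨d, hd, rfl⟩ := List.mem_map.1 h
          exact (hD d (hmem1 d hd)).1
        · simp only [List.mem_singleton] at h
          omega
    · rw [List.nodup_append]
      refine ⟨?_, ?_, ?_⟩
      · split_ifs
        · exact hnd0
        · exact List.nodup_singleton _
      · split_ifs
        · exact hnd1
        · exact List.nodup_singleton _
      · intro x hx y hy
        split_ifs at hx with hka
        · split_ifs at hy with hkb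
          · exact hdisj x hx y hy
          · simp only [List.mem_singleton] at hy
            obtain ⟨d, hd, rfl⟩ := List.mem_map.1 hx
            have := (hD d (hmem0 d hd)).2.1
            intro hxy
            apply this
            rw [hxy, hy]
            omega
        · simp only [List.mem_singleton] at hx
          split_ifs at hy with hkb
          · obtain ⟨d, hd, rfl⟩ := List.mem_map.1 hy
            have := (hD d (hmem1 d hd)).2.1
            intro hxy
            apply this
            rw [← hxy, hx]
            omega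
          · simp only [List.mem_singleton] at hy
            omega
    · intro hk'
      rcases List.mem_append.1 hk' with h | h
      · split_ifs at h with hka
        · obtain ⟨d, hd, hdk⟩ := List.mem_map.1 h
          have := (hD d (hmem0 d hd)).2.1
          apply this
          rw [hdk]
          exact ⟨hk1, hk2⟩
        · simp only [List.mem_singleton] at h
          omega
      · split_ifs at h with hkb
        · obtain ⟨d, hd, hdk⟩ := List.mem_map.1 h
          have := (hD d (hmem1 d hd)).2.1
          apply this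
          rw [hdk]
          exact ⟨hk1, hk2⟩
        · simp only [List.mem_singleton] at h
          omega
    · split_ifs with hka
      · rw [hsumD0, hka]
        exact hS0
      · simp only [List.map_cons, List.map_nil, List.sum_cons, List.sum_nil, add_zero]
        rw [hc_path (k - 1) (by omega) (by omega)]
        have := hcart_bw (k - 1) (by omega) (by omega)
        rw [show k - 1 + 1 = k by omega] at this
        linarith
    · split_ifs with hkb
      · rw [hsumD1, hkb]
        exact hS1
      · simp only [List.map_cons, List.map_nil, List.sum_cons, List.sum_nil, add_zero]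
        rw [hc_path (k + 1) (by omega) (by omega)]
        have := hcart_fw k hk1 (by omega)
        linarith
    · intro h
      rw [if_neg (by omega)]
    · intro h
      rw [if_pos h]
    · intro h
      rw [if_neg (by omega)]
    · intro h
      rw [if_pos h]
  -- certificate for decorations
  have hne_dec0 : ∀ d ∈ D0, e d.1 ≠ e a := by
    intro d hd h
    have h1 := hD d (hmem0 d hd)
    have := hinj d.1 a h1.1 (by omega) h
    apply h1.2.1
    rw [this]
    exact ⟨le_rfl, hab⟩
  have hne_dec1 : ∀ d ∈ D1, e d.1 ≠ e b := by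
    intro d hd h
    have h1 := hD d (hmem1 d hd)
    have := hinj d.1 b h1.1 hbN h
    apply h1.2.1
    rw [this]
    exact ⟨hab, le_rfl⟩
  have hME := ME T hm2 e N hinj c hc0 ⟨a, by omega, by rw [hc_path a le_rfl hab]; norm_num⟩
    (by
      intro k hk hck
      rcases hc_ne k hck with hpath | ⟨d, hd, rfl⟩
      · obtain ⟨L, R, hN, hnd, hk', hL, hR, -⟩ := key k hpath.1 hpath.2
        refine ⟨L ++ R, hN, hnd, hk', ?_⟩
        rw [List.map_append, List.sum_append, hc_path k hpath.1 hpath.2]
        linarith
      · rcases List.mem_append.1 hd with hd0 | hd1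
        · refine ⟨[a], ?_, List.nodup_singleton _, ?_, ?_⟩
          · intro k' hk'
            simp only [List.mem_singleton] at hk'
            omega
          · simp only [List.mem_singleton]
            intro h
            apply (hD d hd).2.1
            rw [h]
            exact ⟨le_rfl, hab⟩
          · simp only [List.map_cons, List.map_nil, List.sum_cons, List.sum_nil, add_zero]
            rw [hc_dec d hd, hc_path a le_rfl hab]
            have := h0 d hd0
            linarith
        · refine ⟨[b], ?_, List.nodup_singleton _, ?_, ?_⟩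
          · intro k' hk'
            simp only [List.mem_singleton] at hk'
            omega
          · simp only [List.mem_singleton]
            intro h
            apply (hD d hd).2.1
            rw [h]
            exact ⟨hab, le_rfl⟩
          · simp only [List.map_cons, List.map_nil, List.sum_cons, List.sum_nil, add_zero]
            rw [hc_dec d hd, hc_path b hab le_rfl]
            have := h1 d hd1
            linarith)
  obtain ⟨hcover, hprop, htight⟩ := hME
  -- tightness on the path
  have tpath : ∀ k, a ≤ k → k ≤ b → ∃ L R : List ℕ,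
      (L.map fun k' => cart T (e k) (e k') * c k').sum = 2 ∧
      (R.map fun k' => cart T (e k) (e k') * c k').sum = 2 ∧
      (∀ v, v ≠ e k → (∀ k' ∈ L ++ R, v ≠ e k') → cart T (e k) v = 0) ∧
      (a < k → L = [k - 1]) ∧ (k = a → L = D0.map Prod.fst) ∧
      (k < b → R = [k + 1]) ∧ (k = b → R = D1.map Prod.fst) := by
    intro k hk1 hk2
    obtain ⟨L, R, hN, hnd, hk', hL, hR, hrest⟩ := key k hk1 hk2
    have := htight k (by omega) (L ++ R) hN hnd hk' (by
      rw [List.map_append, List.sum_append, hc_path k hk1 hk2]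
      linarith)
    rw [List.map_append, List.sum_append, hc_path k hk1 hk2] at this
    exact ⟨L, R, by linarith [this.1], by linarith [this.1], this.2, hrest⟩
  have hpathE : ∀ k, a ≤ k → k < b →
      cart T (e k) (e (k + 1)) = 1 ∧ cart T (e (k + 1)) (e k) = 1 := by
    intro k hk1 hk2
    constructor
    · obtain ⟨L, R, -, hR, -, -, -, hR', -⟩ := tpath k hk1 (by omega)
      rw [hR' hk2] at hR
      simp only [List.map_cons, List.map_nil, List.sum_cons, List.sum_nil, add_zero] at hR
      rw [hc_path (k + 1) (by omega) (by omega)] at hR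
      linarith
    · obtain ⟨L, R, hL, -, -, hL', -, -, -⟩ := tpath (k + 1) (by omega) (by omega)
      rw [hL' (by omega)] at hL
      simp only [List.map_cons, List.map_nil, List.sum_cons, List.sum_nil, add_zero,
        Nat.add_sub_cancel] at hL
      rw [hc_path k hk1 (by omega)] at hL
      linarith
  have tdec0 : ∀ d ∈ D0, cart T (e d.1) (e a) = d.2 ∧
      ∀ v, v ≠ e d.1 → v ≠ e a → cart T (e d.1) v = 0 := by
    intro d hd0
    have hd := hmem0 d hd0
    have := htight d.1 (hD d hd).1 [a] (by
        intro k' hk'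
        simp only [List.mem_singleton] at hk'
        omega) (List.nodup_singleton _) (by
        simp only [List.mem_singleton]
        intro h
        apply (hD d hd).2.1
        rw [h]
        exact ⟨le_rfl, hab⟩) (by
        simp only [List.map_cons, List.map_nil, List.sum_cons, List.sum_nil, add_zero]
        rw [hc_dec d hd, hc_path a le_rfl hab]
        have := h0 d hd0
        linarith)
    simp only [List.map_cons, List.map_nil, List.sum_cons, List.sum_nil, add_zero] at this
    rw [hc_dec d hd, hc_path a le_rfl hab] at this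
    refine ⟨by linarith [this.1], fun v hv hva => this.2 v hv ?_⟩
    intro k' hk'
    simp only [List.mem_singleton] at hk'
    rw [hk']
    exact hva
  have tdec1 : ∀ d ∈ D1, cart T (e d.1) (e b) = d.2 ∧
      ∀ v, v ≠ e d.1 → v ≠ e b → cart T (e d.1) v = 0 := by
    intro d hd1
    have hd := hmem1 d hd1
    have := htight d.1 (hD d hd).1 [b] (by
        intro k' hk'
        simp only [List.mem_singleton] at hk'
        omega) (List.nodup_singleton _) (by
        simp only [List.mem_singleton]
        intro h
        apply (hD d hd).2.1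
        rw [h]
        exact ⟨hab, le_rfl⟩) (by
        simp only [List.map_cons, List.map_nil, List.sum_cons, List.sum_nil, add_zero]
        rw [hc_dec d hd, hc_path b hab le_rfl]
        have := h1 d hd1
        linarith)
    simp only [List.map_cons, List.map_nil, List.sum_cons, List.sum_nil, add_zero] at this
    rw [hc_dec d hd, hc_path b hab le_rfl] at this
    refine ⟨by linarith [this.1], fun v hv hvb => this.2 v hv ?_⟩
    intro k' hk'
    simp only [List.mem_singleton] at hk'
    rw [hk']
    exact hvb
  refine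
    { cover := ?_, pathE := hpathE, sum0 := ?_, sum1 := ?_, dec0 := fun d hd => (tdec0 d hd).1,
      dec1 := fun d hd => (tdec1 d hd).1, zeroP := ?_, zeroD0 := fun d hd => (tdec0 d hd).2,
      zeroD1 := fun d hd => (tdec1 d hd).2, mP := ?_, mD := ?_, wP := ?_ }
  · intro v
    obtain ⟨k, hk, hkv, hck⟩ := hcover v
    exact ⟨k, hk, hkv, hc_ne k hck.ne'⟩
  · obtain ⟨L, R, hL, -, -, -, hL', -, -⟩ := tpath a le_rfl hab
    rw [hL' rfl, hsumD0] at hL
    exact hL
  · obtain ⟨L, R, -, hR, -, -, -, -, hR'⟩ := tpath b hab le_rfl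
    rw [hR' rfl, hsumD1] at hR
    exact hR
  · intro k hk1 hk2 v hv hvl hvr hv0 hv1
    obtain ⟨L, R, -, -, hz, hL1, hL2, hR1, hR2⟩ := tpath k hk1 hk2
    apply hz v hv
    intro k' hk'
    rcases List.mem_append.1 hk' with h | h
    · rcases Nat.lt_or_ge a k with hak | hak
      · rw [hL1 hak, List.mem_singleton] at h
        rw [h]
        exact hvl hak
      · have hka : k = a := by omega
        rw [hL2 hka] at h
        obtain ⟨d, hd, rfl⟩ := List.mem_map.1 h
        exact hv0 hka d hd
    · rcases Nat.lt_or_ge k b with hkb | hkb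
      · rw [hR1 hkb, List.mem_singleton] at h
        rw [h]
        exact hvr hkb
      · have hkb' : k = b := by omega
        rw [hR2 hkb'] at h
        obtain ⟨d, hd, rfl⟩ := List.mem_map.1 h
        exact hv1 hkb' d hd
  · intro k hk1 hk2
    have := hprop k a (by omega) (by omega)
    rw [hc_path k hk1 hk2, hc_path a le_rfl hab] at this
    linarith
  · intro d hd
    have := hprop d.1 a (hD d hd).1 (by omega)
    rw [hc_dec d hd, hc_path a le_rfl hab] at this
    linarith
  · intro k hk1
    induction k, hk1 using Nat.le_induction with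
    | base => intro _; rfl
    | succ k hk ih =>
      intro hk2
      have h3 := hpathE k hk (by omega)
      have h4 := w_cart_symm T (e k) (e (k + 1))
      rw [h3.1, h3.2, mul_one, mul_one] at h4
      rw [← h4]
      exact ih (by omega)

end Groth.Agent.Lib.Helper85.NumGen
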