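import Mathlib
import Groth.Agent.Lib.Helper85.NumGen3

/-!
# Paths in the graph of a numerical type, longest paths, chords
-/

set_option autoImplicit false
set_option linter.unusedSectionVars false
open Finset

namespace Groth.Agent.Lib.Helper85.NumGen

open Models Models.NumericalType Groth.Agent.Lib.Helper11

variable {n : ℕ} (T : Models.NumericalType n)

/-- append a vertex to an enumeration -/
def snoc (e : ℕ → Fin n) (N : ℕ) (x : Fin n) : ℕ → Fin n := fun k => if k < N then e k else x

theorem snoc_lt (e : ℕ → Fin n) {N : ℕ} (x : Fin n) {k : ℕ} (h : k < N) : snoc e N x k = e k :=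
  if_pos h

theorem snoc_ge (e : ℕ → Fin n) {N : ℕ} (x : Fin n) {k : ℕ} (h : N ≤ k) : snoc e N x k = x :=
  if_neg (by omega)

theorem Inj.snoc {e : ℕ → Fin n} {N : ℕ} (h : Inj e N) {x : Fin n} (hx : ∀ k, k < N → e k ≠ x) :
    Inj (snoc e N x) (N + 1) := by
  intro a b ha hb hab
  by_cases h1 : a < N
  · by_cases h2 : b < N
    · rw [snoc_lt e x h1, snoc_lt e x h2] at hab
      exact h a b h1 h2 hab
    · rw [snoc_lt e x h1, snoc_ge e x (by omega)] at hab
      exact absurd hab (hx a h1)
  · by_cases h2 : b < N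
    · rw [snoc_ge e x (by omega), snoc_lt e x h2] at hab
      exact absurd hab.symm (hx b h2)
    · omega

theorem Inj.mono {e : ℕ → Fin n} {N N' : ℕ} (h : Inj e N) (h' : N' ≤ N) : Inj e N' :=
  fun a b ha hb hab => h a b (by omega) (by omega) hab

theorem Inj.le {e : ℕ → Fin n} {N : ℕ} (h : Inj e N) : N ≤ n := by
  have := Fintype.card_le_of_injective (fun i : Fin N => e i.val)
    (fun a b hab => Fin.ext (h _ _ a.isLt b.isLt hab))
  simpa using this

theorem Inj.eq_of_surj {e : ℕ → Fin n} {N : ℕ} (h : Inj e N) (hs : ∀ v, ∃ k, k < N ∧ e k = v) :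
    N = n := by
  apply le_antisymm h.le
  have := Fintype.card_le_of_surjective (fun i : Fin N => e i.val)
    (fun v => by
      obtain ⟨k, hk, hkv⟩ := hs v
      exact ⟨⟨k, hk⟩, hkv⟩)
  simpa using this

/-- the permutation attached to a full enumeration -/
noncomputable def permOf (e : ℕ → Fin n) (hinj : Inj e n) : Equiv.Perm (Fin n) :=
  Equiv.ofBijective (fun k : Fin n => e k.val)
    (Finite.injective_iff_bijective.1 fun a b h => Fin.ext (hinj _ _ a.isLt b.isLt h))

theorem permOf_apply (e : ℕ → Fin n) (hinj : Inj e n) (k : Fin n) : permOf e hinj k = e k.val :=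
  rfl

/-- an embedding from an enumeration -/
def embOf (e : ℕ → Fin n) (N : ℕ) (hinj : Inj e N) {k : ℕ} (idx : Fin k → ℕ)
    (hidx : ∀ a, idx a < N) (hi : Function.Injective idx) : Fin k ↪ Fin n :=
  ⟨fun a => e (idx a), fun a b h => hi (hinj _ _ (hidx a) (hidx b) h)⟩

theorem embOf_apply (e : ℕ → Fin n) (N : ℕ) (hinj : Inj e N) {k : ℕ} (idx : Fin k → ℕ)
    (hidx : ∀ a, idx a < N) (hi : Function.Injective idx) (a : Fin k) :
    embOf e N hinj idx hidx hi a = e (idx a) := rfl

/-- a path: injective with consecutive vertices joined -/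
def IsPath (p : ℕ → Fin n) (t : ℕ) : Prop :=
  Inj p t ∧ ∀ i, i + 1 < t → T.a (p i) (p (i + 1)) ≠ 0

variable {T}

theorem IsPath.mono {p : ℕ → Fin n} {t t' : ℕ} (h : IsPath T p t) (h' : t' ≤ t) :
    IsPath T p t' :=
  ⟨h.1.mono h', fun i hi => h.2 i (by omega)⟩

theorem IsPath.snoc {p : ℕ → Fin n} {t : ℕ} (h : IsPath T p t) {x : Fin n}
    (hx : ∀ k, k < t → p k ≠ x) (hadj : ∀ k, k + 1 = t → T.a (p k) x ≠ 0) :
    IsPath T (snoc p t x) (t + 1) := by
  refine ⟨h.1.snoc hx, fun i hi => ?_⟩
  by_cases h1 : i + 1 < t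
  · rw [snoc_lt p x (by omega), snoc_lt p x h1]
    exact h.2 i h1
  · rw [snoc_lt p x (by omega), snoc_ge p x (by omega)]
    exact hadj i (by omega)

/-- the reversed path -/
def rev (p : ℕ → Fin n) (t : ℕ) : ℕ → Fin n := fun k => p (t - 1 - k)

theorem IsPath.rev {p : ℕ → Fin n} {t : ℕ} (h : IsPath T p t) : IsPath T (rev p t) t := by
  refine ⟨fun a b ha hb hab => ?_, fun i hi => ?_⟩
  · have := h.1 (t - 1 - a) (t - 1 - b) (by omega) (by omega) hab
    omega
  · unfold NumGen.rev
    have := h.2 (t - 1 - (i + 1)) (by omega)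
    rw [show t - 1 - (i + 1) + 1 = t - 1 - i by omega, a_symm] at this
    exact this

theorem exists_longest (T : Models.NumericalType n) :
    ∃ (p : ℕ → Fin n) (t : ℕ), IsPath T p t ∧ 1 ≤ t ∧ ∀ p' t', IsPath T p' t' → t' ≤ t := by
  classical
  let P : ℕ → Prop := fun t => ∃ p : ℕ → Fin n, IsPath T p t
  have h1 : P 1 := ⟨fun _ => ⟨0, T.pos⟩, fun a b ha hb _ => by omega, fun i hi => by omega⟩
  have hn : 1 ≤ n := T.pos
  obtain ⟨p, hp⟩ := Nat.findGreatest_spec (P := P) hn h1
  refine ⟨p, Nat.findGreatest P n, hp, Nat.le_findGreatest hn h1, fun p' t' h' => ?_⟩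
  exact Nat.le_findGreatest h'.1.le ⟨p', h'⟩

/-- neighbours of the end of a longest path lie on the path -/
theorem end_nbr {p : ℕ → Fin n} {t : ℕ} (hP : IsPath T p t)
    (hlong : ∀ p' t', IsPath T p' t' → t' ≤ t) (x : Fin n) (hx : T.a (p (t - 1)) x ≠ 0) :
    ∃ k, k < t ∧ p k = x := by
  by_contra hcon
  push Not at hcon
  have := hlong _ _ (hP.snoc hcon (fun k hk => by
    rw [show k = t - 1 by omega]
    exact hx))
  omega

theorem start_nbr {p : ℕ → Fin n} {t : ℕ} (hP : IsPath T p t) (ht : 1 ≤ t)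
    (hlong : ∀ p' t', IsPath T p' t' → t' ≤ t) (x : Fin n) (hx : T.a (p 0) x ≠ 0) :
    ∃ k, k < t ∧ p k = x := by
  obtain ⟨k, hk, hkx⟩ := end_nbr hP.rev hlong x (by
    unfold NumGen.rev
    rw [show t - 1 - (t - 1) = 0 by omega]
    exact hx)
  exact ⟨t - 1 - k, by omega, hkx⟩

/-- a chord of a path closes a cycle, which is everything -/
theorem chord (hm2 : ∀ i, T.IsMinusTwo i) {q : ℕ → Fin n} {s : ℕ} (hq : IsPath T q s) (i j : ℕ)
    (hij : i + 2 ≤ j) (hj : j < s) (hch : T.a (q i) (q j) ≠ 0) :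
    (∀ v, ∃ k, i ≤ k ∧ k ≤ j ∧ q k = v) ∧
    (∀ k, i ≤ k → k ≤ j → T.m (q k) = T.m (q i)) ∧
    (∀ k, i ≤ k → k < j → cart T (q k) (q (k + 1)) = 1 ∧ cart T (q (k + 1)) (q k) = 1) ∧
    (cart T (q i) (q j) = 1 ∧ cart T (q j) (q i) = 1) ∧
    (∀ k, i ≤ k → k ≤ j → ∀ v, v ≠ q k → v ≠ q (if k = i then j else k - 1) →
      v ≠ q (if k = j then i else k + 1) → cart T (q k) v = 0) := by
  classical
  obtain ⟨c, hc⟩ : ∃ c : ℕ → ℤ, c = fun k => if i ≤ k ∧ k ≤ j then 1 else 0 := ⟨_, rfl⟩
  have hc1 : ∀ k, i ≤ k → k ≤ j → c k = 1 := fun k h1 h2 => by rw [hc]; exact if_pos ⟨h1, h2⟩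
  have hc0 : ∀ k, 0 ≤ c k := by
    intro k
    rw [hc]
    simp only
    split_ifs <;> norm_num
  have hcne : ∀ k, c k ≠ 0 → i ≤ k ∧ k ≤ j := by
    intro k hk
    by_contra hcon
    apply hk
    rw [hc]
    exact if_neg hcon
  have hne : ∀ a b, a < s → b < s → a ≠ b → q a ≠ q b := fun a b ha hb hab h =>
    hab (hq.1 a b ha hb h)
  -- adjacency with previous and next
  have hprev : ∀ k, i ≤ k → k ≤ j → 1 ≤ cart T (q k) (q (if k = i then j else k - 1)) := by
    intro k h1 h2
    split_ifs with hki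
    · rw [hki]
      exact cart_pos T (hne i j (by omega) hj (by omega)) hch
    · have := hq.2 (k - 1) (by omega)
      rw [show k - 1 + 1 = k by omega] at this
      exact cart_pos' T (hne (k - 1) k (by omega) (by omega) (by omega)) this
  have hnext : ∀ k, i ≤ k → k ≤ j → 1 ≤ cart T (q k) (q (if k = j then i else k + 1)) := by
    intro k h1 h2
    split_ifs with hkj
    · rw [hkj]
      exact cart_pos' T (hne i j (by omega) hj (by omega)) hch
    · exact cart_pos T (hne k (k + 1) (by omega) (by omega) (by omega)) (hq.2 k (by omega))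
  have hlist : ∀ k, i ≤ k → k ≤ j →
      (∀ k' ∈ [if k = i then j else k - 1, if k = j then i else k + 1], k' < s) ∧
      [if k = i then j else k - 1, if k = j then i else k + 1].Nodup ∧
      k ∉ [if k = i then j else k - 1, if k = j then i else k + 1] ∧
      2 * c k ≤ ([if k = i then j else k - 1, if k = j then i else k + 1].map
        fun k' => cart T (q k) (q k') * c k').sum := by
    intro k h1 h2
    refine ⟨?_, ?_, ?_, ?_⟩
    · intro k' hk'
      simp only [List.mem_cons, List.not_mem_nil, or_false] at hk'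
      rcases hk' with rfl | rfl <;> split_ifs <;> omega
    · simp only [List.nodup_cons, List.mem_cons, List.not_mem_nil, or_false, not_false_eq_true,
        List.nodup_nil, and_true]
      split_ifs <;> omega
    · simp only [List.mem_cons, List.not_mem_nil, or_false, not_or]
      constructor <;> split_ifs <;> omega
    · simp only [List.map_cons, List.map_nil, List.sum_cons, List.sum_nil, add_zero]
      rw [hc1 k h1 h2, hc1 _ (by split_ifs <;> omega) (by split_ifs <;> omega),
        hc1 _ (by split_ifs <;> omega) (by split_ifs <;> omega)]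
      have := hprev k h1 h2
      have := hnext k h1 h2
      linarith
  obtain ⟨hcover, hprop, htight⟩ := ME T hm2 q s hq.1 c hc0
    ⟨i, by omega, by rw [hc1 i le_rfl (by omega)]; norm_num⟩
    (fun k _ hck => by
      obtain ⟨h1, h2⟩ := hcne k hck
      exact ⟨_, hlist k h1 h2⟩)
  have ht : ∀ k, i ≤ k → k ≤ j →
      cart T (q k) (q (if k = i then j else k - 1)) = 1 ∧
      cart T (q k) (q (if k = j then i else k + 1)) = 1 ∧
      ∀ v, v ≠ q k → v ≠ q (if k = i then j else k - 1) →
        v ≠ q (if k = j then i else k + 1) → cart T (q k) v = 0 := by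
    intro k h1 h2
    obtain ⟨a1, a2, a3, a4⟩ := hlist k h1 h2
    have := htight k (by omega) _ a1 a2 a3 a4
    simp only [List.map_cons, List.map_nil, List.sum_cons, List.sum_nil, add_zero] at this
    rw [hc1 k h1 h2, hc1 _ (by split_ifs <;> omega) (by split_ifs <;> omega),
      hc1 _ (by split_ifs <;> omega) (by split_ifs <;> omega)] at this
    have b1 := hprev k h1 h2
    have b2 := hnext k h1 h2
    refine ⟨by linarith [this.1], by linarith [this.1], fun v hv hv1 hv2 => this.2 v hv ?_⟩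
    intro k' hk'
    simp only [List.mem_cons, List.not_mem_nil, or_false] at hk'
    rcases hk' with rfl | rfl
    · exact hv1
    · exact hv2
  refine ⟨fun v => ?_, fun k h1 h2 => ?_, fun k h1 h2 => ?_, ?_, fun k h1 h2 => (ht k h1 h2).2.2⟩
  · obtain ⟨k, hk, hkv, hck⟩ := hcover v
    obtain ⟨h1, h2⟩ := hcne k hck.ne'
    exact ⟨k, h1, h2, hkv⟩
  · have := hprop k i (by omega) (by omega)
    rw [hc1 k h1 h2, hc1 i le_rfl (by omega)] at this
    linarith
  · constructor
    · have := (ht k h1 (by omega)).2.1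
      rwa [if_neg (by omega)] at this
    · have := (ht (k + 1) (by omega) (by omega)).1
      rwa [if_neg (by omega), Nat.add_sub_cancel] at this
  · constructor
    · have := (ht i le_rfl (by omega)).1
      rwa [if_pos rfl] at this
    · have := (ht j (by omega) le_rfl).2.1
      rwa [if_pos rfl] at this

end Groth.Agent.Lib.Helper85.NumGen
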