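import Mathlib
import Groth.Agent.Lib.Helper85.NumGen4

/-!
# The seven families of the classification (text of the template) and their derivation from
decorated paths
-/

set_option autoImplicit false
set_option linter.unusedSectionVars false
open Finset

namespace Groth.Agent.Lib.Helper85.NumGen

open Models Models.NumericalType Groth.Agent.Lib.Helper11

variable {n : ℕ} (T : Models.NumericalType n)

/-- family 1 of the template -/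
def Fam1 (σ : Equiv.Perm (Fin n)) (m w : ℤ) : Prop :=
    (∀ i : Fin n, T.m (σ i) = m) ∧
    (∀ i : Fin n, T.w (σ i) = w) ∧
    (∀ i j : Fin n, i.val < j.val → j.val = i.val + 1 → T.a (σ i) (σ j) = w) ∧
    (∀ i j : Fin n, i.val < j.val → i.val = 0 ∧ j.val + 1 = n → T.a (σ i) (σ j) = w) ∧
    (∀ i j : Fin n, i.val < j.val → ¬ (j.val = i.val + 1) → ¬ (i.val = 0 ∧ j.val + 1 = n) → T.a (σ i) (σ j) = 0)

/-- family 2 of the template -/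
def Fam2 (σ : Equiv.Perm (Fin n)) (m w : ℤ) : Prop :=
    (∀ i : Fin n, i.val + 1 < n → T.m (σ i) = 2 * m) ∧
    (∀ i : Fin n, i.val + 1 = n → T.m (σ i) = m) ∧
    (∀ i : Fin n, i.val = 0 → T.w (σ i) = w) ∧
    (∀ i : Fin n, 0 < i.val ∧ i.val + 1 < n → T.w (σ i) = 2 * w) ∧
    (∀ i : Fin n, i.val + 1 = n → T.w (σ i) = 4 * w) ∧
    (∀ i j : Fin n, i.val < j.val → j.val = i.val + 1 ∧ j.val + 1 < n → T.a (σ i) (σ j) = 2 * w) ∧
    (∀ i j : Fin n, i.val < j.val → j.val = i.val + 1 ∧ j.val + 1 = n → T.a (σ i) (σ j) = 4 * w) ∧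
    (∀ i j : Fin n, i.val < j.val → ¬ (j.val = i.val + 1 ∧ j.val + 1 < n) → ¬ (j.val = i.val + 1 ∧ j.val + 1 = n) → T.a (σ i) (σ j) = 0)

/-- family 3 of the template -/
def Fam3 (σ : Equiv.Perm (Fin n)) (m w : ℤ) : Prop :=
    (∀ i : Fin n, T.m (σ i) = m) ∧
    (∀ i : Fin n, i.val = 0 → T.w (σ i) = w) ∧
    (∀ i : Fin n, 0 < i.val ∧ i.val + 1 < n → T.w (σ i) = 2 * w) ∧
    (∀ i : Fin n, i.val + 1 = n → T.w (σ i) = w) ∧
    (∀ i j : Fin n, i.val < j.val → j.val = i.val + 1 → T.a (σ i) (σ j) = 2 * w) ∧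
    (∀ i j : Fin n, i.val < j.val → ¬ (j.val = i.val + 1) → T.a (σ i) (σ j) = 0)

/-- family 4 of the template -/
def Fam4 (σ : Equiv.Perm (Fin n)) (m w : ℤ) : Prop :=
    (∀ i : Fin n, i.val = 0 → T.m (σ i) = m) ∧
    (∀ i : Fin n, 0 < i.val ∧ i.val + 1 < n → T.m (σ i) = 2 * m) ∧
    (∀ i : Fin n, i.val + 1 = n → T.m (σ i) = m) ∧
    (∀ i : Fin n, i.val = 0 → T.w (σ i) = 2 * w) ∧
    (∀ i : Fin n, 0 < i.val ∧ i.val + 1 < n → T.w (σ i) = w) ∧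
    (∀ i : Fin n, i.val + 1 = n → T.w (σ i) = 2 * w) ∧
    (∀ i j : Fin n, i.val < j.val → i.val = 0 ∧ j.val = 1 → T.a (σ i) (σ j) = 2 * w) ∧
    (∀ i j : Fin n, i.val < j.val → j.val = i.val + 1 ∧ 1 ≤ i.val ∧ j.val + 2 ≤ n → T.a (σ i) (σ j) = w) ∧
    (∀ i j : Fin n, i.val < j.val → j.val = i.val + 1 ∧ j.val + 1 = n → T.a (σ i) (σ j) = 2 * w) ∧
    (∀ i j : Fin n, i.val < j.val → ¬ (i.val = 0 ∧ j.val = 1) → ¬ (j.val = i.val + 1 ∧ 1 ≤ i.val ∧ j.val + 2 ≤ n) → ¬ (j.val = i.val + 1 ∧ j.val + 1 = n) → T.a (σ i) (σ j) = 0)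

/-- family 5 of the template -/
def Fam5 (σ : Equiv.Perm (Fin n)) (m w : ℤ) : Prop :=
    (∀ i : Fin n, i.val = 0 → T.m (σ i) = m) ∧
    (∀ i : Fin n, 1 ≤ i.val ∧ i.val + 2 < n → T.m (σ i) = 2 * m) ∧
    (∀ i : Fin n, n ≤ i.val + 2 → T.m (σ i) = m) ∧
    (∀ i : Fin n, i.val = 0 → T.w (σ i) = 2 * w) ∧
    (∀ i : Fin n, 0 < i.val → T.w (σ i) = w) ∧
    (∀ i j : Fin n, i.val < j.val → i.val = 0 ∧ j.val = 1 → T.a (σ i) (σ j) = 2 * w) ∧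
    (∀ i j : Fin n, i.val < j.val → j.val = i.val + 1 ∧ 1 ≤ i.val ∧ j.val + 2 ≤ n → T.a (σ i) (σ j) = w) ∧
    (∀ i j : Fin n, i.val < j.val → i.val + 3 = n ∧ j.val + 1 = n → T.a (σ i) (σ j) = w) ∧
    (∀ i j : Fin n, i.val < j.val → ¬ (i.val = 0 ∧ j.val = 1) → ¬ (j.val = i.val + 1 ∧ 1 ≤ i.val ∧ j.val + 2 ≤ n) → ¬ (i.val + 3 = n ∧ j.val + 1 = n) → T.a (σ i) (σ j) = 0)

/-- family 6 of the template -/
def Fam6 (σ : Equiv.Perm (Fin n)) (m w : ℤ) : Prop :=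
    (∀ i : Fin n, i.val + 2 < n → T.m (σ i) = 2 * m) ∧
    (∀ i : Fin n, n ≤ i.val + 2 → T.m (σ i) = m) ∧
    (∀ i : Fin n, i.val = 0 → T.w (σ i) = w) ∧
    (∀ i : Fin n, 0 < i.val → T.w (σ i) = 2 * w) ∧
    (∀ i j : Fin n, i.val < j.val → j.val = i.val + 1 ∧ j.val + 2 ≤ n → T.a (σ i) (σ j) = 2 * w) ∧
    (∀ i j : Fin n, i.val < j.val → i.val + 3 = n ∧ j.val + 1 = n → T.a (σ i) (σ j) = 2 * w) ∧
    (∀ i j : Fin n, i.val < j.val → ¬ (j.val = i.val + 1 ∧ j.val + 2 ≤ n) → ¬ (i.val + 3 = n ∧ j.val + 1 = n) → T.a (σ i) (σ j) = 0)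

/-- family 7 of the template -/
def Fam7 (σ : Equiv.Perm (Fin n)) (m w : ℤ) : Prop :=
    (∀ i : Fin n, i.val ≤ 1 → T.m (σ i) = m) ∧
    (∀ i : Fin n, 2 ≤ i.val ∧ i.val + 2 < n → T.m (σ i) = 2 * m) ∧
    (∀ i : Fin n, n ≤ i.val + 2 → T.m (σ i) = m) ∧
    (∀ i : Fin n, T.w (σ i) = w) ∧
    (∀ i j : Fin n, i.val < j.val → i.val = 0 ∧ j.val = 2 → T.a (σ i) (σ j) = w) ∧
    (∀ i j : Fin n, i.val < j.val → i.val = 1 ∧ j.val = 2 → T.a (σ i) (σ j) = w) ∧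
    (∀ i j : Fin n, i.val < j.val → j.val = i.val + 1 ∧ 2 ≤ i.val ∧ j.val + 2 ≤ n → T.a (σ i) (σ j) = w) ∧
    (∀ i j : Fin n, i.val < j.val → i.val + 3 = n ∧ j.val + 1 = n → T.a (σ i) (σ j) = w) ∧
    (∀ i j : Fin n, i.val < j.val → ¬ (i.val = 0 ∧ j.val = 2) → ¬ (i.val = 1 ∧ j.val = 2) → ¬ (j.val = i.val + 1 ∧ 2 ≤ i.val ∧ j.val + 2 ≤ n) → ¬ (i.val + 3 = n ∧ j.val + 1 = n) → T.a (σ i) (σ j) = 0)

variable {T}

theorem a_eq (x y : Fin n) : T.a x y = T.w x * cart T x y := (w_mul_cart T x y).symm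

theorem cart_sym_pos (hm2 : ∀ i, T.IsMinusTwo i) {x y : Fin n} {c : ℤ} (h : cart T x y = c)
    (hc : 0 < c) : 1 ≤ cart T y x := by
  have hne : x ≠ y := by
    intro hxy
    rw [hxy, cart_diag T (hm2 y)] at h
    omega
  have ha : T.a x y ≠ 0 := by
    intro h0
    rw [(cart_eq_zero_iff T).2 h0] at h
    omega
  exact cart_pos' T hne ha

/-- the zero pattern of a decorated path -/
theorem DPOut.zero {e : ℕ → Fin n} {N a b : ℕ} {D0 D1 : List (ℕ × ℤ)}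
    (h : DPOut T e N a b D0 D1) (hinj : Inj e N) (hab : a ≤ b) (hbN : b < N)
    (hD : ∀ d ∈ D0 ++ D1, d.1 < N)
    (k k' : ℕ) (hk : k < N) (hk' : k' < N) (hne : k ≠ k')
    (h1 : ¬(a ≤ k ∧ k ≤ b ∧ a ≤ k' ∧ k' ≤ b ∧ (k' = k + 1 ∨ k = k' + 1)))
    (h2 : ¬(k = a ∧ ∃ d ∈ D0, d.1 = k')) (h3 : ¬(k' = a ∧ ∃ d ∈ D0, d.1 = k))
    (h4 : ¬(k = b ∧ ∃ d ∈ D1, d.1 = k')) (h5 : ¬(k' = b ∧ ∃ d ∈ D1, d.1 = k)) :
    T.a (e k) (e k') = 0 := by
  rw [← cart_eq_zero_iff]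
  have hne' : e k' ≠ e k := fun hh => hne (hinj k' k hk' hk hh).symm
  obtain ⟨k2, hk2, hk2e, hrole⟩ := h.cover (e k)
  obtain rfl : k2 = k := hinj k2 k hk2 hk hk2e
  rcases hrole with ⟨r1, r2⟩ | ⟨d, hd, hdk⟩
  · apply h.zeroP k2 r1 r2 (e k') hne'
    · intro hak hh
      have := hinj k' (k2 - 1) hk' (by omega) hh
      exact h1 ⟨r1, r2, by omega, by omega, Or.inr (by omega)⟩
    · intro hkb hh
      have := hinj k' (k2 + 1) hk' (by omega) hh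
      exact h1 ⟨r1, r2, by omega, by omega, Or.inl (by omega)⟩
    · intro hka d hd hh
      have := hinj k' d.1 hk' (hD d (List.mem_append_left _ hd)) hh
      exact h2 ⟨hka, d, hd, this.symm⟩
    · intro hkb d hd hh
      have := hinj k' d.1 hk' (hD d (List.mem_append_right _ hd)) hh
      exact h4 ⟨hkb, d, hd, this.symm⟩
  · rcases List.mem_append.1 hd with hd0 | hd1
    · rw [← hdk]
      apply h.zeroD0 d hd0 (e k') (by rw [hdk]; exact hne')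
      intro hh
      have := hinj k' a hk' (by omega) hh
      exact h3 ⟨this, d, hd0, hdk⟩
    · rw [← hdk]
      apply h.zeroD1 d hd1 (e k') (by rw [hdk]; exact hne')
      intro hh
      have := hinj k' b hk' hbN hh
      exact h5 ⟨this, d, hd1, hdk⟩

/-- a fork decoration: exact Cartan integers -/
theorem fork_facts (hm2 : ∀ i, T.IsMinusTwo i) {x u u' : Fin n}
    (hs : cart T x u + cart T x u' = 2) (hu : cart T u x = 1) (hu' : cart T u' x = 1) :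
    cart T x u = 1 ∧ cart T x u' = 1 ∧ T.w u = T.w x ∧ T.w u' = T.w x := by
  have p1 := cart_sym_pos hm2 hu one_pos
  have p2 := cart_sym_pos hm2 hu' one_pos
  have e1 : cart T x u = 1 := by omega
  have e2 : cart T x u' = 1 := by omega
  have w1 := w_cart_symm T x u
  have w2 := w_cart_symm T x u'
  rw [e1, hu, mul_one, mul_one] at w1
  rw [e2, hu', mul_one, mul_one] at w2
  exact ⟨e1, e2, w1.symm, w2.symm⟩

end Groth.Agent.Lib.Helper85.NumGen
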