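import Mathlib
import Groth.Agent.Lib.Helper85.NumGen5

/-!
# The chain families (2, 3, 4) from decorated paths
-/

set_option autoImplicit false
set_option linter.unusedSectionVars false
open Finset

namespace Groth.Agent.Lib.Helper85.NumGen

open Models Models.NumericalType Groth.Agent.Lib.Helper11

variable {n : ℕ} {T : Models.NumericalType n}

theorem fam2_of_DP (hn : 10 ≤ n) {e : ℕ → Fin n} (hinj : Inj e n)
    (h : DPOut T e n 1 (n - 2) [(0, 2)] [(n - 1, 1)]) :
    Fam2 T (permOf e hinj) (T.m (e (n - 1))) (T.w (e 0)) := by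
  have hD : ∀ d ∈ [(0, (2 : ℤ))] ++ [(n - 1, (1 : ℤ))], d.1 < n := by
    intro d hd
    simp only [List.cons_append, List.nil_append, List.mem_cons, List.not_mem_nil, or_false] at hd
    rcases hd with rfl | rfl <;> simp <;> omega
  have hz := h.zero hinj (by omega) (by omega) hD
  have s0 := h.sum0
  have s1 := h.sum1
  simp only [List.map_cons, List.map_nil, List.sum_cons, List.sum_nil, add_zero, mul_one] at s0 s1
  have d0 := h.dec0 (0, 2) (by simp)
  have d1 := h.dec1 (n - 1, 1) (by simp)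
  simp only at d0 d1
  have c10 : cart T (e 1) (e 0) = 1 := by omega
  have mD0 := h.mD (0, 2) (by simp)
  have mD1 := h.mD (n - 1, 1) (by simp)
  simp only [one_mul] at mD0 mD1
  have w0 := w_cart_symm T (e 0) (e 1)
  rw [d0, c10] at w0
  have w1 := w_cart_symm T (e (n - 1)) (e (n - 2))
  rw [d1, s1] at w1
  have Mk : ∀ k, 1 ≤ k → k + 2 ≤ n → T.m (e k) = 2 * T.m (e (n - 1)) := by
    intro k h1 h2
    rw [h.mP k h1 (by omega)]
    linarith
  have M0 : T.m (e 0) = 2 * T.m (e (n - 1)) := by linarith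
  have Wk : ∀ k, 1 ≤ k → k + 2 ≤ n → T.w (e k) = 2 * T.w (e 0) := by
    intro k h1 h2
    rw [h.wP k h1 (by omega)]
    linarith
  have Wl : T.w (e (n - 1)) = 4 * T.w (e 0) := by
    have := Wk (n - 2) (by omega) (by omega)
    linarith
  have Ak : ∀ k, 1 ≤ k → k + 3 ≤ n → T.a (e k) (e (k + 1)) = 2 * T.w (e 0) := by
    intro k h1 h2
    rw [a_eq, (h.pathE k h1 (by omega)).1, Wk k h1 (by omega), mul_one]
  have A0 : T.a (e 0) (e 1) = 2 * T.w (e 0) := by
    rw [a_eq, d0]; ring
  have Al : T.a (e (n - 2)) (e (n - 1)) = 4 * T.w (e 0) := by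
    rw [a_eq, s1, Wk (n - 2) (by omega) (by omega)]; ring
  refine ⟨?_, ?_, ?_, ?_, ?_, ?_, ?_, ?_⟩
  · intro ⟨k, hk⟩ hi
    change T.m (e k) = _
    simp only at hi
    rcases Nat.eq_zero_or_pos k with rfl | h0
    · exact M0
    · exact Mk k h0 (by omega)
  · intro ⟨k, hk⟩ hi
    change T.m (e k) = _
    simp only at hi
    rw [show k = n - 1 by omega]
  · intro ⟨k, hk⟩ hi
    change T.w (e k) = _
    simp only at hi
    rw [hi]
  · intro ⟨k, hk⟩ hi
    change T.w (e k) = _
    simp only at hi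
    exact Wk k hi.1 (by omega)
  · intro ⟨k, hk⟩ hi
    change T.w (e k) = _
    simp only at hi
    rw [show k = n - 1 by omega]
    exact Wl
  · intro ⟨k, hk⟩ ⟨k', hk'⟩ hlt hc
    change T.a (e k) (e k') = _
    simp only at hlt hc
    obtain ⟨rfl, h2⟩ := hc
    rcases Nat.eq_zero_or_pos k with rfl | h0
    · exact A0
    · exact Ak k h0 (by omega)
  · intro ⟨k, hk⟩ ⟨k', hk'⟩ hlt hc
    change T.a (e k) (e k') = _
    simp only at hlt hc
    obtain ⟨rfl, h2⟩ := hc
    rw [show k = n - 2 by omega, show n - 2 + 1 = n - 1 by omega]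
    exact Al
  · intro ⟨k, hk⟩ ⟨k', hk'⟩ hlt hc1 hc2
    change T.a (e k) (e k') = 0
    simp only at hlt hc1 hc2
    apply hz k k' hk hk' (by omega)
    · intro hh; omega
    · simp only [List.mem_cons, List.not_mem_nil, or_false, exists_eq_left]; omega
    · simp only [List.mem_cons, List.not_mem_nil, or_false, exists_eq_left]; omega
    · simp only [List.mem_cons, List.not_mem_nil, or_false, exists_eq_left]; omega
    · simp only [List.mem_cons, List.not_mem_nil, or_false, exists_eq_left]; omega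

theorem fam3_of_DP (hn : 10 ≤ n) {e : ℕ → Fin n} (hinj : Inj e n)
    (h : DPOut T e n 1 (n - 2) [(0, 2)] [(n - 1, 2)]) :
    Fam3 T (permOf e hinj) (T.m (e 0)) (T.w (e 0)) := by
  have hD : ∀ d ∈ [(0, (2 : ℤ))] ++ [(n - 1, (2 : ℤ))], d.1 < n := by
    intro d hd
    simp only [List.cons_append, List.nil_append, List.mem_cons, List.not_mem_nil, or_false] at hd
    rcases hd with rfl | rfl <;> simp <;> omega
  have hz := h.zero hinj (by omega) (by omega) hD
  have s0 := h.sum0
  have s1 := h.sum1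
  simp only [List.map_cons, List.map_nil, List.sum_cons, List.sum_nil, add_zero, mul_one] at s0 s1
  have d0 := h.dec0 (0, 2) (by simp)
  have d1 := h.dec1 (n - 1, 2) (by simp)
  simp only at d0 d1
  have c10 : cart T (e 1) (e 0) = 1 := by omega
  have c11 : cart T (e (n - 2)) (e (n - 1)) = 1 := by omega
  have mD0 := h.mD (0, 2) (by simp)
  have mD1 := h.mD (n - 1, 2) (by simp)
  simp only at mD0 mD1
  have w0 := w_cart_symm T (e 0) (e 1)
  rw [d0, c10] at w0
  have w1 := w_cart_symm T (e (n - 1)) (e (n - 2))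
  rw [d1, c11] at w1
  have Mk : ∀ k, 1 ≤ k → k + 2 ≤ n → T.m (e k) = T.m (e 0) := by
    intro k h1 h2
    rw [h.mP k h1 (by omega)]
    linarith
  have Ml : T.m (e (n - 1)) = T.m (e 0) := by linarith
  have Wk : ∀ k, 1 ≤ k → k + 2 ≤ n → T.w (e k) = 2 * T.w (e 0) := by
    intro k h1 h2
    rw [h.wP k h1 (by omega)]
    linarith
  have Wl : T.w (e (n - 1)) = T.w (e 0) := by
    have := Wk (n - 2) (by omega) (by omega)
    linarith
  have Ak : ∀ k, 1 ≤ k → k + 3 ≤ n → T.a (e k) (e (k + 1)) = 2 * T.w (e 0) := by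
    intro k h1 h2
    rw [a_eq, (h.pathE k h1 (by omega)).1, Wk k h1 (by omega), mul_one]
  have A0 : T.a (e 0) (e 1) = 2 * T.w (e 0) := by
    rw [a_eq, d0]; ring
  have Al : T.a (e (n - 2)) (e (n - 1)) = 2 * T.w (e 0) := by
    rw [a_eq, c11, Wk (n - 2) (by omega) (by omega)]; ring
  refine ⟨?_, ?_, ?_, ?_, ?_, ?_⟩
  · intro ⟨k, hk⟩
    change T.m (e k) = _
    rcases Nat.eq_zero_or_pos k with rfl | h0
    · rfl
    · rcases Nat.lt_or_ge (k + 1) n with h1 | h1
      · exact Mk k h0 (by omega)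
      · rw [show k = n - 1 by omega]
        exact Ml
  · intro ⟨k, hk⟩ hi
    change T.w (e k) = _
    simp only at hi
    rw [hi]
  · intro ⟨k, hk⟩ hi
    change T.w (e k) = _
    simp only at hi
    exact Wk k hi.1 (by omega)
  · intro ⟨k, hk⟩ hi
    change T.w (e k) = _
    simp only at hi
    rw [show k = n - 1 by omega]
    exact Wl
  · intro ⟨k, hk⟩ ⟨k', hk'⟩ hlt hc
    change T.a (e k) (e k') = _
    simp only at hlt hc
    subst hc
    rcases Nat.eq_zero_or_pos k with rfl | h0
    · exact A0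
    · rcases Nat.lt_or_ge (k + 2) n with h1 | h1
      · exact Ak k h0 (by omega)
      · rw [show k = n - 2 by omega, show n - 2 + 1 = n - 1 by omega]
        exact Al
  · intro ⟨k, hk⟩ ⟨k', hk'⟩ hlt hc1
    change T.a (e k) (e k') = 0
    simp only at hlt hc1
    apply hz k k' hk hk' (by omega)
    · intro hh; omega
    · simp only [List.mem_cons, List.not_mem_nil, or_false, exists_eq_left]; omega
    · simp only [List.mem_cons, List.not_mem_nil, or_false, exists_eq_left]; omega
    · simp only [List.mem_cons, List.not_mem_nil, or_false, exists_eq_left]; omega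
    · simp only [List.mem_cons, List.not_mem_nil, or_false, exists_eq_left]; omega

theorem fam4_of_DP (hn : 10 ≤ n) {e : ℕ → Fin n} (hinj : Inj e n)
    (h : DPOut T e n 1 (n - 2) [(0, 1)] [(n - 1, 1)]) :
    Fam4 T (permOf e hinj) (T.m (e 0)) (T.w (e 1)) := by
  have hD : ∀ d ∈ [(0, (1 : ℤ))] ++ [(n - 1, (1 : ℤ))], d.1 < n := by
    intro d hd
    simp only [List.cons_append, List.nil_append, List.mem_cons, List.not_mem_nil, or_false] at hd
    rcases hd with rfl | rfl <;> simp <;> omega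
  have hz := h.zero hinj (by omega) (by omega) hD
  have s0 := h.sum0
  have s1 := h.sum1
  simp only [List.map_cons, List.map_nil, List.sum_cons, List.sum_nil, add_zero, mul_one] at s0 s1
  have d0 := h.dec0 (0, 1) (by simp)
  have d1 := h.dec1 (n - 1, 1) (by simp)
  simp only at d0 d1
  have mD0 := h.mD (0, 1) (by simp)
  have mD1 := h.mD (n - 1, 1) (by simp)
  simp only [one_mul] at mD0 mD1
  have w0 := w_cart_symm T (e 0) (e 1)
  rw [d0, s0] at w0
  have w1 := w_cart_symm T (e (n - 1)) (e (n - 2))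
  rw [d1, s1] at w1
  have Mk : ∀ k, 1 ≤ k → k + 2 ≤ n → T.m (e k) = 2 * T.m (e 0) := by
    intro k h1 h2
    rw [h.mP k h1 (by omega)]
    linarith
  have Ml : T.m (e (n - 1)) = T.m (e 0) := by linarith
  have Wk : ∀ k, 1 ≤ k → k + 2 ≤ n → T.w (e k) = T.w (e 1) := by
    intro k h1 h2
    rw [h.wP k h1 (by omega)]
  have W0 : T.w (e 0) = 2 * T.w (e 1) := by linarith
  have Wl : T.w (e (n - 1)) = 2 * T.w (e 1) := by
    have := Wk (n - 2) (by omega) (by omega)
    linarith
  have Ak : ∀ k, 1 ≤ k → k + 3 ≤ n → T.a (e k) (e (k + 1)) = T.w (e 1) := by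
    intro k h1 h2
    rw [a_eq, (h.pathE k h1 (by omega)).1, Wk k h1 (by omega), mul_one]
  have A0 : T.a (e 0) (e 1) = 2 * T.w (e 1) := by
    rw [a_eq, d0, W0]; ring
  have Al : T.a (e (n - 2)) (e (n - 1)) = 2 * T.w (e 1) := by
    rw [a_eq, s1, Wk (n - 2) (by omega) (by omega)]; ring
  refine ⟨?_, ?_, ?_, ?_, ?_, ?_, ?_, ?_, ?_, ?_⟩
  · intro ⟨k, hk⟩ hi
    change T.m (e k) = _
    simp only at hi
    rw [hi]
  · intro ⟨k, hk⟩ hi
    change T.m (e k) = _
    simp only at hi
    exact Mk k hi.1 (by omega)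
  · intro ⟨k, hk⟩ hi
    change T.m (e k) = _
    simp only at hi
    rw [show k = n - 1 by omega]
    exact Ml
  · intro ⟨k, hk⟩ hi
    change T.w (e k) = _
    simp only at hi
    rw [hi]
    exact W0
  · intro ⟨k, hk⟩ hi
    change T.w (e k) = _
    simp only at hi
    exact Wk k hi.1 (by omega)
  · intro ⟨k, hk⟩ hi
    change T.w (e k) = _
    simp only at hi
    rw [show k = n - 1 by omega]
    exact Wl
  · intro ⟨k, hk⟩ ⟨k', hk'⟩ hlt hc
    change T.a (e k) (e k') = _
    simp only at hlt hc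
    obtain ⟨rfl, rfl⟩ := hc
    exact A0
  · intro ⟨k, hk⟩ ⟨k', hk'⟩ hlt hc
    change T.a (e k) (e k') = _
    simp only at hlt hc
    obtain ⟨rfl, h2, h3⟩ := hc
    exact Ak k h2 (by omega)
  · intro ⟨k, hk⟩ ⟨k', hk'⟩ hlt hc
    change T.a (e k) (e k') = _
    simp only at hlt hc
    obtain ⟨rfl, h2⟩ := hc
    rw [show k = n - 2 by omega, show n - 2 + 1 = n - 1 by omega]
    exact Al
  · intro ⟨k, hk⟩ ⟨k', hk'⟩ hlt hc1 hc2 hc3
    change T.a (e k) (e k') = 0
    simp only at hlt hc1 hc2 hc3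
    apply hz k k' hk hk' (by omega)
    · intro hh; omega
    · simp only [List.mem_cons, List.not_mem_nil, or_false, exists_eq_left]; omega
    · simp only [List.mem_cons, List.not_mem_nil, or_false, exists_eq_left]; omega
    · simp only [List.mem_cons, List.not_mem_nil, or_false, exists_eq_left]; omega
    · simp only [List.mem_cons, List.not_mem_nil, or_false, exists_eq_left]; omega

end Groth.Agent.Lib.Helper85.NumGen
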