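import Mathlib
import Groth.Agent.Lib.Helper85.NumGen5

/-!
# The D-type families (5, 6), the double fork (7) and the cycle (1)
-/

set_option autoImplicit false
set_option linter.unusedSectionVars false
open Finset

namespace Groth.Agent.Lib.Helper85.NumGen

open Models Models.NumericalType Groth.Agent.Lib.Helper11

variable {n : ℕ} {T : Models.NumericalType n}

theorem fam5_of_DP (hn : 10 ≤ n) (hm2 : ∀ i, T.IsMinusTwo i) {e : ℕ → Fin n} (hinj : Inj e n)
    (h : DPOut T e n 1 (n - 3) [(0, 1)] [(n - 2, 1), (n - 1, 1)]) :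
    Fam5 T (permOf e hinj) (T.m (e 0)) (T.w (e 1)) := by
  have hD : ∀ d ∈ [(0, (1 : ℤ))] ++ [(n - 2, (1 : ℤ)), (n - 1, (1 : ℤ))], d.1 < n := by
    intro d hd
    simp only [List.cons_append, List.nil_append, List.mem_cons, List.not_mem_nil, or_false] at hd
    rcases hd with rfl | rfl | rfl <;> simp <;> omega
  have hz := h.zero hinj (by omega) (by omega) hD
  have s0 := h.sum0
  have s1 := h.sum1
  simp only [List.map_cons, List.map_nil, List.sum_cons, List.sum_nil, add_zero, mul_one] at s0 s1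
  have d0 := h.dec0 (0, 1) (by simp)
  have d1 := h.dec1 (n - 2, 1) (by simp)
  have d2 := h.dec1 (n - 1, 1) (by simp)
  simp only at d0 d1 d2
  obtain ⟨f1, f2, f3, f4⟩ := fork_facts hm2 s1 d1 d2
  have mD0 := h.mD (0, 1) (by simp)
  have mD1 := h.mD (n - 2, 1) (by simp)
  have mD2 := h.mD (n - 1, 1) (by simp)
  simp only [one_mul] at mD0 mD1 mD2
  have w0 := w_cart_symm T (e 0) (e 1)
  rw [d0, s0] at w0
  have Mk : ∀ k, 1 ≤ k → k + 3 ≤ n → T.m (e k) = 2 * T.m (e 0) := by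
    intro k h1 h2
    rw [h.mP k h1 (by omega)]
    linarith
  have Wk : ∀ k, 1 ≤ k → k + 3 ≤ n → T.w (e k) = T.w (e 1) := by
    intro k h1 h2
    rw [h.wP k h1 (by omega)]
  have W0 : T.w (e 0) = 2 * T.w (e 1) := by linarith
  have Wb := Wk (n - 3) (by omega) (by omega)
  have Ak : ∀ k, 1 ≤ k → k + 4 ≤ n → T.a (e k) (e (k + 1)) = T.w (e 1) := by
    intro k h1 h2
    rw [a_eq, (h.pathE k h1 (by omega)).1, Wk k h1 (by omega), mul_one]
  have A0 : T.a (e 0) (e 1) = 2 * T.w (e 1) := by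
    rw [a_eq, d0, W0]; ring
  have Al1 : T.a (e (n - 3)) (e (n - 2)) = T.w (e 1) := by
    rw [a_eq, f1, Wb]; ring
  have Al2 : T.a (e (n - 3)) (e (n - 1)) = T.w (e 1) := by
    rw [a_eq, f2, Wb]; ring
  refine ⟨?_, ?_, ?_, ?_, ?_, ?_, ?_, ?_, ?_⟩
  · intro ⟨k, hk⟩ hi
    change T.m (e k) = _
    simp only at hi
    rw [hi]
  · intro ⟨k, hk⟩ hi
    change T.m (e k) = _
    simp only at hi
    exact Mk k hi.1 (by omega)
  · intro ⟨k, hk⟩ hi
    change T.m (e k) = _
    simp only at hi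
    rcases (show k = n - 2 ∨ k = n - 1 by omega) with rfl | rfl
    · linarith
    · linarith
  · intro ⟨k, hk⟩ hi
    change T.w (e k) = _
    simp only at hi
    rw [hi]
    exact W0
  · intro ⟨k, hk⟩ hi
    change T.w (e k) = _
    simp only at hi
    rcases (show k + 3 ≤ n ∨ k = n - 2 ∨ k = n - 1 by omega) with h1 | rfl | rfl
    · exact Wk k hi h1
    · rw [f3, Wb]
    · rw [f4, Wb]
  · intro ⟨k, hk⟩ ⟨k', hk'⟩ hlt hc
    change T.a (e k) (e k') = _
    simp only at hlt hc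
    obtain ⟨rfl, rfl⟩ := hc
    exact A0
  · intro ⟨k, hk⟩ ⟨k', hk'⟩ hlt hc
    change T.a (e k) (e k') = _
    simp only at hlt hc
    obtain ⟨rfl, h2, h3⟩ := hc
    rcases (show k + 4 ≤ n ∨ k = n - 3 by omega) with h1 | rfl
    · exact Ak k h2 h1
    · rw [show n - 3 + 1 = n - 2 by omega]
      exact Al1
  · intro ⟨k, hk⟩ ⟨k', hk'⟩ hlt hc
    change T.a (e k) (e k') = _
    simp only at hlt hc
    rw [show k = n - 3 by omega, show k' = n - 1 by omega]
    exact Al2
  · intro ⟨k, hk⟩ ⟨k', hk'⟩ hlt hc1 hc2 hc3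
    change T.a (e k) (e k') = 0
    simp only at hlt hc1 hc2 hc3
    apply hz k k' hk hk' (by omega)
    · intro hh; omega
    · simp only [List.mem_cons, List.not_mem_nil, or_false, exists_eq_or_imp, exists_eq_left]; omega
    · simp only [List.mem_cons, List.not_mem_nil, or_false, exists_eq_or_imp, exists_eq_left]; omega
    · simp only [List.mem_cons, List.not_mem_nil, or_false, exists_eq_or_imp, exists_eq_left]; omega
    · simp only [List.mem_cons, List.not_mem_nil, or_false, exists_eq_or_imp, exists_eq_left]; omega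

theorem fam6_of_DP (hn : 10 ≤ n) (hm2 : ∀ i, T.IsMinusTwo i) {e : ℕ → Fin n} (hinj : Inj e n)
    (h : DPOut T e n 1 (n - 3) [(0, 2)] [(n - 2, 1), (n - 1, 1)]) :
    Fam6 T (permOf e hinj) (T.m (e (n - 1))) (T.w (e 0)) := by
  have hD : ∀ d ∈ [(0, (2 : ℤ))] ++ [(n - 2, (1 : ℤ)), (n - 1, (1 : ℤ))], d.1 < n := by
    intro d hd
    simp only [List.cons_append, List.nil_append, List.mem_cons, List.not_mem_nil, or_false] at hd
    rcases hd with rfl | rfl | rfl <;> simp <;> omega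
  have hz := h.zero hinj (by omega) (by omega) hD
  have s0 := h.sum0
  have s1 := h.sum1
  simp only [List.map_cons, List.map_nil, List.sum_cons, List.sum_nil, add_zero, mul_one] at s0 s1
  have d0 := h.dec0 (0, 2) (by simp)
  have d1 := h.dec1 (n - 2, 1) (by simp)
  have d2 := h.dec1 (n - 1, 1) (by simp)
  simp only at d0 d1 d2
  have c10 : cart T (e 1) (e 0) = 1 := by omega
  obtain ⟨f1, f2, f3, f4⟩ := fork_facts hm2 s1 d1 d2
  have mD0 := h.mD (0, 2) (by simp)
  have mD1 := h.mD (n - 2, 1) (by simp)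
  have mD2 := h.mD (n - 1, 1) (by simp)
  simp only [one_mul] at mD0 mD1 mD2
  have w0 := w_cart_symm T (e 0) (e 1)
  rw [d0, c10] at w0
  have Mk : ∀ k, 1 ≤ k → k + 3 ≤ n → T.m (e k) = 2 * T.m (e (n - 1)) := by
    intro k h1 h2
    rw [h.mP k h1 (by omega)]
    linarith
  have M0 : T.m (e 0) = 2 * T.m (e (n - 1)) := by linarith
  have Wk : ∀ k, 1 ≤ k → k + 3 ≤ n → T.w (e k) = 2 * T.w (e 0) := by
    intro k h1 h2
    rw [h.wP k h1 (by omega)]
    linarith
  have Wb := Wk (n - 3) (by omega) (by omega)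
  have Ak : ∀ k, 1 ≤ k → k + 4 ≤ n → T.a (e k) (e (k + 1)) = 2 * T.w (e 0) := by
    intro k h1 h2
    rw [a_eq, (h.pathE k h1 (by omega)).1, Wk k h1 (by omega), mul_one]
  have A0 : T.a (e 0) (e 1) = 2 * T.w (e 0) := by
    rw [a_eq, d0]; ring
  have Al1 : T.a (e (n - 3)) (e (n - 2)) = 2 * T.w (e 0) := by
    rw [a_eq, f1, Wb]; ring
  have Al2 : T.a (e (n - 3)) (e (n - 1)) = 2 * T.w (e 0) := by
    rw [a_eq, f2, Wb]; ring
  refine ⟨?_, ?_, ?_, ?_, ?_, ?_, ?_⟩
  · intro ⟨k, hk⟩ hi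
    change T.m (e k) = _
    simp only at hi
    rcases Nat.eq_zero_or_pos k with rfl | h0
    · exact M0
    · exact Mk k h0 (by omega)
  · intro ⟨k, hk⟩ hi
    change T.m (e k) = _
    simp only at hi
    rcases (show k = n - 2 ∨ k = n - 1 by omega) with rfl | rfl
    · linarith
    · rfl
  · intro ⟨k, hk⟩ hi
    change T.w (e k) = _
    simp only at hi
    rw [hi]
  · intro ⟨k, hk⟩ hi
    change T.w (e k) = _
    simp only at hi
    rcases (show k + 3 ≤ n ∨ k = n - 2 ∨ k = n - 1 by omega) with h1 | rfl | rfl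
    · exact Wk k hi h1
    · rw [f3, Wb]
    · rw [f4, Wb]
  · intro ⟨k, hk⟩ ⟨k', hk'⟩ hlt hc
    change T.a (e k) (e k') = _
    simp only at hlt hc
    obtain ⟨rfl, h3⟩ := hc
    rcases Nat.eq_zero_or_pos k with rfl | h0
    · exact A0
    · rcases (show k + 4 ≤ n ∨ k = n - 3 by omega) with h1 | rfl
      · exact Ak k h0 h1
      · rw [show n - 3 + 1 = n - 2 by omega]
        exact Al1
  · intro ⟨k, hk⟩ ⟨k', hk'⟩ hlt hc
    change T.a (e k) (e k') = _
    simp only at hlt hc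
    rw [show k = n - 3 by omega, show k' = n - 1 by omega]
    exact Al2
  · intro ⟨k, hk⟩ ⟨k', hk'⟩ hlt hc1 hc2
    change T.a (e k) (e k') = 0
    simp only at hlt hc1 hc2
    apply hz k k' hk hk' (by omega)
    · intro hh; omega
    · simp only [List.mem_cons, List.not_mem_nil, or_false, exists_eq_or_imp, exists_eq_left]; omega
    · simp only [List.mem_cons, List.not_mem_nil, or_false, exists_eq_or_imp, exists_eq_left]; omega
    · simp only [List.mem_cons, List.not_mem_nil, or_false, exists_eq_or_imp, exists_eq_left]; omega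
    · simp only [List.mem_cons, List.not_mem_nil, or_false, exists_eq_or_imp, exists_eq_left]; omega

theorem fam7_of_DP (hn : 10 ≤ n) (hm2 : ∀ i, T.IsMinusTwo i) {e : ℕ → Fin n} (hinj : Inj e n)
    (h : DPOut T e n 2 (n - 3) [(0, 1), (1, 1)] [(n - 2, 1), (n - 1, 1)]) :
    Fam7 T (permOf e hinj) (T.m (e 0)) (T.w (e 2)) := by
  have hD : ∀ d ∈ [(0, (1 : ℤ)), (1, (1 : ℤ))] ++ [(n - 2, (1 : ℤ)), (n - 1, (1 : ℤ))],
      d.1 < n := by
    intro d hd
    simp only [List.cons_append, List.nil_append, List.mem_cons, List.not_mem_nil, or_false] at hd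
    rcases hd with rfl | rfl | rfl | rfl <;> simp <;> omega
  have hz := h.zero hinj (by omega) (by omega) hD
  have s0 := h.sum0
  have s1 := h.sum1
  simp only [List.map_cons, List.map_nil, List.sum_cons, List.sum_nil, add_zero, mul_one] at s0 s1
  have d0 := h.dec0 (0, 1) (by simp)
  have d0' := h.dec0 (1, 1) (by simp)
  have d1 := h.dec1 (n - 2, 1) (by simp)
  have d2 := h.dec1 (n - 1, 1) (by simp)
  simp only at d0 d0' d1 d2
  obtain ⟨g1, g2, g3, g4⟩ := fork_facts hm2 s0 d0 d0'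
  obtain ⟨f1, f2, f3, f4⟩ := fork_facts hm2 s1 d1 d2
  have mD0 := h.mD (0, 1) (by simp)
  have mD0' := h.mD (1, 1) (by simp)
  have mD1 := h.mD (n - 2, 1) (by simp)
  have mD2 := h.mD (n - 1, 1) (by simp)
  simp only [one_mul] at mD0 mD0' mD1 mD2
  have Mk : ∀ k, 2 ≤ k → k + 3 ≤ n → T.m (e k) = 2 * T.m (e 0) := by
    intro k h1 h2
    rw [h.mP k h1 (by omega)]
    linarith
  have Wk : ∀ k, 2 ≤ k → k + 3 ≤ n → T.w (e k) = T.w (e 2) := by
    intro k h1 h2
    rw [h.wP k h1 (by omega)]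
  have Wb := Wk (n - 3) (by omega) (by omega)
  have Ak : ∀ k, 2 ≤ k → k + 4 ≤ n → T.a (e k) (e (k + 1)) = T.w (e 2) := by
    intro k h1 h2
    rw [a_eq, (h.pathE k h1 (by omega)).1, Wk k h1 (by omega), mul_one]
  have A0 : T.a (e 0) (e 2) = T.w (e 2) := by
    rw [a_eq, d0, g3]; ring
  have A1 : T.a (e 1) (e 2) = T.w (e 2) := by
    rw [a_eq, d0', g4]; ring
  have Al1 : T.a (e (n - 3)) (e (n - 2)) = T.w (e 2) := by
    rw [a_eq, f1, Wb]; ring
  have Al2 : T.a (e (n - 3)) (e (n - 1)) = T.w (e 2) := by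
    rw [a_eq, f2, Wb]; ring
  refine ⟨?_, ?_, ?_, ?_, ?_, ?_, ?_, ?_, ?_⟩
  · intro ⟨k, hk⟩ hi
    change T.m (e k) = _
    simp only at hi
    rcases (show k = 0 ∨ k = 1 by omega) with rfl | rfl
    · rfl
    · linarith
  · intro ⟨k, hk⟩ hi
    change T.m (e k) = _
    simp only at hi
    exact Mk k hi.1 (by omega)
  · intro ⟨k, hk⟩ hi
    change T.m (e k) = _
    simp only at hi
    rcases (show k = n - 2 ∨ k = n - 1 by omega) with rfl | rfl
    · linarith
    · linarith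
  · intro ⟨k, hk⟩
    change T.w (e k) = _
    rcases (show k = 0 ∨ k = 1 ∨ (2 ≤ k ∧ k + 3 ≤ n) ∨ k = n - 2 ∨ k = n - 1 by omega) with
      rfl | rfl | h1 | rfl | rfl
    · exact g3
    · exact g4
    · exact Wk k h1.1 h1.2
    · rw [f3, Wb]
    · rw [f4, Wb]
  · intro ⟨k, hk⟩ ⟨k', hk'⟩ hlt hc
    change T.a (e k) (e k') = _
    simp only at hlt hc
    obtain ⟨rfl, rfl⟩ := hc
    exact A0
  · intro ⟨k, hk⟩ ⟨k', hk'⟩ hlt hc
    change T.a (e k) (e k') = _
    simp only at hlt hc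
    obtain ⟨rfl, rfl⟩ := hc
    exact A1
  · intro ⟨k, hk⟩ ⟨k', hk'⟩ hlt hc
    change T.a (e k) (e k') = _
    simp only at hlt hc
    obtain ⟨rfl, h2, h3⟩ := hc
    rcases (show k + 4 ≤ n ∨ k = n - 3 by omega) with h1 | rfl
    · exact Ak k h2 h1
    · rw [show n - 3 + 1 = n - 2 by omega]
      exact Al1
  · intro ⟨k, hk⟩ ⟨k', hk'⟩ hlt hc
    change T.a (e k) (e k') = _
    simp only at hlt hc
    rw [show k = n - 3 by omega, show k' = n - 1 by omega]
    exact Al2
  · intro ⟨k, hk⟩ ⟨k', hk'⟩ hlt hc1 hc2 hc3 hc4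
    change T.a (e k) (e k') = 0
    simp only at hlt hc1 hc2 hc3 hc4
    apply hz k k' hk hk' (by omega)
    · intro hh; omega
    · simp only [List.mem_cons, List.not_mem_nil, or_false, exists_eq_or_imp, exists_eq_left]; omega
    · simp only [List.mem_cons, List.not_mem_nil, or_false, exists_eq_or_imp, exists_eq_left]; omega
    · simp only [List.mem_cons, List.not_mem_nil, or_false, exists_eq_or_imp, exists_eq_left]; omega
    · simp only [List.mem_cons, List.not_mem_nil, or_false, exists_eq_or_imp, exists_eq_left]; omega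

/-- the cycle -/
theorem fam1_of_chord (hn : 10 ≤ n) {q : ℕ → Fin n} (hinj : Inj q n)
    (hm : ∀ k, k ≤ n - 1 → T.m (q k) = T.m (q 0))
    (hp : ∀ k, k < n - 1 → cart T (q k) (q (k + 1)) = 1 ∧ cart T (q (k + 1)) (q k) = 1)
    (hc : cart T (q 0) (q (n - 1)) = 1 ∧ cart T (q (n - 1)) (q 0) = 1)
    (hz : ∀ k, k ≤ n - 1 → ∀ v, v ≠ q k → v ≠ q (if k = 0 then n - 1 else k - 1) →
      v ≠ q (if k = n - 1 then 0 else k + 1) → cart T (q k) v = 0) :
    Fam1 T (permOf q hinj) (T.m (q 0)) (T.w (q 0)) := by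
  have hw : ∀ k, k ≤ n - 1 → T.w (q k) = T.w (q 0) := by
    intro k
    induction k with
    | zero => intro _; rfl
    | succ k ih =>
      intro hk
      have h3 := hp k (by omega)
      have h4 := w_cart_symm T (q k) (q (k + 1))
      rw [h3.1, h3.2, mul_one, mul_one] at h4
      rw [← h4]
      exact ih (by omega)
  refine ⟨?_, ?_, ?_, ?_, ?_⟩
  · intro ⟨k, hk⟩
    exact hm k (by omega)
  · intro ⟨k, hk⟩
    exact hw k (by omega)
  · intro ⟨k, hk⟩ ⟨k', hk'⟩ hlt hc'
    change T.a (q k) (q k') = _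
    simp only at hlt hc'
    subst hc'
    rw [a_eq, (hp k (by omega)).1, hw k (by omega), mul_one]
  · intro ⟨k, hk⟩ ⟨k', hk'⟩ hlt hc'
    change T.a (q k) (q k') = _
    simp only at hlt hc'
    obtain ⟨rfl, h2⟩ := hc'
    rw [show k' = n - 1 by omega, a_eq, hc.1, mul_one]
  · intro ⟨k, hk⟩ ⟨k', hk'⟩ hlt hc1 hc2
    change T.a (q k) (q k') = 0
    simp only at hlt hc1 hc2
    rw [← cart_eq_zero_iff]
    have hne : ∀ a b, a < n → b < n → a ≠ b → q a ≠ q b := fun a b ha hb hab hh =>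
      hab (hinj a b ha hb hh)
    apply hz k (by omega)
    · exact hne k' k hk' hk (by omega)
    · apply hne k' _ hk' (by split_ifs <;> omega)
      split_ifs <;> omega
    · apply hne k' _ hk' (by split_ifs <;> omega)
      split_ifs <;> omega

end Groth.Agent.Lib.Helper85.NumGen
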