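import Mathlib
import Groth.Agent.Lib.Helper85.NumGen4

/-!
# Forbidden sub-configurations along a path
-/

set_option autoImplicit false
set_option linter.unusedSectionVars false
open Finset

namespace Groth.Agent.Lib.Helper85.NumGen

open Models Models.NumericalType Groth.Agent.Lib.Helper11

variable {n : ℕ} {T : Models.NumericalType n}

theorem noE6 (hn : 7 < n) (v : Fin 7 ↪ Fin n) (hv : ∀ j, T.IsMinusTwo (v j))
    (h01 : T.a (v 0) (v 1) ≠ 0) (h12 : T.a (v 1) (v 2) ≠ 0) (h23 : T.a (v 2) (v 3) ≠ 0)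
    (h34 : T.a (v 3) (v 4) ≠ 0) (h25 : T.a (v 2) (v 5) ≠ 0) (h56 : T.a (v 5) (v 6) ≠ 0) :
    False := by
  refine affine_false T v hn hv ![1, 2, 3, 2, 1, 2, 1] ?_ ?_
    ![{1}, {0, 2}, {1, 3, 5}, {2, 4}, {3}, {2, 6}, {5}] ?_ ?_ ?_
  · intro j; fin_cases j <;> simp
  · intro h; have := congrFun h 0; simp at this
  · intro j; fin_cases j <;> simp
  · intro j _; fin_cases j <;> simp <;> tauto
  · intro j _; fin_cases j <;> simp [Finset.sum_insert]

theorem noE7 (hn : 8 < n) (v : Fin 8 ↪ Fin n) (hv : ∀ j, T.IsMinusTwo (v j))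
    (h01 : T.a (v 0) (v 1) ≠ 0) (h12 : T.a (v 1) (v 2) ≠ 0) (h23 : T.a (v 2) (v 3) ≠ 0)
    (h34 : T.a (v 3) (v 4) ≠ 0) (h45 : T.a (v 4) (v 5) ≠ 0) (h56 : T.a (v 5) (v 6) ≠ 0)
    (h37 : T.a (v 3) (v 7) ≠ 0) : False := by
  refine affine_false T v hn hv ![1, 2, 3, 4, 3, 2, 1, 2] ?_ ?_
    ![{1}, {0, 2}, {1, 3}, {2, 4, 7}, {3, 5}, {4, 6}, {5}, {3}] ?_ ?_ ?_
  · intro j; fin_cases j <;> simp
  · intro h; have := congrFun h 0; simp at this
  · intro j; fin_cases j <;> simp
  · intro j _; fin_cases j <;> simp <;> tauto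
  · intro j _; fin_cases j <;> simp [Finset.sum_insert]

theorem noE8 (hn : 9 < n) (v : Fin 9 ↪ Fin n) (hv : ∀ j, T.IsMinusTwo (v j))
    (h01 : T.a (v 0) (v 1) ≠ 0) (h12 : T.a (v 1) (v 2) ≠ 0) (h23 : T.a (v 2) (v 3) ≠ 0)
    (h34 : T.a (v 3) (v 4) ≠ 0) (h45 : T.a (v 4) (v 5) ≠ 0) (h56 : T.a (v 5) (v 6) ≠ 0)
    (h67 : T.a (v 6) (v 7) ≠ 0) (h58 : T.a (v 5) (v 8) ≠ 0) : False := by
  refine affine_false T v hn hv ![1, 2, 3, 4, 5, 6, 4, 2, 3] ?_ ?_
    ![{1}, {0, 2}, {1, 3}, {2, 4}, {3, 5}, {4, 6, 8}, {5, 7}, {6}, {5}] ?_ ?_ ?_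
  · intro j; fin_cases j <;> simp
  · intro h; have := congrFun h 0; simp at this
  · intro j; fin_cases j <;> simp
  · intro j _; fin_cases j <;> simp <;> tauto
  · intro j _; fin_cases j <;> simp [Finset.sum_insert]

theorem inj_of_strictMono {k : ℕ} (idx : Fin (k + 1) → ℕ)
    (h : ∀ j : Fin k, idx j.castSucc < idx j.succ) : Function.Injective idx :=
  (Fin.strictMono_iff_lt_succ.2 h).injective

/-- completed E6 along a path: two extra vertices `x`, `x'` hanging at `p i` -/
theorem E6_path (hn : 7 < n) (hm2 : ∀ i, T.IsMinusTwo i) {p : ℕ → Fin n} {t : ℕ}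
    (hP : IsPath T p t) {x x' : Fin n} (hx : ∀ k, k < t → p k ≠ x) (hx' : ∀ k, k < t → p k ≠ x')
    (hxx' : x ≠ x') (i : ℕ) (hi : 2 ≤ i) (hi2 : i + 2 < t) (h1 : T.a (p i) x ≠ 0)
    (h2 : T.a x x' ≠ 0) : False := by
  have hinj : Inj (snoc (snoc p t x) (t + 1) x') (t + 2) :=
    (hP.1.snoc hx).snoc (by
      intro k hk
      by_cases hkt : k < t
      · rw [snoc_lt _ _ hkt]
        exact hx' k hkt
      · rw [snoc_ge _ _ (by omega)]
        exact hxx')
  have e1 : ∀ k, k < t → snoc (snoc p t x) (t + 1) x' k = p k := fun k hk => by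
    rw [snoc_lt _ _ (by omega), snoc_lt _ _ hk]
  have e2 : snoc (snoc p t x) (t + 1) x' t = x := by
    rw [snoc_lt _ _ (by omega), snoc_ge _ _ le_rfl]
  have e3 : snoc (snoc p t x) (t + 1) x' (t + 1) = x' := snoc_ge _ _ le_rfl
  refine noE6 hn (embOf _ (t + 2) hinj ![i - 2, i - 1, i, i + 1, i + 2, t, t + 1]
    (by intro a; fin_cases a <;> simp <;> omega)
    (inj_of_strictMono _ (by intro j; fin_cases j <;> simp <;> omega))) (fun _ => hm2 _)
    ?_ ?_ ?_ ?_ ?_ ?_
  · simp only [embOf_apply, Matrix.cons_val_zero, Matrix.cons_val_one]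
    rw [e1 _ (by omega), e1 _ (by omega)]
    have := hP.2 (i - 2) (by omega)
    rwa [show i - 2 + 1 = i - 1 by omega] at this
  · simp only [embOf_apply, Matrix.cons_val_one, Matrix.cons_val]
    rw [e1 _ (by omega), e1 _ (by omega)]
    have := hP.2 (i - 1) (by omega)
    rwa [show i - 1 + 1 = i by omega] at this
  · simp only [embOf_apply, Matrix.cons_val]
    rw [e1 _ (by omega), e1 _ (by omega)]
    exact hP.2 i (by omega)
  · simp only [embOf_apply, Matrix.cons_val]
    rw [e1 _ (by omega), e1 _ (by omega)]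
    exact hP.2 (i + 1) (by omega)
  · simp only [embOf_apply, Matrix.cons_val]
    rw [e1 _ (by omega), e2]
    exact h1
  · simp only [embOf_apply, Matrix.cons_val]
    rw [e2, e3]
    exact h2

theorem IsPath.edge {p : ℕ → Fin n} {t : ℕ} (hP : IsPath T p t) (a b : ℕ) (hab : b = a + 1)
    (hb : b < t) : T.a (p a) (p b) ≠ 0 := by
  subst hab
  exact hP.2 a hb

/-- completed E7 along a path -/
theorem E7_path (hn : 8 < n) (hm2 : ∀ i, T.IsMinusTwo i) {p : ℕ → Fin n} {t : ℕ}
    (hP : IsPath T p t) {x : Fin n} (hx : ∀ k, k < t → p k ≠ x)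
    (i : ℕ) (hi : 3 ≤ i) (hi2 : i + 3 < t) (h1 : T.a (p i) x ≠ 0) : False := by
  have hinj : Inj (snoc p t x) (t + 1) := hP.1.snoc hx
  have e1 : ∀ k, k < t → snoc p t x k = p k := fun k hk => snoc_lt _ _ hk
  have e2 : snoc p t x t = x := snoc_ge _ _ le_rfl
  refine noE7 hn (embOf _ (t + 1) hinj ![i - 3, i - 2, i - 1, i, i + 1, i + 2, i + 3, t]
    (by intro a; fin_cases a <;> simp <;> omega)
    (inj_of_strictMono _ (by intro j; fin_cases j <;> simp <;> omega))) (fun _ => hm2 _)
    ?_ ?_ ?_ ?_ ?_ ?_ ?_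
  all_goals simp only [embOf_apply, Matrix.cons_val_zero, Matrix.cons_val_one, Matrix.cons_val]
  · rw [e1 _ (by omega), e1 _ (by omega)]
    exact hP.edge _ _ (by omega) (by omega)
  · rw [e1 _ (by omega), e1 _ (by omega)]
    exact hP.edge _ _ (by omega) (by omega)
  · rw [e1 _ (by omega), e1 _ (by omega)]
    exact hP.edge _ _ (by omega) (by omega)
  · rw [e1 _ (by omega), e1 _ (by omega)]
    exact hP.edge _ _ (by omega) (by omega)
  · rw [e1 _ (by omega), e1 _ (by omega)]
    exact hP.edge _ _ (by omega) (by omega)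
  · rw [e1 _ (by omega), e1 _ (by omega)]
    exact hP.edge _ _ (by omega) (by omega)
  · rw [e1 _ (by omega), e2]
    exact h1

/-- completed E8 along a path -/
theorem E8_path (hn : 9 < n) (hm2 : ∀ i, T.IsMinusTwo i) {p : ℕ → Fin n} {t : ℕ}
    (hP : IsPath T p t) {x : Fin n} (hx : ∀ k, k < t → p k ≠ x)
    (i : ℕ) (hi : 5 ≤ i) (hi2 : i + 2 < t) (h1 : T.a (p i) x ≠ 0) : False := by
  have hinj : Inj (snoc p t x) (t + 1) := hP.1.snoc hx
  have e1 : ∀ k, k < t → snoc p t x k = p k := fun k hk => snoc_lt _ _ hk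
  have e2 : snoc p t x t = x := snoc_ge _ _ le_rfl
  refine noE8 hn (embOf _ (t + 1) hinj ![i - 5, i - 4, i - 3, i - 2, i - 1, i, i + 1, i + 2, t]
    (by intro a; fin_cases a <;> simp <;> omega)
    (inj_of_strictMono _ (by intro j; fin_cases j <;> simp <;> omega))) (fun _ => hm2 _)
    ?_ ?_ ?_ ?_ ?_ ?_ ?_ ?_
  all_goals simp only [embOf_apply, Matrix.cons_val_zero, Matrix.cons_val_one, Matrix.cons_val]
  · rw [e1 _ (by omega), e1 _ (by omega)]
    exact hP.edge _ _ (by omega) (by omega)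
  · rw [e1 _ (by omega), e1 _ (by omega)]
    exact hP.edge _ _ (by omega) (by omega)
  · rw [e1 _ (by omega), e1 _ (by omega)]
    exact hP.edge _ _ (by omega) (by omega)
  · rw [e1 _ (by omega), e1 _ (by omega)]
    exact hP.edge _ _ (by omega) (by omega)
  · rw [e1 _ (by omega), e1 _ (by omega)]
    exact hP.edge _ _ (by omega) (by omega)
  · rw [e1 _ (by omega), e1 _ (by omega)]
    exact hP.edge _ _ (by omega) (by omega)
  · rw [e1 _ (by omega), e1 _ (by omega)]
    exact hP.edge _ _ (by omega) (by omega)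
  · rw [e1 _ (by omega), e2]
    exact h1

/-- interior edges of a path of at least five vertices are simple -/
theorem interior_simple (hn : 5 < n) (hm2 : ∀ i, T.IsMinusTwo i) {p : ℕ → Fin n} {t : ℕ}
    (hP : IsPath T p t) (k : ℕ) (hk : 1 ≤ k) (hk2 : k + 2 < t) (ht : 5 ≤ t) :
    cart T (p k) (p (k + 1)) = 1 ∧ cart T (p (k + 1)) (p k) = 1 := by
  by_cases hcase : k + 3 < t
  · have := chain5_mid T (embOf p t hP.1 ![k - 1, k, k + 1, k + 2, k + 3]
      (by intro a; fin_cases a <;> simp <;> omega)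
      (inj_of_strictMono _ (by intro j; fin_cases j <;> simp <;> omega))) hn (fun _ => hm2 _)
      (by
        simp only [embOf_apply, Matrix.cons_val_zero, Matrix.cons_val_one, Matrix.cons_val]
        exact hP.edge _ _ (by omega) (by omega))
      (by
        simp only [embOf_apply, Matrix.cons_val_zero, Matrix.cons_val_one, Matrix.cons_val]
        exact hP.edge _ _ (by omega) (by omega))
      (by
        simp only [embOf_apply, Matrix.cons_val_zero, Matrix.cons_val_one, Matrix.cons_val]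
        exact hP.edge _ _ (by omega) (by omega))
      (by
        simp only [embOf_apply, Matrix.cons_val_zero, Matrix.cons_val_one, Matrix.cons_val]
        exact hP.edge _ _ (by omega) (by omega))
    simpa only [embOf_apply, Matrix.cons_val_zero, Matrix.cons_val_one, Matrix.cons_val] using this
  · have := chain5_mid' T (embOf p t hP.1 ![k - 2, k - 1, k, k + 1, k + 2]
      (by intro a; fin_cases a <;> simp <;> omega)
      (inj_of_strictMono _ (by intro j; fin_cases j <;> simp <;> omega))) hn (fun _ => hm2 _)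
      (by
        simp only [embOf_apply, Matrix.cons_val_zero, Matrix.cons_val_one, Matrix.cons_val]
        exact hP.edge _ _ (by omega) (by omega))
      (by
        simp only [embOf_apply, Matrix.cons_val_zero, Matrix.cons_val_one, Matrix.cons_val]
        exact hP.edge _ _ (by omega) (by omega))
      (by
        simp only [embOf_apply, Matrix.cons_val_zero, Matrix.cons_val_one, Matrix.cons_val]
        exact hP.edge _ _ (by omega) (by omega))
      (by
        simp only [embOf_apply, Matrix.cons_val_zero, Matrix.cons_val_one, Matrix.cons_val]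
        exact hP.edge _ _ (by omega) (by omega))
    simpa only [embOf_apply, Matrix.cons_val_zero, Matrix.cons_val_one, Matrix.cons_val] using this

/-- the three edges at a vertex of degree three are simple -/
theorem star_simple (hn : 4 < n) (hm2 : ∀ i, T.IsMinusTwo i) {u a b c : Fin n}
    (hua : u ≠ a) (hub : u ≠ b) (huc : u ≠ c) (hab : a ≠ b) (hac : a ≠ c) (hbc : b ≠ c)
    (h1 : T.a u a ≠ 0) (h2 : T.a u b ≠ 0) (h3 : T.a u c ≠ 0) :
    (cart T u a = 1 ∧ cart T a u = 1) ∧ (cart T u b = 1 ∧ cart T b u = 1) ∧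
      (cart T u c = 1 ∧ cart T c u = 1) := by
  have hs : cart T u a * cart T a u + cart T u b * cart T b u + cart T u c * cart T c u ≤ 3 :=
    star3 T (⟨![u, a, b, c], by
      intro i j hij
      fin_cases i <;> fin_cases j <;> simp_all [eq_comm]⟩ : Fin 4 ↪ Fin n) hn (fun _ => hm2 _)
    h1 h2 h3
  obtain ⟨a1, a2⟩ := cart_pos_both T hua h1
  obtain ⟨b1, b2⟩ := cart_pos_both T hub h2
  obtain ⟨c1, c2⟩ := cart_pos_both T huc h3
  have pa := one_le_prod a1 a2
  have pb := one_le_prod b1 b2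
  have pc := one_le_prod c1 c2
  exact ⟨eq_one_of_prod_le_one a1 a2 (by linarith), eq_one_of_prod_le_one b1 b2 (by linarith),
    eq_one_of_prod_le_one c1 c2 (by linarith)⟩

theorem card_le_of_cover (e : ℕ → Fin n) (L : List ℕ) (h : ∀ v, ∃ k ∈ L, e k = v) :
    n ≤ L.length := by
  classical
  have hsub : (univ : Finset (Fin n)) ⊆ (L.map e).toFinset := by
    intro v _
    obtain ⟨k, hk, rfl⟩ := h v
    simp only [List.mem_toFinset, List.mem_map]
    exact ⟨k, hk, rfl⟩
  calc n = (univ : Finset (Fin n)).card := by simp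
    _ ≤ (L.map e).toFinset.card := Finset.card_le_card hsub
    _ ≤ (L.map e).length := List.toFinset_card_le _
    _ = L.length := by simp

/-- the three possible edge types -/
theorem edge3 (hn : 3 < n) (hm2 : ∀ i, T.IsMinusTwo i) {x y : Fin n} (hxy : x ≠ y)
    (h : T.a x y ≠ 0) :
    (cart T x y = 1 ∧ cart T y x = 1) ∨ (cart T x y = 1 ∧ cart T y x = 2) ∨
      (cart T x y = 2 ∧ cart T y x = 1) := by
  classical
  have hI : ({x, y} : Finset (Fin n)) ≠ univ := by
    intro hh
    have h1 : ({x, y} : Finset (Fin n)).card ≤ 2 := Finset.card_le_two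
    rw [hh] at h1
    simp at h1
    omega
  obtain ⟨u, hu, z, hz, huz⟩ := T.connected {x, y} ⟨x, by simp⟩ hI
  simp only [Finset.mem_insert, Finset.mem_singleton, not_or] at hu hz
  have key : cart T x y * cart T y x ≤ 2 := by
    rcases hu with rfl | rfl
    · have := chain3' T hn hm2 hxy.symm (Ne.symm hz.1) (Ne.symm hz.2) (by rwa [a_symm]) huz
      obtain ⟨p1, p2⟩ := cart_pos_both T (Ne.symm hz.1) huz
      have := one_le_prod p1 p2
      linarith
    · have := chain3' T hn hm2 hxy (Ne.symm hz.2) (Ne.symm hz.1) h huz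
      obtain ⟨p1, p2⟩ := cart_pos_both T (Ne.symm hz.2) huz
      have := one_le_prod p1 p2
      nlinarith
  rcases pair5 T (by omega) hm2 hxy h with h1 | h1 | h1 | h1 | h1
  · exact Or.inl h1
  · exact Or.inr (Or.inl h1)
  · exact Or.inr (Or.inr h1)
  · rw [h1.1, h1.2] at key; omega
  · rw [h1.1, h1.2] at key; omega

end Groth.Agent.Lib.Helper85.NumGen
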