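import Mathlib
import Groth.Agent.Lib.Helper85.NumGen4

/-!
# Configurations of finite type do not occur (superharmonic vectors)
-/

set_option autoImplicit false
set_option linter.unusedSectionVars false
open Finset

namespace Groth.Agent.Lib.Helper85.NumGen

open Models Models.NumericalType Groth.Agent.Lib.Helper11

variable {n : ℕ} {T : Models.NumericalType n}

/-- superharmonic marks on a full enumeration -/
theorem SH (hm2 : ∀ i, T.IsMinusTwo i) (e : ℕ → Fin n) (hinj : Inj e n) (c : ℕ → ℤ)
    (nb : ℕ → List ℕ)
    (hnb : ∀ k, k < n → (∀ k' ∈ nb k, k' < n) ∧ (nb k).Nodup ∧ k ∉ nb k)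
    (hzero : ∀ k k', k < n → k' < n → k' ≠ k → k' ∉ nb k → cart T (e k) (e k') = 0)
    (hrow : ∀ k, k < n → ((nb k).map fun k' => cart T (e k) (e k') * c k').sum ≤ 2 * c k)
    (hstrict : ∃ k, k < n ∧ ((nb k).map fun k' => cart T (e k) (e k') * c k').sum < 2 * c k) :
    False := by
  have hsurj : ∀ v, ∃ k, k < n ∧ e k = v := by
    have hinj' : Function.Injective (fun k : Fin n => e k.val) :=
      fun a b h => Fin.ext (hinj _ _ a.isLt b.isLt h)
    intro v
    obtain ⟨k, hk⟩ := (Finite.injective_iff_surjective.1 hinj') v
    exact ⟨k.val, k.isLt, hk⟩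
  have hrowsum : ∀ k, k < n → ∑ j, cart T (e k) j * ymark e n c j =
      ((nb k).map fun k' => cart T (e k) (e k') * c k').sum - 2 * c k := by
    intro k hk
    obtain ⟨h1, h2, h3⟩ := hnb k hk
    rw [rowsum_eq T hm2 (ymark e n c) (e k) ((nb k).map e) (nodup_map_enum hinj _ h1 h2)
      (by
        intro hmem
        obtain ⟨k', hk', hkk'⟩ := List.mem_map.1 hmem
        exact h3 (hinj k' k (h1 k' hk') hk hkk' ▸ hk'))
      (by
        intro j hj hjl
        obtain ⟨k', hk', rfl⟩ := hsurj j
        apply hzero k k' hk hk'
        · intro hh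
          exact hj (by rw [hh])
        · intro hh
          exact hjl (List.mem_map.2 ⟨k', hh, rfl⟩)),
      sum_map_ymark T c hinj (e k) (nb k) h1, ymark_apply c hinj hk]
  refine superH T (ymark e n c) ?_ ?_
  · intro v
    obtain ⟨k, hk, rfl⟩ := hsurj v
    rw [hrowsum k hk]
    have := hrow k hk
    linarith
  · obtain ⟨k, hk, hlt⟩ := hstrict
    refine ⟨e k, ?_⟩
    rw [hrowsum k hk]
    linarith

/-- type A and C: a chain whose only possibly heavy edge is the first one, seen doubly from the
end vertex -/
theorem chainA_false (hn : 3 ≤ n) (hm2 : ∀ i, T.IsMinusTwo i) (e : ℕ → Fin n) (hinj : Inj e n)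
    (hz : ∀ k k', k < n → k' < n → k + 1 < k' →
      cart T (e k) (e k') = 0 ∧ cart T (e k') (e k) = 0)
    (hs : ∀ k, 1 ≤ k → k + 1 < n → cart T (e k) (e (k + 1)) = 1 ∧ cart T (e (k + 1)) (e k) = 1)
    (h10 : cart T (e 1) (e 0) = 1) (h01 : cart T (e 0) (e 1) ≤ 2) : False := by
  refine SH hm2 e hinj (fun _ => 1)
    (fun k => if k = 0 then [1] else if k + 1 = n then [k - 1] else [k - 1, k + 1]) ?_ ?_ ?_ ?_
  · intro k hk
    split_ifs with h1 h2
    · simp; omega
    · simp; omega
    · simp; omega
  · intro k k' hk hk' hne hnot
    rcases Nat.lt_or_ge (k + 1) k' with h | h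
    · exact (hz k k' hk hk' h).1
    · rcases Nat.lt_or_ge (k' + 1) k with h' | h'
      · exact (hz k' k hk' hk h').2
      · exfalso
        split_ifs at hnot with h1 h2
        · simp at hnot; omega
        · simp at hnot; omega
        · simp at hnot; omega
  · intro k hk
    split_ifs with h1 h2
    · subst h1
      simp only [List.map_cons, List.map_nil, List.sum_cons, List.sum_nil]
      linarith
    · simp only [List.map_cons, List.map_nil, List.sum_cons, List.sum_nil]
      rcases Nat.lt_or_ge 1 k with h | h
      · have := (hs (k - 1) (by omega) (by omega)).2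
        rw [show k - 1 + 1 = k by omega] at this
        linarith
      · have : k = 1 := by omega
        subst this
        simp only [Nat.sub_self]
        linarith
    · simp only [List.map_cons, List.map_nil, List.sum_cons, List.sum_nil]
      have h3 := (hs k (by omega) (by omega)).1
      rcases Nat.lt_or_ge 1 k with h | h
      · have := (hs (k - 1) (by omega) (by omega)).2
        rw [show k - 1 + 1 = k by omega] at this
        linarith
      · have : k = 1 := by omega
        subst this
        simp only [Nat.sub_self]
        linarith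
  · refine ⟨n - 1, by omega, ?_⟩
    rw [if_neg (by omega), if_pos (by omega)]
    simp only [List.map_cons, List.map_nil, List.sum_cons, List.sum_nil]
    have := (hs (n - 2) (by omega) (by omega)).2
    rw [show n - 2 + 1 = n - 1 by omega] at this
    rw [show n - 1 - 1 = n - 2 by omega]
    linarith

/-- type B: a chain whose only heavy edge is the first one, seen doubly from the second vertex -/
theorem chainB_false (hn : 3 ≤ n) (hm2 : ∀ i, T.IsMinusTwo i) (e : ℕ → Fin n) (hinj : Inj e n)
    (hz : ∀ k k', k < n → k' < n → k + 1 < k' →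
      cart T (e k) (e k') = 0 ∧ cart T (e k') (e k) = 0)
    (hs : ∀ k, 1 ≤ k → k + 1 < n → cart T (e k) (e (k + 1)) = 1 ∧ cart T (e (k + 1)) (e k) = 1)
    (h10 : cart T (e 1) (e 0) = 2) (h01 : cart T (e 0) (e 1) = 1) : False := by
  refine SH hm2 e hinj (fun k => if k = 0 then 1 else 2)
    (fun k => if k = 0 then [1] else if k + 1 = n then [k - 1] else [k - 1, k + 1]) ?_ ?_ ?_ ?_
  · intro k hk
    split_ifs with h1 h2
    · simp; omega
    · simp; omega
    · simp; omega
  · intro k k' hk hk' hne hnot
    rcases Nat.lt_or_ge (k + 1) k' with h | h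
    · exact (hz k k' hk hk' h).1
    · rcases Nat.lt_or_ge (k' + 1) k with h' | h'
      · exact (hz k' k hk' hk h').2
      · exfalso
        split_ifs at hnot with h1 h2
        · simp at hnot; omega
        · simp at hnot; omega
        · simp at hnot; omega
  · intro k hk
    split_ifs with h1 h2
    · subst h1
      simp only [List.map_cons, List.map_nil, List.sum_cons, List.sum_nil]
      norm_num
      linarith
    · simp only [List.map_cons, List.map_nil, List.sum_cons, List.sum_nil]
      rw [if_neg (by omega)]
      have := (hs (k - 1) (by omega) (by omega)).2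
      rw [show k - 1 + 1 = k by omega] at this
      linarith
    · simp only [List.map_cons, List.map_nil, List.sum_cons, List.sum_nil]
      have h3 := (hs k (by omega) (by omega)).1
      rw [if_neg (by omega : ¬ k + 1 = 0)]
      rcases Nat.lt_or_ge 1 k with h | h
      · have := (hs (k - 1) (by omega) (by omega)).2
        rw [show k - 1 + 1 = k by omega] at this
        rw [if_neg (by omega)]
        linarith
      · have : k = 1 := by omega
        subst this
        simp only [Nat.sub_self, if_true]
        linarith
  · refine ⟨n - 1, by omega, ?_⟩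
    rw [if_neg (by omega), if_pos (by omega)]
    simp only [List.map_cons, List.map_nil, List.sum_cons, List.sum_nil]
    have := (hs (n - 2) (by omega) (by omega)).2
    rw [show n - 2 + 1 = n - 1 by omega] at this
    rw [show n - 1 - 1 = n - 2 by omega, if_neg (by omega), if_neg (by omega)]
    linarith

/-- type D: a chain `0 … n-2` with the vertex `n-1` attached to `n-3`, all edges simple -/
theorem chainD_false (hn : 5 ≤ n) (hm2 : ∀ i, T.IsMinusTwo i) (e : ℕ → Fin n) (hinj : Inj e n)
    (hs : ∀ k, k + 2 < n → cart T (e k) (e (k + 1)) = 1 ∧ cart T (e (k + 1)) (e k) = 1)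
    (hx : cart T (e (n - 3)) (e (n - 1)) = 1 ∧ cart T (e (n - 1)) (e (n - 3)) = 1)
    (hz : ∀ k k', k < n → k' < n → k + 1 < k' → ¬(k + 3 = n ∧ k' + 1 = n) →
      cart T (e k) (e k') = 0 ∧ cart T (e k') (e k) = 0)
    (hz' : cart T (e (n - 2)) (e (n - 1)) = 0 ∧ cart T (e (n - 1)) (e (n - 2)) = 0) : False := by
  refine SH hm2 e hinj (fun k => if k + 2 < n then 2 else 1)
    (fun k => if k = 0 then [1] else if k + 3 < n then [k - 1, k + 1] else
      if k + 3 = n then [k - 1, k + 1, k + 2] else if k + 2 = n then [k - 1] else [k - 2])
    ?_ ?_ ?_ ?_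
  · intro k hk
    split_ifs with h1 h2 h3 h4
    · simp; omega
    · simp; omega
    · simp; omega
    · simp; omega
    · simp; omega
  · intro k k' hk hk' hne hnot
    by_cases c1 : k + 2 = n ∧ k' + 1 = n
    · rw [show k = n - 2 by omega, show k' = n - 1 by omega]
      exact hz'.1
    by_cases c2 : k + 1 = n ∧ k' + 2 = n
    · rw [show k = n - 1 by omega, show k' = n - 2 by omega]
      exact hz'.2
    by_cases c3 : k + 1 < k' ∧ ¬(k + 3 = n ∧ k' + 1 = n)
    · exact (hz k k' hk hk' c3.1 c3.2).1
    by_cases c4 : k' + 1 < k ∧ ¬(k' + 3 = n ∧ k + 1 = n)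
    · exact (hz k' k hk' hk c4.1 c4.2).2
    exfalso
    split_ifs at hnot with h1 h2 h3 h4
    · simp at hnot; omega
    · simp at hnot; omega
    · simp at hnot; omega
    · simp at hnot; omega
    · simp at hnot; omega
  · intro k hk
    split_ifs with h1 h2 h3 h4 h5
    · subst h1
      simp only [List.map_cons, List.map_nil, List.sum_cons, List.sum_nil]
      rw [if_pos (by omega)]
      have := (hs 0 (by omega)).1
      simp only [zero_add] at this
      linarith
    · omega
    · simp only [List.map_cons, List.map_nil, List.sum_cons, List.sum_nil]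
      rw [if_pos (by omega), if_pos (by omega)]
      have a1 := (hs (k - 1) (by omega)).2
      rw [show k - 1 + 1 = k by omega] at a1
      have a2 := (hs k (by omega)).1
      linarith
    · omega
    · simp only [List.map_cons, List.map_nil, List.sum_cons, List.sum_nil]
      rw [if_pos (by omega), if_neg (by omega), if_neg (by omega)]
      have a1 := (hs (k - 1) (by omega)).2
      rw [show k - 1 + 1 = k by omega] at a1
      have a2 := (hs k (by omega)).1
      have a3 := hx.1
      rw [show n - 3 = k by omega, show n - 1 = k + 2 by omega] at a3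
      linarith
    · omega
    · omega
    · simp only [List.map_cons, List.map_nil, List.sum_cons, List.sum_nil]
      rw [if_pos (by omega)]
      have a1 := (hs (k - 1) (by omega)).2
      rw [show k - 1 + 1 = k by omega] at a1
      linarith
    · omega
    · simp only [List.map_cons, List.map_nil, List.sum_cons, List.sum_nil]
      rw [if_pos (by omega)]
      have a3 := hx.2
      rw [show n - 3 = k - 2 by omega, show n - 1 = k by omega] at a3
      linarith
  · refine ⟨0, by omega, ?_⟩
    rw [if_pos rfl, if_pos (by omega)]
    simp only [List.map_cons, List.map_nil, List.sum_cons, List.sum_nil]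
    rw [if_pos (by omega)]
    have := (hs 0 (by omega)).1
    simp only [zero_add] at this
    linarith

end Groth.Agent.Lib.Helper85.NumGen
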