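import Mathlib
import Groth.Agent.Lib.Helper85.NumGen6
import Groth.Agent.Lib.Helper85.NumGen7
import Groth.Agent.Lib.Helper85.NumGen8
import Groth.Agent.Lib.Helper85.NumGen9

/-!
# The case of a Hamiltonian path
-/

set_option autoImplicit false
set_option linter.unusedSectionVars false
open Finset

namespace Groth.Agent.Lib.Helper85.NumGen

open Models Models.NumericalType Groth.Agent.Lib.Helper11

variable {n : ℕ} {T : Models.NumericalType n}

/-- the conclusion of the classification -/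
def Concl (T : Models.NumericalType n) : Prop :=
  ∃ (σ : Equiv.Perm (Fin n)) (m w : ℤ), Fam1 T σ m w ∨ Fam2 T σ m w ∨ Fam3 T σ m w ∨
    Fam4 T σ m w ∨ Fam5 T σ m w ∨ Fam6 T σ m w ∨ Fam7 T σ m w

/-- a chain with at most one heavy edge, at the beginning, does not occur -/
theorem chain_oneheavy_false (hn : 3 ≤ n) (hm2 : ∀ i, T.IsMinusTwo i) (e : ℕ → Fin n)
    (hinj : Inj e n)
    (hz : ∀ k k', k < n → k' < n → k + 1 < k' →
      cart T (e k) (e k') = 0 ∧ cart T (e k') (e k) = 0)
    (hs : ∀ k, 1 ≤ k → k + 1 < n → cart T (e k) (e (k + 1)) = 1 ∧ cart T (e (k + 1)) (e k) = 1)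
    (hfirst : (cart T (e 0) (e 1) = 1 ∧ cart T (e 1) (e 0) = 1) ∨
      (cart T (e 0) (e 1) = 1 ∧ cart T (e 1) (e 0) = 2) ∨
      (cart T (e 0) (e 1) = 2 ∧ cart T (e 1) (e 0) = 1)) : False := by
  rcases hfirst with h | h | h
  · exact chainA_false hn hm2 e hinj hz hs h.2 (by rw [h.1]; norm_num)
  · exact chainB_false hn hm2 e hinj hz hs h.2 h.1
  · exact chainA_false hn hm2 e hinj hz hs h.2 (by rw [h.1])

/-- the decorated path of a chain with two heavy end edges -/
theorem chain_DP (hn : 4 ≤ n) (hm2 : ∀ i, T.IsMinusTwo i) {e : ℕ → Fin n} (hP : IsPath T e n)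
    (y0 y1 : ℤ)
    (h0 : (y0 = 1 ∧ 2 ≤ cart T (e 1) (e 0)) ∨ (y0 = 2 ∧ 2 ≤ cart T (e 0) (e 1)))
    (h1 : (y1 = 1 ∧ 2 ≤ cart T (e (n - 2)) (e (n - 1))) ∨
      (y1 = 2 ∧ 2 ≤ cart T (e (n - 1)) (e (n - 2)))) :
    DPOut T e n 1 (n - 2) [(0, y0)] [(n - 1, y1)] := by
  have hne01 : e 0 ≠ e 1 := fun h => by have := hP.1 0 1 (by omega) (by omega) h; omega
  have hnel : e (n - 2) ≠ e (n - 1) := fun h => by
    have := hP.1 (n - 2) (n - 1) (by omega) (by omega) h; omega
  have a01 := hP.2 0 (by omega)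
  have al := hP.2 (n - 2) (by omega)
  rw [show n - 2 + 1 = n - 1 by omega] at al
  simp only [zero_add] at a01
  obtain ⟨p01, p10⟩ := cart_pos_both T hne01 a01
  obtain ⟨pl1, pl2⟩ := cart_pos_both T hnel al
  refine DP T hm2 e n hP.1 1 (n - 2) (by omega) (by omega) (fun k _ hk => hP.2 k (by omega))
    [(0, y0)] [(n - 1, y1)] ?_ ?_ ?_ ?_ ?_ ?_
  · intro d hd
    simp only [List.cons_append, List.nil_append, List.mem_cons, List.not_mem_nil, or_false] at hd
    rcases hd with rfl | rfl
    · refine ⟨by simp; omega, by simp, ?_⟩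
      rcases h0 with h | h <;> simp [h.1]
    · refine ⟨by simp; omega, by simp; omega, ?_⟩
      rcases h1 with h | h <;> simp [h.1]
  · simp only [List.cons_append, List.nil_append, List.map_cons, List.map_nil, List.nodup_cons,
      List.mem_cons, List.not_mem_nil, or_false, not_false_eq_true, List.nodup_nil, and_true]
    omega
  · intro d hd
    simp only [List.mem_cons, List.not_mem_nil, or_false] at hd
    subst hd
    rcases h0 with h | h
    · simp only [h.1]; exact p01
    · simp only [h.1]; exact h.2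
  · intro d hd
    simp only [List.mem_cons, List.not_mem_nil, or_false] at hd
    subst hd
    rcases h1 with h | h
    · simp only [h.1]; exact pl2
    · simp only [h.1]; exact h.2
  · simp only [List.map_cons, List.map_nil, List.sum_cons, List.sum_nil, add_zero]
    rcases h0 with h | h
    · rw [h.1]; linarith [h.2]
    · rw [h.1]; linarith
  · simp only [List.map_cons, List.map_nil, List.sum_cons, List.sum_nil, add_zero]
    rcases h1 with h | h
    · rw [h.1]; linarith [h.2]
    · rw [h.1]; linarith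

theorem rev_apply (p : ℕ → Fin n) (t k : ℕ) : rev p t k = p (t - 1 - k) := rfl

/-- the case of a Hamiltonian path without chords -/
theorem ham_case (hn : 10 ≤ n) (hm2 : ∀ i, T.IsMinusTwo i) {p : ℕ → Fin n} (hP : IsPath T p n)
    (hnc : ∀ i j, i + 2 ≤ j → j < n → T.a (p i) (p j) = 0) : Concl T := by
  have hne : ∀ a b, a < n → b < n → a ≠ b → p a ≠ p b := fun a b ha hb hab h =>
    hab (hP.1 a b ha hb h)
  have hzc : ∀ k k', k < n → k' < n → k + 1 < k' →
      cart T (p k) (p k') = 0 ∧ cart T (p k') (p k) = 0 := by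
    intro k k' hk hk' hkk'
    have := hnc k k' (by omega) hk'
    exact ⟨(cart_eq_zero_iff T).2 this, (cart_eq_zero_iff T).2 (by rwa [a_symm])⟩
  have hint : ∀ k, 1 ≤ k → k + 2 < n →
      cart T (p k) (p (k + 1)) = 1 ∧ cart T (p (k + 1)) (p k) = 1 := fun k h1 h2 =>
    interior_simple (by omega) hm2 hP k h1 h2 (by omega)
  have hfirst := edge3 (by omega) hm2 (hne 0 1 (by omega) (by omega) (by omega))
    (hP.edge 0 1 rfl (by omega))
  have hlast := edge3 (by omega) hm2 (hne (n - 2) (n - 1) (by omega) (by omega) (by omega))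
    (hP.edge (n - 2) (n - 1) (by omega) (by omega))
  by_cases hL : cart T (p (n - 2)) (p (n - 1)) = 1 ∧ cart T (p (n - 1)) (p (n - 2)) = 1
  · exfalso
    refine chain_oneheavy_false (by omega) hm2 p hP.1 hzc (fun k h1 h2 => ?_) hfirst
    rcases Nat.lt_or_ge (k + 2) n with h | h
    · exact hint k h1 h
    · rw [show k = n - 2 by omega, show n - 2 + 1 = n - 1 by omega]
      exact hL
  by_cases hF : cart T (p 0) (p 1) = 1 ∧ cart T (p 1) (p 0) = 1
  · exfalso
    refine chain_oneheavy_false (by omega) hm2 (rev p n) hP.rev.1 ?_ ?_ ?_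
    · intro k k' hk hk' hkk'
      simp only [rev_apply]
      have := hzc (n - 1 - k') (n - 1 - k) (by omega) (by omega) (by omega)
      exact ⟨this.2, this.1⟩
    · intro k h1 h2
      simp only [rev_apply]
      rcases Nat.lt_or_ge (k + 2) n with h | h
      · have := hint (n - 1 - (k + 1)) (by omega) (by omega)
        rw [show n - 1 - (k + 1) + 1 = n - 1 - k by omega] at this
        exact ⟨this.2, this.1⟩
      · rw [show n - 1 - k = 1 by omega, show n - 1 - (k + 1) = 0 by omega]
        exact ⟨hF.2, hF.1⟩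
    · simp only [rev_apply]
      rw [show n - 1 - 0 = n - 1 by omega, show n - 1 - 1 = n - 2 by omega]
      rcases hlast with h | h | h
      · exact Or.inl ⟨h.2, h.1⟩
      · exact Or.inr (Or.inr ⟨h.2, h.1⟩)
      · exact Or.inr (Or.inl ⟨h.2, h.1⟩)
  -- both end edges are heavy
  have hF' : (cart T (p 0) (p 1) = 1 ∧ cart T (p 1) (p 0) = 2) ∨
      (cart T (p 0) (p 1) = 2 ∧ cart T (p 1) (p 0) = 1) := by
    rcases hfirst with h | h | h
    · exact absurd h hF
    · exact Or.inl h
    · exact Or.inr h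
  have hL' : (cart T (p (n - 2)) (p (n - 1)) = 1 ∧ cart T (p (n - 1)) (p (n - 2)) = 2) ∨
      (cart T (p (n - 2)) (p (n - 1)) = 2 ∧ cart T (p (n - 1)) (p (n - 2)) = 1) := by
    rcases hlast with h | h | h
    · exact absurd h hL
    · exact Or.inl h
    · exact Or.inr h
  rcases hF' with f | f
  · rcases hL' with l | l
    · -- H1 at the start, H2 at the end: reverse
      have hDP := chain_DP (by omega) hm2 hP.rev 2 1
        (Or.inr ⟨rfl, by
          simp only [rev_apply]
          rw [show n - 1 - 0 = n - 1 by omega, show n - 1 - 1 = n - 2 by omega, l.2]⟩)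
        (Or.inl ⟨rfl, by
          simp only [rev_apply]
          rw [show n - 1 - (n - 2) = 1 by omega, show n - 1 - (n - 1) = 0 by omega, f.2]⟩)
      exact ⟨_, _, _, Or.inr (Or.inl (fam2_of_DP hn hP.rev.1 hDP))⟩
    · have hDP := chain_DP (by omega) hm2 hP 1 1
        (Or.inl ⟨rfl, by rw [f.2]⟩) (Or.inl ⟨rfl, by rw [l.1]⟩)
      exact ⟨_, _, _, Or.inr (Or.inr (Or.inr (Or.inl (fam4_of_DP hn hP.1 hDP))))⟩
  · rcases hL' with l | l
    · have hDP := chain_DP (by omega) hm2 hP 2 2
        (Or.inr ⟨rfl, by rw [f.1]⟩) (Or.inr ⟨rfl, by rw [l.2]⟩)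
      exact ⟨_, _, _, Or.inr (Or.inr (Or.inl (fam3_of_DP hn hP.1 hDP)))⟩
    · have hDP := chain_DP (by omega) hm2 hP 2 1
        (Or.inr ⟨rfl, by rw [f.1]⟩) (Or.inl ⟨rfl, by rw [l.1]⟩)
      exact ⟨_, _, _, Or.inr (Or.inl (fam2_of_DP hn hP.1 hDP))⟩

end Groth.Agent.Lib.Helper85.NumGen
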