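import Mathlib
import Groth.Agent.Lib.Helper85.NumGen10

/-!
# The case of a longest path which is not Hamiltonian
-/

set_option autoImplicit false
set_option linter.unusedSectionVars false
open Finset

namespace Groth.Agent.Lib.Helper85.NumGen

open Models Models.NumericalType Groth.Agent.Lib.Helper11

variable {n : ℕ} {T : Models.NumericalType n}

theorem fam5_of_DP' (hn : 10 ≤ n) (hm2 : ∀ i, T.IsMinusTwo i) {e : ℕ → Fin n}
    {N a b j0 j1 j2 : ℕ} (hinj : Inj e N) (hN : N = n) (ha : a = 1) (hb : b = n - 3)
    (h0 : j0 = 0) (h1 : j1 = n - 2) (h2 : j2 = n - 1)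
    (h : DPOut T e N a b [(j0, 1)] [(j1, 1), (j2, 1)]) : Concl T := by
  subst hN ha hb h0 h1 h2
  exact ⟨_, _, _, Or.inr (Or.inr (Or.inr (Or.inr (Or.inl (fam5_of_DP hn hm2 hinj h)))))⟩

theorem fam6_of_DP' (hn : 10 ≤ n) (hm2 : ∀ i, T.IsMinusTwo i) {e : ℕ → Fin n}
    {N a b j0 j1 j2 : ℕ} (hinj : Inj e N) (hN : N = n) (ha : a = 1) (hb : b = n - 3)
    (h0 : j0 = 0) (h1 : j1 = n - 2) (h2 : j2 = n - 1)
    (h : DPOut T e N a b [(j0, 2)] [(j1, 1), (j2, 1)]) : Concl T := by
  subst hN ha hb h0 h1 h2
  exact ⟨_, _, _, Or.inr (Or.inr (Or.inr (Or.inr (Or.inr (Or.inl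
    (fam6_of_DP hn hm2 hinj h))))))⟩

/-- a heavy edge of the path on the left of a branch vertex -/
theorem caseA (hn : 10 ≤ n) (hm2 : ∀ i, T.IsMinusTwo i) {p : ℕ → Fin n} {t : ℕ}
    (hP : IsPath T p t) {x : Fin n} (hx : ∀ k, k < t → p k ≠ x) (i j : ℕ) (hji : j + 1 ≤ i)
    (hit : i + 1 < t) (hix : T.a (p i) x ≠ 0)
    (hheavy : 2 ≤ cart T (p (j + 1)) (p j) ∨ 2 ≤ cart T (p j) (p (j + 1))) : Concl T := by
  have hinj : Inj (snoc p t x) (t + 1) := hP.1.snoc hx
  have e1 : ∀ k, k < t → snoc p t x k = p k := fun k hk => snoc_lt _ _ hk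
  have e2 : snoc p t x t = x := snoc_ge _ _ le_rfl
  have hne : ∀ a b, a < t → b < t → a ≠ b → p a ≠ p b := fun a b ha hb hab h =>
    hab (hP.1 a b ha hb h)
  obtain ⟨pj1, pj2⟩ := cart_pos_both T (hne j (j + 1) (by omega) (by omega) (by omega))
    (hP.edge j (j + 1) rfl (by omega))
  obtain ⟨pi1, pi2⟩ := cart_pos_both T (hne i (i + 1) (by omega) (by omega) (by omega))
    (hP.edge i (i + 1) rfl (by omega))
  obtain ⟨px1, px2⟩ := cart_pos_both T (hx i (by omega)) hix
  have key : ∀ y : ℤ, (y = 1 ∧ 2 ≤ cart T (p (j + 1)) (p j)) ∨ (y = 2 ∧ 2 ≤ cart T (p j) (p (j + 1))) →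
      DPOut T (snoc p t x) (t + 1) (j + 1) i [(j, y)] [(i + 1, 1), (t, 1)] := by
    intro y hy
    refine DP T hm2 _ (t + 1) hinj (j + 1) i hji (by omega) ?_ [(j, y)] [(i + 1, 1), (t, 1)]
      ?_ ?_ ?_ ?_ ?_ ?_
    · intro k hk1 hk2
      rw [e1 k (by omega), e1 (k + 1) (by omega)]
      exact hP.2 k (by omega)
    · intro d hd
      simp only [List.cons_append, List.nil_append, List.mem_cons, List.not_mem_nil, or_false]
        at hd
      rcases hd with rfl | rfl | rfl
      · refine ⟨by simp; omega, by simp, ?_⟩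
        rcases hy with h | h <;> simp [h.1]
      · exact ⟨by simp; omega, by simp, by simp⟩
      · exact ⟨by simp, by simp; omega, by simp⟩
    · simp only [List.cons_append, List.nil_append, List.map_cons, List.map_nil,
        List.nodup_cons, List.mem_cons, List.not_mem_nil, or_false, not_false_eq_true,
        List.nodup_nil, and_true]
      omega
    · intro d hd
      simp only [List.mem_cons, List.not_mem_nil, or_false] at hd
      subst hd
      simp only
      rw [e1 j (by omega), e1 (j + 1) (by omega)]
      rcases hy with h | h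
      · rw [h.1]; exact pj1
      · rw [h.1]; exact h.2
    · intro d hd
      simp only [List.mem_cons, List.not_mem_nil, or_false] at hd
      rcases hd with rfl | rfl
      · simp only
        rw [e1 (i + 1) (by omega), e1 i (by omega)]
        exact pi2
      · simp only
        rw [e2, e1 i (by omega)]
        exact px2
    · simp only [List.map_cons, List.map_nil, List.sum_cons, List.sum_nil, add_zero]
      rw [e1 j (by omega), e1 (j + 1) (by omega)]
      rcases hy with h | h
      · rw [h.1]; linarith [h.2]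
      · rw [h.1]; linarith
    · simp only [List.map_cons, List.map_nil, List.sum_cons, List.sum_nil, add_zero]
      rw [e1 (i + 1) (by omega), e1 i (by omega), e2]
      linarith
  have fin : ∀ y : ℤ, DPOut T (snoc p t x) (t + 1) (j + 1) i [(j, y)] [(i + 1, 1), (t, 1)] →
      j = 0 ∧ i + 2 = t ∧ t + 1 = n := by
    intro y hDP
    have c0 : ∀ k, k < t + 1 → (j + 1 ≤ k ∧ k ≤ i) ∨ k = j ∨ k = i + 1 ∨ k = t := by
      intro k hk
      obtain ⟨k2, hk2, hk2e, hrole⟩ := hDP.cover (snoc p t x k)
      obtain rfl : k2 = k := hinj k2 k hk2 hk hk2e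
      rcases hrole with h | ⟨d, hd, hdk⟩
      · exact Or.inl h
      · simp only [List.cons_append, List.nil_append, List.mem_cons, List.not_mem_nil,
          or_false] at hd
        rcases hd with rfl | rfl | rfl
        · exact Or.inr (Or.inl hdk.symm)
        · exact Or.inr (Or.inr (Or.inl hdk.symm))
        · exact Or.inr (Or.inr (Or.inr hdk.symm))
    have h0 := c0 0 (by omega)
    have h1 := c0 (t - 1) (by omega)
    refine ⟨by omega, by omega, ?_⟩
    exact hinj.eq_of_surj fun v => by
      obtain ⟨k, hk, hkv, -⟩ := hDP.cover v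
      exact ⟨k, hk, hkv⟩
  rcases hheavy with h | h
  · have hDP := key 1 (Or.inl ⟨rfl, h⟩)
    obtain ⟨f1, f2, f3⟩ := fin 1 hDP
    exact fam5_of_DP' hn hm2 hinj f3 (by omega) (by omega) f1 (by omega) (by omega) hDP
  · have hDP := key 2 (Or.inr ⟨rfl, h⟩)
    obtain ⟨f1, f2, f3⟩ := fin 2 hDP
    exact fam6_of_DP' hn hm2 hinj f3 (by omega) (by omega) f1 (by omega) (by omega) hDP

/-- two branch vertices on the path -/
theorem two_forks (hn : 10 ≤ n) (hm2 : ∀ i, T.IsMinusTwo i) {p : ℕ → Fin n} {t : ℕ}
    (hP : IsPath T p t) {x x' : Fin n} (hx : ∀ k, k < t → p k ≠ x) (hx' : ∀ k, k < t → p k ≠ x')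
    (hxx' : x ≠ x') (i i' : ℕ) (h1i : 1 ≤ i) (hii' : i < i') (hi't : i' + 1 < t)
    (hix : T.a (p i) x ≠ 0) (hix' : T.a (p i') x' ≠ 0) : Concl T := by
  have hinj : Inj (snoc (snoc p t x) (t + 1) x') (t + 2) :=
    (hP.1.snoc hx).snoc (by
      intro k hk
      by_cases hkt : k < t
      · rw [snoc_lt _ _ hkt]
        exact hx' k hkt
      · rw [snoc_ge _ _ (by omega)]
        exact hxx')
  have e1 : ∀ k, k < t → snoc (snoc p t x) (t + 1) x' k = p k := fun k hk => by
    rw [snoc_lt _ _ (by omega), snoc_lt _ _ hk]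
  have e2 : snoc (snoc p t x) (t + 1) x' t = x := by
    rw [snoc_lt _ _ (by omega), snoc_ge _ _ le_rfl]
  have e3 : snoc (snoc p t x) (t + 1) x' (t + 1) = x' := snoc_ge _ _ le_rfl
  have hne : ∀ a b, a < t → b < t → a ≠ b → p a ≠ p b := fun a b ha hb hab h =>
    hab (hP.1 a b ha hb h)
  have pos : ∀ a, a + 1 < t → 1 ≤ cart T (p a) (p (a + 1)) ∧ 1 ≤ cart T (p (a + 1)) (p a) :=
    fun a ha => cart_pos_both T (hne a (a + 1) (by omega) ha (by omega)) (hP.2 a ha)
  obtain ⟨px1, px2⟩ := cart_pos_both T (hx i (by omega)) hix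
  obtain ⟨px1', px2'⟩ := cart_pos_both T (hx' i' (by omega)) hix'
  have hDP1 : DPOut T (snoc (snoc p t x) (t + 1) x') (t + 2) i i' [(i - 1, 1), (t, 1)]
      [(i' + 1, 1), (t + 1, 1)] := by
    refine DP T hm2 _ (t + 2) hinj i i' (le_of_lt hii') (by omega) ?_ _ _ ?_ ?_ ?_ ?_ ?_ ?_
    · intro k hk1 hk2
      rw [e1 k (by omega), e1 (k + 1) (by omega)]
      exact hP.2 k (by omega)
    · intro d hd
      simp only [List.cons_append, List.nil_append, List.mem_cons, List.not_mem_nil, or_false]
        at hd
      rcases hd with rfl | rfl | rfl | rfl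
      · exact ⟨by simp; omega, by simp; omega, by simp⟩
      · exact ⟨by simp, by simp; omega, by simp⟩
      · exact ⟨by simp; omega, by simp, by simp⟩
      · exact ⟨by simp, by simp; omega, by simp⟩
    · simp only [List.cons_append, List.nil_append, List.map_cons, List.map_nil,
        List.nodup_cons, List.mem_cons, List.not_mem_nil, or_false, not_false_eq_true,
        List.nodup_nil, and_true]
      omega
    · intro d hd
      simp only [List.mem_cons, List.not_mem_nil, or_false] at hd
      rcases hd with rfl | rfl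
      · simp only
        rw [e1 (i - 1) (by omega), e1 i (by omega)]
        have := (pos (i - 1) (by omega)).1
        rwa [show i - 1 + 1 = i by omega] at this
      · simp only
        rw [e2, e1 i (by omega)]
        exact px2
    · intro d hd
      simp only [List.mem_cons, List.not_mem_nil, or_false] at hd
      rcases hd with rfl | rfl
      · simp only
        rw [e1 (i' + 1) (by omega), e1 i' (by omega)]
        exact (pos i' (by omega)).2
      · simp only
        rw [e3, e1 i' (by omega)]
        exact px2'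
    · simp only [List.map_cons, List.map_nil, List.sum_cons, List.sum_nil, add_zero]
      rw [e1 (i - 1) (by omega), e1 i (by omega), e2]
      have := (pos (i - 1) (by omega)).2
      rw [show i - 1 + 1 = i by omega] at this
      linarith
    · simp only [List.map_cons, List.map_nil, List.sum_cons, List.sum_nil, add_zero]
      rw [e1 (i' + 1) (by omega), e1 i' (by omega), e3]
      have := (pos i' (by omega)).1
      linarith
  have c0 : ∀ k, k < t + 2 →
      (i ≤ k ∧ k ≤ i') ∨ k = i - 1 ∨ k = t ∨ k = i' + 1 ∨ k = t + 1 := by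
    intro k hk
    obtain ⟨k2, hk2, hk2e, hrole⟩ := hDP1.cover (snoc (snoc p t x) (t + 1) x' k)
    obtain rfl : k2 = k := hinj k2 k hk2 hk hk2e
    rcases hrole with h | ⟨d, hd, hdk⟩
    · exact Or.inl h
    · simp only [List.cons_append, List.nil_append, List.mem_cons, List.not_mem_nil,
        or_false] at hd
      rcases hd with rfl | rfl | rfl | rfl
      · exact Or.inr (Or.inl hdk.symm)
      · exact Or.inr (Or.inr (Or.inl hdk.symm))
      · exact Or.inr (Or.inr (Or.inr (Or.inl hdk.symm)))
      · exact Or.inr (Or.inr (Or.inr (Or.inr hdk.symm)))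
  have h0 := c0 0 (by omega)
  have h1 := c0 (t - 1) (by omega)
  have hi1 : i = 1 := by omega
  have hi'2 : i' + 2 = t := by omega
  have htn : t + 2 = n := hinj.eq_of_surj fun v => by
    obtain ⟨k, hk, hkv, -⟩ := hDP1.cover v
    exact ⟨k, hk, hkv⟩
  subst hi1
  -- the enumeration in the order of the template
  obtain ⟨e', he'⟩ : ∃ e' : ℕ → Fin n, e' = fun k =>
      if k = 0 then p 0 else if k = 1 then x else if k ≤ t then p (k - 1) else x' := ⟨_, rfl⟩
  have f0 : e' 0 = p 0 := by rw [he']; simp
  have f1 : e' 1 = x := by rw [he']; simp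
  have f2 : ∀ k, 2 ≤ k → k ≤ t → e' k = p (k - 1) := by
    intro k h1 h2
    rw [he']
    simp only
    rw [if_neg (by omega), if_neg (by omega), if_pos h2]
  have f3 : e' (t + 1) = x' := by
    rw [he']
    simp only
    rw [if_neg (by omega), if_neg (by omega), if_neg (by omega)]
  have hinj' : Inj e' n := by
    intro a b ha hb hab
    rw [he'] at hab
    simp only at hab
    split_ifs at hab <;>
    first
      | omega
      | exact absurd hab (hx _ (by omega))
      | exact absurd hab.symm (hx _ (by omega))
      | exact absurd hab (hx' _ (by omega))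
      | exact absurd hab.symm (hx' _ (by omega))
      | exact absurd hab hxx'
      | exact absurd hab.symm hxx'
      | (have := hP.1 _ _ (by omega) (by omega) hab; omega)
  have hDP2 : DPOut T e' n 2 (n - 3) [(0, 1), (1, 1)] [(n - 2, 1), (n - 1, 1)] := by
    refine DP T hm2 e' n hinj' 2 (n - 3) (by omega) (by omega) ?_ _ _ ?_ ?_ ?_ ?_ ?_ ?_
    · intro k hk1 hk2
      rw [f2 k hk1 (by omega), f2 (k + 1) (by omega) (by omega)]
      have := hP.2 (k - 1) (by omega)
      rwa [show k - 1 + 1 = k by omega] at this
    · intro d hd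
      simp only [List.cons_append, List.nil_append, List.mem_cons, List.not_mem_nil, or_false]
        at hd
      rcases hd with rfl | rfl | rfl | rfl
      · exact ⟨by simp; omega, by simp, by simp⟩
      · exact ⟨by simp; omega, by simp, by simp⟩
      · exact ⟨by simp; omega, by simp; omega, by simp⟩
      · exact ⟨by simp; omega, by simp; omega, by simp⟩
    · simp only [List.cons_append, List.nil_append, List.map_cons, List.map_nil,
        List.nodup_cons, List.mem_cons, List.not_mem_nil, or_false, not_false_eq_true,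
        List.nodup_nil, and_true]
      omega
    · intro d hd
      simp only [List.mem_cons, List.not_mem_nil, or_false] at hd
      rcases hd with rfl | rfl
      · simp only
        rw [f0, f2 2 le_rfl (by omega)]
        exact (pos 0 (by omega)).1
      · simp only
        rw [f1, f2 2 le_rfl (by omega)]
        exact px2
    · intro d hd
      simp only [List.mem_cons, List.not_mem_nil, or_false] at hd
      rcases hd with rfl | rfl
      · simp only
        rw [f2 (n - 2) (by omega) (by omega), f2 (n - 3) (by omega) (by omega),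
          show n - 2 - 1 = i' + 1 by omega, show n - 3 - 1 = i' by omega]
        exact (pos i' (by omega)).2
      · simp only
        rw [show n - 1 = t + 1 by omega, f3, f2 (n - 3) (by omega) (by omega),
          show n - 3 - 1 = i' by omega]
        exact px2'
    · simp only [List.map_cons, List.map_nil, List.sum_cons, List.sum_nil, add_zero]
      rw [f0, f1, f2 2 le_rfl (by omega)]
      have := (pos 0 (by omega)).2
      simp only [zero_add] at this
      linarith
    · simp only [List.map_cons, List.map_nil, List.sum_cons, List.sum_nil, add_zero]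
      rw [f2 (n - 2) (by omega) (by omega), f2 (n - 3) (by omega) (by omega),
        show n - 1 = t + 1 by omega, f3,
        show n - 2 - 1 = i' + 1 by omega, show n - 3 - 1 = i' by omega]
      have := (pos i' (by omega)).1
      linarith
  exact ⟨_, _, _, Or.inr (Or.inr (Or.inr (Or.inr (Or.inr (Or.inr
    (fam7_of_DP hn hm2 hinj' hDP2))))))⟩

end Groth.Agent.Lib.Helper85.NumGen
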