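import Mathlib
import Groth.Agent.Lib.Helper85.NumGen11

/-!
# Remaining contradictions for a non-Hamiltonian longest path
-/

set_option autoImplicit false
set_option linter.unusedSectionVars false
open Finset

namespace Groth.Agent.Lib.Helper85.NumGen

open Models Models.NumericalType Groth.Agent.Lib.Helper11

variable {n : ℕ} {T : Models.NumericalType n}

/-- a vertex of the path with two neighbours off the path -/
theorem deg4_false (hn : 5 < n) (hm2 : ∀ i, T.IsMinusTwo i) {p : ℕ → Fin n} {t : ℕ}
    (hP : IsPath T p t) {x x' : Fin n} (hx : ∀ k, k < t → p k ≠ x) (hx' : ∀ k, k < t → p k ≠ x')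
    (hxx' : x ≠ x') (i : ℕ) (h1i : 1 ≤ i) (hit : i + 1 < t)
    (hix : T.a (p i) x ≠ 0) (hix' : T.a (p i) x' ≠ 0) : False := by
  have hinj : Inj (snoc (snoc p t x) (t + 1) x') (t + 2) :=
    (hP.1.snoc hx).snoc (by
      intro k hk
      by_cases hkt : k < t
      · rw [snoc_lt _ _ hkt]
        exact hx' k hkt
      · rw [snoc_ge _ _ (by omega)]
        exact hxx')
  have e1 : ∀ k, k < t → snoc (snoc p t x) (t + 1) x' k = p k := fun k hk => by
    rw [snoc_lt _ _ (by omega), snoc_lt _ _ hk]
  have e2 : snoc (snoc p t x) (t + 1) x' t = x := by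
    rw [snoc_lt _ _ (by omega), snoc_ge _ _ le_rfl]
  have e3 : snoc (snoc p t x) (t + 1) x' (t + 1) = x' := snoc_ge _ _ le_rfl
  have hne : ∀ a b, a < t → b < t → a ≠ b → p a ≠ p b := fun a b ha hb hab h =>
    hab (hP.1 a b ha hb h)
  have pos : ∀ a, a + 1 < t → 1 ≤ cart T (p a) (p (a + 1)) ∧ 1 ≤ cart T (p (a + 1)) (p a) :=
    fun a ha => cart_pos_both T (hne a (a + 1) (by omega) ha (by omega)) (hP.2 a ha)
  obtain ⟨px1, px2⟩ := cart_pos_both T (hx i (by omega)) hix
  obtain ⟨px1', px2'⟩ := cart_pos_both T (hx' i (by omega)) hix'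
  have hDP1 : DPOut T (snoc (snoc p t x) (t + 1) x') (t + 2) i i [(i - 1, 1), (i + 1, 1)]
      [(t, 1), (t + 1, 1)] := by
    refine DP T hm2 _ (t + 2) hinj i i le_rfl (by omega) ?_ _ _ ?_ ?_ ?_ ?_ ?_ ?_
    · intro k hk1 hk2
      omega
    · intro d hd
      simp only [List.cons_append, List.nil_append, List.mem_cons, List.not_mem_nil, or_false]
        at hd
      rcases hd with rfl | rfl | rfl | rfl
      · exact ⟨by simp; omega, by simp; omega, by simp⟩
      · exact ⟨by simp; omega, by simp, by simp⟩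
      · exact ⟨by simp, by simp; omega, by simp⟩
      · exact ⟨by simp, by simp; omega, by simp⟩
    · simp only [List.cons_append, List.nil_append, List.map_cons, List.map_nil,
        List.nodup_cons, List.mem_cons, List.not_mem_nil, or_false, not_false_eq_true,
        List.nodup_nil, and_true]
      omega
    · intro d hd
      simp only [List.mem_cons, List.not_mem_nil, or_false] at hd
      rcases hd with rfl | rfl
      · simp only
        rw [e1 (i - 1) (by omega), e1 i (by omega)]
        have := (pos (i - 1) (by omega)).1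
        rwa [show i - 1 + 1 = i by omega] at this
      · simp only
        rw [e1 (i + 1) (by omega), e1 i (by omega)]
        exact (pos i (by omega)).2
    · intro d hd
      simp only [List.mem_cons, List.not_mem_nil, or_false] at hd
      rcases hd with rfl | rfl
      · simp only
        rw [e2, e1 i (by omega)]
        exact px2
      · simp only
        rw [e3, e1 i (by omega)]
        exact px2'
    · simp only [List.map_cons, List.map_nil, List.sum_cons, List.sum_nil, add_zero]
      rw [e1 (i - 1) (by omega), e1 i (by omega), e1 (i + 1) (by omega)]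
      have := (pos (i - 1) (by omega)).2
      rw [show i - 1 + 1 = i by omega] at this
      have := (pos i (by omega)).1
      linarith
    · simp only [List.map_cons, List.map_nil, List.sum_cons, List.sum_nil, add_zero]
      rw [e1 i (by omega), e2, e3]
      linarith
  have := card_le_of_cover (snoc (snoc p t x) (t + 1) x') [i, i - 1, i + 1, t, t + 1] (by
    intro v
    obtain ⟨k, hk, hkv, hrole⟩ := hDP1.cover v
    refine ⟨k, ?_, hkv⟩
    rcases hrole with h | ⟨d, hd, hdk⟩
    · simp only [List.mem_cons, List.not_mem_nil, or_false]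
      omega
    · simp only [List.cons_append, List.nil_append, List.mem_cons, List.not_mem_nil,
        or_false] at hd
      simp only [List.mem_cons, List.not_mem_nil, or_false]
      rcases hd with rfl | rfl | rfl | rfl
      · exact Or.inr (Or.inl hdk.symm)
      · exact Or.inr (Or.inr (Or.inl hdk.symm))
      · exact Or.inr (Or.inr (Or.inr (Or.inl hdk.symm)))
      · exact Or.inr (Or.inr (Or.inr (Or.inr hdk.symm))))
  simp at this
  omega

/-- a vertex off the path joined to two vertices of the path -/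
theorem cycle_x_false (hm2 : ∀ i, T.IsMinusTwo i) {p : ℕ → Fin n} {t : ℕ}
    (hP : IsPath T p t) {x : Fin n} (hx : ∀ k, k < t → p k ≠ x) (i1 i2 : ℕ) (h1 : 1 ≤ i1)
    (h12 : i1 < i2) (h2 : i2 < t) (hx1 : T.a (p i1) x ≠ 0) (hx2 : T.a (p i2) x ≠ 0) : False := by
  have hq : IsPath T (snoc p (i2 + 1) x) (i2 + 1 + 1) :=
    (hP.mono (by omega : i2 + 1 ≤ t)).snoc (fun k hk => hx k (by omega)) (fun k hk => by
      rw [show k = i2 by omega]
      exact hx2)
  obtain ⟨hcov, -⟩ := chord hm2 hq i1 (i2 + 1) (by omega) (by omega) (by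
    rw [snoc_lt _ _ (by omega), snoc_ge _ _ le_rfl]
    exact hx1)
  obtain ⟨k, hk1, hk2, hk⟩ := hcov (p 0)
  by_cases hki : k < i2 + 1
  · rw [snoc_lt _ _ hki] at hk
    have := hP.1 k 0 (by omega) (by omega) hk
    omega
  · rw [snoc_ge _ _ (by omega)] at hk
    exact hx 0 (by omega) hk.symm

/-- the tree consisting of the path and one extra vertex, all edges simple -/
theorem finalB (hn : 10 ≤ n) (hm2 : ∀ i, T.IsMinusTwo i) {p : ℕ → Fin n} {t : ℕ}
    (hP : IsPath T p t) (htn : t + 1 = n) {x : Fin n} (hx : ∀ k, k < t → p k ≠ x)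
    (hsimple : ∀ k, k + 1 < t → cart T (p k) (p (k + 1)) = 1 ∧ cart T (p (k + 1)) (p k) = 1)
    (hnc : ∀ k k', k + 2 ≤ k' → k' < t → T.a (p k) (p k') = 0)
    (i : ℕ) (hix : T.a (p i) x ≠ 0) (hit : i < t)
    (honly : ∀ k, k < t → T.a (p k) x ≠ 0 → k = i)
    (hcase : i + 2 = t ∨ (5 ≤ i ∧ i + 2 < t) ∨ (3 ≤ i ∧ i + 3 < t)) : False := by
  rcases hcase with h | h | h
  · have hinj : Inj (snoc p t x) n := (hP.1.snoc hx).mono (by omega)
    have e1 : ∀ k, k < t → snoc p t x k = p k := fun k hk => snoc_lt _ _ hk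
    have e2 : snoc p t x t = x := snoc_ge _ _ le_rfl
    have hne : ∀ a b, a < t → b < t → a ≠ b → p a ≠ p b := fun a b ha hb hab h =>
      hab (hP.1 a b ha hb h)
    have hzero : ∀ k, k < t → k ≠ i → cart T (p k) x = 0 ∧ cart T x (p k) = 0 := by
      intro k hk hki
      have : T.a (p k) x = 0 := by
        by_contra hh
        exact hki (honly k hk hh)
      exact ⟨(cart_eq_zero_iff T).2 this, (cart_eq_zero_iff T).2 (by rwa [a_symm])⟩
    refine chainD_false (by omega) hm2 (snoc p t x) hinj ?_ ?_ ?_ ?_
    · intro k hk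
      rw [e1 k (by omega), e1 (k + 1) (by omega)]
      exact hsimple k (by omega)
    · rw [show n - 3 = i by omega, show n - 1 = t by omega, e1 i hit, e2]
      have hs := star_simple (by omega) hm2 (hne i (i - 1) hit (by omega) (by omega))
        (hne i (i + 1) hit (by omega) (by omega)) (hx i hit)
        (hne (i - 1) (i + 1) (by omega) (by omega) (by omega)) (hx (i - 1) (by omega))
        (hx (i + 1) (by omega))
        (by
          have := hP.2 (i - 1) (by omega)
          rw [show i - 1 + 1 = i by omega, a_symm] at this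
          exact this)
        (hP.2 i (by omega)) hix
      exact hs.2.2
    · intro k k' hk hk' hkk' hnot
      rcases Nat.lt_or_ge k' t with h1 | h1
      · rw [e1 k (by omega), e1 k' h1]
        have := hnc k k' (by omega) h1
        exact ⟨(cart_eq_zero_iff T).2 this, (cart_eq_zero_iff T).2 (by rwa [a_symm])⟩
      · rw [show k' = t by omega, e1 k (by omega), e2]
        exact hzero k (by omega) (by omega)
    · rw [show n - 2 = t - 1 by omega, show n - 1 = t by omega, e1 (t - 1) (by omega), e2]
      exact hzero (t - 1) (by omega) (by omega)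
  · exact E8_path (by omega) hm2 hP hx i h.1 h.2 hix
  · exact E7_path (by omega) hm2 hP hx i h.1 h.2 hix

theorem finalB_rev (hn : 10 ≤ n) (hm2 : ∀ i, T.IsMinusTwo i) {p : ℕ → Fin n} {t : ℕ}
    (hP : IsPath T p t) (htn : t + 1 = n) {x : Fin n} (hx : ∀ k, k < t → p k ≠ x)
    (hsimple : ∀ k, k + 1 < t → cart T (p k) (p (k + 1)) = 1 ∧ cart T (p (k + 1)) (p k) = 1)
    (hnc : ∀ k k', k + 2 ≤ k' → k' < t → T.a (p k) (p k') = 0)
    (i : ℕ) (hix : T.a (p i) x ≠ 0) (hit : i < t)
    (honly : ∀ k, k < t → T.a (p k) x ≠ 0 → k = i)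
    (hcase : i = 1 ∨ i = 2) : False := by
  refine finalB hn hm2 hP.rev htn (fun k hk => hx (t - 1 - k) (by omega)) ?_ ?_ (t - 1 - i) ?_
    (by omega) ?_ ?_
  · intro k hk
    simp only [rev_apply]
    have := hsimple (t - 1 - (k + 1)) (by omega)
    rw [show t - 1 - (k + 1) + 1 = t - 1 - k by omega] at this
    exact ⟨this.2, this.1⟩
  · intro k k' hkk' hk'
    simp only [rev_apply]
    have := hnc (t - 1 - k') (t - 1 - k) (by omega) (by omega)
    rwa [a_symm]
  · simp only [rev_apply]
    rw [show t - 1 - (t - 1 - i) = i by omega]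
    exact hix
  · intro k hk hkx
    simp only [rev_apply] at hkx
    have := honly (t - 1 - k) (by omega) hkx
    omega
  · rcases hcase with h | h
    · exact Or.inl (by omega)
    · exact Or.inr (Or.inl ⟨by omega, by omega⟩)

/-- extending a path by two vertices hanging at `q i` -/
theorem ext2_bound {q : ℕ → Fin n} {t : ℕ} (hP : IsPath T q t)
    (hlong : ∀ p' t', IsPath T p' t' → t' ≤ t) (i : ℕ) (hi : i < t) {x x' : Fin n}
    (hx : ∀ k, k < t → q k ≠ x) (hx' : ∀ k, k < t → q k ≠ x') (hxx' : x ≠ x')
    (h1 : T.a (q i) x ≠ 0) (h2 : T.a x x' ≠ 0) : i + 3 ≤ t := by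
  have hq1 : IsPath T (snoc q (i + 1) x) (i + 1 + 1) :=
    (hP.mono (by omega : i + 1 ≤ t)).snoc (fun k hk => hx k (by omega)) (fun k hk => by
      rw [show k = i by omega]
      exact h1)
  have hq2 : IsPath T (snoc (snoc q (i + 1) x) (i + 1 + 1) x') (i + 1 + 1 + 1) :=
    hq1.snoc (fun k hk => by
      by_cases hk' : k < i + 1
      · rw [snoc_lt _ _ hk']
        exact hx' k (by omega)
      · rw [snoc_ge _ _ (by omega)]
        exact hxx') (fun k hk => by
      rw [snoc_ge _ _ (by omega)]
      exact h2)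
  have := hlong _ _ hq2
  omega

end Groth.Agent.Lib.Helper85.NumGen
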