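import Mathlib
import Groth.Agent.Lib.Helper85.NumGen12

/-!
# The classification of minimal numerical types of genus one on at least ten indices
-/

set_option autoImplicit false
set_option linter.unusedSectionVars false
open Finset

namespace Groth.Agent.Lib.Helper85.NumGen

open Models Models.NumericalType Groth.Agent.Lib.Helper11

variable {n : ℕ} {T : Models.NumericalType n}

theorem main (hn : 10 ≤ n) (hm2 : ∀ i, T.IsMinusTwo i) : Concl T := by
  classical
  obtain ⟨p, t, hP, ht1, hlong⟩ := exists_longest T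
  have htn := hP.1.le
  have hne : ∀ a b, a < t → b < t → a ≠ b → p a ≠ p b := fun a b ha hb hab h =>
    hab (hP.1 a b ha hb h)
  by_cases hchord : ∃ i j, i + 2 ≤ j ∧ j < t ∧ T.a (p i) (p j) ≠ 0
  · obtain ⟨i, j, hij, hj, hch⟩ := hchord
    obtain ⟨hcov, hm, hpE, hcE, hzE⟩ := chord hm2 hP i j hij hj hch
    have hi0 : i = 0 := by
      obtain ⟨k, hk1, hk2, hk⟩ := hcov (p 0)
      have := hP.1 k 0 (by omega) (by omega) hk
      omega
    have hjt : j = t - 1 := by
      obtain ⟨k, hk1, hk2, hk⟩ := hcov (p (t - 1))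
      have := hP.1 k (t - 1) (by omega) (by omega) hk
      omega
    have htn' : t = n := hP.1.eq_of_surj fun v => by
      obtain ⟨k, hk1, hk2, hk⟩ := hcov v
      exact ⟨k, by omega, hk⟩
    subst hi0 htn'
    subst hjt
    exact ⟨_, _, _, Or.inl (fam1_of_chord hn hP.1 (fun k hk => hm k (Nat.zero_le _) hk)
      (fun k hk => hpE k (Nat.zero_le _) hk) hcE (fun k hk => hzE k (Nat.zero_le _) hk))⟩
  push Not at hchord
  rcases Nat.lt_or_ge t n with hlt | hge
  swap
  · have htn' : t = n := by omega
    subst htn'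
    exact ham_case hn hm2 hP hchord
  -- the longest path is not Hamiltonian
  have hoffE : ∀ y, (∀ k, k < t → p k ≠ y) → T.a (p (t - 1)) y = 0 := by
    intro y hy
    by_contra hh
    obtain ⟨k, hk, hky⟩ := end_nbr hP hlong y hh
    exact hy k hk hky
  have hoffS : ∀ y, (∀ k, k < t → p k ≠ y) → T.a (p 0) y = 0 := by
    intro y hy
    by_contra hh
    obtain ⟨k, hk, hky⟩ := start_nbr hP ht1 hlong y hh
    exact hy k hk hky
  have hpos : ∀ i y, i < t → (∀ k, k < t → p k ≠ y) → T.a (p i) y ≠ 0 → 1 ≤ i ∧ i + 1 < t := by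
    intro i y hi hy hiy
    constructor
    · by_contra hcon
      have : i = 0 := by omega
      subst this
      exact hiy (hoffS y hy)
    · by_contra hcon
      have : i = t - 1 := by omega
      subst this
      exact hiy (hoffE y hy)
  obtain ⟨i, x, hi, hx, hix⟩ : ∃ i x, i < t ∧ (∀ k, k < t → p k ≠ x) ∧ T.a (p i) x ≠ 0 := by
    have hI_ne : ((Finset.range t).image p).Nonempty :=
      ⟨p 0, Finset.mem_image.2 ⟨0, Finset.mem_range.2 ht1, rfl⟩⟩
    have hI_univ : (Finset.range t).image p ≠ univ := by
      intro hh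
      have h1 : ((Finset.range t).image p).card ≤ t := by
        simpa using Finset.card_image_le (s := Finset.range t) (f := p)
      rw [hh] at h1
      simp at h1
      omega
    obtain ⟨u, hu, x, hxI, hux⟩ := T.connected _ hI_ne hI_univ
    obtain ⟨i, hi, rfl⟩ := Finset.mem_image.1 hu
    exact ⟨i, x, Finset.mem_range.1 hi, fun k hk h =>
      hxI (Finset.mem_image.2 ⟨k, Finset.mem_range.2 hk, h⟩), hux⟩
  obtain ⟨h1i, hit⟩ := hpos i x hi hx hix
  -- a heavy edge on the path
  by_cases hheavy : ∃ j, j + 1 < t ∧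
      (2 ≤ cart T (p (j + 1)) (p j) ∨ 2 ≤ cart T (p j) (p (j + 1)))
  · obtain ⟨j, hj, hh⟩ := hheavy
    rcases Nat.lt_or_ge i (j + 1) with hji | hji
    · refine caseA hn hm2 hP.rev (fun k hk => hx (t - 1 - k) (by omega)) (t - 1 - i)
        (t - 2 - j) (by omega) (by omega) ?_ ?_
      · simp only [rev_apply]
        rw [show t - 1 - (t - 1 - i) = i by omega]
        exact hix
      · simp only [rev_apply]
        rw [show t - 1 - (t - 2 - j + 1) = j by omega, show t - 1 - (t - 2 - j) = j + 1 by omega]
        exact hh.symm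
    · exact caseA hn hm2 hP hx i j hji hit hix hh
  push Not at hheavy
  have hsimple : ∀ k, k + 1 < t →
      cart T (p k) (p (k + 1)) = 1 ∧ cart T (p (k + 1)) (p k) = 1 := by
    intro k hk
    obtain ⟨a1, a2⟩ := cart_pos_both T (hne k (k + 1) (by omega) hk (by omega)) (hP.2 k hk)
    obtain ⟨b1, b2⟩ := hheavy k hk
    constructor <;> omega
  -- another vertex off the path joined to the path
  by_cases hother : ∃ i' x', i' < t ∧ (∀ k, k < t → p k ≠ x') ∧ T.a (p i') x' ≠ 0 ∧ x' ≠ x
  · obtain ⟨i', x', hi', hx', hix', hx'x⟩ := hother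
    obtain ⟨h1i', hit'⟩ := hpos i' x' hi' hx' hix'
    rcases Nat.lt_trichotomy i i' with h | h | h
    · exact two_forks hn hm2 hP hx hx' (Ne.symm hx'x) i i' h1i h hit' hix hix'
    · subst h
      exact (deg4_false (by omega) hm2 hP hx hx' (Ne.symm hx'x) i h1i hit hix hix').elim
    · exact two_forks hn hm2 hP hx' hx hx'x i' i h1i' h hit hix' hix
  push Not at hother
  have honly : ∀ k, k < t → T.a (p k) x ≠ 0 → k = i := by
    intro k hk hkx
    by_contra hki
    obtain ⟨h1k, -⟩ := hpos k x hk hx hkx
    rcases Nat.lt_or_ge k i with h | h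
    · exact cycle_x_false hm2 hP hx k i h1k h hi hkx hix
    · exact cycle_x_false hm2 hP hx i k h1i (by omega) hk hix hkx
  by_cases hx'' : ∃ x', (∀ k, k < t → p k ≠ x') ∧ x' ≠ x ∧ T.a x x' ≠ 0
  · obtain ⟨x', hx', hx'x, hxx'⟩ := hx''
    have b1 := ext2_bound hP hlong i hi hx hx' (Ne.symm hx'x) hix hxx'
    have b2 := ext2_bound hP.rev hlong (t - 1 - i) (by omega)
      (fun k hk => hx (t - 1 - k) (by omega)) (fun k hk => hx' (t - 1 - k) (by omega))
      (Ne.symm hx'x) (by
        simp only [rev_apply]
        rw [show t - 1 - (t - 1 - i) = i by omega]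
        exact hix) hxx'
    exact (E6_path (by omega) hm2 hP hx hx' (Ne.symm hx'x) i (by omega) (by omega) hix
      hxx').elim
  push Not at hx''
  -- the graph is the path together with `x`
  have htn1 : t + 1 = n := by
    by_contra hcon
    have hI_ne : (insert x ((Finset.range t).image p)).Nonempty := ⟨x, Finset.mem_insert_self _ _⟩
    have hI_univ : insert x ((Finset.range t).image p) ≠ univ := by
      intro hh
      have h1 : (insert x ((Finset.range t).image p)).card ≤ t + 1 := by
        refine le_trans (Finset.card_insert_le _ _) ?_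
        have : ((Finset.range t).image p).card ≤ t := by
          simpa using Finset.card_image_le (s := Finset.range t) (f := p)
        omega
      rw [hh] at h1
      simp at h1
      omega
    obtain ⟨u, hu, z, hzI, huz⟩ := T.connected _ hI_ne hI_univ
    have hz : ∀ k, k < t → p k ≠ z := fun k hk h =>
      hzI (Finset.mem_insert_of_mem (Finset.mem_image.2 ⟨k, Finset.mem_range.2 hk, h⟩))
    have hzx : z ≠ x := fun h => hzI (h ▸ Finset.mem_insert_self _ _)
    rcases Finset.mem_insert.1 hu with rfl | hu'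
    · exact huz (hx'' z hz hzx)
    · obtain ⟨k, hk, rfl⟩ := Finset.mem_image.1 hu'
      exact hzx (hother k z (Finset.mem_range.1 hk) hz huz)
  exfalso
  by_cases c1 : i = 1 ∨ i = 2
  · exact finalB_rev hn hm2 hP htn1 hx hsimple hchord i hix hi honly c1
  · refine finalB hn hm2 hP htn1 hx hsimple hchord i hix hi honly ?_
    by_cases c2 : i + 2 = t
    · exact Or.inl c2
    · by_cases c3 : i + 3 = t
      · exact Or.inr (Or.inl ⟨by omega, by omega⟩)
      · exact Or.inr (Or.inr ⟨by omega, by omega⟩)

end Groth.Agent.Lib.Helper85.NumGen
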