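import Mathlib
import Groth.Prelude.Def_Models

/-!
# Permuting the indices of a numerical type (copied from helper57's S2181 to avoid depending on
auxiliary declarations of an `SNNNN` file)
-/

set_option autoImplicit false

namespace Groth.Agent.Lib.Helper85.NumPerm

open Finset
open Models Models.NumericalType

/-- The permuted numerical type. -/
def perm {n : ℕ} (T : Models.NumericalType n) (σ : Equiv.Perm (Fin n)) : Models.NumericalType n where
  m := fun i => T.m (σ i)
  a := fun i j => T.a (σ i) (σ j)
  w := fun i => T.w (σ i)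
  g := fun i => T.g (σ i)
  pos := T.pos
  m_pos := fun i => T.m_pos _
  w_pos := fun i => T.w_pos _
  g_nonneg := fun i => T.g_nonneg _
  symm := Matrix.IsSymm.ext fun i j => T.symm.apply _ _
  offDiag_nonneg := fun i j hij => T.offDiag_nonneg _ _ (fun h => hij (σ.injective h))
  connected := by
    classical
    intro I hI hIu
    have hex : ∃ j0, j0 ∉ I := by
      by_contra hcon
      push Not at hcon
      exact hIu (Finset.eq_univ_iff_forall.mpr hcon)
    obtain ⟨j0, hj0⟩ := hex
    have hmem : ∀ x, x ∈ I.map σ.toEmbedding ↔ σ.symm x ∈ I := by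
      intro x
      rw [Finset.mem_map_equiv]
    have h1 : (I.map σ.toEmbedding).Nonempty := hI.map
    have h2 : I.map σ.toEmbedding ≠ Finset.univ := by
      intro hcon
      have : σ j0 ∈ I.map σ.toEmbedding := by rw [hcon]; exact Finset.mem_univ _
      rw [hmem, Equiv.symm_apply_apply] at this
      exact hj0 this
    obtain ⟨i', hi', j', hj', hne⟩ := T.connected _ h1 h2
    rw [hmem] at hi' hj'
    refine ⟨σ.symm i', hi', σ.symm j', hj', ?_⟩
    simpa using hne
  mulVec_m := by
    funext i
    simp only [Matrix.mulVec, dotProduct, Pi.zero_apply]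
    rw [Equiv.sum_comp σ (fun j => T.a (σ i) j * T.m j)]
    have := congrFun T.mulVec_m (σ i)
    simpa [Matrix.mulVec, dotProduct] using this
  w_dvd := fun i j => T.w_dvd _ _

theorem perm_genus {n : ℕ} (T : Models.NumericalType n) (σ : Equiv.Perm (Fin n)) :
    (perm T σ).genus = T.genus := by
  unfold Models.NumericalType.genus
  have h1 : ∑ i, (perm T σ).m i * (perm T σ).w i * ((perm T σ).g i - 1) =
      ∑ i, T.m i * T.w i * (T.g i - 1) :=
    Equiv.sum_comp σ (fun i => T.m i * T.w i * (T.g i - 1))
  have h2 : ∑ i, (perm T σ).m i * (perm T σ).a i i = ∑ i, T.m i * T.a i i :=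
    Equiv.sum_comp σ (fun i => T.m i * T.a i i)
  rw [h1, h2]

theorem perm_pic {n : ℕ} (T : Models.NumericalType n) (σ : Equiv.Perm (Fin n)) :
    Nonempty (T.Pic ≃+ (perm T σ).Pic) := by
  have key : ∀ v : Fin n → ℤ, (fun i => T.picMatrix.mulVec v (σ i)) =
      (perm T σ).picMatrix.mulVec (fun j => v (σ j)) := by
    intro v
    funext i
    simp only [Matrix.mulVec, dotProduct]
    exact (Equiv.sum_comp σ (fun j => T.picMatrix (σ i) j * v j)).symm
  refine ⟨(Submodule.Quotient.equiv _ _ (LinearEquiv.funCongrLeft ℤ ℤ σ) ?_).toAddEquiv⟩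
  ext u
  constructor
  · rintro ⟨_, ⟨v, rfl⟩, rfl⟩
    exact ⟨fun j => v (σ j), (key v).symm⟩
  · rintro ⟨v', rfl⟩
    refine ⟨T.picMatrix.mulVec (fun j => v' (σ.symm j)), ⟨_, rfl⟩, ?_⟩
    have := key (fun j => v' (σ.symm j))
    simp only [Equiv.symm_apply_apply] at this
    exact this


end Groth.Agent.Lib.Helper85.NumPerm
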