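import Mathlib
import Groth.Agent.Lib.Helper11.NumTypeGenusOne

/-!
# Growth orders and spanning trees of the dual graph of a numerical type (helper85)
-/

set_option autoImplicit false
open Finset

namespace Groth.Agent.Lib.Helper85.NumTor

open Models Models.NumericalType Groth.Agent.Lib.Helper11

variable {n : ℕ} (T : Models.NumericalType n)

theorem growth_aux : ∀ k : ℕ, k + 1 ≤ n → ∃ (I : Finset (Fin n)) (ρ : Fin n → ℕ) (r : Fin n),
    I.card = k + 1 ∧ r ∈ I ∧ ρ r = 0 ∧ Set.InjOn ρ I ∧ (∀ i ∈ I, ρ i < k + 1) ∧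
    ∀ i ∈ I, i ≠ r → ∃ j ∈ I, T.a i j ≠ 0 ∧ ρ j < ρ i := by
  classical
  intro k
  induction k with
  | zero =>
    intro _
    refine ⟨{⟨0, T.pos⟩}, fun _ => 0, ⟨0, T.pos⟩, by simp, by simp, rfl, ?_, by simp, ?_⟩
    · intro x hx y hy _
      rw [mem_coe, mem_singleton] at hx hy
      rw [hx, hy]
    · intro i hi hne
      exact absurd (mem_singleton.1 hi) hne
  | succ k ih =>
    intro hkn
    obtain ⟨I, ρ, r, hcard, hr, hρr, hinj, hlt, hpar⟩ := ih (by omega)
    have hne : I ≠ univ := by
      intro h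
      rw [h, card_univ, Fintype.card_fin] at hcard
      omega
    obtain ⟨i, hi, j, hj, hij⟩ := T.connected I ⟨r, hr⟩ hne
    have hnej : ∀ x ∈ I, x ≠ j := fun x hx e => hj (e ▸ hx)
    refine ⟨insert j I, Function.update ρ j (k + 1), r, ?_, mem_insert_of_mem hr, ?_, ?_, ?_, ?_⟩
    · rw [card_insert_of_notMem hj, hcard]
    · rw [Function.update_of_ne (hnej r hr), hρr]
    · intro x hx y hy hxy
      rw [mem_coe, mem_insert] at hx hy
      by_cases hxj : x = j
      · by_cases hyj : y = j
        · rw [hxj, hyj]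
        · exfalso
          have hyI : y ∈ I := hy.resolve_left hyj
          rw [hxj, Function.update_self, Function.update_of_ne hyj] at hxy
          have := hlt y hyI
          omega
      · have hxI : x ∈ I := hx.resolve_left hxj
        by_cases hyj : y = j
        · exfalso
          rw [hyj, Function.update_self, Function.update_of_ne hxj] at hxy
          have := hlt x hxI
          omega
        · have hyI : y ∈ I := hy.resolve_left hyj
          rw [Function.update_of_ne hxj, Function.update_of_ne hyj] at hxy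
          exact hinj hxI hyI hxy
    · intro x hx
      rcases mem_insert.1 hx with h | h
      · rw [h, Function.update_self]; omega
      · rw [Function.update_of_ne (hnej x h)]
        have := hlt x h
        omega
    · intro x hx hxr
      rcases mem_insert.1 hx with h | h
      · refine ⟨i, mem_insert_of_mem hi, ?_, ?_⟩
        · rw [h, a_symm T j i]; exact hij
        · rw [h, Function.update_self, Function.update_of_ne (hnej i hi)]
          exact hlt i hi
      · obtain ⟨y, hy, hay, hρy⟩ := hpar x h hxr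
        refine ⟨y, mem_insert_of_mem hy, hay, ?_⟩
        rw [Function.update_of_ne (hnej x h), Function.update_of_ne (hnej y hy)]
        exact hρy

/-- a growth order of the dual graph: every index different from the root has a neighbour of smaller
rank. -/
theorem growth : ∃ (ρ : Fin n → ℕ) (r : Fin n) (par : Fin n → Fin n), Function.Injective ρ ∧
    ρ r = 0 ∧ (∀ i, ρ i < n) ∧ ∀ i, i ≠ r → T.a i (par i) ≠ 0 ∧ ρ (par i) < ρ i := by
  classical
  have hn := T.pos
  obtain ⟨I, ρ, r, hcard, hr, hρr, hinj, hlt, hpar⟩ := growth_aux T (n - 1) (by omega)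
  have hI : I = univ := by
    apply Finset.eq_univ_of_card
    rw [hcard, Fintype.card_fin]; omega
  subst hI
  have hex : ∀ i, ∃ j, i ≠ r → (T.a i j ≠ 0 ∧ ρ j < ρ i) := by
    intro i
    by_cases h : i = r
    · exact ⟨r, fun h' => absurd h h'⟩
    · obtain ⟨j, -, h1, h2⟩ := hpar i (mem_univ i) h
      exact ⟨j, fun _ => ⟨h1, h2⟩⟩
  choose par hpar' using hex
  refine ⟨ρ, r, par, ?_, hρr, ?_, hpar'⟩
  · intro x y hxy
    exact hinj (mem_coe.2 (mem_univ x)) (mem_coe.2 (mem_univ y)) hxy
  · intro i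
    have := hlt i (mem_univ i)
    omega

/-- normalised pair -/
def nrm (p : Fin n × Fin n) : Fin n × Fin n := if p.1 < p.2 then p else (p.2, p.1)

/-- the edge set -/
def EE : Finset (Fin n × Fin n) := univ.filter fun p => p.1 < p.2 ∧ 0 < T.a p.1 p.2

theorem edgeCount_eq : T.edgeCount = (EE T).card := rfl

theorem nrm_mem_EE (i j : Fin n) (hij : i ≠ j) (ha : T.a i j ≠ 0) : nrm (i, j) ∈ EE T := by
  have hpos : 0 < T.a i j := lt_of_le_of_ne (T.offDiag_nonneg i j hij) (Ne.symm ha)
  unfold nrm EE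
  by_cases h : i < j
  · rw [if_pos (by exact h)]
    exact mem_filter.2 ⟨mem_univ _, h, hpos⟩
  · rw [if_neg (by exact h)]
    refine mem_filter.2 ⟨mem_univ _, ?_, ?_⟩
    · exact lt_of_le_of_ne (not_lt.1 h) (Ne.symm hij)
    · change 0 < T.a j i
      rw [a_symm T j i]; exact hpos

theorem nrm_eq (i j i' j' : Fin n) (h : nrm (i, j) = nrm (i', j')) :
    (i = i' ∧ j = j') ∨ (i = j' ∧ j = i') := by
  unfold nrm at h
  by_cases h1 : i < j <;> by_cases h2 : i' < j'
  · rw [if_pos (by exact h1), if_pos (by exact h2)] at h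
    left; exact ⟨(Prod.ext_iff.1 h).1, (Prod.ext_iff.1 h).2⟩
  · rw [if_pos (by exact h1), if_neg (by exact h2)] at h
    right; exact ⟨(Prod.ext_iff.1 h).1, (Prod.ext_iff.1 h).2⟩
  · rw [if_neg (by exact h1), if_pos (by exact h2)] at h
    right; exact ⟨(Prod.ext_iff.1 h).2, (Prod.ext_iff.1 h).1⟩
  · rw [if_neg (by exact h1), if_neg (by exact h2)] at h
    left; exact ⟨(Prod.ext_iff.1 h).2, (Prod.ext_iff.1 h).1⟩

/-- the tree edges -/
def Tree (r : Fin n) (par : Fin n → Fin n) : Finset (Fin n × Fin n) :=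
  (univ.erase r).image fun i => nrm (i, par i)

variable (ρ : Fin n → ℕ) (r : Fin n) (par : Fin n → Fin n)

theorem tree_subset (hpar : ∀ i, i ≠ r → T.a i (par i) ≠ 0 ∧ ρ (par i) < ρ i) :
    Tree r par ⊆ EE T := by
  intro p hp
  obtain ⟨i, hi, rfl⟩ := mem_image.1 hp
  have hir := ne_of_mem_erase hi
  obtain ⟨h1, h2⟩ := hpar i hir
  apply nrm_mem_EE T i (par i) _ h1
  intro e
  rw [← e] at h2
  exact lt_irrefl _ h2

theorem tree_card (hpar : ∀ i, i ≠ r → T.a i (par i) ≠ 0 ∧ ρ (par i) < ρ i) :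
    (Tree r par).card = n - 1 := by
  unfold Tree
  rw [Finset.card_image_of_injOn, card_erase_of_mem (mem_univ r), card_univ, Fintype.card_fin]
  intro i hi i' hi' h
  have hir := ne_of_mem_erase (mem_coe.1 hi)
  have hi'r := ne_of_mem_erase (mem_coe.1 hi')
  rcases nrm_eq i (par i) i' (par i') h with ⟨h1, -⟩ | ⟨h1, h2⟩
  · exact h1
  · exfalso
    have := (hpar i hir).2
    have := (hpar i' hi'r).2
    rw [← h1] at this
    rw [h2] at *
    omega

theorem X_card (hpar : ∀ i, i ≠ r → T.a i (par i) ≠ 0 ∧ ρ (par i) < ρ i) :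
    ((EE T \ Tree r par).card : ℤ) = T.topGenus := by
  have h1 := tree_subset T ρ r par hpar
  have h2 := tree_card T ρ r par hpar
  have h3 := Finset.card_sdiff_of_subset h1
  have h4 := Finset.card_le_card h1
  unfold NumericalType.topGenus
  rw [edgeCount_eq]
  have hn := T.pos
  omega

theorem mem_X (hpar : ∀ i, i ≠ r → T.a i (par i) ≠ 0 ∧ ρ (par i) < ρ i)
    (i k : Fin n) (hik : ρ k < ρ i) (ha : T.a i k ≠ 0) (hk : i = r ∨ k ≠ par i) :
    nrm (i, k) ∈ EE T \ Tree r par := by
  have hne : i ≠ k := by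
    intro e; rw [e] at hik; exact lt_irrefl _ hik
  refine mem_sdiff.2 ⟨nrm_mem_EE T i k hne ha, ?_⟩
  intro hmem
  obtain ⟨i', hi', heq⟩ := mem_image.1 hmem
  have hi'r := ne_of_mem_erase hi'
  have hp' := (hpar i' hi'r).2
  rcases nrm_eq i' (par i') i k heq with ⟨h1, h2⟩ | ⟨h1, h2⟩
  · rcases hk with hk | hk
    · exact hi'r (h1.trans hk)
    · apply hk
      rw [← h2, h1]
  · rw [h2, h1] at hp'
    omega

end Groth.Agent.Lib.Helper85.NumTor
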