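import Mathlib
import Groth.Agent.Lib.Helper85.NumTor1

/-!
# Flows modulo a prime and the key lemma for the torsion of the Picard group (helper85)
-/

set_option autoImplicit false
open Finset

namespace Groth.Agent.Lib.Helper85.NumTor

open Models Models.NumericalType Groth.Agent.Lib.Helper11

variable {n : ℕ} (T : Models.NumericalType n)

/-- the flow of `z` along `(i, j)` -/
def flow (z : Fin n → ℤ) (i j : Fin n) : ℤ := T.a i j * (T.m i * z j - T.m j * z i)

theorem flow_antisymm (z : Fin n → ℤ) (i j : Fin n) : flow T z i j = - flow T z j i := by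
  unfold flow
  rw [a_symm T i j]; ring

theorem flow_self (z : Fin n → ℤ) (i : Fin n) : flow T z i i = 0 := by
  unfold flow; ring

theorem flow_sub (z z' : Fin n → ℤ) (i j : Fin n) :
    flow T (z - z') i j = flow T z i j - flow T z' i j := by
  unfold flow
  simp only [Pi.sub_apply]; ring

theorem pic_mulVec_apply (z : Fin n → ℤ) (i : Fin n) :
    T.picMatrix.mulVec z i = ∑ j, cart T i j * z j := by
  simp only [Matrix.mulVec, dotProduct]
  rfl

theorem pic_mulVec_m : T.picMatrix.mulVec T.m = 0 := by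
  funext i
  rw [pic_mulVec_apply, row_sum_cart]
  rfl

theorem flow_sum (z x : Fin n → ℤ) (ℓ : ℤ) (h : T.picMatrix.mulVec z = ℓ • x) (i : Fin n) :
    ∑ j, flow T z i j = ℓ * (T.m i * T.w i * x i) := by
  have h1 : ∑ j, cart T i j * z j = ℓ * x i := by
    rw [← pic_mulVec_apply, h]; simp
  have h2 : ∑ j, T.a i j * z j = T.w i * (ℓ * x i) := by
    rw [← h1, Finset.mul_sum]
    refine Finset.sum_congr rfl fun j _ => ?_
    rw [← w_mul_cart T i j]; ring
  have h3 := row_sum T i
  have h4 : ∑ j, flow T z i j = T.m i * ∑ j, T.a i j * z j - z i * ∑ j, T.a i j * T.m j := by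
    rw [Finset.mul_sum, Finset.mul_sum, ← Finset.sum_sub_distrib]
    refine Finset.sum_congr rfl fun j _ => ?_
    unfold flow; ring
  rw [h4, h2, h3]; ring

variable (ρ : Fin n → ℕ) (r : Fin n) (par : Fin n → Fin n)

/-- all flows vanish modulo `ℓ` as soon as they vanish on the edges outside a spanning tree -/
theorem all_flows (ℓ : ℤ) (hlt : ∀ i, ρ i < n) (hρ : Function.Injective ρ) (hr : ρ r = 0)
    (hpar : ∀ i, i ≠ r → T.a i (par i) ≠ 0 ∧ ρ (par i) < ρ i)
    (z x : Fin n → ℤ) (hzx : T.picMatrix.mulVec z = ℓ • x)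
    (hX : ∀ p ∈ EE T \ Tree r par, ℓ ∣ flow T z p.1 p.2) :
    ∀ N : ℕ, ∀ i, n - ρ i ≤ N → ∀ j, ℓ ∣ flow T z i j := by
  classical
  intro N
  induction N with
  | zero =>
    intro i hi
    have := hlt i
    omega
  | succ N ih =>
    intro i hi
    have hhigh : ∀ k, ρ i < ρ k → ℓ ∣ flow T z i k := by
      intro k hk
      have h1 := ih k (by have := hlt k; omega) i
      rw [flow_antisymm]
      exact (dvd_neg).2 h1
    have hlow : ∀ k, ρ k < ρ i → (i = r ∨ k ≠ par i) → ℓ ∣ flow T z i k := by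
      intro k hk hc
      by_cases ha : T.a i k = 0
      · unfold flow; rw [ha, zero_mul]; exact dvd_zero _
      · have hmem := mem_X T ρ r par hpar i k hk ha hc
        have h1 := hX _ hmem
        unfold nrm at h1
        by_cases hik : i < k
        · rw [if_pos (by exact hik)] at h1
          exact h1
        · rw [if_neg (by exact hik)] at h1
          rw [flow_antisymm]
          exact (dvd_neg).2 h1
    have hoth : ∀ k, (i = r ∨ k ≠ par i) → ℓ ∣ flow T z i k := by
      intro k hc
      rcases lt_trichotomy (ρ k) (ρ i) with h | h | h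
      · exact hlow k h hc
      · rw [hρ h, flow_self]; exact dvd_zero _
      · exact hhigh k h
    intro j
    by_cases hc : i = r ∨ j ≠ par i
    · exact hoth j hc
    · have hir : i ≠ r := fun e => hc (Or.inl e)
      have hj : j = par i := by
        by_contra e; exact hc (Or.inr e)
      have hsum := flow_sum T z x ℓ hzx i
      rw [← Finset.add_sum_erase univ _ (mem_univ (par i))] at hsum
      have h1 : ℓ ∣ ∑ k ∈ univ.erase (par i), flow T z i k := by
        apply Finset.dvd_sum
        intro k hk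
        exact hoth k (Or.inr (ne_of_mem_erase hk))
      have h2 : ℓ ∣ ℓ * (T.m i * T.w i * x i) := dvd_mul_right _ _
      rw [← hsum] at h2
      rw [hj]
      exact (dvd_add_left h1).1 h2

/-- the key lemma -/
theorem key (ℓ : ℕ) (hℓ : ℓ.Prime) (hA : ∀ i j, T.a i j ≠ 0 → ¬ (ℓ : ℤ) ∣ T.a i j)
    (hm : ∀ i, ¬ (ℓ : ℤ) ∣ T.m i)
    (hlt : ∀ i, ρ i < n) (hρ : Function.Injective ρ) (hr : ρ r = 0)
    (hpar : ∀ i, i ≠ r → T.a i (par i) ≠ 0 ∧ ρ (par i) < ρ i)
    (z x : Fin n → ℤ) (hzx : T.picMatrix.mulVec z = (ℓ : ℤ) • x)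
    (hX : ∀ p ∈ EE T \ Tree r par, (ℓ : ℤ) ∣ flow T z p.1 p.2) :
    ∃ t, T.picMatrix.mulVec t = x := by
  classical
  have hp : Prime (ℓ : ℤ) := Nat.prime_iff_prime_int.1 hℓ
  have hall : ∀ i j, (ℓ : ℤ) ∣ flow T z i j := fun i j =>
    all_flows T ρ r par ℓ hlt hρ hr hpar z x hzx hX n i (by omega) j
  have hedge : ∀ i j, T.a i j ≠ 0 → (ℓ : ℤ) ∣ T.m i * z j - T.m j * z i := by
    intro i j ha
    have h1 := hall i j
    unfold flow at h1
    rcases hp.dvd_or_dvd h1 with h | h
    · exact absurd h (hA i j ha)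
    · exact h
  -- propagate from the root
  have hroot : ∀ j, (ℓ : ℤ) ∣ T.m r * z j - T.m j * z r := by
    by_contra hcon
    let I : Finset (Fin n) := univ.filter fun j => (ℓ : ℤ) ∣ T.m r * z j - T.m j * z r
    have hrI : r ∈ I := mem_filter.2 ⟨mem_univ _, by
      have : T.m r * z r - T.m r * z r = 0 := by ring
      rw [this]; exact dvd_zero _⟩
    have hne : I ≠ univ := by
      intro h
      apply hcon
      intro j
      have : j ∈ I := h ▸ mem_univ j
      exact (mem_filter.1 this).2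
    obtain ⟨i, hi, j, hj, hij⟩ := T.connected I ⟨r, hrI⟩ hne
    apply hj
    refine mem_filter.2 ⟨mem_univ _, ?_⟩
    have h1 := (mem_filter.1 hi).2
    have h2 := hedge i j hij
    have h3 : T.m i * (T.m r * z j - T.m j * z r) =
        T.m r * (T.m i * z j - T.m j * z i) + T.m j * (T.m r * z i - T.m i * z r) := by ring
    have h4 : (ℓ : ℤ) ∣ T.m i * (T.m r * z j - T.m j * z r) := by
      rw [h3]
      exact dvd_add (Dvd.dvd.mul_left h2 _) (Dvd.dvd.mul_left h1 _)
    rcases hp.dvd_or_dvd h4 with h | h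
    · exact absurd h (hm i)
    · exact h
  -- inverse of m r modulo ℓ
  have hcop : IsCoprime (ℓ : ℤ) (T.m r) := (Prime.coprime_iff_not_dvd hp).2 (hm r)
  obtain ⟨u, μ, huv⟩ := hcop
  -- z = λ m + ℓ t
  have hdiv : ∀ j, (ℓ : ℤ) ∣ z j - μ * z r * T.m j := by
    intro j
    have h1 := hroot j
    have h2 : z j - μ * z r * T.m j = (ℓ : ℤ) * (u * z j) + μ * (T.m r * z j - T.m j * z r) := by
      have : z j = (u * ℓ + μ * T.m r) * z j := by rw [huv, one_mul]
      calc z j - μ * z r * T.m j = (u * ℓ + μ * T.m r) * z j - μ * z r * T.m j := by rw [← this]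
        _ = _ := by ring
    rw [h2]
    exact dvd_add (dvd_mul_right _ _) (Dvd.dvd.mul_left h1 _)
  choose t ht using hdiv
  refine ⟨t, ?_⟩
  have hz : z = (μ * z r) • T.m + (ℓ : ℤ) • t := by
    funext j
    simp only [Pi.add_apply, Pi.smul_apply, smul_eq_mul]
    have := ht j
    linarith
  rw [hz, Matrix.mulVec_add, Matrix.mulVec_smul, Matrix.mulVec_smul, pic_mulVec_m, smul_zero,
    zero_add] at hzx
  funext i
  have h1 := congrFun hzx i
  simp only [Pi.smul_apply, smul_eq_mul] at h1
  have hℓ0 : (ℓ : ℤ) ≠ 0 := by exact_mod_cast hℓ.ne_zero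
  exact mul_left_cancel₀ hℓ0 h1

/-- the case of a single index -/
theorem key_one (hn : n = 1) (ℓ : ℕ) (hℓ : ℓ.Prime) (z x : Fin n → ℤ)
    (hzx : T.picMatrix.mulVec z = (ℓ : ℤ) • x) : ∃ t, T.picMatrix.mulVec t = x := by
  refine ⟨0, ?_⟩
  have hall : ∀ i k : Fin n, k = i := fun i k => Fin.ext (by have := k.2; have := i.2; omega)
  have hP : ∀ i j, T.picMatrix i j = 0 := by
    intro i j
    have h1 := row_sum T i
    rw [Finset.sum_eq_single i (fun b _ hb => absurd (hall i b) hb) (by simp)] at h1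
    have hm := T.m_pos i
    have h0 : T.a i i = 0 := by
      rcases mul_eq_zero.1 h1 with h | h
      · exact h
      · exact absurd h hm.ne'
    change T.a i j / T.w i = 0
    rw [hall i j, h0, Int.zero_ediv]
  have hz : T.picMatrix.mulVec z = 0 := by
    funext i
    simp only [Matrix.mulVec, dotProduct, hP, zero_mul, Finset.sum_const_zero, Pi.zero_apply]
  rw [hz] at hzx
  rw [Matrix.mulVec_zero]
  funext i
  have h1 := congrFun hzx i
  simp only [Pi.smul_apply, smul_eq_mul, Pi.zero_apply] at h1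
  have hℓ0 : (ℓ : ℤ) ≠ 0 := by exact_mod_cast hℓ.ne_zero
  rcases mul_eq_zero.1 h1.symm with h | h
  · exact absurd h hℓ0
  · simp [h]

end Groth.Agent.Lib.Helper85.NumTor
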