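import Mathlib
import Groth.Agent.Lib.Helper85.NumTor2
import Groth.Agent.Lib.Helper85.NumBd3
import Groth.Agent.Lib.Helper85.NumPerm
import Groth.Agent.S2175
import Groth.Agent.S2180

/-!
# The `ℓ`-torsion of the Picard group of a numerical type (helper85)
-/

set_option autoImplicit false
open Finset

namespace Groth.Agent.Lib.Helper85.NumTor

open Models Models.NumericalType Groth.Agent.Lib.Helper11

variable {n : ℕ} (T : Models.NumericalType n)

theorem torsion_finite (ℓ : ℕ) (hℓ : ℓ ≠ 0) :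
    Finite (Submodule.torsionBy ℤ T.Pic (ℓ : ℤ)) := by
  apply Module.finite_of_fg_torsion
  intro x
  have hℓ0 : (ℓ : ℤ) ≠ 0 := by exact_mod_cast hℓ
  refine ⟨⟨(ℓ : ℤ), mem_nonZeroDivisors_of_ne_zero hℓ0⟩, ?_⟩
  apply Subtype.ext
  have := (Submodule.mem_torsionBy_iff _ _).1 x.2
  simp [this]

theorem diag_zero_of_one (hn : n = 1) (i : Fin n) : T.a i i = 0 := by
  have hall : ∀ k : Fin n, k = i := fun k => Fin.ext (by have := k.2; have := i.2; omega)
  have h1 := row_sum T i
  rw [Finset.sum_eq_single i (fun b _ hb => absurd (hall b) hb) (by simp)] at h1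
  have hm := T.m_pos i
  rcases mul_eq_zero.1 h1 with h | h
  · exact h
  · exact absurd h hm.ne'

theorem top_le (hmin : T.IsMinimal) (hg : 2 ≤ T.genus) : T.topGenus ≤ T.genus := by
  by_cases hn : 1 < n
  · exact topGenus_le_genus_of_isMinimal T hmin hn
  · have hn1 : n = 1 := by have := T.pos; omega
    subst hn1
    have hE : T.edgeCount = 0 := by
      unfold NumericalType.edgeCount
      rw [Finset.card_eq_zero, Finset.filter_eq_empty_iff]
      intro p _ hp
      have h1 := p.1.2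
      have h2 := p.2.2
      have h3 : p.1.val < p.2.val := hp.1
      omega
    unfold NumericalType.topGenus
    rw [hE]
    simp
    omega

/-- the bound by the topological genus for minimal types -/
theorem card_torsion_le_top (hmin : T.IsMinimal) (hg : 2 ≤ T.genus) (ℓ : ℕ) (hℓ : ℓ.Prime)
    (hℓg : 768 * T.genus < ℓ) :
    Nat.card (Submodule.torsionBy ℤ T.Pic (ℓ : ℤ)) ≤ ℓ ^ T.topGenus.toNat := by
  classical
  haveI : NeZero ℓ := ⟨hℓ.ne_zero⟩
  obtain ⟨ρ, r, par, hρ, hr, hlt, hpar⟩ := growth T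
  have hkey : ∀ z x : Fin n → ℤ, T.picMatrix.mulVec z = (ℓ : ℤ) • x →
      (∀ p ∈ EE T \ Tree r par, (ℓ : ℤ) ∣ flow T z p.1 p.2) →
      ∃ t, T.picMatrix.mulVec t = x := by
    by_cases hn : 1 < n
    · have hbd := fun i j => NumBd.mul_abs_le T hmin hg i j
      have hA : ∀ i j, T.a i j ≠ 0 → ¬ (ℓ : ℤ) ∣ T.a i j := by
        intro i j ha hdvd
        have h1 : (ℓ : ℤ) ≤ |T.a i j| := Int.le_of_dvd (abs_pos.2 ha) ((dvd_abs _ _).2 hdvd)
        have h2 := hbd i j
        have h3 := T.m_pos i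
        have h4 : |T.a i j| ≤ T.m i * |T.a i j| := by
          have := abs_nonneg (T.a i j)
          nlinarith
        linarith
      have hm : ∀ i, ¬ (ℓ : ℤ) ∣ T.m i := by
        intro i hdvd
        have h1 : (ℓ : ℤ) ≤ T.m i := Int.le_of_dvd (T.m_pos i) hdvd
        have h2 := hbd i i
        have h3 := T.m_pos i
        have h5 : 1 ≤ |T.a i i| := by
          have := abs_pos.2 (diag_neg T hn i).ne
          omega
        have h4 : T.m i ≤ T.m i * |T.a i i| := by nlinarith
        linarith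
      intro z x hzx hX
      exact key T ρ r par ℓ hℓ hA hm hlt hρ hr hpar z x hzx hX
    · have hn1 : n = 1 := by have := T.pos; omega
      intro z x hzx _
      exact key_one T hn1 ℓ hℓ z x hzx
  have hXcard : (((EE T \ Tree r par).card : ℕ) : ℤ) = T.topGenus := X_card T ρ r par hpar
  have hrep : ∀ ξ : Submodule.torsionBy ℤ T.Pic (ℓ : ℤ), ∃ xz : (Fin n → ℤ) × (Fin n → ℤ),
      (Submodule.Quotient.mk xz.1 : T.Pic) = ξ.val ∧
        T.picMatrix.mulVec xz.2 = (ℓ : ℤ) • xz.1 := by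
    intro ξ
    obtain ⟨x, hx⟩ := Submodule.Quotient.mk_surjective _ ξ.val
    have h1 : (ℓ : ℤ) • ξ.val = 0 := (Submodule.mem_torsionBy_iff _ _).1 ξ.2
    rw [← hx, ← Submodule.Quotient.mk_smul, Submodule.Quotient.mk_eq_zero] at h1
    obtain ⟨z, hz⟩ := h1
    exact ⟨(x, z), hx, hz⟩
  choose rep hrep1 hrep2 using hrep
  let Ψ : Submodule.torsionBy ℤ T.Pic (ℓ : ℤ) → ((EE T \ Tree r par : Finset _) → ZMod ℓ) :=
    fun ξ p => ((flow T (rep ξ).2 p.1.1 p.1.2 : ℤ) : ZMod ℓ)
  have hinj : Function.Injective Ψ := by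
    intro ξ ξ' h
    have hX : ∀ p ∈ EE T \ Tree r par,
        (ℓ : ℤ) ∣ flow T ((rep ξ).2 - (rep ξ').2) p.1 p.2 := by
      intro p hp
      have h1 := congrFun h ⟨p, hp⟩
      simp only [Ψ] at h1
      rw [ZMod.intCast_eq_intCast_iff_dvd_sub] at h1
      rw [flow_sub]
      have := (dvd_neg).2 h1
      rwa [neg_sub] at this
    have hzx : T.picMatrix.mulVec ((rep ξ).2 - (rep ξ').2) =
        (ℓ : ℤ) • ((rep ξ).1 - (rep ξ').1) := by
      rw [Matrix.mulVec_sub, hrep2, hrep2, smul_sub]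
    obtain ⟨t, ht⟩ := hkey _ _ hzx hX
    apply Subtype.ext
    rw [← hrep1 ξ, ← hrep1 ξ', Submodule.Quotient.eq]
    exact ⟨t, ht⟩
  have h1 := Nat.card_le_card_of_injective Ψ hinj
  have h2 : Nat.card ((EE T \ Tree r par : Finset _) → ZMod ℓ) = ℓ ^ (EE T \ Tree r par).card := by
    rw [Nat.card_eq_fintype_card, Fintype.card_fun, ZMod.card, Fintype.card_coe]
  rw [h2] at h1
  have : T.topGenus.toNat = (EE T \ Tree r par).card := by omega
  rw [this]
  exact h1

/-- the bound by the genus for arbitrary types -/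
theorem card_torsion_le_genus : ∀ (n : ℕ) (T : Models.NumericalType n), 2 ≤ T.genus →
    ∀ (ℓ : ℕ), ℓ.Prime → 768 * T.genus < ℓ →
    Nat.card (Submodule.torsionBy ℤ T.Pic (ℓ : ℤ)) ≤ ℓ ^ T.genus.toNat := by
  classical
  intro n
  induction n with
  | zero =>
    intro T
    exact absurd T.pos (lt_irrefl 0)
  | succ n ih =>
    intro T hg ℓ hℓ hℓg
    by_cases hmin : T.IsMinimal
    · have h1 := card_torsion_le_top T hmin hg ℓ hℓ hℓg
      have h2 : T.topGenus ≤ T.genus := top_le T hmin hg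
      exact le_trans h1 (Nat.pow_le_pow_right hℓ.pos (Int.toNat_le_toNat h2))
    · have hex : ∃ i₀, T.IsMinusOne i₀ := by
        by_contra hcon
        apply hmin
        intro i hi
        exact hcon ⟨i, hi⟩
      obtain ⟨i₀, hi₀⟩ := hex
      have hn : n ≠ 0 := by
        rintro rfl
        have h0 := diag_zero_of_one T rfl i₀
        have hw := T.w_pos i₀
        have := hi₀.2
        omega
      obtain ⟨n', rfl⟩ : ∃ n', n = n' + 1 := ⟨n - 1, by omega⟩
      let σ : Equiv.Perm (Fin (n' + 1 + 1)) := Equiv.swap (Fin.last (n' + 1)) i₀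
      have hlast : (NumPerm.perm T σ).IsMinusOne (Fin.last (n' + 1)) := by
        change T.g (σ _) = 0 ∧ T.a (σ _) (σ _) = - T.w (σ _)
        rw [show σ (Fin.last (n' + 1)) = i₀ from Equiv.swap_apply_left _ _]
        exact hi₀
      obtain ⟨⟨T', hT'⟩, hgen⟩ := Groth.Agent.S2175.result (NumPerm.perm T σ) hlast
      have hg' : T'.genus = T.genus := by
        rw [hgen T' hT', NumPerm.perm_genus]
      have ih' := ih T' (hg' ▸ hg) ℓ hℓ (hg' ▸ hℓg)
      obtain ⟨f, hf, -⟩ := Groth.Agent.S2180.result (NumPerm.perm T σ) hlast T' hT'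
      obtain ⟨e₁⟩ := NumPerm.perm_pic T σ
      let φ : T.Pic →+ T'.Pic := f.comp e₁.toAddMonoidHom
      have hφ : Function.Injective φ := hf.comp e₁.injective
      let Φ : Submodule.torsionBy ℤ T.Pic (ℓ : ℤ) → Submodule.torsionBy ℤ T'.Pic (ℓ : ℤ) :=
        fun ξ => ⟨φ ξ.val, by
          rw [Submodule.mem_torsionBy_iff, ← map_zsmul φ,
            (Submodule.mem_torsionBy_iff _ _).1 ξ.2, map_zero]⟩
      have hΦ : Function.Injective Φ := fun ξ ξ' h =>
        Subtype.ext (hφ (congrArg Subtype.val h))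
      haveI := torsion_finite T' ℓ hℓ.ne_zero
      have h3 := Nat.card_le_card_of_injective Φ hΦ
      rw [← hg']
      exact le_trans h3 ih'

end Groth.Agent.Lib.Helper85.NumTor
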