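import Mathlib
import Groth.Agent.Lib.Helper85.FrobLang

/-!
# Trace of a `p`-linear map on its fixed points (SGA 4½ style)
-/

set_option linter.unusedSectionVars false

namespace Groth.Agent.Lib.Helper85.PLinTrace

open TensorProduct Groth.Agent.Lib.Helper85.FrobLang

section Indep

variable {p : ℕ} [Fact p.Prime] {k K : Type*} [Field k] [Field K] [Algebra k K] [CharP k p]
  [CharP K p] {U : Type*} [AddCommGroup U] [Module K U] [Module k U] [IsScalarTower k K U]

theorem exists_bot_of_pow_eq (c : K) (hc : c ^ p = c) :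
    ∃ g : (⊥ : Subfield k), algebraMap k K (g : k) = c := by
  have h1 : c ∈ (⊥ : Subfield K) := (Subfield.mem_bot_iff_pow_eq_self K p).mpr hc
  rw [← Subfield.map_bot (algebraMap k K)] at h1
  obtain ⟨g, hg, rfl⟩ := Subfield.mem_map.mp h1
  exact ⟨⟨g, hg⟩, rfl⟩

theorem bot_smul_eq (g : (⊥ : Subfield k)) (y : U) : g • y = algebraMap k K (g : k) • y := by
  rw [Subfield.smul_def, algebraMap_smul]

theorem algebraMap_bot_pow (g : (⊥ : Subfield k)) :
    (algebraMap k K (g : k)) ^ p = algebraMap k K (g : k) := by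
  rw [← map_pow, (Subfield.mem_bot_iff_pow_eq_self k p).mp g.2]

/-- fixed vectors of a Frobenius-semilinear map that are independent over the prime field are
independent over `K`. -/
theorem li_of_fixed (T : U →ₛₗ[frobenius K p] U) {ι : Type*} (w : ι → U)
    (hw : ∀ i, T (w i) = w i) (hli : LinearIndependent (↥(⊥ : Subfield k)) w) :
    LinearIndependent K w := by
  classical
  rw [linearIndependent_iff']
  intro s
  induction' hn : s.card using Nat.strong_induction_on with n ih generalizing s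
  intro c hc
  by_contra hne
  push Not at hne
  obtain ⟨i₀, hi₀, hci₀⟩ := hne
  set c' : ι → K := fun i => c i / c i₀ with hc'
  have hc'0 : c' i₀ = 1 := by simp [hc', hci₀]
  have hsum' : ∑ i ∈ s, c' i • w i = 0 := by
    have : ∑ i ∈ s, c' i • w i = (c i₀)⁻¹ • ∑ i ∈ s, c i • w i := by
      rw [Finset.smul_sum]
      apply Finset.sum_congr rfl
      intro i _
      rw [smul_smul]
      show (c i / c i₀) • w i = _
      rw [div_eq_inv_mul]
    rw [this, hc, smul_zero]
  have hT : ∑ i ∈ s, (c' i) ^ p • w i = 0 := by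
    have := congrArg T hsum'
    rw [map_sum_smul, map_zero] at this
    rw [← this]
    apply Finset.sum_congr rfl
    intro i _
    rw [hw]
  have hdiff : ∑ i ∈ s.erase i₀, ((c' i) ^ p - c' i) • w i = 0 := by
    have h1 : ∑ i ∈ s, ((c' i) ^ p - c' i) • w i = 0 := by
      simp only [sub_smul, Finset.sum_sub_distrib, hT, hsum', sub_zero]
    rw [← Finset.add_sum_erase s _ hi₀, hc'0, one_pow, sub_self, zero_smul, zero_add] at h1
    exact h1
  have hcard : (s.erase i₀).card < n := by
    rw [Finset.card_erase_of_mem hi₀, hn]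
    exact Nat.sub_lt (hn ▸ Finset.card_pos.mpr ⟨i₀, hi₀⟩) Nat.one_pos
  have hfix : ∀ i ∈ s, (c' i) ^ p = c' i := by
    intro i hi
    by_cases h : i = i₀
    · rw [h, hc'0, one_pow]
    · have := ih _ hcard (s.erase i₀) rfl _ hdiff i (Finset.mem_erase.mpr ⟨h, hi⟩)
      exact sub_eq_zero.mp this
  choose! g hg using fun i (hi : i ∈ s) => exists_bot_of_pow_eq (k := k) (c' i) (hfix i hi)
  have hrel : ∑ i ∈ s, g i • w i = 0 := by
    rw [← hsum']
    apply Finset.sum_congr rfl
    intro i hi
    rw [bot_smul_eq (K := K), hg i hi]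
  have := linearIndependent_iff'.mp hli s g hrel i₀ hi₀
  have h1 : algebraMap k K (g i₀ : k) = 1 := by rw [hg i₀ hi₀, hc'0]
  rw [this] at h1
  simp at h1

end Indep

section Span

variable {p : ℕ} [Fact p.Prime] {K : Type*} [Field K] [CharP K p] [IsAlgClosed K]
  {U : Type*} [AddCommGroup U] [Module K U] [FiniteDimensional K U]

theorem span_range_of_injective (T : U →ₛₗ[frobenius K p] U) (hT : Function.Injective T) :
    Submodule.span K (Set.range T) = ⊤ := by
  classical
  have hp : p.Prime := Fact.out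
  let b := Module.finBasis K U
  have hli : LinearIndependent K (fun i => T (b i)) := by
    rw [Fintype.linearIndependent_iff]
    intro c hc
    have : ∀ i, ∃ d : K, d ^ p = c i := fun i => IsAlgClosed.exists_pow_nat_eq (c i) hp.pos
    choose d hd using this
    have h0 : T (∑ i, d i • b i) = 0 := by
      rw [map_sum_smul, ← hc]
      exact Finset.sum_congr rfl (fun i _ => by rw [hd])
    have h1 : ∑ i, d i • b i = 0 := hT (by rw [h0, map_zero])
    have h2 := Fintype.linearIndependent_iff.mp b.linearIndependent d h1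
    intro i
    rw [← hd, h2 i, zero_pow hp.ne_zero]
  have hspan := hli.span_eq_top_of_card_eq_finrank' (by simp)
  rw [eq_top_iff, ← hspan]
  apply Submodule.span_mono
  rintro _ ⟨i, rfl⟩
  exact ⟨b i, rfl⟩

end Span

section Main

universe u

variable {p : ℕ} [Fact p.Prime] {k : Type u} [Field k] [Fintype k] [CharP k p] {f : ℕ}
  (hq : Fintype.card k = p ^ f)
  {K : Type u} [Field K] [Algebra k K] [IsAlgClosed K] [CharP K p]
  {V : Type u} [AddCommGroup V] [Module k V] [FiniteDimensional k V]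
  {φ : V →ₛₗ[frobenius k p] V} {F : V →ₗ[k] V} (hF : ∀ x, F x = (⇑φ)^[f] x)
  {φK : K ⊗[k] V →+ K ⊗[k] V} (hφK : ∀ (μ : K) (v : V), φK (μ ⊗ₜ[k] v) = (μ ^ p) ⊗ₜ[k] φ v)

include hφK in
theorem φK_smul (c : K) (y : K ⊗[k] V) : φK (c • y) = c ^ p • φK y := by
  induction y using TensorProduct.induction_on with
  | zero => simp
  | tmul μ v =>
    rw [TensorProduct.smul_tmul', hφK, hφK, smul_eq_mul, mul_pow, TensorProduct.smul_tmul',
      smul_eq_mul]
  | add x y hx hy => rw [smul_add, map_add, hx, hy, map_add, smul_add]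

/-- `φK` as a Frobenius-semilinear map. -/
noncomputable def TK : (K ⊗[k] V) →ₛₗ[frobenius K p] (K ⊗[k] V) where
  toFun := φK
  map_add' := φK.map_add
  map_smul' c y := by
    rw [φK_smul hφK, frobenius_def]

theorem TK_apply (y : K ⊗[k] V) : TK hφK y = φK y := rfl

include hF hφK in
theorem φK_comm_F (y : K ⊗[k] V) : φK (F.baseChange K y) = F.baseChange K (φK y) := by
  induction y using TensorProduct.induction_on with
  | zero => simp
  | tmul μ v =>
    rw [LinearMap.baseChange_tmul, hφK, hφK, LinearMap.baseChange_tmul, hF, hF]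
    congr 1
    exact (Function.iterate_succ_apply' (⇑φ) f v).symm.trans (Function.iterate_succ_apply (⇑φ) f v)
  | add x y hx hy => rw [map_add, map_add, hx, hy, map_add, map_add]

include hF hφK in
theorem φK_comm_F_pow (n : ℕ) (y : K ⊗[k] V) :
    φK ((F.baseChange K ^ n) y) = (F.baseChange K ^ n) (φK y) := by
  induction n generalizing y with
  | zero => simp
  | succ n ih =>
    rw [pow_succ, Module.End.mul_apply, Module.End.mul_apply, ih, φK_comm_F hF hφK]

include hq in
/-- the `q`-power map of `K`, a `k`-linear map. -/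
noncomputable def frobq : K →ₗ[k] K where
  toFun μ := μ ^ p ^ f
  map_add' μ ν := add_pow_char_pow μ ν p f
  map_smul' c μ := by
    rw [RingHom.id_apply, Algebra.smul_def, mul_pow, ← map_pow, ← hq, FiniteField.pow_card,
      Algebra.smul_def]

theorem frobq_apply (μ : K) : frobq hq μ = μ ^ p ^ f := rfl

theorem frobq_injective : Function.Injective (frobq (K := K) hq) := by
  intro μ ν h
  have h' : (frobenius K p)^[f] μ = (frobenius K p)^[f] ν := by
    rw [iterate_frobenius, iterate_frobenius]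
    exact h
  exact (frobenius_inj K p).iterate f h'

/-- `σ = Frob_q ⊗ id`. -/
noncomputable def sigK : K ⊗[k] V →ₗ[k] K ⊗[k] V := LinearMap.rTensor V (frobq hq)

theorem sigK_tmul (μ : K) (v : V) : sigK hq (μ ⊗ₜ[k] v) = (μ ^ p ^ f) ⊗ₜ[k] v := rfl

theorem sigK_injective : Function.Injective (sigK (K := K) (V := V) hq) :=
  Module.Flat.rTensor_preserves_injective_linearMap _ (frobq_injective hq)

include hφK in
theorem φK_iterate_tmul (n : ℕ) (μ : K) (v : V) :
    (⇑φK)^[n] (μ ⊗ₜ[k] v) = (μ ^ p ^ n) ⊗ₜ[k] (⇑φ)^[n] v := by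
  induction n with
  | zero => simp
  | succ n ih =>
    rw [Function.iterate_succ_apply', ih, hφK, Function.iterate_succ_apply', ← pow_mul,
      ← pow_succ]

include hF hφK in
theorem φK_iterate (y : K ⊗[k] V) : (⇑φK)^[f] y = sigK hq (F.baseChange K y) := by
  induction y using TensorProduct.induction_on with
  | zero => simp [iterate_map_zero]
  | tmul μ v =>
    rw [φK_iterate_tmul hφK, LinearMap.baseChange_tmul, sigK_tmul, hF]
  | add x y hx hy =>
    rw [iterate_map_add, hx, hy, map_add, map_add]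

theorem sigK_comm_F (y : K ⊗[k] V) :
    sigK hq (F.baseChange K y) = F.baseChange K (sigK hq y) := by
  induction y using TensorProduct.induction_on with
  | zero => simp
  | tmul μ v => rw [LinearMap.baseChange_tmul, sigK_tmul, sigK_tmul, LinearMap.baseChange_tmul]
  | add x y hx hy => rw [map_add, map_add, hx, hy, map_add, map_add]

include hφK in
theorem sigK_comm_φK (y : K ⊗[k] V) : sigK hq (φK y) = φK (sigK hq y) := by
  induction y using TensorProduct.induction_on with
  | zero => simp
  | tmul μ v =>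
    rw [hφK, sigK_tmul, sigK_tmul, hφK, ← pow_mul, ← pow_mul, mul_comm]
  | add x y hx hy => rw [map_add, map_add, hx, hy, map_add, map_add]

include hF hφK in
/-- on fixed vectors, `σ ∘ F_K = id`. -/
theorem sigK_F_of_fixed (y : K ⊗[k] V) (hy : φK y = y) : sigK hq (F.baseChange K y) = y := by
  rw [← φK_iterate hq hF hφK]
  exact Function.iterate_fixed hy f

include hq hF hφK in
theorem fixed_mem_range_pow (n : ℕ) (y : K ⊗[k] V) (hy : φK y = y) :
    y ∈ LinearMap.range (F.baseChange K ^ n) := by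
  induction n generalizing y with
  | zero => exact ⟨y, by simp⟩
  | succ n ih =>
    have h1 : φK (sigK hq y) = sigK hq y := by rw [← sigK_comm_φK hq hφK, hy]
    obtain ⟨z, hz⟩ := ih _ h1
    refine ⟨z, ?_⟩
    rw [pow_succ', Module.End.mul_apply, hz, ← sigK_comm_F, sigK_F_of_fixed hq hF hφK y hy]

end Main

section Fitting

universe u

variable {p : ℕ} [Fact p.Prime] {k : Type u} [Field k] [Fintype k] [CharP k p] {f : ℕ}
  (hq : Fintype.card k = p ^ f)
  {K : Type u} [Field K] [Algebra k K] [IsAlgClosed K] [CharP K p]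
  {V : Type u} [AddCommGroup V] [Module k V] [FiniteDimensional k V]
  {φ : V →ₛₗ[frobenius k p] V} {F : V →ₗ[k] V} (hF : ∀ x, F x = (⇑φ)^[f] x)
  {φK : K ⊗[k] V →+ K ⊗[k] V} (hφK : ∀ (μ : K) (v : V), φK (μ ⊗ₜ[k] v) = (μ ^ p) ⊗ₜ[k] φ v)

variable (K F) in
/-- the part where `F_K` is bijective. -/
noncomputable def Rg : Submodule K (K ⊗[k] V) := ⨅ n, LinearMap.range (F.baseChange K ^ n)

variable (K F) in
/-- the part where `F_K` is nilpotent. -/
noncomputable def Ng : Submodule K (K ⊗[k] V) := ⨆ n, LinearMap.ker (F.baseChange K ^ n)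

theorem isCompl_Ng_Rg : IsCompl (Ng K F) (Rg K F) :=
  LinearMap.isCompl_iSup_ker_pow_iInf_range_pow (F.baseChange K)

include hq hF hφK in
theorem fixed_mem_Rg (y : K ⊗[k] V) (hy : φK y = y) : y ∈ Rg K F :=
  (Submodule.mem_iInf _).mpr (fun n => fixed_mem_range_pow hq hF hφK n y hy)

include hF hφK in
theorem Rg_stable_φK (z : K ⊗[k] V) (hz : z ∈ Rg K F) : φK z ∈ Rg K F := by
  rw [Rg, Submodule.mem_iInf] at hz ⊢
  intro n
  obtain ⟨u, hu⟩ := hz n
  exact ⟨φK u, by rw [← φK_comm_F_pow hF hφK, hu]⟩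

theorem Rg_stable_F (z : K ⊗[k] V) (hz : z ∈ Rg K F) : F.baseChange K z ∈ Rg K F := by
  rw [Rg, Submodule.mem_iInf] at hz ⊢
  intro n
  obtain ⟨u, hu⟩ := hz n
  refine ⟨F.baseChange K u, ?_⟩
  rw [← hu, ← Module.End.mul_apply, ← pow_succ, pow_succ', Module.End.mul_apply]

theorem exists_Ng_eq_ker : ∃ m : ℕ, Ng K F = LinearMap.ker (F.baseChange K ^ m) := by
  obtain ⟨m, hm⟩ := Filter.eventually_atTop.mp (F.baseChange K).eventually_iSup_ker_pow_eq
  exact ⟨m, hm m le_rfl⟩

theorem Ng_stable_F (z : K ⊗[k] V) (hz : z ∈ Ng K F) : F.baseChange K z ∈ Ng K F := by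
  obtain ⟨m, hm⟩ := exists_Ng_eq_ker (K := K) (F := F)
  rw [hm, LinearMap.mem_ker] at hz ⊢
  rw [← Module.End.mul_apply, ← pow_succ, pow_succ', Module.End.mul_apply, hz, map_zero]

include hq in
theorem f_ne_zero : f ≠ 0 := by
  rintro rfl
  have := Fintype.one_lt_card (α := k)
  rw [hq] at this
  simp at this

include hq hF hφK in
theorem φK_injOn_Rg (z : K ⊗[k] V) (hz : z ∈ Rg K F) (h0 : φK z = 0) : z = 0 := by
  obtain ⟨f', rfl⟩ := Nat.exists_eq_succ_of_ne_zero (f_ne_zero (k := k) hq)
  have h1 : (⇑φK)^[f' + 1] z = 0 := by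
    rw [Function.iterate_succ_apply, h0, iterate_map_zero]
  rw [φK_iterate hq hF hφK] at h1
  have h2 : F.baseChange K z = 0 := sigK_injective hq (by rw [h1, map_zero])
  have h3 : z ∈ Ng K F := by
    refine Submodule.mem_iSup_of_mem 1 ?_
    rw [LinearMap.mem_ker, pow_one, h2]
  have h4 : z ∈ Ng K F ⊓ Rg K F := ⟨h3, hz⟩
  rw [(isCompl_Ng_Rg (K := K) (F := F)).inf_eq_bot] at h4
  exact (Submodule.mem_bot K).mp h4

include hq hF hφK in
/-- **Lang**: the bijective part is spanned by the fixed vectors. -/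
theorem Rg_le_span_fixed : Rg K F ≤ Submodule.span K {y : K ⊗[k] V | φK y = y} := by
  obtain ⟨T', hT'val⟩ : ∃ T' : ↥(Rg K F) →ₛₗ[frobenius K p] ↥(Rg K F),
      ∀ z : ↥(Rg K F), (T' z : K ⊗[k] V) = φK z.1 :=
    ⟨((TK hφK).domRestrict (Rg K F)).codRestrict (Rg K F)
      (fun z => Rg_stable_φK hF hφK z.1 z.2), fun z => rfl⟩
  have hinj : Function.Injective T' := by
    rw [injective_iff_map_eq_zero]
    intro z hz
    apply Subtype.ext
    apply φK_injOn_Rg hq hF hφK z.1 z.2
    rw [← hT'val, hz]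
    rfl
  have hspan : Submodule.span K (Set.range T') = ⊤ := by
    have h := @span_range_of_injective p _ K _ _ _ ↥(Rg K F) _ _ _
    exact h T' hinj
  have hfix := (@fixedSpan_eq_top p _ K _ _ ↥(Rg K F) _ _ _ _) T' hspan
  have hmap : ∀ x : ↥(Rg K F), x ∈ (⊤ : Submodule K ↥(Rg K F)) →
      (x : K ⊗[k] V) ∈ Submodule.span K {y : K ⊗[k] V | φK y = y} := by
    rw [← hfix]
    intro x hx
    unfold fixedSpan at hx
    induction hx using Submodule.span_induction with
    | mem y hy =>
      apply Submodule.subset_span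
      show φK y.1 = y.1
      rw [← hT'val]
      exact congrArg Subtype.val hy
    | zero => exact Submodule.zero_mem _
    | add a b _ _ ha hb => exact Submodule.add_mem _ ha hb
    | smul c a _ ha => exact Submodule.smul_mem _ c ha
  intro z hz
  exact hmap ⟨z, hz⟩ Submodule.mem_top

end Fitting

end Groth.Agent.Lib.Helper85.PLinTrace
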