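import Mathlib
import Groth.Agent.Lib.Helper85.FrobLang
import Groth.Agent.Lib.Helper85.PLinTrace

/-!
# Trace of a `p`-linear map on its fixed points: the final comparison
-/

set_option linter.unusedSectionVars false

namespace Groth.Agent.Lib.Helper85.PLinTrace

open TensorProduct Groth.Agent.Lib.Helper85.FrobLang

section Indep'

variable {p : ℕ} [Fact p.Prime] {k K : Type*} [Field k] [Field K] [Algebra k K] [CharP k p]
  [CharP K p] {U : Type*} [AddCommGroup U] [Module K U]

/-- variant of `li_of_fixed` with minimal instance assumptions on `U`. -/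
theorem li_of_fixed' (T : U →ₛₗ[frobenius K p] U) {ι : Type*} (w : ι → U)
    (hw : ∀ i, T (w i) = w i)
    (hli : ∀ (s : Finset ι) (g : ι → ↥(⊥ : Subfield k)),
      ∑ i ∈ s, algebraMap k K (g i : k) • w i = 0 → ∀ i ∈ s, g i = 0) :
    LinearIndependent K w := by
  classical
  rw [linearIndependent_iff']
  intro s
  induction' hn : s.card using Nat.strong_induction_on with n ih generalizing s
  intro c hc
  by_contra hne
  push Not at hne
  obtain ⟨i₀, hi₀, hci₀⟩ := hne
  set c' : ι → K := fun i => c i / c i₀ with hc'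
  have hc'0 : c' i₀ = 1 := by simp [hc', hci₀]
  have hsum' : ∑ i ∈ s, c' i • w i = 0 := by
    have : ∑ i ∈ s, c' i • w i = (c i₀)⁻¹ • ∑ i ∈ s, c i • w i := by
      rw [Finset.smul_sum]
      apply Finset.sum_congr rfl
      intro i _
      rw [smul_smul]
      show (c i / c i₀) • w i = _
      rw [div_eq_inv_mul]
    rw [this, hc, smul_zero]
  have hT : ∑ i ∈ s, (c' i) ^ p • w i = 0 := by
    have := congrArg T hsum'
    rw [map_sum, map_zero] at this
    rw [← this]
    apply Finset.sum_congr rfl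
    intro i _
    rw [map_smulₛₗ, frobenius_def, hw]
  have hneg : ∑ i ∈ s, (-(c' i)) • w i = 0 := by
    have : ∑ i ∈ s, (-(c' i)) • w i = (-1 : K) • ∑ i ∈ s, c' i • w i := by
      rw [Finset.smul_sum]
      apply Finset.sum_congr rfl
      intro i _
      rw [smul_smul, neg_one_mul]
    rw [this, hsum', smul_zero]
  have hdiff : ∑ i ∈ s.erase i₀, ((c' i) ^ p - c' i) • w i = 0 := by
    have h1 : ∑ i ∈ s, ((c' i) ^ p - c' i) • w i = 0 := by
      simp only [sub_eq_add_neg, add_smul, Finset.sum_add_distrib, hT, hneg, add_zero]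
    rw [← Finset.add_sum_erase s _ hi₀, hc'0, one_pow, sub_self, zero_smul, zero_add] at h1
    exact h1
  have hcard : (s.erase i₀).card < n := by
    rw [Finset.card_erase_of_mem hi₀, hn]
    exact Nat.sub_lt (hn ▸ Finset.card_pos.mpr ⟨i₀, hi₀⟩) Nat.one_pos
  have hfix : ∀ i ∈ s, (c' i) ^ p = c' i := by
    intro i hi
    by_cases h : i = i₀
    · rw [h, hc'0, one_pow]
    · have := ih _ hcard (s.erase i₀) rfl _ hdiff i (Finset.mem_erase.mpr ⟨h, hi⟩)
      exact sub_eq_zero.mp this
  choose! g hg using fun i (hi : i ∈ s) => exists_bot_of_pow_eq (k := k) (c' i) (hfix i hi)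
  have hrel : ∑ i ∈ s, algebraMap k K (g i : k) • w i = 0 := by
    rw [← hsum']
    apply Finset.sum_congr rfl
    intro i hi
    rw [hg i hi]
  have := hli s g hrel i₀ hi₀
  have h1 : algebraMap k K (g i₀ : k) = 1 := by rw [hg i₀ hi₀, hc'0]
  rw [this] at h1
  simp at h1

end Indep'

section FittingTrace

variable {K : Type*} [Field K] {U : Type*} [AddCommGroup U] [Module K U] [FiniteDimensional K U]

/-- the trace only sees the bijective (Fitting) part. -/
theorem trace_eq_trace_restrict_iInf_range (T : U →ₗ[K] U)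
    (hR : ∀ z ∈ (⨅ n, LinearMap.range (T ^ n)), T z ∈ (⨅ n, LinearMap.range (T ^ n))) :
    LinearMap.trace K U T = LinearMap.trace K _ (T.restrict hR) := by
  classical
  have hc : IsCompl (⨆ n, LinearMap.ker (T ^ n)) (⨅ n, LinearMap.range (T ^ n)) :=
    LinearMap.isCompl_iSup_ker_pow_iInf_range_pow T
  obtain ⟨m, hm⟩ : ∃ m, (⨆ n, LinearMap.ker (T ^ n)) = LinearMap.ker (T ^ m) := by
    obtain ⟨m, hm⟩ := Filter.eventually_atTop.mp T.eventually_iSup_ker_pow_eq
    exact ⟨m, hm m le_rfl⟩
  have hNst : ∀ z ∈ (⨆ n, LinearMap.ker (T ^ n)), T z ∈ (⨆ n, LinearMap.ker (T ^ n)) := by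
    intro z hz
    rw [hm, LinearMap.mem_ker] at hz ⊢
    rw [← Module.End.mul_apply, ← pow_succ, pow_succ', Module.End.mul_apply, hz, map_zero]
  generalize hNdef : (⨆ n, LinearMap.ker (T ^ n)) = N at *
  generalize hRdef : (⨅ n, LinearMap.range (T ^ n)) = R at *
  obtain ⟨A, hA0, hA1⟩ : ∃ A : Bool → Submodule K U,
      A false = N ∧ A true = R :=
    ⟨fun i => bif i then R else N, rfl, rfl⟩
  have hint : DirectSum.IsInternal A := by
    rw [DirectSum.isInternal_submodule_iff_isCompl A (i := false) (j := true) (by decide)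
      (by ext i; cases i <;> simp), hA0, hA1]
    exact hc
  have hf : ∀ i, ∀ x ∈ A i, T x ∈ A i := by
    intro i
    cases i
    · rw [hA0]; exact hNst
    · rw [hA1]; exact hR
  have hfin : ∀ i, Module.Finite K (A i) := fun i => inferInstance
  have hfree : ∀ i, Module.Free K (A i) := fun i => inferInstance
  have key := LinearMap.trace_eq_sum_trace_restrict hint hf
  rw [Fintype.sum_bool] at key
  have h0 : LinearMap.trace K _ (T.restrict (hf false)) = 0 := by
    apply IsNilpotent.eq_zero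
    apply LinearMap.isNilpotent_trace_of_isNilpotent
    refine ⟨m, ?_⟩
    ext ⟨x, hx⟩
    rw [Module.End.pow_restrict m (hf false), LinearMap.restrict_apply]
    have hx' : x ∈ LinearMap.ker (T ^ m) := by rw [← hm, ← hA0]; exact hx
    simpa using hx'
  rw [h0, add_zero] at key
  rw [key]
  subst hA1
  rfl

theorem trace_restrict_of_li {ι : Type*} [Fintype ι] [DecidableEq ι] (T : U →ₗ[K] U) (w : ι → U)
    (hli : LinearIndependent K w) (R : Submodule K U)
    (hspan : Submodule.span K (Set.range w) = R) (hR : ∀ z ∈ R, T z ∈ R)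
    (M : Matrix ι ι K) (hM : ∀ j, T (w j) = ∑ l, M l j • w l) :
    LinearMap.trace K ↥R (T.restrict hR) = ∑ i, M i i := by
  subst hspan
  rw [LinearMap.trace_eq_matrix_trace K (Module.Basis.span hli), Matrix.trace]
  apply Finset.sum_congr rfl
  intro i _
  rw [Matrix.diag_apply, LinearMap.toMatrix_apply]
  have h1 : (T.restrict hR) (Module.Basis.span hli i) = ∑ l, M l i • Module.Basis.span hli l := by
    apply Subtype.ext
    rw [LinearMap.coe_restrict_apply, Module.Basis.coe_span_apply, hM,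
      AddSubmonoidClass.coe_finsetSum]
    apply Finset.sum_congr rfl
    intro l _
    rw [Submodule.coe_smul, Module.Basis.coe_span_apply]
  rw [h1, Module.Basis.repr_sum_self]

end FittingTrace

section Final

universe u

variable {p : ℕ} [Fact p.Prime] {k : Type u} [Field k] [Fintype k] [CharP k p] {f : ℕ}
  (hq : Fintype.card k = p ^ f)
  {K : Type u} [Field K] [Algebra k K] [IsAlgClosed K] [CharP K p]
  {V : Type u} [AddCommGroup V] [Module k V] [FiniteDimensional k V]
  {φ : V →ₛₗ[frobenius k p] V} {F : V →ₗ[k] V} (hF : ∀ x, F x = (⇑φ)^[f] x)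
  {φK : K ⊗[k] V →+ K ⊗[k] V} (hφK : ∀ (μ : K) (v : V), φK (μ ⊗ₜ[k] v) = (μ ^ p) ⊗ₜ[k] φ v)
  (W : Submodule (↥(⊥ : Subfield k)) (K ⊗[k] V)) (hW : ∀ y, y ∈ W ↔ φK y = y)

include hφK hW in
theorem basis_li_K {ι : Type*} (b : Module.Basis ι (↥(⊥ : Subfield k)) ↥W) :
    LinearIndependent K (fun i => ((b i : ↥W) : K ⊗[k] V)) := by
  classical
  have hfix : ∀ i, TK hφK ((b i : ↥W) : K ⊗[k] V) = ((b i : ↥W) : K ⊗[k] V) :=
    fun i => (hW _).mp (b i).2
  refine li_of_fixed' (k := k) (K := K) (U := K ⊗[k] V) (TK hφK)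
    (fun i => ((b i : ↥W) : K ⊗[k] V)) hfix ?_
  intro s g hg j hj
  have h1 : (∑ i ∈ s, g i • b i : ↥W) = 0 := by
    apply Subtype.ext
    rw [AddSubmonoidClass.coe_finsetSum, ZeroMemClass.coe_zero, ← hg]
    apply Finset.sum_congr rfl
    intro i _
    rw [Submodule.coe_smul, Subfield.smul_def, algebraMap_smul]
  have h2 := congrArg (fun x => b.repr x j) h1
  simp only [map_sum, map_smul, Module.Basis.repr_self, Finsupp.coe_finsetSum, Finset.sum_apply,
    Finsupp.smul_apply, Finsupp.single_apply, smul_eq_mul, mul_ite, mul_one, mul_zero,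
    Finset.sum_ite_eq', hj, if_true, map_zero, Finsupp.coe_zero, Pi.zero_apply] at h2
  exact h2

include hφK hW in
theorem finite_W : Module.Finite (↥(⊥ : Subfield k)) ↥W := by
  haveI : Module.Free (↥(⊥ : Subfield k)) ↥W :=
    @Module.Free.of_divisionRing ↥(⊥ : Subfield k) ↥W _ (Submodule.addCommGroup W) _
  let b := Module.Free.chooseBasis (↥(⊥ : Subfield k)) ↥W
  have hli := basis_li_K hφK W hW b
  haveI : Finite (Module.Free.ChooseBasisIndex (↥(⊥ : Subfield k)) ↥W) :=
    hli.finite_of_isNoetherian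
  exact Module.Finite.of_basis b

include hq hF hφK hW in
theorem span_basis_eq_Rg {ι : Type*} (b : Module.Basis ι (↥(⊥ : Subfield k)) ↥W) :
    Submodule.span K (Set.range (fun i => ((b i : ↥W) : K ⊗[k] V))) = Rg K F := by
  apply le_antisymm
  · rw [Submodule.span_le]
    rintro _ ⟨i, rfl⟩
    exact fixed_mem_Rg hq hF hφK _ ((hW _).mp (b i).2)
  · refine (Rg_le_span_fixed hq hF hφK).trans ?_
    rw [Submodule.span_le]
    intro y hy
    have hyW : y ∈ W := (hW y).mpr hy
    have h1 : y = ∑ i ∈ (b.repr ⟨y, hyW⟩).support,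
        (b.repr ⟨y, hyW⟩ i) • ((b i : ↥W) : K ⊗[k] V) := by
      have := b.linearCombination_repr ⟨y, hyW⟩
      rw [Finsupp.linearCombination_apply, Finsupp.sum] at this
      have h2 := congrArg (Subtype.val : ↥W → K ⊗[k] V) this
      rw [AddSubmonoidClass.coe_finsetSum] at h2
      exact h2.symm
    rw [h1]
    apply Submodule.sum_mem
    intro i _
    rw [Subfield.smul_def, ← algebraMap_smul K]
    exact Submodule.smul_mem _ _ (Submodule.subset_span ⟨i, rfl⟩)

include hq hF hφK hW in
theorem trace_W (G : ↥W →ₗ[↥(⊥ : Subfield k)] ↥W)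
    (hG : ∀ y : ↥W, ((G y : ↥W) : K ⊗[k] V) = F.baseChange K ↑y) :
    algebraMap k K (algebraMap (↥(⊥ : Subfield k)) k
      (LinearMap.trace (↥(⊥ : Subfield k)) ↥W G)) =
      algebraMap k K (LinearMap.trace k V F) := by
  classical
  have hfree : Module.Free (↥(⊥ : Subfield k)) ↥W :=
    @Module.Free.of_divisionRing ↥(⊥ : Subfield k) ↥W _ (Submodule.addCommGroup W) _
  have hfin : Module.Finite (↥(⊥ : Subfield k)) ↥W := finite_W hφK W hW
  obtain ⟨ι, _, _, ⟨b⟩⟩ : ∃ (ι : Type u) (_ : Fintype ι) (_ : DecidableEq ι),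
      Nonempty (Module.Basis ι (↥(⊥ : Subfield k)) ↥W) :=
    ⟨Module.Free.ChooseBasisIndex (↥(⊥ : Subfield k)) ↥W, inferInstance, inferInstance,
      ⟨Module.Free.chooseBasis (↥(⊥ : Subfield k)) ↥W⟩⟩
  have hli := basis_li_K hφK W hW b
  have hspan : Submodule.span K (Set.range (fun i => ((b i : ↥W) : K ⊗[k] V))) =
      ⨅ n, LinearMap.range (F.baseChange K ^ n) := span_basis_eq_Rg hq hF hφK W hW b
  -- the right side
  rw [← LinearMap.trace_baseChange F K,
    trace_eq_trace_restrict_iInf_range (F.baseChange K) (Rg_stable_F (K := K) (F := F))]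
  rw [trace_restrict_of_li (F.baseChange K) (fun i => ((b i : ↥W) : K ⊗[k] V)) hli _ hspan
    (Rg_stable_F (K := K) (F := F))
    (fun l j => algebraMap k K ((b.repr (G (b j)) l : ↥(⊥ : Subfield k)) : k))]
  · rw [LinearMap.trace_eq_matrix_trace (↥(⊥ : Subfield k)) b G, Matrix.trace, map_sum, map_sum]
    apply Finset.sum_congr rfl
    intro i _
    rw [Matrix.diag_apply, LinearMap.toMatrix_apply]
    rfl
  · intro j
    rw [← hG]
    have h1 := b.sum_repr (G (b j))
    have h2 := congrArg (Subtype.val : ↥W → K ⊗[k] V) h1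
    rw [AddSubmonoidClass.coe_finsetSum] at h2
    rw [← h2]
    apply Finset.sum_congr rfl
    intro l _
    rw [Submodule.coe_smul, Subfield.smul_def, algebraMap_smul]

end Final

end Groth.Agent.Lib.Helper85.PLinTrace
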