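import Groth.Agent.Lib.Helper85.PuncLineTensor

/-!
# The type `(m, c)` of an endomorphism of the punctured line
(helper85, for S15179)
-/

namespace Groth.Agent.Lib.Helper85.PuncLine

open MvPolynomial TensorProduct

universe u

attribute [local instance] MvPolynomial.gradedAlgebra

variable {K L : Type u} [Field K] [Field L] [Algebra K L] {q : MvPolynomial (Fin 2) K}
variable (D : QD K L q)

/-- base change of an endomorphism -/
noncomputable def gB (L : Type u) [Field L] [Algebra K L] (g : AA q →ₐ[K] AA q) :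
    AA q ⊗[K] L →ₐ[K] AA q ⊗[K] L :=
  Algebra.TensorProduct.map g (AlgHom.id K L)

lemma gB_tmul (g : AA q →ₐ[K] AA q) (x : AA q) (ℓ : L) : gB L g (x ⊗ₜ[K] ℓ) = g x ⊗ₜ[K] ℓ := by
  simp [gB]

lemma gB_incL (g : AA q →ₐ[K] AA q) (ℓ : L) : gB L g (incL q L ℓ) = incL q L ℓ := by
  rw [incL_apply, gB_tmul, map_one]

lemma gB_comp (g h : AA q →ₐ[K] AA q) (z : AA q ⊗[K] L) :
    gB L (g.comp h) z = gB L g (gB L h z) := by
  induction z using TensorProduct.induction_on with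
  | zero => simp
  | tmul x ℓ => simp [gB_tmul]
  | add z w hz hw => simp only [map_add, hz, hw]

lemma gB_id (z : AA q ⊗[K] L) : gB L (AlgHom.id K (AA q)) z = z := by
  simp [gB]

/-- conjugation on the base change -/
noncomputable def QD.sB : AA q ⊗[K] L →ₐ[K] AA q ⊗[K] L :=
  Algebra.TensorProduct.map (AlgHom.id K (AA q)) D.σ

lemma QD.sB_tmul (x : AA q) (ℓ : L) : D.sB (x ⊗ₜ[K] ℓ) = x ⊗ₜ[K] D.σ ℓ := by
  simp [QD.sB]

lemma QD.Phi_sB (z : AA q ⊗[K] L) : D.Phi (D.sB z) = D.sC (D.Phi z) := by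
  induction z using TensorProduct.induction_on with
  | zero => simp
  | tmul x ℓ => rw [D.sB_tmul, D.Phi_tmul, D.Phi_tmul, map_mul, D.sC_phiA, D.sC_cst]
  | add z w hz hw => simp only [map_add, hz, hw]

lemma QD.gB_sB (g : AA q →ₐ[K] AA q) (z : AA q ⊗[K] L) :
    gB L g (D.sB z) = D.sB (gB L g z) := by
  induction z using TensorProduct.induction_on with
  | zero => simp
  | tmul x ℓ => simp [gB_tmul, D.sB_tmul]
  | add z w hz hw => simp only [map_add, hz, hw]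

lemma QD.sB_tau : D.sB D.tau = D.tau' := by
  rw [QD.tau, QD.tau']
  simp only [map_add, map_sub, D.sB_tmul, map_mul, map_pow, AlgHom.commutes, D.hσα, map_ofNat]

lemma QD.sB_incL (ℓ : L) : D.sB (incL q L ℓ) = incL q L (D.σ ℓ) := by
  rw [incL_apply, D.sB_tmul, incL_apply]

/-- `gB` on units -/
noncomputable def gBU (L : Type u) [Field L] [Algebra K L] (g : AA q →ₐ[K] AA q) :
    (AA q ⊗[K] L)ˣ →* (AA q ⊗[K] L)ˣ :=
  Units.map (gB L g : AA q ⊗[K] L →* AA q ⊗[K] L)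

lemma gBU_val (g : AA q →ₐ[K] AA q) (u : (AA q ⊗[K] L)ˣ) :
    ((gBU L g u : (AA q ⊗[K] L)ˣ) : AA q ⊗[K] L) = gB L g u := rfl

lemma gBU_incLU (g : AA q →ₐ[K] AA q) (c : Lˣ) : gBU L g (incLU q L c) = incLU q L c := by
  ext1
  rw [gBU_val, incLU_val, gB_incL]

lemma gBU_comp (g h : AA q →ₐ[K] AA q) (u : (AA q ⊗[K] L)ˣ) :
    gBU L (g.comp h) u = gBU L g (gBU L h u) := by
  ext1
  rw [gBU_val, gBU_val, gBU_val, gB_comp]

/-- `sB` on units -/
noncomputable def QD.sBU : (AA q ⊗[K] L)ˣ →* (AA q ⊗[K] L)ˣ :=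
  Units.map (D.sB : AA q ⊗[K] L →* AA q ⊗[K] L)

lemma QD.sBU_val (u : (AA q ⊗[K] L)ˣ) :
    ((D.sBU u : (AA q ⊗[K] L)ˣ) : AA q ⊗[K] L) = D.sB u := rfl

lemma QD.sBU_tauU : D.sBU D.tauU = D.tauU⁻¹ := by
  ext1
  rw [D.sBU_val]
  exact D.sB_tau

lemma QD.sBU_incLU (c : Lˣ) : D.sBU (incLU q L c) = incLU q L (Units.map (D.σ : L →* L) c) := by
  ext1
  rw [D.sBU_val, incLU_val, D.sB_incL, incLU_val]
  rfl

lemma QD.gBU_sBU (g : AA q →ₐ[K] AA q) (u : (AA q ⊗[K] L)ˣ) :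
    gBU L g (D.sBU u) = D.sBU (gBU L g u) := by
  ext1
  rw [gBU_val, D.sBU_val, D.sBU_val, gBU_val, D.gB_sB]

/-! ### Types -/

lemma aux_comp {G : Type*} [CommGroup G] (a b t : G) (m n : ℤ) :
    a * (b * t ^ m) ^ n = a * b ^ n * t ^ (m * n) := by
  rw [mul_zpow, ← zpow_mul, mul_assoc]

lemma aux_inv {G : Type*} [CommGroup G] (a b t : G) (m : ℤ) (h : a * (t⁻¹) ^ m = (b * t ^ m)⁻¹) :
    a = b⁻¹ := by
  rw [mul_inv, inv_zpow] at h
  exact mul_right_cancel h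

lemma cstU_mul_TU_val (c : Lˣ) (m : ℤ) :
    ((cstU L c * TU L ^ m : (CC L)ˣ) : CC L) = AddMonoidAlgebra.single ((m, -m) : ℤ × ℤ) (c : L) := by
  rw [Units.val_mul, cstU_val, TU_zpow, cst_eq, Tpow, AddMonoidAlgebra.single_mul_single, mul_one,
    zero_add]

lemma type_unique {m m' : ℤ} {c c' : Lˣ} (h : cstU L c * TU L ^ m = cstU L c' * TU L ^ m') :
    m = m' ∧ c = c' := by
  have h1 := congrArg Units.val h
  rw [cstU_mul_TU_val, cstU_mul_TU_val] at h1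
  have h2 := congrArg (fun f => f.coeff ((m, -m) : ℤ × ℤ)) h1
  simp only [AddMonoidAlgebra.coeff_single, Finsupp.single_apply] at h2
  rw [if_pos trivial] at h2
  by_cases hm : ((m', -m') : ℤ × ℤ) = (m, -m)
  · rw [if_pos hm] at h2
    rw [Prod.mk.injEq] at hm
    exact ⟨hm.1.symm, Units.ext h2⟩
  · rw [if_neg hm] at h2
    exact absurd h2 c.ne_zero

lemma QD.exists_type (g : AA q →ₐ[K] AA q) :
    ∃ (m : ℤ) (c : Lˣ), D.PhiU (gBU L g D.tauU) = cstU L c * TU L ^ m := by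
  classical
  set U := D.PhiU (gBU L g D.tauU) with hU
  obtain ⟨p, d, hpd⟩ := LaurentCocycle.exists_single_of_mul_eq_one (U : CC L)
    ((U⁻¹ : (CC L)ˣ) : CC L) U.mul_inv
  have hd : d ≠ 0 := by
    rintro rfl
    rw [AddMonoidAlgebra.single_zero] at hpd
    exact U.ne_zero hpd
  have hgr : (U : CC L) ∈ gr L 0 := by
    rw [hU, D.PhiU_val]; exact D.Phi_mem_gr _
  have hp : p.1 + p.2 = 0 := by
    apply hgr p
    rw [hpd, AddMonoidAlgebra.coeff_single, Finsupp.mem_support_iff, Finsupp.single_eq_same]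
    exact hd
  refine ⟨p.1, Units.mk0 d hd, ?_⟩
  ext1
  rw [cstU_mul_TU_val, hpd, Units.val_mk0]
  congr 1
  ext
  · rfl
  · simp; omega

/-- the exponent of an endomorphism -/
noncomputable def QD.tm (g : AA q →ₐ[K] AA q) : ℤ := (D.exists_type g).choose

/-- the constant of an endomorphism -/
noncomputable def QD.tc (g : AA q →ₐ[K] AA q) : Lˣ := (D.exists_type g).choose_spec.choose

lemma QD.type_spec (g : AA q →ₐ[K] AA q) :
    D.PhiU (gBU L g D.tauU) = cstU L (D.tc g) * TU L ^ (D.tm g) :=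
  (D.exists_type g).choose_spec.choose_spec

lemma QD.gBU_tauU (g : AA q →ₐ[K] AA q) :
    gBU L g D.tauU = incLU q L (D.tc g) * D.tauU ^ (D.tm g) := by
  apply D.PhiU_injective
  rw [D.type_spec, map_mul, map_zpow, D.PhiU_incLU, D.PhiU_tauU]

lemma QD.type_eq (g : AA q →ₐ[K] AA q) {m : ℤ} {c : Lˣ}
    (h : gBU L g D.tauU = incLU q L c * D.tauU ^ m) : D.tm g = m ∧ D.tc g = c := by
  apply type_unique
  rw [← D.type_spec, h, map_mul, map_zpow, D.PhiU_incLU, D.PhiU_tauU]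

lemma QD.type_comp (g h : AA q →ₐ[K] AA q) :
    D.tm (g.comp h) = D.tm g * D.tm h ∧ D.tc (g.comp h) = D.tc h * D.tc g ^ D.tm h := by
  apply D.type_eq
  rw [gBU_comp, D.gBU_tauU h, map_mul, map_zpow, gBU_incLU, D.gBU_tauU g, map_mul, map_zpow]
  exact aux_comp (G := (AA q ⊗[K] L)ˣ) _ _ _ _ _

lemma QD.type_id : D.tm (AlgHom.id K (AA q)) = 1 ∧ D.tc (AlgHom.id K (AA q)) = 1 := by
  apply D.type_eq
  rw [map_one, one_mul, zpow_one]
  ext1
  rw [gBU_val, gB_id]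

lemma QD.type_sigma (g : AA q →ₐ[K] AA q) :
    Units.map (D.σ : L →* L) (D.tc g) = (D.tc g)⁻¹ := by
  have h1 : D.sBU (gBU L g D.tauU) = (gBU L g D.tauU)⁻¹ := by
    rw [← D.gBU_sBU, D.sBU_tauU, map_inv]
  rw [D.gBU_tauU g, map_mul, map_zpow, D.sBU_incLU, D.sBU_tauU] at h1
  have h2 := aux_inv (G := (AA q ⊗[K] L)ˣ) _ _ _ _ h1
  rw [← map_inv] at h2
  have h3 := congrArg D.PhiU h2
  rw [D.PhiU_incLU, D.PhiU_incLU] at h3
  have h4 : cstU L (Units.map (D.σ : L →* L) (D.tc g)) * TU L ^ (0 : ℤ)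
      = cstU L (D.tc g)⁻¹ * TU L ^ (0 : ℤ) := by rw [h3]
  exact (type_unique h4).2

lemma QD.eq_id_of_type (g : AA q →ₐ[K] AA q) (hm : D.tm g = 1) (hc : D.tc g = 1) (x : AA q) :
    g x = x := by
  have h1 := D.gBU_tauU g
  rw [hm, hc, map_one, one_mul, zpow_one] at h1
  have h2 : gB L g D.tau = D.tau := congrArg Units.val h1
  have h3 := D.ringHom_eq_id (gB L g : AA q ⊗[K] L →+* AA q ⊗[K] L) (fun ℓ => gB_incL g ℓ) h2
    (x ⊗ₜ[K] (1 : L))
  have h4 : gB L g (x ⊗ₜ[K] (1 : L)) = x ⊗ₜ[K] (1 : L) := h3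
  rw [gB_tmul] at h4
  have h5 := congrArg D.Phi h4
  rw [D.Phi_tmul, D.Phi_tmul, cst_one, mul_one, mul_one] at h5
  exact D.phiA_injective h5

end Groth.Agent.Lib.Helper85.PuncLine
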