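import Groth.Agent.Lib.Helper85.PuncLineQuad

/-!
# Embedding `K[X₀,X₁]_q` into the two-variable Laurent ring over the splitting field
(helper85, for S15179)
-/

namespace Groth.Agent.Lib.Helper85.PuncLine

open MvPolynomial

universe u

/-- the Laurent polynomial ring in two variables -/
abbrev CC (L : Type u) [Field L] := AddMonoidAlgebra L (ℤ × ℤ)

variable {K L : Type u} [Field K] [Field L] [Algebra K L] {q : MvPolynomial (Fin 2) K}

/-- first Laurent variable -/
noncomputable def l1 : CC L := AddMonoidAlgebra.single (1, 0) 1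
/-- second Laurent variable -/
noncomputable def l2 : CC L := AddMonoidAlgebra.single (0, 1) 1

/-- constants -/
noncomputable abbrev cst (c : L) : CC L := algebraMap L (CC L) c

lemma cst_eq (c : L) : cst c = AddMonoidAlgebra.single (0 : ℤ × ℤ) c := rfl

variable (D : QD K L q)

/-- difference of the two roots -/
noncomputable def QD.δ : L := D.β - D.α

lemma QD.δ_ne_zero : D.δ ≠ 0 := by
  rw [QD.δ]; exact sub_ne_zero.mpr (Ne.symm D.hne)

lemma QD.cst_δ_inv_mul : cst D.δ⁻¹ * (cst D.β - cst D.α) = 1 := by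
  rw [← map_sub, ← map_mul, ← QD.δ, inv_mul_cancel₀ D.δ_ne_zero, map_one]

/-- image of `X₀` -/
noncomputable def QD.x0 : CC L := cst D.δ⁻¹ * (cst D.β * l1 - cst D.α * l2)
/-- image of `X₁` -/
noncomputable def QD.x1 : CC L := cst D.δ⁻¹ * (l1 - l2)

lemma QD.x0_sub_α : D.x0 - cst D.α * D.x1 = l1 := by
  rw [QD.x0, QD.x1]
  linear_combination (l1 : CC L) * D.cst_δ_inv_mul

lemma QD.x0_sub_β : D.x0 - cst D.β * D.x1 = l2 := by
  rw [QD.x0, QD.x1]
  linear_combination (l2 : CC L) * D.cst_δ_inv_mul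

/-- the embedding on polynomials -/
noncomputable def QD.emb0 : MvPolynomial (Fin 2) K →ₐ[K] CC L := aeval ![D.x0, D.x1]

@[simp] lemma QD.emb0_X0 : D.emb0 (X 0) = D.x0 := by simp [QD.emb0]
@[simp] lemma QD.emb0_X1 : D.emb0 (X 1) = D.x1 := by simp [QD.emb0]
@[simp] lemma QD.emb0_C (k : K) : D.emb0 (C k) = cst (algebraMap K L k) := by
  rw [QD.emb0, aeval_C, IsScalarTower.algebraMap_apply K L (CC L)]

lemma QD.emb0_q : D.emb0 q = cst (algebraMap K L D.a) * l1 * l2 := by
  rw [congrArg D.emb0 D.hq]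
  simp only [map_add, map_mul, map_pow, QD.emb0_X0, QD.emb0_X1, QD.emb0_C]
  rw [← D.x0_sub_α, ← D.x0_sub_β]
  have h1 := congrArg cst D.hsum
  have h2 := congrArg cst D.hprod
  simp only [map_mul, map_add, map_neg] at h1 h2
  linear_combination ((D.x0 * D.x1)) * h1 - D.x1 ^ 2 * h2

/-! ### Injectivity of `emb0` -/

/-- exponent map -/
def eHom : (Fin 2 →₀ ℕ) →+ ℤ × ℤ where
  toFun m := ((m 0 : ℤ), (m 1 : ℤ))
  map_zero' := rfl
  map_add' m n := by simp

lemma eHom_injective : Function.Injective eHom := by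
  intro m n h
  have h0 : ((m 0 : ℤ), (m 1 : ℤ)) = ((n 0 : ℤ), (n 1 : ℤ)) := h
  rw [Prod.mk.injEq] at h0
  ext i; fin_cases i
  · exact_mod_cast h0.1
  · exact_mod_cast h0.2

/-- polynomials into Laurent polynomials -/
noncomputable def iota : MvPolynomial (Fin 2) L →+* CC L :=
  AddMonoidAlgebra.mapDomainRingHom L eHom

lemma iota_injective : Function.Injective (iota (L := L)) :=
  AddMonoidAlgebra.mapDomain_injective eHom_injective

lemma iota_X0 : iota (X 0 : MvPolynomial (Fin 2) L) = l1 := by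
  rw [iota, X, monomial]
  simp [l1, eHom]

lemma iota_X1 : iota (X 1 : MvPolynomial (Fin 2) L) = l2 := by
  rw [iota, X, monomial]
  simp [l2, eHom]

lemma iota_C (c : L) : iota (C c : MvPolynomial (Fin 2) L) = cst c := by
  change iota (AddMonoidAlgebra.single 0 c) = _
  rw [iota]
  simp [cst_eq]

/-- linear substitution -/
noncomputable def QD.lam : MvPolynomial (Fin 2) L →ₐ[L] MvPolynomial (Fin 2) L :=
  aeval ![C D.δ⁻¹ * (C D.β * X 0 - C D.α * X 1), C D.δ⁻¹ * (X 0 - X 1)]

/-- inverse linear substitution -/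
noncomputable def QD.mu : MvPolynomial (Fin 2) L →ₐ[L] MvPolynomial (Fin 2) L :=
  aeval ![X 0 - C D.α * X 1, X 0 - C D.β * X 1]

lemma QD.C_δ_inv_mul : (C D.δ⁻¹ : MvPolynomial (Fin 2) L) * (C D.β - C D.α) = 1 := by
  rw [← map_sub, ← map_mul, ← QD.δ, inv_mul_cancel₀ D.δ_ne_zero, map_one]

lemma QD.mu_lam (f : MvPolynomial (Fin 2) L) : D.mu (D.lam f) = f := by
  have : D.mu.comp D.lam = AlgHom.id L _ := by
    apply MvPolynomial.algHom_ext
    intro i
    fin_cases i
    · simp only [QD.lam, QD.mu, AlgHom.comp_apply, Fin.zero_eta, aeval_X, Matrix.cons_val_zero,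
        Matrix.cons_val_one, map_mul, map_sub, algHom_C, AlgHom.id_apply]
      simp only [algebraMap_eq]
      linear_combination (X 0 : MvPolynomial (Fin 2) L) * D.C_δ_inv_mul
    · simp only [QD.lam, QD.mu, AlgHom.comp_apply, Fin.mk_one, aeval_X, Matrix.cons_val_one,
        Matrix.cons_val_zero, map_mul, map_sub, algHom_C, AlgHom.id_apply]
      simp only [algebraMap_eq]
      linear_combination (X 1 : MvPolynomial (Fin 2) L) * D.C_δ_inv_mul
  exact DFunLike.congr_fun this f

lemma QD.lam_injective : Function.Injective D.lam :=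
  Function.LeftInverse.injective D.mu_lam

lemma QD.emb0_eq (f : MvPolynomial (Fin 2) K) :
    D.emb0 f = iota (D.lam (MvPolynomial.map (algebraMap K L) f)) := by
  have : (D.emb0 : MvPolynomial (Fin 2) K →+* CC L) =
      iota.comp ((D.lam : MvPolynomial (Fin 2) L →+* MvPolynomial (Fin 2) L).comp
        (MvPolynomial.map (algebraMap K L))) := by
    apply MvPolynomial.ringHom_ext
    · intro k
      simp [QD.lam, iota_C, cst_eq]
    · intro i
      fin_cases i
      · simp [QD.lam, iota_C, iota_X0, iota_X1, QD.x0]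
      · simp [QD.lam, iota_C, iota_X0, iota_X1, QD.x1]
  exact DFunLike.congr_fun this f

lemma QD.emb0_injective : Function.Injective D.emb0 := by
  intro f g h
  rw [D.emb0_eq, D.emb0_eq] at h
  exact MvPolynomial.map_injective _ (algebraMap K L).injective
    (D.lam_injective (iota_injective h))

end Groth.Agent.Lib.Helper85.PuncLine
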