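import Groth.Agent.Lib.Helper85.PuncLineHom

/-!
# The image of the coordinate ring lies in degree zero
(helper85, for S15179)
-/

namespace Groth.Agent.Lib.Helper85.PuncLine

open MvPolynomial

universe u

attribute [local instance] MvPolynomial.gradedAlgebra

variable {K L : Type u} [Field K] [Field L] [Algebra K L] {q : MvPolynomial (Fin 2) K}

/-- total degree on exponents -/
def sumHom : ℤ × ℤ →+ ℤ where
  toFun p := p.1 + p.2
  map_zero' := rfl
  map_add' a b := by simp only [Prod.fst_add, Prod.snd_add]; ring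

/-- the grading of the Laurent ring by total degree -/
noncomputable abbrev gr (L : Type u) [Field L] (d : ℤ) : Submodule L (CC L) :=
  AddMonoidAlgebra.gradeBy L (sumHom : ℤ × ℤ → ℤ) d

lemma gr_mul {x y : CC L} {i j : ℤ} (hx : x ∈ gr L i) (hy : y ∈ gr L j) : x * y ∈ gr L (i + j) :=
  (AddMonoidAlgebra.gradeBy.gradedMonoid (R := L) sumHom).mul_mem hx hy

lemma gr_one : (1 : CC L) ∈ gr L 0 :=
  (AddMonoidAlgebra.gradeBy.gradedMonoid (R := L) sumHom).one_mem

lemma gr_pow {x : CC L} {i : ℤ} (hx : x ∈ gr L i) (n : ℕ) : x ^ n ∈ gr L (n * i) := by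
  induction n with
  | zero => simpa using gr_one
  | succ n ih =>
    rw [pow_succ]
    have := gr_mul ih hx
    convert this using 2
    push_cast; ring

lemma single_mem_gr (p : ℤ × ℤ) (c : L) : AddMonoidAlgebra.single p c ∈ gr L (p.1 + p.2) :=
  AddMonoidAlgebra.single_mem_gradeBy (sumHom : ℤ × ℤ → ℤ) p c

lemma cst_mem_gr (c : L) : cst c ∈ gr L 0 := by
  rw [cst_eq]; exact single_mem_gr 0 c

lemma l1_mem_gr : (l1 : CC L) ∈ gr L 1 := by
  rw [l1]; exact single_mem_gr (1, 0) 1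

lemma l2_mem_gr : (l2 : CC L) ∈ gr L 1 := by
  rw [l2]; exact single_mem_gr (0, 1) 1

variable (D : QD K L q)

lemma QD.x0_mem_gr : D.x0 ∈ gr L 1 := by
  rw [QD.x0]
  have h1 : cst D.β * l1 ∈ gr L 1 := by simpa using gr_mul (cst_mem_gr D.β) l1_mem_gr
  have h2 : cst D.α * l2 ∈ gr L 1 := by simpa using gr_mul (cst_mem_gr D.α) l2_mem_gr
  simpa using gr_mul (cst_mem_gr D.δ⁻¹) (sub_mem h1 h2)

lemma QD.x1_mem_gr : D.x1 ∈ gr L 1 := by
  rw [QD.x1]
  simpa using gr_mul (cst_mem_gr D.δ⁻¹) (sub_mem l1_mem_gr l2_mem_gr)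

lemma QD.emb0_monomial (m : Fin 2 →₀ ℕ) (k : K) :
    D.emb0 (monomial m k) = cst (algebraMap K L k) * (D.x0 ^ m 0 * D.x1 ^ m 1) := by
  rw [QD.emb0, aeval_monomial, Finsupp.prod_fintype _ _ (fun i => pow_zero _), Fin.prod_univ_two,
    IsScalarTower.algebraMap_apply K L (CC L)]
  simp only [Matrix.cons_val_zero, Matrix.cons_val_one]

lemma QD.emb0_mem_gr (f : MvPolynomial (Fin 2) K) (d : ℕ) (hf : f.IsHomogeneous d) :
    D.emb0 f ∈ gr L (d : ℤ) := by
  rw [← MvPolynomial.support_sum_monomial_coeff f, map_sum]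
  apply sum_mem
  intro m hm
  rw [D.emb0_monomial]
  have hc := mem_support_iff.mp hm
  have hd : m.degree = d := by
    by_contra hne
    exact hc (hf.coeff_eq_zero hne)
  rw [degree_fin_two] at hd
  have := gr_mul (cst_mem_gr (algebraMap K L (coeff m f)))
    (gr_mul (gr_pow D.x0_mem_gr (m 0)) (gr_pow D.x1_mem_gr (m 1)))
  convert this using 2
  rw [← hd]; push_cast; ring

/-- the inverse of the image of `q` -/
noncomputable def QD.qinv : CC L :=
  AddMonoidAlgebra.single ((-1, -1) : ℤ × ℤ) (algebraMap K L D.a)⁻¹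

lemma QD.emb0_q_mul_qinv : D.emb0 q * D.qinv = 1 := by
  rw [D.emb0_q', QD.qinv, AddMonoidAlgebra.single_mul_single, mul_inv_cancel₀ D.algA_ne_zero]
  rfl

lemma QD.qinv_mem_gr : D.qinv ∈ gr L (-2) := by
  rw [QD.qinv]
  exact single_mem_gr ((-1, -1) : ℤ × ℤ) _

include D in
lemma QD.isHomogeneous : q.IsHomogeneous 2 := by
  rw [D.hq]
  refine ((((isHomogeneous_C (Fin 2) D.a).mul ((isHomogeneous_X K (0 : Fin 2)).pow 2)).add ?_).add ?_)
  · exact (isHomogeneous_C (Fin 2) D.b).mul ((isHomogeneous_X K (0 : Fin 2)).mul (isHomogeneous_X K 1))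
  · exact (isHomogeneous_C (Fin 2) D.c).mul ((isHomogeneous_X K (1 : Fin 2)).pow 2)

include D in
lemma QD.q_mem : q ∈ MvPolynomial.homogeneousSubmodule (Fin 2) K 2 := D.isHomogeneous

lemma QD.embLoc_mk (f : MvPolynomial (Fin 2) K) (n : ℕ) :
    D.embLoc (Localization.mk f (⟨q ^ n, ⟨n, rfl⟩⟩ : Submonoid.powers q)) = D.emb0 f * D.qinv ^ n := by
  set y := D.embLoc (Localization.mk f (⟨q ^ n, ⟨n, rfl⟩⟩ : Submonoid.powers q)) with hy
  have h1 : y * D.emb0 q ^ n = D.emb0 f := by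
    rw [hy, ← map_pow, ← D.embLoc_algebraMap (q ^ n), ← map_mul, ← D.embLoc_algebraMap f]
    congr 1
    rw [Localization.mk_eq_mk']
    exact IsLocalization.mk'_spec _ f (⟨q ^ n, ⟨n, rfl⟩⟩ : Submonoid.powers q)
  calc y = y * (D.emb0 q * D.qinv) ^ n := by rw [D.emb0_q_mul_qinv, one_pow, mul_one]
    _ = (y * D.emb0 q ^ n) * D.qinv ^ n := by rw [mul_pow]; ring
    _ = _ := by rw [h1]

lemma QD.phiA_mk (n : ℕ) (f : MvPolynomial (Fin 2) K)
    (hf : f ∈ MvPolynomial.homogeneousSubmodule (Fin 2) K (n • 2)) :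
    D.phiA (HomogeneousLocalization.Away.mk _ D.q_mem n f hf) = D.emb0 f * D.qinv ^ n := by
  rw [QD.phiA, AlgHom.comp_apply, valAlg_apply, HomogeneousLocalization.Away.val_mk, D.embLoc_mk]

lemma QD.phiA_mem_gr (x : AA q) : D.phiA x ∈ gr L 0 := by
  obtain ⟨n, f, hf, rfl⟩ := HomogeneousLocalization.Away.mk_surjective _ D.q_mem x
  rw [D.phiA_mk]
  have := gr_mul (D.emb0_mem_gr f (n • 2) hf) (gr_pow D.qinv_mem_gr n)
  convert this using 2
  rw [smul_eq_mul]; push_cast; ring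

/-! ### special elements -/

/-- `X₀² / q` -/
noncomputable def QD.uu : AA q :=
  HomogeneousLocalization.Away.mk _ D.q_mem 1 (X 0 ^ 2) (by
    change (X 0 ^ 2 : MvPolynomial (Fin 2) K).IsHomogeneous (1 * 2)
    exact (isHomogeneous_X K 0).pow 2)

/-- `X₀X₁ / q` -/
noncomputable def QD.vv : AA q :=
  HomogeneousLocalization.Away.mk _ D.q_mem 1 (X 0 * X 1) (by
    change (X 0 * X 1 : MvPolynomial (Fin 2) K).IsHomogeneous (1 + 1)
    exact (isHomogeneous_X K 0).mul (isHomogeneous_X K 1))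

/-- `X₁² / q` -/
noncomputable def QD.ww : AA q :=
  HomogeneousLocalization.Away.mk _ D.q_mem 1 (X 1 ^ 2) (by
    change (X 1 ^ 2 : MvPolynomial (Fin 2) K).IsHomogeneous (1 * 2)
    exact (isHomogeneous_X K 1).pow 2)

lemma QD.phiA_uu : D.phiA D.uu = D.x0 ^ 2 * D.qinv := by
  rw [QD.uu, D.phiA_mk]; simp

lemma QD.phiA_vv : D.phiA D.vv = D.x0 * D.x1 * D.qinv := by
  rw [QD.vv, D.phiA_mk]; simp

lemma QD.phiA_ww : D.phiA D.ww = D.x1 ^ 2 * D.qinv := by
  rw [QD.ww, D.phiA_mk]; simp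

/-- the Laurent monomial `(ℓ₁/ℓ₂)^m` -/
noncomputable def Tpow (L : Type u) [Field L] (m : ℤ) : CC L :=
  AddMonoidAlgebra.single ((m, -m) : ℤ × ℤ) 1

lemma Tpow_add (m n : ℤ) : Tpow L (m + n) = Tpow L m * Tpow L n := by
  rw [Tpow, Tpow, Tpow, AddMonoidAlgebra.single_mul_single, mul_one]
  congr 1
  ext <;> simp; ring

lemma Tpow_zero : Tpow L 0 = 1 := rfl

lemma QD.cst_mul_l1_sq_mul_qinv : cst (algebraMap K L D.a) * l1 ^ 2 * D.qinv = Tpow L 1 := by
  rw [cst_eq, l1, QD.qinv, AddMonoidAlgebra.single_pow, AddMonoidAlgebra.single_mul_single,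
    AddMonoidAlgebra.single_mul_single, Tpow, one_pow, mul_one, mul_inv_cancel₀ D.algA_ne_zero]
  congr 1

lemma QD.cst_mul_l2_sq_mul_qinv : cst (algebraMap K L D.a) * l2 ^ 2 * D.qinv = Tpow L (-1) := by
  rw [cst_eq, l2, QD.qinv, AddMonoidAlgebra.single_pow, AddMonoidAlgebra.single_mul_single,
    AddMonoidAlgebra.single_mul_single, Tpow, one_pow, mul_one, mul_inv_cancel₀ D.algA_ne_zero]
  congr 1

lemma QD.phi_tau :
    D.phiA D.uu * cst (algebraMap K L D.a) - D.phiA D.vv * cst (2 * algebraMap K L D.a * D.α)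
      + D.phiA D.ww * cst (algebraMap K L D.a * D.α ^ 2) = Tpow L 1 := by
  rw [← D.cst_mul_l1_sq_mul_qinv, ← D.x0_sub_α, D.phiA_uu, D.phiA_vv, D.phiA_ww]
  simp only [map_mul, map_pow, map_ofNat]
  ring

lemma QD.phi_tau' :
    D.phiA D.uu * cst (algebraMap K L D.a) - D.phiA D.vv * cst (2 * algebraMap K L D.a * D.β)
      + D.phiA D.ww * cst (algebraMap K L D.a * D.β ^ 2) = Tpow L (-1) := by
  rw [← D.cst_mul_l2_sq_mul_qinv, ← D.x0_sub_β, D.phiA_uu, D.phiA_vv, D.phiA_ww]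
  simp only [map_mul, map_pow, map_ofNat]
  ring

/-- elements of degree zero are Laurent polynomials in `ℓ₁/ℓ₂` -/
lemma eq_sum_of_mem_gr_zero (y : CC L) (hy : y ∈ gr L 0) :
    y = ∑ p ∈ y.coeff.support, cst (y.coeff p) * Tpow L p.1 := by
  conv_lhs => rw [← AddMonoidAlgebra.sum_coeff_single y]
  rw [Finsupp.sum]
  apply Finset.sum_congr rfl
  intro p hp
  have h0 : p.1 + p.2 = 0 := hy p hp
  rw [cst_eq, Tpow, AddMonoidAlgebra.single_mul_single, mul_one, zero_add]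
  congr 1
  ext
  · rfl
  · simp; omega

end Groth.Agent.Lib.Helper85.PuncLine
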