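import Groth.Agent.Lib.Helper85.PuncLineEmb

/-!
# The coordinate ring of the punctured line inside the Laurent ring
(helper85, for S15179)
-/

namespace Groth.Agent.Lib.Helper85.PuncLine

open MvPolynomial

universe u

attribute [local instance] MvPolynomial.gradedAlgebra

variable {K L : Type u} [Field K] [Field L] [Algebra K L] {q : MvPolynomial (Fin 2) K}

/-- the coordinate ring of the complement of `q = 0` in the projective line -/
abbrev AA (q : MvPolynomial (Fin 2) K) :=
  HomogeneousLocalization.Away (MvPolynomial.homogeneousSubmodule (Fin 2) K) q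

/-- `val` as an additive hom -/
noncomputable def valAdd (q : MvPolynomial (Fin 2) K) : AA q →+ Localization.Away q where
  toFun := HomogeneousLocalization.val
  map_zero' := HomogeneousLocalization.val_zero
  map_add' := HomogeneousLocalization.val_add

noncomputable scoped instance instModuleAA (q : MvPolynomial (Fin 2) K) : Module K (AA q) :=
  Function.Injective.module K (valAdd q) (HomogeneousLocalization.val_injective _)
    (fun k x => HomogeneousLocalization.val_smul _ k x)

noncomputable scoped instance instAlgebraAA (q : MvPolynomial (Fin 2) K) : Algebra K (AA q) :=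
  Algebra.ofModule
    (fun r x y => by
      apply HomogeneousLocalization.val_injective
      simp only [HomogeneousLocalization.val_mul, HomogeneousLocalization.val_smul]
      rw [smul_mul_assoc])
    (fun r x y => by
      apply HomogeneousLocalization.val_injective
      simp only [HomogeneousLocalization.val_mul, HomogeneousLocalization.val_smul]
      rw [mul_smul_comm])

lemma algebraMap_AA (k : K) : algebraMap K (AA q) k = k • (1 : AA q) :=
  Algebra.algebraMap_eq_smul_one k

/-- `val` as a `K`-algebra hom -/
noncomputable def valAlg (q : MvPolynomial (Fin 2) K) : AA q →ₐ[K] Localization.Away q where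
  __ := algebraMap (AA q) (Localization.Away q)
  commutes' k := by
    change HomogeneousLocalization.val (algebraMap K (AA q) k) = _
    rw [algebraMap_AA, HomogeneousLocalization.val_smul, HomogeneousLocalization.val_one,
      Algebra.algebraMap_eq_smul_one]

@[simp] lemma valAlg_apply (x : AA q) : valAlg q x = x.val := rfl

lemma valAlg_injective : Function.Injective (valAlg q) :=
  HomogeneousLocalization.val_injective _

variable (D : QD K L q)

/-! ### The semilinear involution of the Laurent ring -/

/-- swap of the exponents -/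
def swapHom : ℤ × ℤ →+ ℤ × ℤ where
  toFun p := (p.2, p.1)
  map_zero' := rfl
  map_add' _ _ := rfl

/-- the semilinear "conjugation" of the Laurent ring: conjugate coefficients, swap the variables -/
noncomputable def QD.sC : CC L →+* CC L :=
  (AddMonoidAlgebra.mapDomainRingHom L swapHom).comp
    (AddMonoidAlgebra.mapRingHom (ℤ × ℤ) (D.σ : L →+* L))

lemma QD.sC_single (p : ℤ × ℤ) (c : L) :
    D.sC (AddMonoidAlgebra.single p c) = AddMonoidAlgebra.single (p.2, p.1) (D.σ c) := by
  simp [QD.sC, swapHom]

@[simp] lemma QD.sC_cst (c : L) : D.sC (cst c) = cst (D.σ c) := by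
  rw [cst_eq, D.sC_single, cst_eq]
  rfl

@[simp] lemma QD.sC_l1 : D.sC l1 = l2 := by
  rw [l1, D.sC_single, map_one, l2]

@[simp] lemma QD.sC_l2 : D.sC l2 = l1 := by
  rw [l2, D.sC_single, map_one, l1]

lemma QD.σ_δ_inv : D.σ D.δ⁻¹ = - D.δ⁻¹ := by
  rw [map_inv₀, QD.δ, map_sub, D.hσα, D.hσβ, ← neg_sub D.β D.α, neg_inv]

lemma QD.sC_x0 : D.sC D.x0 = D.x0 := by
  rw [QD.x0]
  simp only [map_mul, map_sub, QD.sC_cst, QD.sC_l1, QD.sC_l2, D.hσα, D.hσβ, D.σ_δ_inv, map_neg]
  ring

lemma QD.sC_x1 : D.sC D.x1 = D.x1 := by
  rw [QD.x1]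
  simp only [map_mul, map_sub, QD.sC_cst, QD.sC_l1, QD.sC_l2, D.σ_δ_inv, map_neg]
  ring

lemma QD.sC_emb0 (f : MvPolynomial (Fin 2) K) : D.sC (D.emb0 f) = D.emb0 f := by
  have : D.sC.comp (D.emb0 : MvPolynomial (Fin 2) K →+* CC L) = D.emb0 := by
    apply MvPolynomial.ringHom_ext
    · intro k
      change D.sC (D.emb0 (C k)) = D.emb0 (C k)
      rw [QD.emb0_C, QD.sC_cst, AlgHom.commutes]
    · intro i
      fin_cases i
      · simpa using D.sC_x0
      · simpa using D.sC_x1
  exact DFunLike.congr_fun this f

/-! ### The embedding of the localisation -/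

lemma cst_mul_l1_mul_l2 (c : L) : cst c * l1 * l2 = AddMonoidAlgebra.single ((1, 1) : ℤ × ℤ) c := by
  simp [cst_eq, l1, l2, AddMonoidAlgebra.single_mul_single]

lemma QD.emb0_q' : D.emb0 q = AddMonoidAlgebra.single ((1, 1) : ℤ × ℤ) (algebraMap K L D.a) := by
  rw [D.emb0_q, cst_mul_l1_mul_l2]

lemma QD.algA_ne_zero : algebraMap K L D.a ≠ 0 := by
  intro h
  exact D.ha ((algebraMap K L).injective (by rw [h, map_zero]))

lemma QD.isUnit_emb0_q : IsUnit (D.emb0 q) := by
  rw [D.emb0_q']
  refine IsUnit.of_mul_eq_one (AddMonoidAlgebra.single ((-1, -1) : ℤ × ℤ) (algebraMap K L D.a)⁻¹) ?_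
  rw [AddMonoidAlgebra.single_mul_single, mul_inv_cancel₀ D.algA_ne_zero]
  rfl

/-- the embedding of the localisation `K[X₀,X₁]_q` into the Laurent ring -/
noncomputable def QD.embLoc : Localization.Away q →ₐ[K] CC L :=
  IsLocalization.Away.liftAlgHom (A := K) (f := D.emb0) q D.isUnit_emb0_q

@[simp] lemma QD.embLoc_algebraMap (f : MvPolynomial (Fin 2) K) :
    D.embLoc (algebraMap _ (Localization.Away q) f) = D.emb0 f := by
  simp [QD.embLoc]

lemma QD.embLoc_injective : Function.Injective D.embLoc := by
  rw [injective_iff_map_eq_zero]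
  intro z hz
  obtain ⟨f, s, rfl⟩ := IsLocalization.exists_mk'_eq (Submonoid.powers q) z
  have h1 : D.embLoc (IsLocalization.mk' _ f s) * D.embLoc (algebraMap _ _ (s : MvPolynomial (Fin 2) K))
      = D.embLoc (algebraMap _ _ f) := by
    rw [← map_mul, IsLocalization.mk'_spec]
  rw [hz, zero_mul, D.embLoc_algebraMap] at h1
  have : f = 0 := D.emb0_injective (by rw [← h1, map_zero])
  rw [this, IsLocalization.mk'_zero]

lemma QD.sC_embLoc (z : Localization.Away q) : D.sC (D.embLoc z) = D.embLoc z := by
  have : D.sC.comp (D.embLoc : Localization.Away q →+* CC L) = D.embLoc := by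
    apply IsLocalization.ringHom_ext (Submonoid.powers q)
    apply RingHom.ext
    intro f
    change D.sC (D.embLoc (algebraMap _ _ f)) = D.embLoc (algebraMap _ _ f)
    rw [D.embLoc_algebraMap, D.sC_emb0]
  exact DFunLike.congr_fun this z

/-- the embedding of the coordinate ring into the Laurent ring -/
noncomputable def QD.phiA : AA q →ₐ[K] CC L := D.embLoc.comp (valAlg q)

lemma QD.phiA_injective : Function.Injective D.phiA :=
  D.embLoc_injective.comp valAlg_injective

lemma QD.sC_phiA (x : AA q) : D.sC (D.phiA x) = D.phiA x :=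
  D.sC_embLoc _

end Groth.Agent.Lib.Helper85.PuncLine
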