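import Groth.Agent.Lib.Helper85.PuncLineAut

/-!
# Finite groups of automorphisms of the punctured line
(helper85, for S15179)
-/

namespace Groth.Agent.Lib.Helper85.PuncLine

open MvPolynomial TensorProduct

universe u

attribute [local instance] MvPolynomial.gradedAlgebra

variable {K L : Type u} [Field K] [Field L] [Algebra K L] {q : MvPolynomial (Fin 2) K}
variable (D : QD K L q)

lemma QD.tm_mul (φ ψ : AA q →ₐ[K] AA q) : D.tm (φ * ψ) = D.tm φ * D.tm ψ := (D.type_comp φ ψ).1

lemma QD.tc_mul (φ ψ : AA q →ₐ[K] AA q) : D.tc (φ * ψ) = D.tc ψ * D.tc φ ^ D.tm ψ :=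
  (D.type_comp φ ψ).2

lemma QD.tm_one : D.tm (1 : AA q →ₐ[K] AA q) = 1 := D.type_id.1

lemma QD.tc_one : D.tc (1 : AA q →ₐ[K] AA q) = 1 := D.type_id.2

lemma QD.eq_one_of_type (φ : AA q →ₐ[K] AA q) (hm : D.tm φ = 1) (hc : D.tc φ = 1) : φ = 1 :=
  AlgHom.ext (D.eq_id_of_type φ hm hc)

lemma QD.type_pow (φ : AA q →ₐ[K] AA q) (hm : D.tm φ = 1) (n : ℕ) :
    D.tm (φ ^ n) = 1 ∧ D.tc (φ ^ n) = D.tc φ ^ n := by
  induction n with
  | zero => simp [D.tm_one, D.tc_one]
  | succ n ih =>
    rw [pow_succ, D.tm_mul, D.tc_mul, ih.1, ih.2, hm]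
    refine ⟨by norm_num, ?_⟩
    rw [zpow_one, pow_succ, mul_comm]

lemma QD.mul_self_of_tm_neg (φ : AA q →ₐ[K] AA q) (hm : D.tm φ = -1) : φ * φ = 1 := by
  apply D.eq_one_of_type
  · rw [D.tm_mul, hm]; norm_num
  · rw [D.tc_mul, hm, zpow_neg, zpow_one, mul_inv_cancel]

omit [Field L] [Algebra K L] in
lemma mem_range_of_pow_eq_one {L : Type u} [Field L] [Algebra K L]
    (hK : ∀ n : ℕ, 0 < n → (Polynomial.X ^ n - 1 : Polynomial K).Splits)
    (c : L) (n : ℕ) (hn : 0 < n) (hc : c ^ n = 1) : ∃ k : K, algebraMap K L k = c := by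
  have hs := hK n hn
  have hne : ((Polynomial.X ^ n - 1 : Polynomial K).map (algebraMap K L)) ≠ 0 := by
    simp only [Polynomial.map_sub, Polynomial.map_pow, Polynomial.map_X, Polynomial.map_one]
    have := Polynomial.X_pow_sub_C_ne_zero hn (1 : L)
    simpa using this
  have hmem : c ∈ ((Polynomial.X ^ n - 1 : Polynomial K).map (algebraMap K L)).roots := by
    rw [Polynomial.mem_roots hne]; simp [hc]
  rw [hs.roots_map_of_injective (algebraMap K L).injective, Multiset.mem_map] at hmem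
  obtain ⟨k, _, hk⟩ := hmem
  exact ⟨k, hk⟩

lemma QD.tc_sq_of_pow_eq_one (hK : ∀ n : ℕ, 0 < n → (Polynomial.X ^ n - 1 : Polynomial K).Splits)
    (φ : AA q →ₐ[K] AA q) (hm : D.tm φ = 1) (n : ℕ) (hn : 0 < n) (hφ : φ ^ n = 1) :
    D.tc φ ^ 2 = 1 := by
  have h1 := (D.type_pow φ hm n).2
  rw [hφ, D.tc_one] at h1
  have h1' : ((D.tc φ : Lˣ) : L) ^ n = 1 := by
    have := congrArg Units.val h1.symm
    simpa using this
  obtain ⟨k, hk⟩ := mem_range_of_pow_eq_one hK (D.tc φ : L) n hn h1'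
  have h2 := D.type_sigma φ
  have h3 : D.σ (D.tc φ : L) = (((D.tc φ)⁻¹ : Lˣ) : L) := congrArg Units.val h2
  rw [← hk, AlgHom.commutes, hk] at h3
  have h4 : D.tc φ = (D.tc φ)⁻¹ := Units.ext h3
  rw [sq]
  nth_rewrite 2 [h4]
  exact mul_inv_cancel _

/-- a `K`-linear ring automorphism as an algebra endomorphism -/
noncomputable def toAlg (g : AA q ≃+* AA q) (hg : ∀ (k : K) (z : AA q), g (k • z) = k • g z) :
    AA q →ₐ[K] AA q where
  __ := (g : AA q →+* AA q)
  commutes' k := by
    change g (algebraMap K (AA q) k) = algebraMap K (AA q) k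
    rw [algebraMap_AA, hg, map_one]

@[simp] lemma toAlg_apply (g : AA q ≃+* AA q) (hg : ∀ (k : K) (z : AA q), g (k • z) = k • g z)
    (x : AA q) : toAlg g hg x = g x := rfl

include D in
set_option maxHeartbeats 800000 in
theorem QD.main (hK : ∀ n : ℕ, 0 < n → (Polynomial.X ^ n - 1 : Polynomial K).Splits)
    (G : Subgroup (AA q ≃+* AA q)) [Finite G]
    (hG : ∀ g ∈ G, ∀ (k : K) (z : AA q), g (k • z) = k • g z) :
    (∀ g ∈ G, g ^ 2 = 1) ∧ Nat.card G ≤ 4 := by
  classical
  let ρ : G →* (AA q →ₐ[K] AA q) :=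
    { toFun := fun g => toAlg g.1 (hG g.1 g.2)
      map_one' := by ext x; rfl
      map_mul' := fun g h => by ext x; rfl }
  have hρ_inj : ∀ g : G, ρ g = 1 → g = 1 := fun g h =>
    Subtype.ext (RingEquiv.ext fun x => DFunLike.congr_fun h x)
  have hm : ∀ g : G, D.tm (ρ g) = 1 ∨ D.tm (ρ g) = -1 := by
    intro g
    have : D.tm (ρ g) * D.tm (ρ g⁻¹) = 1 := by
      rw [← D.tm_mul, ← map_mul, mul_inv_cancel, map_one, D.tm_one]
    exact Int.eq_one_or_neg_one_of_mul_eq_one this
  have hc : ∀ g : G, D.tm (ρ g) = 1 → D.tc (ρ g) ^ 2 = 1 := by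
    intro g hg
    apply D.tc_sq_of_pow_eq_one hK (ρ g) hg (orderOf g) (orderOf_pos g)
    rw [← map_pow, pow_orderOf_eq_one, map_one]
  have hsq : ∀ g : G, g * g = 1 := by
    intro g
    apply hρ_inj
    rw [map_mul]
    rcases hm g with h | h
    · apply D.eq_one_of_type
      · rw [D.tm_mul, h]; norm_num
      · rw [D.tc_mul, h, zpow_one, ← sq]; exact hc g h
    · exact D.mul_self_of_tm_neg _ h
  refine ⟨fun g hg => ?_, ?_⟩
  · have h2 := congrArg Subtype.val (hsq ⟨g, hg⟩)
    rw [sq]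
    exact h2
  · -- counting
    let c₀ : Lˣ := if h : ∃ g₀ : G, D.tm (ρ g₀) = -1 then D.tc (ρ h.choose) else 1
    let f : G → ℤ × Lˣ := fun g =>
      (D.tm (ρ g), if D.tm (ρ g) = 1 then D.tc (ρ g) else D.tc (ρ g) * c₀⁻¹)
    let S : Finset (ℤ × Lˣ) := ({1, -1} : Finset ℤ) ×ˢ ({1, -1} : Finset Lˣ)
    have hunit : ∀ c : Lˣ, c ^ 2 = 1 → c = 1 ∨ c = -1 := by
      intro c hc2
      have : ((c : Lˣ) : L) ^ 2 = 1 := by
        have := congrArg Units.val hc2
        simpa using this
      rcases sq_eq_one_iff.mp this with h | h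
      · left; exact Units.ext h
      · right; exact Units.ext (by simpa using h)
    have hfS : ∀ g : G, f g ∈ S := by
      intro g
      simp only [S, f, Finset.mem_product, Finset.mem_insert, Finset.mem_singleton]
      refine ⟨hm g, ?_⟩
      rcases hm g with h | h
      · rw [if_pos h]; exact hunit _ (hc g h)
      · rw [if_neg (by rw [h]; norm_num)]
        have hex : ∃ g₀ : G, D.tm (ρ g₀) = -1 := ⟨g, h⟩
        have hc₀ : c₀ = D.tc (ρ hex.choose) := dif_pos hex
        have hg₀ := hex.choose_spec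
        set g₀ := hex.choose
        apply hunit
        have h1 : D.tm (ρ (g₀ * g)) = 1 := by rw [map_mul, D.tm_mul, hg₀, h]; norm_num
        have h2 := hc (g₀ * g) h1
        rw [map_mul, D.tc_mul, h, zpow_neg, zpow_one, ← hc₀] at h2
        exact h2
    have hf_inj : Function.Injective f := by
      intro g h hgh
      simp only [f, Prod.mk.injEq] at hgh
      obtain ⟨h1, h2⟩ := hgh
      have hc_eq : D.tc (ρ g) = D.tc (ρ h) := by
        rcases hm g with hg1 | hg1
        · rw [if_pos hg1, if_pos (h1 ▸ hg1)] at h2; exact h2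
        · rw [if_neg (by rw [hg1]; norm_num), if_neg (by rw [← h1, hg1]; norm_num)] at h2
          exact mul_right_cancel h2
      have hgh1 : g * h = 1 := by
        apply hρ_inj
        rw [map_mul]
        rcases hm g with hg1 | hg1
        · apply D.eq_one_of_type
          · rw [D.tm_mul, ← h1, hg1]; norm_num
          · rw [D.tc_mul, ← h1, hg1, zpow_one, ← hc_eq, ← sq]; exact hc g hg1
        · apply D.eq_one_of_type
          · rw [D.tm_mul, ← h1, hg1]; norm_num
          · rw [D.tc_mul, ← h1, hg1, zpow_neg, zpow_one, ← hc_eq, mul_inv_cancel]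
      have := hsq g
      exact mul_left_cancel (this.trans hgh1.symm)
    let f' : G → S := fun g => ⟨f g, hfS g⟩
    have hf'_inj : Function.Injective f' := fun g h hgh => hf_inj (congrArg Subtype.val hgh)
    calc Nat.card G ≤ Nat.card S := Nat.card_le_card_of_injective f' hf'_inj
      _ = S.card := Nat.card_eq_finsetCard S
      _ ≤ 2 * 2 := by
        rw [Finset.card_product]
        exact Nat.mul_le_mul Finset.card_le_two Finset.card_le_two
      _ = 4 := by norm_num

end Groth.Agent.Lib.Helper85.PuncLine
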