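import Mathlib

/-!
# Binary quadratic forms: normal form and the splitting quadratic extension
(helper85, for S15179)
-/

namespace Groth.Agent.Lib.Helper85.PuncLine

open MvPolynomial

universe u

variable {K : Type u} [Field K]

/-- coefficient of `X₀²` -/
noncomputable def cA (q : MvPolynomial (Fin 2) K) : K := q.coeff (Finsupp.single 0 2)
/-- coefficient of `X₀X₁` -/
noncomputable def cB (q : MvPolynomial (Fin 2) K) : K :=
  q.coeff (Finsupp.single 0 1 + Finsupp.single 1 1)
/-- coefficient of `X₁²` -/
noncomputable def cC (q : MvPolynomial (Fin 2) K) : K := q.coeff (Finsupp.single 1 2)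

lemma degree_fin_two (m : Fin 2 →₀ ℕ) : m.degree = m 0 + m 1 := by
  rw [Finsupp.degree_eq_sum]
  simp [Fin.sum_univ_two]

lemma eq_of_degree_two (m : Fin 2 →₀ ℕ) (h : m.degree = 2) :
    m = Finsupp.single 0 2 ∨ m = Finsupp.single 0 1 + Finsupp.single 1 1 ∨
      m = Finsupp.single 1 2 := by
  rw [degree_fin_two] at h
  have h0 : m 0 = 2 ∨ m 0 = 1 ∨ m 0 = 0 := by omega
  rcases h0 with h0 | h0 | h0
  · left
    ext i; fin_cases i
    · simp [h0]
    · simp; omega
  · right; left
    ext i; fin_cases i
    · simp [h0]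
    · simp; omega
  · right; right
    ext i; fin_cases i
    · simp [h0]
    · simp; omega

theorem eq_of_isHomogeneous_two (q : MvPolynomial (Fin 2) K) (hq : q.IsHomogeneous 2) :
    q = C (cA q) * X 0 ^ 2 + C (cB q) * (X 0 * X 1) + C (cC q) * X 1 ^ 2 := by
  have e1 : (C (cA q) * X 0 ^ 2 : MvPolynomial (Fin 2) K) = monomial (Finsupp.single 0 2) (cA q) := by
    rw [C_mul_X_pow_eq_monomial]
  have e3 : (C (cC q) * X 1 ^ 2 : MvPolynomial (Fin 2) K) = monomial (Finsupp.single 1 2) (cC q) := by
    rw [C_mul_X_pow_eq_monomial]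
  have e2 : (C (cB q) * (X 0 * X 1) : MvPolynomial (Fin 2) K) =
      monomial (Finsupp.single 0 1 + Finsupp.single 1 1) (cB q) := by
    rw [X, X, monomial_mul, C_mul_monomial]; simp
  rw [e1, e2, e3]
  have d12 : (Finsupp.single 0 2 : Fin 2 →₀ ℕ) ≠ Finsupp.single 0 1 + Finsupp.single 1 1 := by
    intro h; have := DFunLike.congr_fun h 0; simp at this
  have d13 : (Finsupp.single 0 2 : Fin 2 →₀ ℕ) ≠ Finsupp.single 1 2 := by
    intro h; have := DFunLike.congr_fun h 0; simp at this
  have d23 : (Finsupp.single 0 1 + Finsupp.single 1 1 : Fin 2 →₀ ℕ) ≠ Finsupp.single 1 2 := by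
    intro h; have := DFunLike.congr_fun h 0; simp at this
  ext m
  simp only [coeff_add, coeff_monomial]
  by_cases hm : m.degree = 2
  · rcases eq_of_degree_two m hm with rfl | rfl | rfl
    · rw [if_pos rfl, if_neg d12.symm, if_neg d13.symm]; simp [cA]
    · rw [if_neg d12, if_pos rfl, if_neg d23.symm]; simp [cB]
    · rw [if_neg d13, if_neg d23, if_pos rfl]; simp [cC]
  · rw [hq.coeff_eq_zero hm]
    have n1 : Finsupp.single 0 2 ≠ m := by rintro rfl; exact hm (by simp [degree_fin_two])
    have n2 : Finsupp.single 0 1 + Finsupp.single 1 1 ≠ m := by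
      rintro rfl; exact hm (by simp [degree_fin_two])
    have n3 : Finsupp.single 1 2 ≠ m := by rintro rfl; exact hm (by simp [degree_fin_two])
    rw [if_neg n1, if_neg n2, if_neg n3]; simp

lemma not_irreducible_mul_of_constantCoeff (f g : MvPolynomial (Fin 2) K)
    (hf : constantCoeff f = 0) (hg : constantCoeff g = 0) : ¬ Irreducible (f * g) := by
  intro h
  rcases h.isUnit_or_isUnit rfl with hu | hu
  · have := hu.map (constantCoeff (R := K) (σ := Fin 2)); rw [hf] at this
    exact not_isUnit_zero this
  · have := hu.map (constantCoeff (R := K) (σ := Fin 2)); rw [hg] at this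
    exact not_isUnit_zero this

/-- If the quadratic form with coefficients `a, b, c` is irreducible then `a ≠ 0`. -/
lemma cA_ne_zero (q : MvPolynomial (Fin 2) K) (hq : q.IsHomogeneous 2) (hirr : Irreducible q) :
    cA q ≠ 0 := by
  intro ha
  have e := eq_of_isHomogeneous_two q hq
  rw [ha] at e
  have e' : q = (C (cB q) * X 0 + C (cC q) * X 1) * X 1 := by
    refine e.trans ?_
    simp only [map_zero]; ring
  rw [e'] at hirr
  exact not_irreducible_mul_of_constantCoeff _ _ (by simp) (by simp) hirr

/-- If the quadratic form is irreducible then `a r² + b r + c` has no root. -/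
lemma no_root (q : MvPolynomial (Fin 2) K) (hq : q.IsHomogeneous 2) (hirr : Irreducible q)
    (r : K) : cA q * r ^ 2 + cB q * r + cC q ≠ 0 := by
  intro hr
  have ha := cA_ne_zero q hq hirr
  have e := eq_of_isHomogeneous_two q hq
  set a := cA q
  set b := cB q
  set c := cC q
  set r' : K := -(b / a) - r with hr'
  have h1 : a * (r + r') = -b := by rw [hr']; field_simp; ring
  have h2 : a * r * r' = c := by
    rw [hr']
    have : a * r * (-(b / a) - r) = -(b * r) - a * r ^ 2 := by field_simp
    rw [this]; linear_combination -hr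
  have e' : q = (C a * (X 0 - C r * X 1)) * (X 0 - C r' * X 1) := by
    rw [e]
    have h1' := congrArg (C (σ := Fin 2)) h1
    have h2' := congrArg (C (σ := Fin 2)) h2
    simp only [map_mul, map_add, map_neg] at h1' h2'
    linear_combination ((X 0 * X 1 : MvPolynomial (Fin 2) K)) * h1' - X 1 ^ 2 * h2'
  rw [e'] at hirr
  exact not_irreducible_mul_of_constantCoeff _ _ (by simp) (by simp) hirr

open Polynomial in
/-- the dehomogenised quadratic polynomial -/
noncomputable def quadPoly (q : MvPolynomial (Fin 2) K) : Polynomial K :=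
  Polynomial.C (cA q) * Polynomial.X ^ 2 + Polynomial.C (cB q) * Polynomial.X + Polynomial.C (cC q)

lemma natDegree_quadPoly (q : MvPolynomial (Fin 2) K) (hq : q.IsHomogeneous 2)
    (hirr : Irreducible q) : (quadPoly q).natDegree = 2 :=
  Polynomial.natDegree_quadratic (cA_ne_zero q hq hirr)

lemma irreducible_quadPoly (q : MvPolynomial (Fin 2) K) (hq : q.IsHomogeneous 2)
    (hirr : Irreducible q) : Irreducible (quadPoly q) := by
  apply Polynomial.irreducible_of_degree_le_three_of_not_isRoot
  · rw [natDegree_quadPoly q hq hirr]; simp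
  · intro r hr
    apply no_root q hq hirr r
    simpa [quadPoly, Polynomial.IsRoot] using hr

/-- The data of a quadratic extension `L/K` splitting the binary quadratic form `q`, with the
conjugation. -/
structure QD (K L : Type u) [Field K] [Field L] [Algebra K L] (q : MvPolynomial (Fin 2) K) where
  a : K
  b : K
  c : K
  ha : a ≠ 0
  hq : q = C a * X 0 ^ 2 + C b * (X 0 * X 1) + C c * X 1 ^ 2
  α : L
  β : L
  hsum : algebraMap K L a * (α + β) = - algebraMap K L b
  hprod : algebraMap K L a * (α * β) = algebraMap K L c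
  hne : α ≠ β
  σ : L →ₐ[K] L
  hσα : σ α = β
  hσβ : σ β = α
  hspan : ∀ ℓ : L, ∃ k₀ k₁ : K, ℓ = algebraMap K L k₀ + algebraMap K L k₁ * α

section mk

variable (q : MvPolynomial (Fin 2) K) (hq : q.IsHomogeneous 2) (hirr : Irreducible q)
  (hdisc : (cB q) ^ 2 - 4 * cA q * cC q ≠ 0)

local notation "LL" => AdjoinRoot (quadPoly q)

omit [Field K] in
lemma aeval_quad {K : Type*} [CommRing K] {S : Type*} [CommRing S] [Algebra K S] (x : S) (a b c : K) :
    Polynomial.aeval x (Polynomial.C a * Polynomial.X ^ 2 + Polynomial.C b * Polynomial.X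
      + Polynomial.C c) = algebraMap K S a * x ^ 2 + algebraMap K S b * x + algebraMap K S c := by
  simp

lemma root_rel : algebraMap K LL (cA q) * (AdjoinRoot.root (quadPoly q)) ^ 2
    + algebraMap K LL (cB q) * AdjoinRoot.root (quadPoly q) + algebraMap K LL (cC q) = 0 := by
  have h : Polynomial.aeval (AdjoinRoot.root (quadPoly q)) (quadPoly q) = 0 := by
    rw [AdjoinRoot.aeval_eq, AdjoinRoot.mk_self]
  rw [← aeval_quad]; exact h

variable [Fact (Irreducible (quadPoly q))]

/-- first root -/
noncomputable def rootA : LL := AdjoinRoot.root (quadPoly q)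
/-- conjugate root -/
noncomputable def rootB : LL := -(algebraMap K LL (cB q) / algebraMap K LL (cA q)) - rootA q

include hq hirr in
lemma algA_ne_zero : algebraMap K LL (cA q) ≠ 0 := by
  have ha := cA_ne_zero q hq hirr
  intro h
  apply ha
  have h2 : algebraMap K LL (cA q) = algebraMap K LL 0 := by rw [h, map_zero]
  exact (algebraMap K LL).injective h2

include hq hirr in
lemma rootA_add_rootB : algebraMap K LL (cA q) * (rootA q + rootB q) = - algebraMap K LL (cB q) := by
  have := algA_ne_zero q hq hirr
  rw [rootB]; field_simp; ring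

include hq hirr in
lemma rootA_mul_rootB : algebraMap K LL (cA q) * (rootA q * rootB q) = algebraMap K LL (cC q) := by
  have h0 := algA_ne_zero q hq hirr
  have hrel := root_rel q
  rw [rootB]
  have : algebraMap K LL (cA q) * (rootA q * (-(algebraMap K LL (cB q) / algebraMap K LL (cA q))
      - rootA q)) = -(algebraMap K LL (cB q) * rootA q) - algebraMap K LL (cA q) * rootA q ^ 2 := by
    field_simp
  rw [this, rootA]; linear_combination -hrel

include hq hirr in
lemma rootB_rel : algebraMap K LL (cA q) * (rootB q) ^ 2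
    + algebraMap K LL (cB q) * rootB q + algebraMap K LL (cC q) = 0 := by
  linear_combination (rootB q) * rootA_add_rootB q hq hirr - rootA_mul_rootB q hq hirr

omit [Field K] in
lemma eval₂_ofId {K : Type*} [CommRing K] {S : Type*} [CommRing S] [Algebra K S] (x : S)
    (p : Polynomial K) :
    Polynomial.eval₂ ((Algebra.ofId K S : K →ₐ[K] S) : K →+* S) x p = Polynomial.aeval x p := by
  rw [Polynomial.aeval_def]; rfl

include hq hirr in
lemma rootB_eval : Polynomial.eval₂ ((Algebra.ofId K LL : K →ₐ[K] LL) : K →+* LL) (rootB q)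
    (quadPoly q) = 0 := by
  rw [eval₂_ofId]
  exact (aeval_quad (rootB q) (cA q) (cB q) (cC q)).trans (rootB_rel q hq hirr)

include hq hirr hdisc in
lemma rootA_ne_rootB : rootA q ≠ rootB q := by
  intro h
  have hsum := rootA_add_rootB q hq hirr
  have hprod := rootA_mul_rootB q hq hirr
  have h0 := algA_ne_zero q hq hirr
  have h2 : (algebraMap K LL (cA q)) ^ 2 * (rootA q - rootB q) ^ 2
      = (algebraMap K LL (cB q)) ^ 2 - 4 * algebraMap K LL (cA q) * algebraMap K LL (cC q) := by
    linear_combination (algebraMap K LL (cA q) * (rootA q + rootB q) - algebraMap K LL (cB q)) * hsum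
      - 4 * algebraMap K LL (cA q) * hprod
  rw [← h, sub_self] at h2
  apply hdisc
  have h3 : algebraMap K LL ((cB q) ^ 2 - 4 * cA q * cC q) = algebraMap K LL 0 := by
    rw [map_sub, map_mul, map_mul, map_pow, map_ofNat, ← h2, map_zero]; simp
  exact (algebraMap K LL).injective h3

/-- conjugation -/
noncomputable def conj : LL →ₐ[K] LL :=
  AdjoinRoot.liftAlgHom (quadPoly q) (Algebra.ofId K LL) (rootB q) (rootB_eval q hq hirr)

lemma conj_rootA : conj q hq hirr (rootA q) = rootB q := by
  rw [conj, rootA, AdjoinRoot.liftAlgHom_root]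

lemma conj_rootB : conj q hq hirr (rootB q) = rootA q := by
  have h := conj_rootA q hq hirr
  conv_lhs => rw [rootB]
  rw [map_sub, map_neg, map_div₀, AlgHom.commutes, AlgHom.commutes, h, rootB]
  ring

include hq hirr in
lemma span_rootA (ℓ : LL) :
    ∃ k₀ k₁ : K, ℓ = algebraMap K LL k₀ + algebraMap K LL k₁ * rootA q := by
  have hne : quadPoly q ≠ 0 := (Fact.out : Irreducible (quadPoly q)).ne_zero
  obtain ⟨f, hf, rfl⟩ := (AdjoinRoot.powerBasis hne).exists_eq_aeval ℓ
  rw [AdjoinRoot.powerBasis_dim, natDegree_quadPoly q hq hirr] at hf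
  obtain ⟨k₁, k₀, rfl⟩ :=
    Polynomial.exists_eq_X_add_C_of_natDegree_le_one (by omega : f.natDegree ≤ 1)
  refine ⟨k₀, k₁, ?_⟩
  simp [AdjoinRoot.powerBasis_gen, rootA, add_comm]

include hdisc in
/-- The quadratic-extension data attached to an irreducible separable binary quadratic form. -/
noncomputable def mkQD : QD K LL q where
  a := cA q
  b := cB q
  c := cC q
  ha := cA_ne_zero q hq hirr
  hq := eq_of_isHomogeneous_two q hq
  α := rootA q
  β := rootB q
  hsum := rootA_add_rootB q hq hirr
  hprod := rootA_mul_rootB q hq hirr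
  hne := rootA_ne_rootB q hq hirr hdisc
  σ := conj q hq hirr
  hσα := conj_rootA q hq hirr
  hσβ := conj_rootB q hq hirr
  hspan := span_rootA q hq hirr

end mk

end Groth.Agent.Lib.Helper85.PuncLine
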