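import Groth.Agent.Lib.Helper85.PuncLineGrade
import Groth.Agent.Lib.Helper85.LaurentCocycleBasic

/-!
# Base change of the coordinate ring to the splitting field
(helper85, for S15179)
-/

namespace Groth.Agent.Lib.Helper85.PuncLine

open MvPolynomial TensorProduct

universe u

attribute [local instance] MvPolynomial.gradedAlgebra

variable {K L : Type u} [Field K] [Field L] [Algebra K L] {q : MvPolynomial (Fin 2) K}
variable (D : QD K L q)

/-- the comparison map from the base change to the Laurent ring -/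
noncomputable def QD.Phi : AA q ⊗[K] L →ₐ[K] CC L :=
  Algebra.TensorProduct.productMap D.phiA (IsScalarTower.toAlgHom K L (CC L))

lemma cst_one : cst (1 : L) = 1 := map_one _
lemma cst_sub (a b : L) : cst (a - b) = cst a - cst b := map_sub _ _ _
lemma cst_mul (a b : L) : cst (a * b) = cst a * cst b := map_mul _ _ _
lemma cst_pow (a : L) (n : ℕ) : cst (a ^ n) = cst a ^ n := map_pow _ _ _

lemma QD.Phi_tmul (x : AA q) (ℓ : L) : D.Phi (x ⊗ₜ[K] ℓ) = D.phiA x * cst ℓ := by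
  rw [QD.Phi, Algebra.TensorProduct.productMap_apply_tmul]; rfl

include D in
lemma QD.exists_rep (z : AA q ⊗[K] L) :
    ∃ x₀ x₁ : AA q, z = x₀ ⊗ₜ[K] (1 : L) + x₁ ⊗ₜ[K] D.α := by
  induction z using TensorProduct.induction_on with
  | zero => exact ⟨0, 0, by simp⟩
  | tmul x ℓ =>
    obtain ⟨k₀, k₁, rfl⟩ := D.hspan ℓ
    refine ⟨k₀ • x, k₁ • x, ?_⟩
    rw [TensorProduct.tmul_add, Algebra.algebraMap_eq_smul_one, ← Algebra.smul_def,
      TensorProduct.tmul_smul, TensorProduct.tmul_smul, TensorProduct.smul_tmul',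
      TensorProduct.smul_tmul']
  | add z w hz hw =>
    obtain ⟨x₀, x₁, rfl⟩ := hz
    obtain ⟨y₀, y₁, rfl⟩ := hw
    exact ⟨x₀ + y₀, x₁ + y₁, by rw [TensorProduct.add_tmul, TensorProduct.add_tmul]; abel⟩

lemma QD.Phi_injective : Function.Injective D.Phi := by
  rw [injective_iff_map_eq_zero]
  intro z hz
  obtain ⟨x₀, x₁, rfl⟩ := D.exists_rep z
  rw [map_add, D.Phi_tmul, D.Phi_tmul, cst_one, mul_one] at hz
  have hz' := congrArg D.sC hz
  rw [map_add, map_mul, D.sC_phiA, D.sC_phiA, D.sC_cst, D.hσα, map_zero] at hz'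
  have h1 : D.phiA x₁ * cst (D.β - D.α) = 0 := by rw [cst_sub]; linear_combination hz' - hz
  have h2 : D.phiA x₁ = 0 := by
    have := congrArg (· * cst D.δ⁻¹) h1
    simp only [zero_mul] at this
    rw [mul_assoc, ← cst_mul, ← QD.δ, mul_inv_cancel₀ D.δ_ne_zero, cst_one, mul_one] at this
    exact this
  have hx1 : x₁ = 0 := D.phiA_injective (by rw [h2, map_zero])
  rw [h2, zero_mul, add_zero] at hz
  have hx0 : x₀ = 0 := D.phiA_injective (by rw [hz, map_zero])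
  rw [hx0, hx1]; simp

lemma QD.Phi_mem_gr (z : AA q ⊗[K] L) : D.Phi z ∈ gr L 0 := by
  obtain ⟨x₀, x₁, rfl⟩ := D.exists_rep z
  rw [map_add, D.Phi_tmul, D.Phi_tmul]
  refine add_mem ?_ ?_
  · simpa using gr_mul (D.phiA_mem_gr x₀) (cst_mem_gr (1 : L))
  · simpa using gr_mul (D.phiA_mem_gr x₁) (cst_mem_gr D.α)

/-- the element of the base change mapping to `ℓ₁/ℓ₂` -/
noncomputable def QD.tau : AA q ⊗[K] L :=
  D.uu ⊗ₜ[K] (algebraMap K L D.a) - D.vv ⊗ₜ[K] (2 * algebraMap K L D.a * D.α)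
    + D.ww ⊗ₜ[K] (algebraMap K L D.a * D.α ^ 2)

/-- the element of the base change mapping to `ℓ₂/ℓ₁` -/
noncomputable def QD.tau' : AA q ⊗[K] L :=
  D.uu ⊗ₜ[K] (algebraMap K L D.a) - D.vv ⊗ₜ[K] (2 * algebraMap K L D.a * D.β)
    + D.ww ⊗ₜ[K] (algebraMap K L D.a * D.β ^ 2)

lemma QD.Phi_tau : D.Phi D.tau = Tpow L 1 := by
  rw [QD.tau, map_add, map_sub, D.Phi_tmul, D.Phi_tmul, D.Phi_tmul, D.phi_tau]

lemma QD.Phi_tau' : D.Phi D.tau' = Tpow L (-1) := by
  rw [QD.tau', map_add, map_sub, D.Phi_tmul, D.Phi_tmul, D.Phi_tmul, D.phi_tau']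

lemma QD.tau_mul_tau' : D.tau * D.tau' = 1 := by
  apply D.Phi_injective
  rw [map_mul, D.Phi_tau, D.Phi_tau', ← Tpow_add, map_one]
  rfl

/-- `τ` as a unit -/
noncomputable def QD.tauU : (AA q ⊗[K] L)ˣ :=
  ⟨D.tau, D.tau', D.tau_mul_tau', by rw [mul_comm]; exact D.tau_mul_tau'⟩

/-- `ℓ₁/ℓ₂` as a unit -/
noncomputable def TU (L : Type u) [Field L] : (CC L)ˣ :=
  ⟨Tpow L 1, Tpow L (-1), by rw [← Tpow_add]; rfl, by rw [← Tpow_add]; rfl⟩

lemma TU_zpow (m : ℤ) : ((TU L ^ m : (CC L)ˣ) : CC L) = Tpow L m := by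
  induction m using Int.induction_on with
  | zero => simp [Tpow_zero]
  | succ n ih =>
    rw [zpow_add_one, Units.val_mul, ih, Tpow_add]; rfl
  | pred n ih =>
    rw [zpow_sub_one, Units.val_mul, ih, sub_eq_add_neg, Tpow_add]; rfl

lemma QD.map_Phi_tauU : Units.map (D.Phi : AA q ⊗[K] L →* CC L) D.tauU = TU L := by
  ext1
  exact D.Phi_tau

/-- constants in the base change -/
noncomputable def incL (q : MvPolynomial (Fin 2) K) (L : Type u) [Field L] [Algebra K L] :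
    L →ₐ[K] AA q ⊗[K] L := Algebra.TensorProduct.includeRight

lemma incL_apply (ℓ : L) : incL q L ℓ = (1 : AA q) ⊗ₜ[K] ℓ := rfl

lemma QD.Phi_incL (ℓ : L) : D.Phi (incL q L ℓ) = cst ℓ := by
  rw [incL_apply, D.Phi_tmul, map_one, one_mul]

/-- `Φ` on units -/
noncomputable def QD.PhiU : (AA q ⊗[K] L)ˣ →* (CC L)ˣ :=
  Units.map (D.Phi : AA q ⊗[K] L →* CC L)

lemma QD.PhiU_val (u : (AA q ⊗[K] L)ˣ) : ((D.PhiU u : (CC L)ˣ) : CC L) = D.Phi u := rfl

lemma QD.PhiU_injective : Function.Injective D.PhiU :=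
  fun _ _ h => Units.ext (D.Phi_injective (congrArg Units.val h))

lemma QD.PhiU_tauU : D.PhiU D.tauU = TU L := D.map_Phi_tauU

/-- constants as units of the Laurent ring -/
noncomputable def cstU (L : Type u) [Field L] : Lˣ →* (CC L)ˣ :=
  Units.map (algebraMap L (CC L) : L →* CC L)

lemma cstU_val (c : Lˣ) : ((cstU L c : (CC L)ˣ) : CC L) = cst (c : L) := rfl

/-- constants as units of the base change -/
noncomputable def incLU (q : MvPolynomial (Fin 2) K) (L : Type u) [Field L] [Algebra K L] :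
    Lˣ →* (AA q ⊗[K] L)ˣ :=
  Units.map (incL q L : L →* AA q ⊗[K] L)

lemma incLU_val (c : Lˣ) : ((incLU q L c : (AA q ⊗[K] L)ˣ) : AA q ⊗[K] L) = incL q L (c : L) := rfl

lemma QD.PhiU_incLU (c : Lˣ) : D.PhiU (incLU q L c) = cstU L c := by
  ext1
  rw [D.PhiU_val, incLU_val, D.Phi_incL, cstU_val]

lemma QD.Phi_tauU_zpow (m : ℤ) :
    D.Phi ((D.tauU ^ m : (AA q ⊗[K] L)ˣ) : AA q ⊗[K] L) = Tpow L m := by
  rw [← D.PhiU_val, map_zpow, D.PhiU_tauU, TU_zpow]

/-- every element of the base change is a Laurent polynomial in `τ` -/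
lemma QD.exists_laurent (z : AA q ⊗[K] L) :
    ∃ (s : Finset (ℤ × ℤ)) (c : ℤ × ℤ → L),
      z = ∑ p ∈ s, incL q L (c p) * ((D.tauU ^ p.1 : (AA q ⊗[K] L)ˣ) : AA q ⊗[K] L) := by
  refine ⟨(D.Phi z).coeff.support, fun p => (D.Phi z).coeff p, ?_⟩
  apply D.Phi_injective
  rw [map_sum]
  conv_lhs => rw [eq_sum_of_mem_gr_zero _ (D.Phi_mem_gr z)]
  apply Finset.sum_congr rfl
  intro p _
  rw [map_mul, D.Phi_incL, D.Phi_tauU_zpow]

/-- rigidity: a ring endomorphism of the base change fixing the constants and `τ` is the identity -/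
lemma QD.ringHom_eq_id (ψ : AA q ⊗[K] L →+* AA q ⊗[K] L) (hL : ∀ ℓ : L, ψ (incL q L ℓ) = incL q L ℓ)
    (hτ : ψ D.tau = D.tau) (z : AA q ⊗[K] L) : ψ z = z := by
  have hU : Units.map (ψ : AA q ⊗[K] L →* AA q ⊗[K] L) D.tauU = D.tauU := Units.ext hτ
  have hpow : ∀ m : ℤ, ψ ((D.tauU ^ m : (AA q ⊗[K] L)ˣ) : AA q ⊗[K] L)
      = ((D.tauU ^ m : (AA q ⊗[K] L)ˣ) : AA q ⊗[K] L) := by
    intro m
    have : Units.map (ψ : AA q ⊗[K] L →* AA q ⊗[K] L) (D.tauU ^ m) = D.tauU ^ m := by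
      rw [map_zpow, hU]
    exact congrArg Units.val this
  obtain ⟨s, c, rfl⟩ := D.exists_laurent z
  rw [map_sum]
  apply Finset.sum_congr rfl
  intro p _
  rw [map_mul, hL, hpow]

end Groth.Agent.Lib.Helper85.PuncLine
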