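import Mathlib.Topology.Separation.Hausdorff
import Mathlib.Data.Fintype.Pi

/-!
# Compact subsets whose points are separated by opens of the ambient space

Helper lemmas (helper85) for statements S7568–S7570: separation of disjoint compact subsets of a
"relatively Hausdorff" compact subset `Z`, shrinking of covers and refinement of multi-intersections.
-/

set_option autoImplicit false
universe u

namespace Groth.Agent.Lib.Helper85

open Set Topology

variable {X : Type u} [TopologicalSpace X]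

/-- Any two distinct points of `Z` have disjoint open neighbourhoods in `X`. -/
def RelT2 (Z : Set X) : Prop :=
  ∀ z ∈ Z, ∀ z' ∈ Z, z ≠ z' →
    ∃ A B : Set X, IsOpen A ∧ IsOpen B ∧ z ∈ A ∧ z' ∈ B ∧ Disjoint A B

theorem sep_point_compact {Z : Set X} (hsep : RelT2 Z) {z : X} (hz : z ∈ Z) {L : Set X}
    (hL : IsCompact L) (hLZ : L ⊆ Z) (hzL : z ∉ L) :
    ∃ A B : Set X, IsOpen A ∧ IsOpen B ∧ z ∈ A ∧ L ⊆ B ∧ Disjoint A B := by
  refine hL.induction_on
    (p := fun L' => ∃ A B : Set X, IsOpen A ∧ IsOpen B ∧ z ∈ A ∧ L' ⊆ B ∧ Disjoint A B)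
    ?_ ?_ ?_ ?_
  · exact ⟨univ, ∅, isOpen_univ, isOpen_empty, mem_univ z, Subset.rfl, disjoint_empty _⟩
  · rintro s t hst ⟨A, B, hA, hB, hzA, htB, hAB⟩
    exact ⟨A, B, hA, hB, hzA, hst.trans htB, hAB⟩
  · rintro s t ⟨A₁, B₁, hA₁, hB₁, hzA₁, hsB₁, hAB₁⟩ ⟨A₂, B₂, hA₂, hB₂, hzA₂, htB₂, hAB₂⟩
    refine ⟨A₁ ∩ A₂, B₁ ∪ B₂, hA₁.inter hA₂, hB₁.union hB₂, ⟨hzA₁, hzA₂⟩,
      union_subset_union hsB₁ htB₂, ?_⟩
    rw [disjoint_left]
    rintro x ⟨hx₁, hx₂⟩ (hx | hx)
    · exact disjoint_left.mp hAB₁ hx₁ hx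
    · exact disjoint_left.mp hAB₂ hx₂ hx
  · intro y hy
    have hne : z ≠ y := fun h => hzL (h ▸ hy)
    obtain ⟨A, B, hA, hB, hzA, hyB, hAB⟩ := hsep z hz y (hLZ hy) hne
    exact ⟨B, mem_nhdsWithin_of_mem_nhds (hB.mem_nhds hyB), A, B, hA, hB, hzA, Subset.rfl, hAB⟩

theorem sep_compact_compact {Z : Set X} (hsep : RelT2 Z) {K L : Set X}
    (hK : IsCompact K) (hKZ : K ⊆ Z) (hL : IsCompact L) (hLZ : L ⊆ Z) (hKL : Disjoint K L) :
    ∃ A B : Set X, IsOpen A ∧ IsOpen B ∧ K ⊆ A ∧ L ⊆ B ∧ Disjoint A B := by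
  refine hK.induction_on
    (p := fun K' => ∃ A B : Set X, IsOpen A ∧ IsOpen B ∧ K' ⊆ A ∧ L ⊆ B ∧ Disjoint A B)
    ?_ ?_ ?_ ?_
  · exact ⟨∅, univ, isOpen_empty, isOpen_univ, Subset.rfl, subset_univ _, empty_disjoint _⟩
  · rintro s t hst ⟨A, B, hA, hB, htA, hLB, hAB⟩
    exact ⟨A, B, hA, hB, hst.trans htA, hLB, hAB⟩
  · rintro s t ⟨A₁, B₁, hA₁, hB₁, hsA₁, hLB₁, hAB₁⟩ ⟨A₂, B₂, hA₂, hB₂, htA₂, hLB₂, hAB₂⟩
    refine ⟨A₁ ∪ A₂, B₁ ∩ B₂, hA₁.union hA₂, hB₁.inter hB₂, union_subset_union hsA₁ htA₂,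
      subset_inter hLB₁ hLB₂, ?_⟩
    rw [disjoint_left]
    rintro x (hx | hx) ⟨hx₁, hx₂⟩
    · exact disjoint_left.mp hAB₁ hx hx₁
    · exact disjoint_left.mp hAB₂ hx hx₂
  · intro z hz
    have hzL : z ∉ L := fun h => disjoint_left.mp hKL hz h
    obtain ⟨A, B, hA, hB, hzA, hLB, hAB⟩ := sep_point_compact hsep (hKZ hz) hL hLZ hzL
    exact ⟨A, mem_nhdsWithin_of_mem_nhds (hA.mem_nhds hzA), A, B, hA, hB, Subset.rfl, hLB, hAB⟩

/-- Around a relatively closed part `Z ∩ C` inside an open `U` there is an open `V ⊆ U` whose closure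
meets `Z` inside `U`. -/
theorem exists_open_closure_inter {Z : Set X} (hZ : IsCompact Z) (hsep : RelT2 Z) {C U : Set X}
    (hC : IsClosed C) (hU : IsOpen U) (hCU : Z ∩ C ⊆ U) :
    ∃ V : Set X, IsOpen V ∧ Z ∩ C ⊆ V ∧ V ⊆ U ∧ closure V ∩ Z ⊆ U := by
  have hdisj : Disjoint (Z ∩ C) (Z ∩ Uᶜ) := by
    rw [disjoint_left]
    rintro x hx ⟨-, hxU⟩
    exact hxU (hCU hx)
  obtain ⟨A, B, hA, hB, hKA, hLB, hAB⟩ := sep_compact_compact hsep (hZ.inter_right hC)
    inter_subset_left (hZ.inter_right hU.isClosed_compl) inter_subset_left hdisj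
  refine ⟨A ∩ U, hA.inter hU, subset_inter hKA hCU, inter_subset_right, ?_⟩
  rintro x ⟨hxcl, hxZ⟩
  have h1 : closure (A ∩ U) ⊆ Bᶜ :=
    closure_minimal (fun y hy hyB => disjoint_left.mp hAB hy.1 hyB) hB.isClosed_compl
  by_contra hxU
  exact h1 hxcl (hLB ⟨hxZ, hxU⟩)

/-- Shrinking lemma: an open cover of `Z` can be shrunk to a cover by finitely many relatively closed
parts `Z ∩ C i ⊆ U i`. -/
theorem exists_closed_shrink {Z : Set X} (hZ : IsCompact Z) (hsep : RelT2 Z) {ι : Type u}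
    (U : ι → Set X) (hU : ∀ i, IsOpen (U i)) (hcov : Z ⊆ ⋃ i, U i) :
    ∃ (I₀ : Finset ι) (C : ι → Set X), (∀ i, IsClosed (C i)) ∧ (∀ i, i ∉ I₀ → C i = ∅) ∧
      (∀ i, Z ∩ C i ⊆ U i) ∧ Z ⊆ ⋃ i, C i := by
  classical
  have hex : ∀ z : Z, ∃ i, (z : X) ∈ U i := fun z => mem_iUnion.mp (hcov z.2)
  choose idx hidx using hex
  have hex2 : ∀ z : Z, ∃ A B : Set X, IsOpen A ∧ IsOpen B ∧ (z : X) ∈ A ∧
      Z ∩ (U (idx z))ᶜ ⊆ B ∧ Disjoint A B := fun z =>
    sep_point_compact hsep z.2 (hZ.inter_right (hU (idx z)).isClosed_compl) inter_subset_left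
      (fun h => h.2 (hidx z))
  choose A B hA hB hzA hLB hAB using hex2
  obtain ⟨t, ht⟩ := hZ.elim_finite_subcover A hA
    (fun x hx => mem_iUnion.mpr ⟨⟨x, hx⟩, hzA ⟨x, hx⟩⟩)
  refine ⟨t.image idx, fun j => ⋃ z ∈ t.filter (fun z => idx z = j), (B z)ᶜ, ?_, ?_, ?_, ?_⟩
  · intro j
    exact isClosed_biUnion_finset fun z _ => (hB z).isClosed_compl
  · intro j hj
    have : t.filter (fun z => idx z = j) = ∅ := by
      rw [Finset.filter_eq_empty_iff]
      intro z hz hzj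
      exact hj (Finset.mem_image.mpr ⟨z, hz, hzj⟩)
    simp [this]
  · rintro j x ⟨hxZ, hxC⟩
    simp only [mem_iUnion, Finset.mem_filter] at hxC
    obtain ⟨z, ⟨-, hzj⟩, hxB⟩ := hxC
    by_contra hxU
    exact hxB (hLB z ⟨hxZ, hzj ▸ hxU⟩)
  · intro x hx
    obtain ⟨z, hzA'⟩ := mem_iUnion.mp (ht hx)
    obtain ⟨hzt, hxA⟩ := mem_iUnion.mp hzA'
    refine mem_iUnion.mpr ⟨idx z, ?_⟩
    simp only [mem_iUnion, Finset.mem_filter]
    exact ⟨z, ⟨hzt, rfl⟩, fun hxB => disjoint_left.mp (hAB z) hxA hxB⟩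

/-- Relatively closed parts of `Z` with empty common intersection have open neighbourhoods with empty
common intersection. -/
theorem exists_open_empty_inter {Z : Set X} (hZ : IsCompact Z) (hsep : RelT2 Z) {α : Type}
    [DecidableEq α] (s : Finset α) :
    ∀ C : α → Set X, (∀ a, IsClosed (C a)) → s.Nonempty → Z ∩ ⋂ a ∈ s, C a = ∅ →
      ∃ A : α → Set X, (∀ a, IsOpen (A a)) ∧ (∀ a ∈ s, Z ∩ C a ⊆ A a) ∧ ⋂ a ∈ s, A a = ∅ := by
  induction s using Finset.induction_on with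
  | empty =>
    intro C _ hne
    exact absurd hne Finset.not_nonempty_empty
  | insert a s ha ih =>
    intro C hC _ hempty
    by_cases hs : s.Nonempty
    · have hdisj : Disjoint (Z ∩ C a) (Z ∩ ⋂ b ∈ s, C b) := by
        rw [disjoint_left]
        rintro x ⟨hxZ, hxa⟩ ⟨-, hxs⟩
        have : x ∈ Z ∩ ⋂ b ∈ insert a s, C b := by
          refine ⟨hxZ, ?_⟩
          rw [Finset.set_biInter_insert]
          exact ⟨hxa, hxs⟩
        rw [hempty] at this
        exact this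
      obtain ⟨A₀, B, hA₀, hB, hKA, hLB, hAB⟩ := sep_compact_compact hsep
        (hZ.inter_right (hC a)) inter_subset_left
        (hZ.inter_right (isClosed_biInter fun b _ => hC b)) inter_subset_left hdisj
      have hempty' : Z ∩ ⋂ b ∈ s, (C b ∩ Bᶜ) = ∅ := by
        rw [eq_empty_iff_forall_notMem]
        rintro x ⟨hxZ, hx⟩
        simp only [mem_iInter, mem_inter_iff, mem_compl_iff] at hx
        obtain ⟨b₀, hb₀⟩ := hs
        apply (hx b₀ hb₀).2
        apply hLB
        refine ⟨hxZ, ?_⟩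
        simp only [mem_iInter]
        exact fun b hb => (hx b hb).1
      obtain ⟨A', hA'o, hA'sub, hA'empty⟩ := ih (fun b => C b ∩ Bᶜ)
        (fun b => (hC b).inter hB.isClosed_compl) hs hempty'
      refine ⟨Function.update (fun b => A' b ∪ B) a A₀, ?_, ?_, ?_⟩
      · intro b
        by_cases hba : b = a
        · subst hba
          rw [Function.update_self]
          exact hA₀
        · rw [Function.update_of_ne hba]
          exact (hA'o b).union hB
      · intro b hb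
        rcases Finset.mem_insert.mp hb with rfl | hb
        · rw [Function.update_self]
          exact hKA
        · have hba : b ≠ a := fun h => ha (h ▸ hb)
          rw [Function.update_of_ne hba]
          rintro x ⟨hxZ, hxC⟩
          by_cases hxB : x ∈ B
          · exact Or.inr hxB
          · exact Or.inl (hA'sub b hb ⟨hxZ, hxC, hxB⟩)
      · rw [eq_empty_iff_forall_notMem]
        intro x hx
        rw [Finset.set_biInter_insert, Function.update_self] at hx
        obtain ⟨hxA₀, hxs⟩ := hx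
        simp only [mem_iInter] at hxs
        by_cases hxB : x ∈ B
        · exact disjoint_left.mp hAB hxA₀ hxB
        · have : x ∈ ⋂ b ∈ s, A' b := by
            simp only [mem_iInter]
            intro b hb
            have hba : b ≠ a := fun h => ha (h ▸ hb)
            have := hxs b hb
            rw [Function.update_of_ne hba] at this
            exact this.resolve_right hxB
          rw [hA'empty] at this
          exact this
    · rw [Finset.not_nonempty_iff_eq_empty] at hs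
      subst hs
      refine ⟨fun _ => ∅, fun _ => isOpen_empty, ?_, ?_⟩
      · intro b hb
        have hba : b = a := by simpa using hb
        subst hba
        intro x hx
        have : x ∈ Z ∩ ⋂ c ∈ insert b (∅ : Finset α), C c := by
          refine ⟨hx.1, ?_⟩
          simpa using hx.2
        rw [hempty] at this
        exact this
      · simp

/-- General refinement lemma behind S7569 and S7570. -/
theorem exists_refinement {Z : Set X} (hZ : IsCompact Z) (hsep : RelT2 Z) {ι : Type u}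
    (U : ι → Set X) (hU : ∀ i, IsOpen (U i)) (hcov : Z ⊆ ⋃ i, U i) (p : ℕ)
    (W : (Fin (p + 1) → ι) → Set X) (hWo : ∀ t, IsOpen (W t))
    (hWZ : ∀ t, W t ∩ Z = (⋂ l, U (t l)) ∩ Z) :
    ∃ C : ι → Set X, (∀ i, IsClosed (C i)) ∧ (∀ i, Z ∩ C i ⊆ U i) ∧
      ∀ V' : ι → Set X, (∀ i, IsOpen (V' i)) → (∀ i, Z ∩ C i ⊆ V' i) →
        ∃ V : ι → Set X, (∀ i, IsOpen (V i)) ∧ (∀ i, V i ⊆ V' i) ∧ (Z ⊆ ⋃ i, V i) ∧
          ∀ t : Fin (p + 1) → ι, (⋂ l, V (t l)) ⊆ W t := by
  classical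
  obtain ⟨I₀, C, hC, hC0, hCU, hCcov⟩ := exists_closed_shrink hZ hsep U hU hcov
  refine ⟨C, hC, hCU, ?_⟩
  intro V' hV'o hV'sub
  have hex : ∀ t : Fin (p + 1) → ι, ∃ A : Fin (p + 1) → Set X, (∀ l, IsOpen (A l)) ∧
      (∀ l ∈ (Finset.univ : Finset (Fin (p + 1))), Z ∩ (C (t l) ∩ (W t)ᶜ) ⊆ A l) ∧
      ⋂ l ∈ (Finset.univ : Finset (Fin (p + 1))), A l = ∅ := by
    intro t
    apply exists_open_empty_inter hZ hsep Finset.univ (fun l => C (t l) ∩ (W t)ᶜ)
      (fun l => (hC (t l)).inter (hWo t).isClosed_compl) Finset.univ_nonempty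
    rw [eq_empty_iff_forall_notMem]
    rintro x ⟨hxZ, hx⟩
    simp only [mem_iInter, mem_inter_iff, mem_compl_iff, Finset.mem_univ, true_implies] at hx
    apply (hx 0).2
    have : x ∈ (⋂ l, U (t l)) ∩ Z :=
      ⟨mem_iInter.mpr fun l => hCU (t l) ⟨hxZ, (hx l).1⟩, hxZ⟩
    rw [← hWZ t] at this
    exact this.1
  choose A hAo hAsub hAempty using hex
  let T₀ : Finset (Fin (p + 1) → ι) := Fintype.piFinset (fun _ => I₀)
  let V : ι → Set X := fun i =>
    if i ∈ I₀ then V' i ∩ ⋂ t ∈ T₀, ⋂ l ∈ Finset.univ.filter (fun l => t l = i), (A t l ∪ W t)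
    else ∅
  have hVN : ∀ (t : Fin (p + 1) → ι), t ∈ T₀ → ∀ l x, x ∈ V (t l) → x ∈ A t l ∪ W t := by
    intro t ht l x hx
    have htl : t l ∈ I₀ := Fintype.mem_piFinset.mp ht l
    simp only [V, if_pos htl, mem_inter_iff, mem_iInter] at hx
    exact hx.2 t ht l (by simp)
  refine ⟨V, ?_, ?_, ?_, ?_⟩
  · intro i
    by_cases hi : i ∈ I₀
    · simp only [V, if_pos hi]
      exact (hV'o i).inter (isOpen_biInter_finset fun t _ => isOpen_biInter_finset fun l _ =>
        (hAo t l).union (hWo t))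
    · simp only [V, if_neg hi]
      exact isOpen_empty
  · intro i
    by_cases hi : i ∈ I₀
    · simp only [V, if_pos hi]
      exact inter_subset_left
    · simp only [V, if_neg hi]
      exact empty_subset _
  · intro x hxZ
    obtain ⟨i, hxi⟩ := mem_iUnion.mp (hCcov hxZ)
    have hi : i ∈ I₀ := by
      by_contra hi
      rw [hC0 i hi] at hxi
      exact hxi
    refine mem_iUnion.mpr ⟨i, ?_⟩
    simp only [V, if_pos hi, mem_inter_iff, mem_iInter]
    refine ⟨hV'sub i ⟨hxZ, hxi⟩, ?_⟩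
    intro t _ l hl
    have htl : t l = i := (Finset.mem_filter.mp hl).2
    by_cases hxW : x ∈ W t
    · exact Or.inr hxW
    · exact Or.inl (hAsub t l (Finset.mem_univ l) ⟨hxZ, htl ▸ hxi, hxW⟩)
  · intro t x hx
    rw [mem_iInter] at hx
    by_cases ht : t ∈ T₀
    · by_contra hxW
      have : x ∈ ⋂ l ∈ (Finset.univ : Finset (Fin (p + 1))), A t l := by
        simp only [mem_iInter]
        intro l _
        exact (hVN t ht l x (hx l)).resolve_right hxW
      rw [hAempty t] at this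
      exact this
    · exfalso
      rw [Fintype.mem_piFinset] at ht
      push Not at ht
      obtain ⟨l, hl⟩ := ht
      have := hx l
      simp only [V, if_neg hl] at this
      exact this

end Groth.Agent.Lib.Helper85
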