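import Mathlib

/-!
# Symmetric tensors of a free module: a basis and the trace of `Γⁿ u` (helper85)
-/

set_option autoImplicit false
set_option linter.unusedSectionVars false
universe u
open TensorProduct PiTensorProduct

namespace Groth.Agent.Lib.Helper85.SymTr

/-- the orbit relation of the symmetric group acting on the positions -/
def orb (ι : Type) (n : ℕ) : Setoid (Fin n → ι) where
  r f g := ∃ σ : Equiv.Perm (Fin n), f ∘ σ = g
  iseqv := ⟨fun f => ⟨1, rfl⟩, fun ⟨σ, h⟩ => ⟨σ⁻¹, by rw [← h]; ext i; simp⟩,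
    fun ⟨σ, h⟩ ⟨τ, h'⟩ => ⟨σ * τ, by rw [← h', ← h]; rfl⟩⟩

/-- the chosen representative of the orbit of `f` -/
noncomputable def rep (ι : Type) (n : ℕ) (f : Fin n → ι) : Fin n → ι :=
  (Quotient.mk (orb ι n) f).out

theorem rep_spec (ι : Type) (n : ℕ) (f : Fin n → ι) :
    ∃ σ : Equiv.Perm (Fin n), rep ι n f ∘ σ = f :=
  Quotient.exact (Quotient.out_eq (Quotient.mk (orb ι n) f))

theorem rep_eq_of_rel (ι : Type) (n : ℕ) (f g : Fin n → ι)
    (h : ∃ σ : Equiv.Perm (Fin n), f ∘ σ = g) : rep ι n f = rep ι n g :=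
  congrArg Quotient.out (Quotient.sound (s := orb ι n) h)

theorem rep_comp (ι : Type) (n : ℕ) (f : Fin n → ι) (σ : Equiv.Perm (Fin n)) :
    rep ι n (f ∘ σ) = rep ι n f :=
  (rep_eq_of_rel ι n f (f ∘ σ) ⟨σ, rfl⟩).symm

theorem rep_rep (ι : Type) (n : ℕ) (f : Fin n → ι) : rep ι n (rep ι n f) = rep ι n f := by
  obtain ⟨σ, h⟩ := rep_spec ι n f
  exact rep_eq_of_rel ι n _ _ ⟨σ, h⟩

/-- the universal polynomial expression for the trace of `Γⁿ u` -/
noncomputable def Hn {ι : Type} [Fintype ι] {A : Type*} [CommRing A] (U : Matrix ι ι A) (n : ℕ) : A :=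
  ∑ f : Fin n → ι, ∏ i, U (rep ι n f i) (f i)

theorem Hn_map {ι : Type} [Fintype ι] {A B : Type*} [CommRing A] [CommRing B] (φ : A →+* B)
    (U : Matrix ι ι A) (n : ℕ) : Hn (U.map φ) n = φ (Hn U n) := by
  unfold Hn
  rw [map_sum]
  refine Finset.sum_congr rfl fun f _ => ?_
  rw [map_prod]
  rfl

section Sym

variable {A : Type u} [CommRing A] {M : Type u} [AddCommGroup M] [Module A M]

/-- symmetric tensors -/
abbrev symT (A : Type u) [CommRing A] (M : Type u) [AddCommGroup M] [Module A M] (n : ℕ) :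
    Submodule A (⨂[A] _i : Fin n, M) :=
  ⨅ σ : Equiv.Perm (Fin n),
    LinearMap.eqLocus ((PiTensorProduct.reindex A (fun _ : Fin n => M) σ).toLinearMap)
      LinearMap.id

theorem mem_symT {n : ℕ} (x : ⨂[A] _i : Fin n, M) :
    x ∈ symT A M n ↔
      ∀ σ : Equiv.Perm (Fin n), PiTensorProduct.reindex A (fun _ : Fin n => M) σ x = x := by
  simp [symT, Submodule.mem_iInf, LinearMap.mem_eqLocus]

variable {ι : Type} [Fintype ι] [DecidableEq ι] (b : Module.Basis ι A M) (n : ℕ)

/-- the basis of the tensor power -/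
noncomputable def BT : Module.Basis (Fin n → ι) A (⨂[A] _i : Fin n, M) :=
  _root_.Basis.piTensorProduct (fun _ : Fin n => b)

theorem BT_apply (f : Fin n → ι) : BT b n f = tprod A (fun i => b (f i)) := by
  unfold BT
  rw [_root_.Basis.piTensorProduct_apply]

theorem reindex_BT (σ : Equiv.Perm (Fin n)) (f : Fin n → ι) :
    PiTensorProduct.reindex A (fun _ : Fin n => M) σ (BT b n f) = BT b n (f ∘ σ.symm) := by
  rw [BT_apply, BT_apply, reindex_tprod]
  rfl

theorem repr_reindex (σ : Equiv.Perm (Fin n)) (x : ⨂[A] _i : Fin n, M) (g : Fin n → ι) :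
    (BT b n).repr (PiTensorProduct.reindex A (fun _ : Fin n => M) σ x) g =
      (BT b n).repr x (g ∘ σ) := by
  classical
  conv_lhs => rw [← (BT b n).sum_repr x]
  rw [map_sum, map_sum, Finsupp.finsetSum_apply]
  have h1 : ∀ f : Fin n → ι, ((BT b n).repr ((PiTensorProduct.reindex A (fun _ : Fin n => M) σ)
      (((BT b n).repr x) f • (BT b n) f))) g =
      if f = g ∘ σ then (BT b n).repr x f else 0 := by
    intro f
    rw [map_smul, map_smul, reindex_BT, Module.Basis.repr_self, Finsupp.smul_apply,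
      Finsupp.single_apply, smul_eq_mul]
    by_cases h : f = g ∘ σ
    · rw [if_pos h, if_pos, mul_one]
      rw [h]; ext i; simp
    · rw [if_neg h, if_neg, mul_zero]
      intro h'
      apply h
      rw [← h']; ext i; simp
  simp_rw [h1]
  rw [Finset.sum_ite_eq' Finset.univ (g ∘ σ), if_pos (Finset.mem_univ _)]

theorem mem_symT_iff (x : ⨂[A] _i : Fin n, M) :
    x ∈ symT A M n ↔ ∀ (σ : Equiv.Perm (Fin n)) (g : Fin n → ι),
      (BT b n).repr x (g ∘ σ) = (BT b n).repr x g := by
  rw [mem_symT]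
  constructor
  · intro h σ g
    rw [← repr_reindex, h σ]
  · intro h σ
    apply (BT b n).repr.injective
    ext g
    rw [repr_reindex, h σ g]

theorem repr_rep (x : ⨂[A] _i : Fin n, M) (hx : x ∈ symT A M n) (f : Fin n → ι) :
    (BT b n).repr x (rep ι n f) = (BT b n).repr x f := by
  obtain ⟨σ, h⟩ := rep_spec ι n f
  have := (mem_symT_iff b n x).1 hx σ (rep ι n f)
  rw [h] at this
  exact this.symm

/-- the canonical representatives -/
abbrev Reps (ι : Type) (n : ℕ) : Type := {f : Fin n → ι // rep ι n f = f}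

noncomputable instance : Fintype (Reps ι n) := by
  classical
  exact Subtype.fintype _

/-- the symmetric tensor with prescribed coordinates on the representatives -/
noncomputable def symOf (φ : Reps ι n → A) : ⨂[A] _i : Fin n, M :=
  ∑ f : Fin n → ι, φ ⟨rep ι n f, rep_rep ι n f⟩ • BT b n f

theorem repr_symOf (φ : Reps ι n → A) (g : Fin n → ι) :
    (BT b n).repr (symOf b n φ) g = φ ⟨rep ι n g, rep_rep ι n g⟩ := by
  classical
  unfold symOf
  rw [map_sum, Finsupp.finsetSum_apply]
  have h1 : ∀ f : Fin n → ι, ((BT b n).repr (φ ⟨rep ι n f, rep_rep ι n f⟩ • BT b n f)) g =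
      if f = g then φ ⟨rep ι n f, rep_rep ι n f⟩ else 0 := by
    intro f
    rw [map_smul, Module.Basis.repr_self, Finsupp.smul_apply, Finsupp.single_apply, smul_eq_mul]
    by_cases h : f = g
    · rw [if_pos h, if_pos h, mul_one]
    · rw [if_neg h, if_neg h, mul_zero]
  simp_rw [h1]
  rw [Finset.sum_ite_eq' Finset.univ g, if_pos (Finset.mem_univ _)]

theorem symOf_mem (φ : Reps ι n → A) : symOf b n φ ∈ symT A M n := by
  rw [mem_symT_iff b n]
  intro σ g
  rw [repr_symOf, repr_symOf]
  congr 1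
  exact Subtype.ext (rep_comp ι n g σ)

/-- coordinates of symmetric tensors -/
noncomputable def symEquiv : symT A M n ≃ₗ[A] (Reps ι n → A) where
  toFun x := fun r => (BT b n).repr x.1 r.1
  map_add' x y := by
    ext r
    simp
  map_smul' c x := by
    ext r
    simp
  invFun φ := ⟨symOf b n φ, symOf_mem b n φ⟩
  left_inv x := by
    apply Subtype.ext
    apply (BT b n).repr.injective
    ext g
    simp only
    rw [repr_symOf]
    exact repr_rep b n x.1 x.2 g
  right_inv φ := by
    ext r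
    simp only
    rw [repr_symOf]
    congr 1
    exact Subtype.ext r.2

/-- the basis of the symmetric tensors -/
noncomputable def BS : Module.Basis (Reps ι n) A (symT A M n) :=
  Module.Basis.ofEquivFun (symEquiv b n)

theorem repr_map_BT (u : M →ₗ[A] M) (f g : Fin n → ι) :
    (BT b n).repr (PiTensorProduct.map (fun _ : Fin n => u) (BT b n f)) g =
      ∏ i, LinearMap.toMatrix b b u (g i) (f i) := by
  rw [BT_apply, map_tprod]
  unfold BT
  rw [_root_.Basis.piTensorProduct_repr_tprod_apply]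
  refine Finset.prod_congr rfl fun i _ => ?_
  rw [LinearMap.toMatrix_apply]

theorem trace_eq_Hn (u : M →ₗ[A] M) (γ : symT A M n →ₗ[A] symT A M n)
    (hγ : ∀ x : symT A M n, ((γ x : symT A M n) : ⨂[A] _i : Fin n, M) =
      PiTensorProduct.map (fun _ : Fin n => u) (x : ⨂[A] _i : Fin n, M)) :
    LinearMap.trace A _ γ = Hn (LinearMap.toMatrix b b u) n := by
  classical
  rw [LinearMap.trace_eq_matrix_trace A (BS b n) γ, Matrix.trace]
  simp only [Matrix.diag_apply]
  have h1 : ∀ r : Reps ι n, LinearMap.toMatrix (BS b n) (BS b n) γ r r =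
      ∑ f : Fin n → ι, if rep ι n f = r.1 then
        ∏ i, LinearMap.toMatrix b b u (r.1 i) (f i) else 0 := by
    intro r
    rw [LinearMap.toMatrix_apply]
    have e1 : (BS b n).repr (γ (BS b n r)) r = (BT b n).repr (γ (BS b n r)).1 r.1 := by
      unfold BS
      rw [Module.Basis.ofEquivFun_repr_apply]
      rfl
    have e2 : ((BS b n r : symT A M n) : ⨂[A] _i : Fin n, M) =
        symOf b n (Pi.single r 1) := by
      unfold BS
      rw [Module.Basis.coe_ofEquivFun]
      rfl
    rw [e1, hγ, e2]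
    unfold symOf
    rw [map_sum, map_sum, Finsupp.finsetSum_apply]
    refine Finset.sum_congr rfl fun f _ => ?_
    rw [map_smul, map_smul, Finsupp.smul_apply, repr_map_BT, smul_eq_mul]
    by_cases h : rep ι n f = r.1
    · rw [if_pos h]
      have : (⟨rep ι n f, rep_rep ι n f⟩ : Reps ι n) = r := Subtype.ext h
      rw [this, Pi.single_eq_same, one_mul]
    · rw [if_neg h]
      have : (⟨rep ι n f, rep_rep ι n f⟩ : Reps ι n) ≠ r := fun e => h (congrArg Subtype.val e)
      rw [Pi.single_eq_of_ne this, zero_mul]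
  simp_rw [h1]
  rw [Finset.sum_comm]
  unfold Hn
  refine Finset.sum_congr rfl fun f _ => ?_
  rw [Finset.sum_eq_single (⟨rep ι n f, rep_rep ι n f⟩ : Reps ι n)]
  · rw [if_pos rfl]
  · intro r _ hr
    rw [if_neg]
    intro e
    exact hr (Subtype.ext e.symm)
  · intro h
    exact absurd (Finset.mem_univ _) h

end Sym

end Groth.Agent.Lib.Helper85.SymTr
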