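import Mathlib
import Groth.Agent.Lib.Helper85.SymTr1

/-!
# `det(1 - tU)`, the endomorphism `Γⁿ u`, and triangular bases (helper85)
-/

set_option autoImplicit false
set_option linter.unusedSectionVars false
universe u
open TensorProduct PiTensorProduct Polynomial

namespace Groth.Agent.Lib.Helper85.SymTr

/-- `det(1 - tU)` -/
noncomputable def detM {ι : Type} [Fintype ι] [DecidableEq ι] {A : Type*} [CommRing A]
    (U : Matrix ι ι A) : A[X] :=
  (1 - (X : A[X]) • U.map C).det

theorem detM_map {ι : Type} [Fintype ι] [DecidableEq ι] {A B : Type*} [CommRing A] [CommRing B]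
    (φ : A →+* B) (U : Matrix ι ι A) : detM (U.map φ) = (detM U).map φ := by
  unfold detM
  rw [← Polynomial.coe_mapRingHom, RingHom.map_det]
  congr 1
  ext i j
  simp only [Matrix.sub_apply, Matrix.smul_apply, Matrix.map_apply, RingHom.mapMatrix_apply,
    smul_eq_mul, Polynomial.coe_mapRingHom, Polynomial.map_sub, Polynomial.map_mul,
    Polynomial.map_X, Polynomial.map_C]
  congr 1
  by_cases h : i = j
  · subst h; simp
  · simp [Matrix.one_apply_ne h]

section Det

variable {A : Type u} [CommRing A] {M : Type u} [AddCommGroup M] [Module A M]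
variable {ι : Type} [Fintype ι] [DecidableEq ι]

theorem det_baseChange_eq (b : Module.Basis ι A M) (u : M →ₗ[A] M) :
    LinearMap.det (LinearMap.id - (X : A[X]) • u.baseChange A[X]) =
      detM (LinearMap.toMatrix b b u) := by
  rw [← LinearMap.det_toMatrix (Algebra.TensorProduct.basis A[X] b)]
  unfold detM
  congr 1
  have h1 := LinearMap.toMatrix_baseChange A[X] u b b
  have h2 : (LinearMap.toMatrix (Algebra.TensorProduct.basis A[X] b)
      (Algebra.TensorProduct.basis A[X] b)) (LinearMap.id) = 1 := LinearMap.toMatrix_id _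
  have h3 := (LinearMap.toMatrix (Algebra.TensorProduct.basis A[X] b)
    (Algebra.TensorProduct.basis A[X] b)).map_sub (LinearMap.id)
      ((X : A[X]) • LinearMap.baseChange A[X] u)
  have h4 := (LinearMap.toMatrix (Algebra.TensorProduct.basis A[X] b)
    (Algebra.TensorProduct.basis A[X] b)).map_smul (X : A[X]) (LinearMap.baseChange A[X] u)
  refine h3.trans ?_
  refine (congrArg₂ (· - ·) h2 (h4.trans (congrArg (fun m => (X : A[X]) • m) h1))).trans ?_
  rfl

/-- the endomorphism `Γⁿ u` of the symmetric tensors -/
noncomputable def gam (u : M →ₗ[A] M) (n : ℕ) : symT A M n →ₗ[A] symT A M n :=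
  (PiTensorProduct.map (fun _ : Fin n => u)).restrict (by
    intro x hx
    rw [mem_symT] at hx ⊢
    intro σ
    have h := PiTensorProduct.map_reindex (R := A) (s := fun _ : Fin n => M)
      (t := fun _ : Fin n => M) (fun _ : Fin n => u) σ x
    rw [hx σ] at h
    exact h.symm)

theorem gam_coe (u : M →ₗ[A] M) (n : ℕ) (x : symT A M n) :
    ((gam u n x : symT A M n) : ⨂[A] _i : Fin n, M) =
      PiTensorProduct.map (fun _ : Fin n => u) (x : ⨂[A] _i : Fin n, M) := rfl

theorem Hn_toMatrix_eq (b b' : Module.Basis ι A M) (u : M →ₗ[A] M) (n : ℕ) :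
    Hn (LinearMap.toMatrix b b u) n = Hn (LinearMap.toMatrix b' b' u) n := by
  rw [← trace_eq_Hn b n u (gam u n) (gam_coe u n), ← trace_eq_Hn b' n u (gam u n) (gam_coe u n)]

theorem detM_toMatrix_eq (b b' : Module.Basis ι A M) (u : M →ₗ[A] M) :
    detM (LinearMap.toMatrix b b u) = detM (LinearMap.toMatrix b' b' u) := by
  rw [← det_baseChange_eq b u, ← det_baseChange_eq b' u]

end Det

section Triangular

variable {K : Type} [Field K] [IsAlgClosed K]

/-- over an algebraically closed field every endomorphism has a lower triangular matrix in a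
suitable basis -/
theorem exists_triangular_basis : ∀ (d : ℕ) (V : Type) [AddCommGroup V] [Module K V]
    [FiniteDimensional K V] (u : V →ₗ[K] V), Module.finrank K V = d →
    ∃ b : Module.Basis (Fin d) K V, ∀ i j : Fin d, i < j → LinearMap.toMatrix b b u i j = 0 := by
  intro d
  induction d with
  | zero =>
    intro V _ _ _ u hd
    exact ⟨Module.finBasisOfFinrankEq K V hd, fun i => i.elim0⟩
  | succ d ih =>
    intro V _ _ _ u hd
    have : Nontrivial V := Module.nontrivial_of_finrank_pos (R := K) (by omega)
    -- an eigenvector of the transpose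
    have : Nontrivial (Module.Dual K V) := by
      apply Module.nontrivial_of_finrank_pos (R := K)
      rw [Subspace.dual_finrank_eq]; omega
    obtain ⟨μ, hμ⟩ := Module.End.exists_eigenvalue (Module.Dual.transpose (R := K) u)
    obtain ⟨φ, hφ⟩ := hμ.exists_hasEigenvector
    have hφ0 : φ ≠ 0 := hφ.2
    have hφu : ∀ x, φ (u x) = μ * φ x := by
      intro x
      have h1 := hφ.apply_eq_smul
      have h2 := LinearMap.congr_fun h1 x
      simpa [Module.Dual.transpose_apply] using h2
    obtain ⟨y, hy⟩ : ∃ y, φ y ≠ 0 := by
      by_contra hcon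
      apply hφ0
      ext x
      by_contra hx
      exact hcon ⟨x, hx⟩
    let H : Submodule K V := LinearMap.ker φ
    have hHu : ∀ x ∈ H, u x ∈ H := by
      intro x hx
      rw [LinearMap.mem_ker] at hx ⊢
      rw [hφu, hx, mul_zero]
    have hsurj : Function.Surjective φ := by
      intro c
      refine ⟨(c / φ y) • y, ?_⟩
      rw [map_smul, smul_eq_mul, div_mul_cancel₀ _ hy]
    have hHrank : Module.finrank K H = d := by
      have h1 := LinearMap.finrank_range_add_finrank_ker φ
      rw [LinearMap.range_eq_top.2 hsurj, finrank_top, Module.finrank_self] at h1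
      have : Module.finrank K (LinearMap.ker φ) = d := by omega
      exact this
    let uH : H →ₗ[K] H := u.restrict hHu
    obtain ⟨bH, hbH⟩ := ih H uH hHrank
    have hli : ∀ (c : K), ∀ x ∈ H, c • y + x = 0 → c = 0 := by
      intro c x hx h
      have h1 := congrArg φ h
      rw [map_add, map_smul, LinearMap.mem_ker.1 hx, add_zero, map_zero, smul_eq_mul] at h1
      rcases mul_eq_zero.1 h1 with h2 | h2
      · exact h2
      · exact absurd h2 hy
    have hsp : ∀ z : V, ∃ c : K, z + c • y ∈ H := by
      intro z
      refine ⟨-(φ z / φ y), ?_⟩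
      rw [LinearMap.mem_ker, map_add, map_smul, smul_eq_mul, neg_mul, div_mul_cancel₀ _ hy,
        add_neg_cancel]
    let b : Module.Basis (Fin (d + 1)) K V := Module.Basis.mkFinCons y bH hli hsp
    have hbs : ∀ j : Fin d, b j.succ = (bH j : V) := by
      intro j
      exact (congrFun (Module.Basis.coe_mkFinCons y bH hli hsp) j.succ).trans
        (by rw [Fin.cons_succ]; rfl)
    refine ⟨b, ?_⟩
    intro i j hij
    have hj0 : j ≠ 0 := by
      intro h
      rw [h] at hij
      exact absurd hij (Fin.not_lt_zero i)
    obtain ⟨j', rfl⟩ := Fin.exists_succ_eq.2 hj0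
    rw [LinearMap.toMatrix_apply, hbs]
    -- expand u (bH j') in the basis bH
    have hexp : u (bH j' : V) = ∑ k, LinearMap.toMatrix bH bH uH k j' • b k.succ := by
      have h1 : uH (bH j') = ∑ k, LinearMap.toMatrix bH bH uH k j' • bH k := by
        conv_lhs => rw [← bH.sum_repr (uH (bH j'))]
        refine Finset.sum_congr rfl fun k _ => ?_
        rw [LinearMap.toMatrix_apply]
      have h2 := congrArg (Submodule.subtype H) h1
      rw [map_sum] at h2
      simp only [map_smul, Submodule.subtype_apply] at h2
      rw [show ((uH (bH j') : H) : V) = u (bH j' : V) from rfl] at h2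
      rw [h2]
      refine Finset.sum_congr rfl fun k _ => ?_
      rw [hbs]
    rw [hexp, map_sum, Finsupp.finsetSum_apply]
    refine Finset.sum_eq_zero fun k _ => ?_
    rw [map_smul, Module.Basis.repr_self, Finsupp.smul_apply, Finsupp.single_apply, smul_eq_mul]
    by_cases hk : k.succ = i
    · rw [if_pos hk]
      have hkj : k < j' := by
        rw [← hk] at hij
        exact Fin.succ_lt_succ_iff.1 hij
      rw [hbH k j' hkj, zero_mul]
    · rw [if_neg hk, mul_zero]

end Triangular

end Groth.Agent.Lib.Helper85.SymTr
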