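import Mathlib
import Groth.Agent.Lib.Helper85.SymTr2

/-!
# The triangular case and the generating function of complete symmetric sums (helper85)
-/

set_option autoImplicit false
set_option linter.unusedSectionVars false
universe u
open Polynomial Finset

namespace Groth.Agent.Lib.Helper85.SymTr

section Count

variable {ι : Type} [Fintype ι] [DecidableEq ι] {n : ℕ}

/-- the fibre cardinalities of `f` -/
noncomputable def cnt (f : Fin n → ι) : ι →₀ ℕ :=
  Finsupp.equivFunOnFinite.symm (fun j => (univ.filter (fun i => f i = j)).card)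

theorem cnt_apply (f : Fin n → ι) (j : ι) : cnt f j = (univ.filter (fun i => f i = j)).card := rfl

theorem cnt_sum (f : Fin n → ι) : ∑ j, cnt f j = n := by
  have h := Finset.card_eq_sum_card_fiberwise (f := f) (s := univ) (t := univ)
    (fun _ _ => mem_coe.2 (mem_univ _))
  rw [card_univ, Fintype.card_fin] at h
  exact (Finset.sum_congr rfl fun j _ => cnt_apply f j).trans h.symm

theorem cnt_mem (f : Fin n → ι) : cnt f ∈ finsuppAntidiag (univ : Finset ι) n := by
  rw [mem_finsuppAntidiag]
  exact ⟨cnt_sum f, subset_univ _⟩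

theorem cnt_comp (f : Fin n → ι) (σ : Equiv.Perm (Fin n)) : cnt (f ∘ σ) = cnt f := by
  ext j
  rw [cnt_apply, cnt_apply]
  exact Finset.card_bijective σ σ.bijective (by intro i; simp)

theorem cnt_rep (f : Fin n → ι) : cnt (rep ι n f) = cnt f := by
  obtain ⟨σ, h⟩ := rep_spec ι n f
  calc cnt (rep ι n f) = cnt (rep ι n f ∘ σ) := (cnt_comp _ σ).symm
    _ = cnt f := by rw [h]

theorem exists_perm_of_cnt_eq (f g : Fin n → ι) (h : cnt f = cnt g) :
    ∃ σ : Equiv.Perm (Fin n), f ∘ σ = g := by
  have e : ∀ j, {i // g i = j} ≃ {i // f i = j} := fun j => Fintype.equivOfCardEq (by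
    rw [Fintype.card_subtype, Fintype.card_subtype]
    have := DFunLike.congr_fun h j
    rw [cnt_apply, cnt_apply] at this
    exact this.symm)
  refine ⟨Equiv.ofFiberEquiv e, ?_⟩
  ext i
  exact Equiv.ofFiberEquiv_map e i

theorem exists_of_mem_antidiag (l : ι →₀ ℕ) (hl : l ∈ finsuppAntidiag (univ : Finset ι) n) :
    ∃ f : Fin n → ι, cnt f = l := by
  have hsum : ∑ j, l j = n := (mem_finsuppAntidiag.1 hl).1
  have hcard : Fintype.card (Σ j, Fin (l j)) = n := by
    rw [Fintype.card_sigma]
    simp [hsum]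
  let e : Fin n ≃ Σ j, Fin (l j) := (Fintype.equivFinOfCardEq hcard).symm
  refine ⟨fun i => (e i).1, ?_⟩
  ext j
  rw [cnt_apply]
  have h1 : (univ.filter (fun i => (e i).1 = j)).card =
      Fintype.card {x : Σ j, Fin (l j) // x.1 = j} := by
    rw [Fintype.card_subtype]
    exact Finset.card_bijective e e.bijective (by intro i; simp)
  rw [h1, Fintype.card_congr (Equiv.sigmaSubtype j), Fintype.card_fin]

theorem prod_eq_prod_pow {K : Type*} [CommRing K] (lam : ι → K) (f : Fin n → ι) :
    ∏ i, lam (f i) = ∏ j, lam j ^ cnt f j := by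
  rw [← Finset.prod_fiberwise' univ f lam]
  refine Finset.prod_congr rfl fun j _ => ?_
  rw [Finset.prod_const, cnt_apply]

/-- the complete symmetric sums via representatives and via exponent vectors -/
theorem sum_reps_eq {K : Type*} [CommRing K] (lam : ι → K) :
    ∑ r : Reps ι n, ∏ i, lam (r.1 i) =
      ∑ l ∈ finsuppAntidiag (univ : Finset ι) n, ∏ j, lam j ^ l j := by
  refine Finset.sum_bij (fun r _ => cnt r.1) (fun r _ => cnt_mem r.1) ?_ ?_ ?_
  · intro r _ r' _ h
    obtain ⟨σ, hσ⟩ := exists_perm_of_cnt_eq r.1 r'.1 h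
    apply Subtype.ext
    rw [← r.2, ← r'.2]
    exact rep_eq_of_rel ι n _ _ ⟨σ, hσ⟩
  · intro l hl
    obtain ⟨f, hf⟩ := exists_of_mem_antidiag l hl
    exact ⟨⟨rep ι n f, rep_rep ι n f⟩, mem_univ _, by rw [cnt_rep, hf]⟩
  · intro r _
    exact prod_eq_prod_pow lam r.1

end Count

section GenFun

variable {K : Type*} [CommRing K] {ι : Type} [Fintype ι] [DecidableEq ι]

theorem one_sub_mul_geo (c : K) :
    ((1 - X * C c : K[X]) : PowerSeries K) * PowerSeries.mk (fun m => c ^ m) = 1 := by
  ext m
  rw [Polynomial.coe_sub, Polynomial.coe_one, Polynomial.coe_mul, Polynomial.coe_X,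
    Polynomial.coe_C, sub_mul, one_mul, map_sub, PowerSeries.coeff_mk, mul_assoc]
  cases m with
  | zero =>
    simp
  | succ m =>
    rw [PowerSeries.coeff_succ_X_mul, ← PowerSeries.smul_eq_C_mul, map_smul,
      PowerSeries.coeff_mk, PowerSeries.coeff_one, if_neg (Nat.succ_ne_zero m), smul_eq_mul,
      pow_succ]
    ring

theorem genfun (lam : ι → K) :
    ((∏ j, (1 - X * C (lam j)) : K[X]) : PowerSeries K) *
      PowerSeries.mk (fun n => ∑ r : Reps ι n, ∏ i, lam (r.1 i)) = 1 := by
  have h1 : PowerSeries.mk (fun n => ∑ r : Reps ι n, ∏ i, lam (r.1 i)) =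
      ∏ j, PowerSeries.mk (fun m => lam j ^ m) := by
    ext n
    rw [PowerSeries.coeff_mk, PowerSeries.coeff_prod, sum_reps_eq]
    refine Finset.sum_congr rfl fun l _ => ?_
    refine Finset.prod_congr rfl fun j _ => ?_
    rw [PowerSeries.coeff_mk]
  have h2 : ((∏ j, (1 - X * C (lam j)) : K[X]) : PowerSeries K) =
      ∏ j, (((1 - X * C (lam j)) : K[X]) : PowerSeries K) := by
    rw [← Polynomial.coeToPowerSeries.ringHom_apply, map_prod]
    rfl
  rw [h1, h2, ← Finset.prod_mul_distrib]
  exact Finset.prod_eq_one fun j _ => one_sub_mul_geo (lam j)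

end GenFun

section Tri

variable {K : Type*} [CommRing K] [IsDomain K] {d : ℕ}

theorem Hn_lower (T : Matrix (Fin d) (Fin d) K) (hT : ∀ i j, i < j → T i j = 0) (n : ℕ) :
    Hn T n = ∑ r : Reps (Fin d) n, ∏ i, T (r.1 i) (r.1 i) := by
  classical
  unfold Hn
  have h1 : ∀ f : Fin n → Fin d, ∏ i, T (rep (Fin d) n f i) (f i) =
      if rep (Fin d) n f = f then ∏ i, T (f i) (f i) else 0 := by
    intro f
    by_cases h : rep (Fin d) n f = f
    · rw [if_pos h, h]
    · rw [if_neg h]
      by_contra hne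
      apply h
      have hle : ∀ i, f i ≤ rep (Fin d) n f i := by
        intro i
        by_contra hlt
        apply hne
        exact Finset.prod_eq_zero (mem_univ i) (hT _ _ (not_le.1 hlt))
      obtain ⟨σ, hσ⟩ := rep_spec (Fin d) n f
      have hsum : ∑ i, ((rep (Fin d) n f i : Fin d) : ℕ) = ∑ i, ((f i : Fin d) : ℕ) := by
        rw [← Equiv.sum_comp σ (fun i => ((rep (Fin d) n f i : Fin d) : ℕ))]
        refine Finset.sum_congr rfl fun i _ => ?_
        rw [← congrFun hσ i]
        rfl
      funext i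
      by_contra hi
      have hlt : f i < rep (Fin d) n f i := lt_of_le_of_ne (hle i) (Ne.symm hi)
      have := Finset.sum_lt_sum (s := univ) (f := fun i => ((f i : Fin d) : ℕ))
        (g := fun i => ((rep (Fin d) n f i : Fin d) : ℕ)) (fun i _ => hle i) ⟨i, mem_univ _, hlt⟩
      omega
  simp_rw [h1]
  rw [← Finset.sum_filter]
  exact Finset.sum_subtype _ (fun f => by simp) _

theorem detM_lower (T : Matrix (Fin d) (Fin d) K) (hT : ∀ i j, i < j → T i j = 0) :
    detM T = ∏ j, (1 - X * C (T j j)) := by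
  unfold detM
  rw [Matrix.det_of_isLowerTriangular]
  · refine Finset.prod_congr rfl fun j _ => ?_
    simp
  · intro i j hij
    have hij' : i < j := hij
    have hne : i ≠ j := ne_of_lt hij'
    simp [Matrix.one_apply_ne hne, hT i j hij']

theorem identity_lower (T : Matrix (Fin d) (Fin d) K) (hT : ∀ i j, i < j → T i j = 0) :
    ((detM T : K[X]) : PowerSeries K) * PowerSeries.mk (fun n => Hn T n) = 1 := by
  rw [detM_lower T hT]
  have : (fun n => Hn T n) = fun n => ∑ r : Reps (Fin d) n, ∏ i, (fun j => T j j) (r.1 i) := by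
    funext n
    exact Hn_lower T hT n
  rw [this]
  exact genfun (fun j => T j j)

end Tri

end Groth.Agent.Lib.Helper85.SymTr
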