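import Mathlib
import Groth.Agent.Lib.Helper85.SymTr3
import Groth.Prelude.Def_SGA4hB

/-!
# `det(1 - tu)⁻¹ = ∑ Tr(Γⁿ u) tⁿ` (helper85)
-/

set_option autoImplicit false
set_option linter.unusedSectionVars false
universe u
open Polynomial TensorProduct PiTensorProduct

namespace Groth.Agent.Lib.Helper85.SymTr

/-- the identity over algebraically closed fields -/
theorem identity_field {K : Type} [Field K] [IsAlgClosed K] {d : ℕ}
    (U : Matrix (Fin d) (Fin d) K) :
    ((detM U : K[X]) : PowerSeries K) * PowerSeries.mk (fun n => Hn U n) = 1 := by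
  let u : (Fin d → K) →ₗ[K] (Fin d → K) := Matrix.toLin' U
  let b0 : Module.Basis (Fin d) K (Fin d → K) := Pi.basisFun K (Fin d)
  have hU : LinearMap.toMatrix b0 b0 u = U := by
    rw [LinearMap.toMatrix_eq_toMatrix']
    exact LinearMap.toMatrix'_toLin' U
  obtain ⟨b, hb⟩ := exists_triangular_basis d (Fin d → K) u (by simp)
  have h1 := identity_lower (LinearMap.toMatrix b b u) hb
  rw [← detM_toMatrix_eq b0 b u, hU] at h1
  have h2 : (fun n => Hn (LinearMap.toMatrix b b u) n) = fun n => Hn U n := by
    funext n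
    rw [← Hn_toMatrix_eq b0 b u n, hU]
  rw [h2] at h1
  exact h1

theorem map_identity {A B : Type*} [CommRing A] [CommRing B] {d : ℕ} (φ : A →+* B)
    (U : Matrix (Fin d) (Fin d) A) :
    PowerSeries.map φ (((detM U : A[X]) : PowerSeries A) * PowerSeries.mk (fun n => Hn U n)) =
      ((detM (U.map φ) : B[X]) : PowerSeries B) * PowerSeries.mk (fun n => Hn (U.map φ) n) := by
  rw [map_mul]
  congr 1
  · rw [detM_map, Polynomial.polynomial_map_coe]
  · ext n
    rw [PowerSeries.coeff_map, PowerSeries.coeff_mk, PowerSeries.coeff_mk, Hn_map]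

/-- the identity over arbitrary commutative rings -/
theorem identity {A : Type*} [CommRing A] {d : ℕ} (U : Matrix (Fin d) (Fin d) A) :
    ((detM U : A[X]) : PowerSeries A) * PowerSeries.mk (fun n => Hn U n) = 1 := by
  let A0 := MvPolynomial (Fin d × Fin d) ℤ
  let U0 : Matrix (Fin d) (Fin d) A0 := Matrix.of fun i j => MvPolynomial.X (i, j)
  let K := AlgebraicClosure (FractionRing A0)
  let ψ : A0 →+* K := (algebraMap (FractionRing A0) K).comp (algebraMap A0 (FractionRing A0))
  have hψ : Function.Injective ψ :=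
    (algebraMap (FractionRing A0) K).injective.comp (IsFractionRing.injective A0 (FractionRing A0))
  have h0 : ((detM U0 : A0[X]) : PowerSeries A0) * PowerSeries.mk (fun n => Hn U0 n) = 1 := by
    apply PowerSeries.map_injective ψ hψ
    rw [map_identity, map_one]
    exact identity_field (U0.map ψ)
  let φ : A0 →+* A :=
    MvPolynomial.eval₂Hom (Int.castRingHom A) (fun p : Fin d × Fin d => U p.1 p.2)
  have hφ : U0.map φ = U := by
    ext i j
    rw [Matrix.map_apply]
    exact MvPolynomial.eval₂Hom_X' _ _ _
  have h1 := congrArg (PowerSeries.map φ) h0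
  rw [map_identity, map_one, hφ] at h1
  exact h1

section Final

variable {A : Type u} [CommRing A] (M : Type u) [AddCommGroup M] [Module A M]
  [Module.Free A M] [Module.Finite A M]

theorem detOneSub_eq {ι : Type} [Fintype ι] [DecidableEq ι] (b : Module.Basis ι A M)
    (u : M →ₗ[A] M) :
    SGA4h.detOneSub (ModuleCat.of A M) (ModuleCat.ofHom u) = detM (LinearMap.toMatrix b b u) := by
  unfold SGA4h.detOneSub
  exact det_baseChange_eq b u

theorem main (u : M →ₗ[A] M)
    (γ : ∀ n : ℕ, symT A M n →ₗ[A] symT A M n)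
    (hγ : ∀ (n : ℕ) (x : symT A M n), ((γ n x : symT A M n) : ⨂[A] _i : Fin n, M) =
      PiTensorProduct.map (fun _ : Fin n => u) (x : ⨂[A] _i : Fin n, M)) :
    (↑(SGA4h.detOneSub (ModuleCat.of A M) (ModuleCat.ofHom u)) : PowerSeries A) *
      PowerSeries.mk (fun n => LinearMap.trace A _ (γ n)) = 1 := by
  rcases subsingleton_or_nontrivial A with hA | hA
  · exact Subsingleton.elim _ _
  · let b := Module.finBasis A M
    rw [detOneSub_eq M b u]
    have h : (fun n => LinearMap.trace A _ (γ n)) =
        fun n => Hn (LinearMap.toMatrix b b u) n := by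
      funext n
      exact trace_eq_Hn b n u (γ n) (hγ n)
    rw [h]
    exact identity _

end Final

end Groth.Agent.Lib.Helper85.SymTr
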