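import Mathlib

/-!
# Tools for the trace map on differential forms of `R[x]/(x^p - a)`

* descending an alternating map to a quotient module;
* derivations of `AdjoinRoot (X^p - C a)` in characteristic `p`.
-/

set_option linter.unusedSectionVars false

namespace Groth.Agent.Lib.Helper85.TraceOmega

section AltQuot

variable {R : Type*} [CommRing R] {Ω P : Type*} [AddCommGroup Ω] [Module R Ω]
  [AddCommGroup P] [Module R P] (K : Submodule R Ω) {t : ℕ} (g : Ω [⋀^Fin t]→ₗ[R] P)
  (hg : ∀ v : Fin t → Ω, (∃ i, v i ∈ K) → g v = 0)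

include hg in
theorem alt_congr (v v' : Fin t → Ω) (h : ∀ i, v i - v' i ∈ K) : g v = g v' := by
  classical
  have key : ∀ s : Finset (Fin t), g (fun i => if i ∈ s then v' i else v i) = g v := by
    intro s
    induction s using Finset.induction_on with
    | empty => simp
    | insert j s hj ih =>
      rw [← ih]
      have h1 : (fun i => if i ∈ insert j s then v' i else v i) =
          Function.update (fun i => if i ∈ s then v' i else v i) j (v j + (v' j - v j)) := by
        funext i
        by_cases hi : i = j
        · subst hi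
          simp
        · simp [Function.update_of_ne hi, Finset.mem_insert, hi]
      have h2 : (fun i => if i ∈ s then v' i else v i) =
          Function.update (fun i => if i ∈ s then v' i else v i) j (v j) := by
        funext i
        by_cases hi : i = j
        · subst hi
          simp [hj]
        · simp [Function.update_of_ne hi]
      rw [h1, AlternatingMap.map_update_add, ← h2]
      have h3 : g (Function.update (fun i => if i ∈ s then v' i else v i) j (v' j - v j)) = 0 := by
        apply hg
        refine ⟨j, ?_⟩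
        rw [Function.update_self, ← neg_sub]
        exact K.neg_mem (h j)
      rw [h3, add_zero]
  have := key Finset.univ
  simpa using this.symm

/-- a choice of representatives. -/
noncomputable def rep (x : Ω ⧸ K) : Ω := Function.surjInv (Submodule.mkQ_surjective K) x

theorem mk_rep (x : Ω ⧸ K) : Submodule.Quotient.mk (rep K x) = x :=
  Function.surjInv_eq (Submodule.mkQ_surjective K) x

theorem rep_sub_mem (x : Ω ⧸ K) (y : Ω) (h : Submodule.Quotient.mk y = x) : rep K x - y ∈ K := by
  rw [← Submodule.Quotient.mk_eq_zero, Submodule.Quotient.mk_sub, mk_rep, h, sub_self]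

theorem rep_update (w : Fin t → Ω ⧸ K) (i : Fin t) (z : Ω ⧸ K) :
    (fun k => rep K (Function.update w i z k)) =
      Function.update (fun k => rep K (w k)) i (rep K z) := by
  classical
  funext k
  by_cases hk : k = i
  · subst hk; simp
  · simp [Function.update_of_ne hk]

/-- descend an alternating map to the quotient. -/
noncomputable def quotAlt : (Ω ⧸ K) [⋀^Fin t]→ₗ[R] P where
  toFun w := g (fun i => rep K (w i))
  map_update_add' := by
    intro _ w i x y
    have e : ∀ z, (fun k => rep K (@Function.update _ _ _ w i z k)) =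
        @Function.update _ _ _ (fun k => rep K (w k)) i (rep K z) := by
      intro z
      funext k
      by_cases hk : k = i
      · subst hk; simp
      · simp [Function.update_of_ne hk]
    rw [e, e, e, ← AlternatingMap.map_update_add]
    apply alt_congr K g hg
    intro k
    by_cases hk : k = i
    · subst hk
      simp only [Function.update_self]
      apply rep_sub_mem
      rw [Submodule.Quotient.mk_add, mk_rep, mk_rep]
    · simp [Function.update_of_ne hk]
  map_update_smul' := by
    intro _ w i c x
    have e : ∀ z, (fun k => rep K (@Function.update _ _ _ w i z k)) =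
        @Function.update _ _ _ (fun k => rep K (w k)) i (rep K z) := by
      intro z
      funext k
      by_cases hk : k = i
      · subst hk; simp
      · simp [Function.update_of_ne hk]
    rw [e, e, ← AlternatingMap.map_update_smul]
    apply alt_congr K g hg
    intro k
    by_cases hk : k = i
    · subst hk
      simp only [Function.update_self]
      apply rep_sub_mem
      rw [Submodule.Quotient.mk_smul, mk_rep]
    · simp [Function.update_of_ne hk]
  map_eq_zero_of_eq' := by
    intro w i j hij hne
    apply g.map_eq_zero_of_eq _ _ hne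
    show rep K (w i) = rep K (w j)
    rw [hij]

theorem quotAlt_mk (v : Fin t → Ω) :
    quotAlt K g hg (fun i => Submodule.Quotient.mk (v i)) = g v := by
  show g (fun i => rep K (Submodule.Quotient.mk (v i))) = g v
  apply alt_congr K g hg
  intro i
  exact rep_sub_mem K _ _ rfl

end AltQuot

section Deriv

open Polynomial

variable {p : ℕ} [Fact p.Prime] {Λ R : Type*} [CommRing Λ] [CommRing R] [Algebra Λ R] [CharP R p]
  (a : R) {N : Type*} [AddCommGroup N] [Module (AdjoinRoot (X ^ p - C a : R[X])) N] [Module R N]
  [Module Λ N] [IsScalarTower R (AdjoinRoot (X ^ p - C a : R[X])) N]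
  [IsScalarTower Λ (AdjoinRoot (X ^ p - C a : R[X])) N]

theorem natCast_p_eq_zero : ((p : ℕ) : AdjoinRoot (X ^ p - C a : R[X])) = 0 := by
  have h : ((p : ℕ) : AdjoinRoot (X ^ p - C a : R[X])) =
      algebraMap R (AdjoinRoot (X ^ p - C a : R[X])) ((p : ℕ) : R) := by
    rw [map_natCast]
  rw [h, CharP.cast_eq_zero, map_zero]

theorem root_pow_p : (AdjoinRoot.root (X ^ p - C a : R[X])) ^ p = AdjoinRoot.of _ a := by
  have h := AdjoinRoot.eval₂_root (X ^ p - C a : R[X])
  rw [eval₂_sub, eval₂_pow, eval₂_X, eval₂_C, sub_eq_zero] at h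
  exact h

/-- derivations of `R[x]/(x^p - a)` from a derivation of `R` killing `a` and the value at `x`. -/
theorem exists_derivation (δ : Derivation Λ R N) (hδ : δ a = 0) (n : N) :
    ∃ D : Derivation Λ (AdjoinRoot (X ^ p - C a : R[X])) N,
      (∀ r, D (AdjoinRoot.of _ r) = δ r) ∧ D (AdjoinRoot.root _) = n := by
  letI : Module (AdjoinRoot (X ^ p - C a : R[X]))ᵐᵒᵖ N :=
    Module.compHom N ((RingHom.id (AdjoinRoot (X ^ p - C a : R[X]))).fromOpposite
      fun _ _ => mul_comm _ _)
  haveI : IsCentralScalar (AdjoinRoot (X ^ p - C a : R[X])) N := ⟨fun _ _ => rfl⟩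
  have hof : ∀ (r : R) (m : N), AdjoinRoot.of (X ^ p - C a : R[X]) r • m = r • m := by
    intro r m
    rw [← AdjoinRoot.algebraMap_eq, algebraMap_smul]
  -- the ring homomorphism `r ↦ (r, δ r)`
  let i : R →+* TrivSqZeroExt (AdjoinRoot (X ^ p - C a : R[X])) N :=
    { toFun := fun r => TrivSqZeroExt.inl (AdjoinRoot.of _ r) + TrivSqZeroExt.inr (δ r)
      map_one' := by
        apply TrivSqZeroExt.ext
        · simp
        · simp
      map_mul' := by
        intro r r'
        apply TrivSqZeroExt.ext
        · simp
        · simp [hof, add_comm]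
      map_zero' := by
        apply TrivSqZeroExt.ext
        · simp
        · simp
      map_add' := by
        intro r r'
        apply TrivSqZeroExt.ext
        · simp
        · simp }
  have hi_fst : ∀ r, (i r).fst = AdjoinRoot.of _ r := by intro r; simp [i]
  have hi_snd : ∀ r, (i r).snd = δ r := by intro r; simp [i]
  let y : TrivSqZeroExt (AdjoinRoot (X ^ p - C a : R[X])) N :=
    TrivSqZeroExt.inl (AdjoinRoot.root _) + TrivSqZeroExt.inr n
  have hy_fst : y.fst = AdjoinRoot.root _ := by simp [y]
  have hy_snd : y.snd = n := by simp [y]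
  have hy : (X ^ p - C a : R[X]).eval₂ i y = 0 := by
    rw [eval₂_sub, eval₂_pow, eval₂_X, eval₂_C]
    apply TrivSqZeroExt.ext
    · rw [TrivSqZeroExt.fst_sub, TrivSqZeroExt.fst_pow, hy_fst, hi_fst, root_pow_p, sub_self,
        TrivSqZeroExt.fst_zero]
    · rw [TrivSqZeroExt.snd_sub, TrivSqZeroExt.snd_pow, hi_snd, hδ, sub_zero,
        TrivSqZeroExt.snd_zero, ← Nat.cast_smul_eq_nsmul (AdjoinRoot (X ^ p - C a : R[X])),
        natCast_p_eq_zero, zero_smul]
  have hfst : ∀ s, (AdjoinRoot.lift i y hy s).fst = s := by
    intro s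
    induction s using AdjoinRoot.induction_on with
    | ih g =>
      rw [AdjoinRoot.lift_mk]
      have h1 := Polynomial.hom_eval₂ g i
        (TrivSqZeroExt.fstHom (AdjoinRoot (X ^ p - C a : R[X]))
          (AdjoinRoot (X ^ p - C a : R[X])) N).toRingHom y
      have h2 : (TrivSqZeroExt.fstHom (AdjoinRoot (X ^ p - C a : R[X]))
          (AdjoinRoot (X ^ p - C a : R[X])) N).toRingHom.comp i = AdjoinRoot.of _ := by
        ext r
        exact hi_fst r
      rw [h2] at h1
      have h3 : (TrivSqZeroExt.fstHom (AdjoinRoot (X ^ p - C a : R[X]))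
          (AdjoinRoot (X ^ p - C a : R[X])) N).toRingHom y = AdjoinRoot.root _ := hy_fst
      rw [h3] at h1
      have h4 : eval₂ (AdjoinRoot.of (X ^ p - C a : R[X])) (AdjoinRoot.root _) g =
          AdjoinRoot.mk _ g := by
        rw [← AdjoinRoot.aeval_eq, aeval_def, AdjoinRoot.algebraMap_eq]
      rw [h4] at h1
      exact h1
  refine ⟨{ toFun := fun s => (AdjoinRoot.lift i y hy s).snd
            map_add' := ?_
            map_smul' := ?_
            map_one_eq_zero' := ?_
            leibniz' := ?_ }, ?_, ?_⟩
  · intro s s'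
    rw [map_add, TrivSqZeroExt.snd_add]
  · intro l s
    rw [RingHom.id_apply, Algebra.smul_def, map_mul, TrivSqZeroExt.snd_mul, hfst,
      IsScalarTower.algebraMap_apply Λ R (AdjoinRoot (X ^ p - C a : R[X])),
      AdjoinRoot.algebraMap_eq, AdjoinRoot.lift_of, hi_snd, Derivation.map_algebraMap,
      smul_zero, add_zero, ← AdjoinRoot.algebraMap_eq,
      ← IsScalarTower.algebraMap_apply Λ R (AdjoinRoot (X ^ p - C a : R[X])), algebraMap_smul]
  · show (AdjoinRoot.lift i y hy 1).snd = 0
    rw [map_one, TrivSqZeroExt.snd_one]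
  · intro s s'
    show (AdjoinRoot.lift i y hy (s * s')).snd =
      s • (AdjoinRoot.lift i y hy s').snd + s' • (AdjoinRoot.lift i y hy s).snd
    rw [map_mul, TrivSqZeroExt.snd_mul, hfst, hfst, op_smul_eq_smul]
  · intro r
    show (AdjoinRoot.lift i y hy (AdjoinRoot.of _ r)).snd = δ r
    rw [AdjoinRoot.lift_of, hi_snd]
  · show (AdjoinRoot.lift i y hy (AdjoinRoot.root _)).snd = n
    rw [AdjoinRoot.lift_root, hy_snd]

end Deriv

section Eps

open Polynomial

variable {p : ℕ} [Fact p.Prime] {R : Type*} [CommRing R] (a : R)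

theorem monic_f : (X ^ p - C a : R[X]).Monic :=
  monic_X_pow_sub_C a (Fact.out : p.Prime).ne_zero

/-- the coefficient of `x^(p-1)`. -/
noncomputable def eps : AdjoinRoot (X ^ p - C a : R[X]) →ₗ[R] R :=
  (lcoeff R (p - 1)).comp (AdjoinRoot.modByMonicHom (monic_f (p := p) a))

theorem eps_root_pow [Nontrivial R] (i : ℕ) (hi : i < p) :
    eps (p := p) a (AdjoinRoot.root (X ^ p - C a : R[X]) ^ i) = if i = p - 1 then 1 else 0 := by
  have hp : 0 < p := (Fact.out : p.Prime).pos
  have h1 : AdjoinRoot.root (X ^ p - C a : R[X]) ^ i = AdjoinRoot.mk _ (X ^ i) := by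
    rw [map_pow, AdjoinRoot.mk_X]
  have h2 : (X ^ i : R[X]) %ₘ (X ^ p - C a) = X ^ i := by
    rw [modByMonic_eq_self_iff (monic_f (p := p) a), degree_X_pow, degree_X_pow_sub_C hp]
    exact_mod_cast hi
  rw [h1, eps, LinearMap.comp_apply, AdjoinRoot.modByMonicHom_mk, h2, lcoeff_apply, coeff_X_pow]
  by_cases h : i = p - 1
  · rw [if_pos h, if_pos h.symm]
  · rw [if_neg h, if_neg (Ne.symm h)]

end Eps

end Groth.Agent.Lib.Helper85.TraceOmega
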