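import Mathlib
import Groth.Agent.Lib.Helper85.TraceOmegaA
import Groth.Agent.Lib.Helper85.DRCont
import Groth.Agent.Lib.Helper77.ExtPowBaseChange

/-!
# The trace map `Ω^{t+1}_{S/Λ} → Ω^{t+1}_{R/Λ}` for `S = R[x]/(x^p - a)` in characteristic `p`
-/

set_option linter.unusedSectionVars false

universe u

namespace Groth.Agent.Lib.Helper85.TraceOmega

open Polynomial TensorProduct exteriorPower
open Groth.Agent.Lib.Helper85.DRCont Groth.Agent.Lib.Helper77.ExtPowBaseChange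

section Setup

variable (p : ℕ) [Fact p.Prime] (Λ R : Type u) [CommRing Λ] [CommRing R] [Algebra Λ R]
  [CharP R p] (a : R)

/-- `S = R[x]/(x^p - a)`. -/
abbrev SR : Type u := AdjoinRoot (X ^ p - C a : R[X])

/-- the submodule `R·da`. -/
noncomputable abbrev Kda : Submodule R (Ω[R⁄Λ]) := Submodule.span R {KaehlerDifferential.D Λ R a}

/-- `Ω_R / R·da`. -/
abbrev Mbar : Type u := Ω[R⁄Λ] ⧸ Kda Λ R a

/-- `η ↦ 1 ⊗ [η]`. -/
noncomputable def jLin : Ω[R⁄Λ] →ₗ[R] (SR p R a) ⊗[R] (Mbar Λ R a) :=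
  (TensorProduct.mk R (SR p R a) (Mbar Λ R a) 1).comp (Submodule.mkQ (Kda Λ R a))

theorem jLin_apply (η : Ω[R⁄Λ]) :
    jLin p Λ R a η = (1 : SR p R a) ⊗ₜ[R] (Submodule.Quotient.mk η : Mbar Λ R a) := rfl

/-- the derivation `r ↦ 1 ⊗ [dr]` of `R`. -/
noncomputable def δμ : Derivation Λ R ((SR p R a) ⊗[R] (Mbar Λ R a)) :=
  (jLin p Λ R a).compDer (KaehlerDifferential.D Λ R)

theorem δμ_apply (r : R) :
    δμ p Λ R a r = (1 : SR p R a) ⊗ₜ[R] (Submodule.Quotient.mk (KaehlerDifferential.D Λ R r) :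
      Mbar Λ R a) := rfl

theorem δμ_a : δμ p Λ R a a = 0 := by
  rw [δμ_apply]
  have : (Submodule.Quotient.mk (KaehlerDifferential.D Λ R a) : Mbar Λ R a) = 0 := by
    rw [Submodule.Quotient.mk_eq_zero]
    exact Submodule.subset_span rfl
  rw [this, TensorProduct.tmul_zero]

theorem exists_Dμ : ∃ D : Derivation Λ (SR p R a) ((SR p R a) ⊗[R] (Mbar Λ R a)),
    (∀ r, D (AdjoinRoot.of _ r) = δμ p Λ R a r) ∧ D (AdjoinRoot.root _) = 0 :=
  exists_derivation a (δμ p Λ R a) (δμ_a p Λ R a) 0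

theorem exists_Dc : ∃ D : Derivation Λ (SR p R a) (SR p R a),
    (∀ r, D (AdjoinRoot.of _ r) = (0 : Derivation Λ R (SR p R a)) r) ∧
      D (AdjoinRoot.root _) = 1 :=
  exists_derivation a (0 : Derivation Λ R (SR p R a)) rfl 1

/-- `μ : Ω_S → S ⊗ Ω_R/da`. -/
noncomputable def μ : Ω[SR p R a⁄Λ] →ₗ[SR p R a] (SR p R a) ⊗[R] (Mbar Λ R a) :=
  (exists_Dμ p Λ R a).choose.liftKaehlerDifferential

/-- `c : Ω_S → S`, contraction with `∂/∂x`. -/
noncomputable def cLin : Ω[SR p R a⁄Λ] →ₗ[SR p R a] (SR p R a) :=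
  (exists_Dc p Λ R a).choose.liftKaehlerDifferential

theorem μ_D_of (r : R) :
    μ p Λ R a (KaehlerDifferential.D Λ (SR p R a) (AdjoinRoot.of _ r)) =
      (1 : SR p R a) ⊗ₜ[R] (Submodule.Quotient.mk (KaehlerDifferential.D Λ R r) : Mbar Λ R a) := by
  rw [μ, Derivation.liftKaehlerDifferential_comp_D, (exists_Dμ p Λ R a).choose_spec.1, δμ_apply]

theorem μ_D_root :
    μ p Λ R a (KaehlerDifferential.D Λ (SR p R a) (AdjoinRoot.root _)) = 0 := by
  rw [μ, Derivation.liftKaehlerDifferential_comp_D, (exists_Dμ p Λ R a).choose_spec.2]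

theorem cLin_D_of (r : R) :
    cLin p Λ R a (KaehlerDifferential.D Λ (SR p R a) (AdjoinRoot.of _ r)) = 0 := by
  rw [cLin, Derivation.liftKaehlerDifferential_comp_D, (exists_Dc p Λ R a).choose_spec.1]
  rfl

theorem cLin_D_root :
    cLin p Λ R a (KaehlerDifferential.D Λ (SR p R a) (AdjoinRoot.root _)) = 1 := by
  rw [cLin, Derivation.liftKaehlerDifferential_comp_D, (exists_Dc p Λ R a).choose_spec.2]

theorem kaehler_ext {N : Type*} [AddCommGroup N] [Module R N] (f g : Ω[R⁄Λ] →ₗ[R] N)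
    (h : ∀ r, f (KaehlerDifferential.D Λ R r) = g (KaehlerDifferential.D Λ R r)) : f = g := by
  apply LinearMap.ext_on_range (KaehlerDifferential.span_range_derivation Λ R)
  exact h

theorem μ_map (η : Ω[R⁄Λ]) :
    μ p Λ R a (KaehlerDifferential.map Λ Λ R (SR p R a) η) =
      (1 : SR p R a) ⊗ₜ[R] (Submodule.Quotient.mk η : Mbar Λ R a) := by
  have h : ((μ p Λ R a).restrictScalars R).comp (KaehlerDifferential.map Λ Λ R (SR p R a)) =
      jLin p Λ R a := by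
    apply kaehler_ext
    intro r
    rw [LinearMap.comp_apply, LinearMap.restrictScalars_apply, KaehlerDifferential.map_D,
      AdjoinRoot.algebraMap_eq, μ_D_of, jLin_apply]
  exact LinearMap.congr_fun h η

theorem cLin_map (η : Ω[R⁄Λ]) :
    cLin p Λ R a (KaehlerDifferential.map Λ Λ R (SR p R a) η) = 0 := by
  have h : ((cLin p Λ R a).restrictScalars R).comp (KaehlerDifferential.map Λ Λ R (SR p R a)) =
      0 := by
    apply kaehler_ext
    intro r
    rw [LinearMap.comp_apply, LinearMap.restrictScalars_apply, KaehlerDifferential.map_D,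
      AdjoinRoot.algebraMap_eq, cLin_D_of, LinearMap.zero_apply]
  exact LinearMap.congr_fun h η

end Setup

section Wedge

variable (Λ R : Type u) [CommRing Λ] [CommRing R] [Algebra Λ R] (a : R) (t : ℕ)

/-- `v ↦ da ∧ v`. -/
noncomputable def gAlt : Ω[R⁄Λ] [⋀^Fin t]→ₗ[R] ↥(⋀[R]^(t + 1) Ω[R⁄Λ]) :=
  (ιMulti R (t + 1)).curryLeft (KaehlerDifferential.D Λ R a)

theorem gAlt_apply (v : Fin t → Ω[R⁄Λ]) :
    gAlt Λ R a t v = ιMulti R (t + 1) (Fin.cons (KaehlerDifferential.D Λ R a) v) := rfl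

theorem gAlt_zero (v : Fin t → Ω[R⁄Λ]) (h : ∃ i, v i ∈ Kda Λ R a) : gAlt Λ R a t v = 0 := by
  classical
  obtain ⟨i, hi⟩ := h
  obtain ⟨r, hr⟩ := Submodule.mem_span_singleton.mp hi
  have h1 : v = Function.update v i (r • KaehlerDifferential.D Λ R a) := by
    rw [hr, Function.update_eq_self]
  rw [h1, AlternatingMap.map_update_smul, gAlt_apply]
  rw [AlternatingMap.map_eq_zero_of_eq _ _ (i := 0) (j := i.succ) ?_ (Fin.succ_ne_zero i).symm,
    smul_zero]
  rw [Fin.cons_zero, Fin.cons_succ, Function.update_self]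

/-- `[η₁] ∧ … ∧ [η_t] ↦ da ∧ η₁ ∧ … ∧ η_t`. -/
noncomputable def wd : ↥(⋀[R]^t (Mbar Λ R a)) →ₗ[R] ↥(⋀[R]^(t + 1) Ω[R⁄Λ]) :=
  alternatingMapLinearEquiv (quotAlt (Kda Λ R a) (gAlt Λ R a t) (gAlt_zero Λ R a t))

theorem wd_ιMulti (η : Fin t → Ω[R⁄Λ]) :
    wd Λ R a t (ιMulti R t (fun j => (Submodule.Quotient.mk (η j) : Mbar Λ R a))) =
      ιMulti R (t + 1) (Fin.cons (KaehlerDifferential.D Λ R a) η) := by
  rw [wd, alternatingMapLinearEquiv_apply_ιMulti, quotAlt_mk, gAlt_apply]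

theorem ιMulti_snoc {M : Type*} [AddCommGroup M] [Module R M] (η : Fin t → M) (x : M) :
    ιMulti R (t + 1) (Fin.snoc η x : Fin (t + 1) → M) =
      (-1 : ℤ) ^ t • ιMulti R (t + 1) (Fin.cons x η : Fin (t + 1) → M) := by
  rw [Fin.snoc_eq_cons_rotate]
  have h := AlternatingMap.map_perm (ιMulti R (t + 1) (M := M)) (Fin.cons x η : Fin (t + 1) → M)
    (finRotate (t + 1))
  rw [sign_finRotate, Nat.add_sub_cancel] at h
  rw [show (fun i => (Fin.cons x η : Fin (t + 1) → M) (finRotate (t + 1) i)) =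
    (Fin.cons x η : Fin (t + 1) → M) ∘ (finRotate (t + 1)) from rfl, h, Units.smul_def]
  simp

end Wedge

section ContGen

variable {B : Type u} [CommRing B] {M : Type u} [AddCommGroup M] [Module B M]

theorem cont_snoc_of_zero (e : M →ₗ[B] B) (q : ℕ) (v : Fin q → M) (hv : ∀ j, e (v j) = 0)
    (z : M) :
    cont e q (ιMulti B (q + 1) (Fin.snoc v z : Fin (q + 1) → M)) =
      (-1 : ℤ) ^ q • (e z • ιMulti B q v) := by
  rw [cont_ιMulti, Fin.sum_univ_castSucc]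
  have h1 : ∀ j : Fin q, (-1 : ℤ) ^ ((Fin.castSucc j : Fin (q + 1)) : ℕ) •
      (e ((Fin.snoc v z : Fin (q + 1) → M) (Fin.castSucc j)) •
        ιMulti B q ((Fin.castSucc j).removeNth (Fin.snoc v z : Fin (q + 1) → M))) = 0 := by
    intro j
    rw [Fin.snoc_castSucc, hv, zero_smul, smul_zero]
  rw [Finset.sum_eq_zero (fun j _ => h1 j), zero_add, Fin.snoc_last, Fin.removeNth_last,
    Fin.init_snoc, Fin.val_last]

theorem cont_of_zero (e : M →ₗ[B] B) (q : ℕ) (v : Fin (q + 1) → M) (hv : ∀ j, e (v j) = 0) :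
    cont e q (ιMulti B (q + 1) v) = 0 := by
  rw [cont_ιMulti]
  apply Finset.sum_eq_zero
  intro j _
  rw [hv, zero_smul, smul_zero]

end ContGen

section Main

variable (p : ℕ) [Fact p.Prime] (Λ R : Type u) [CommRing Λ] [CommRing R] [Algebra Λ R]
  [CharP R p] (a : R) (t : ℕ)

theorem hbc : IsBaseChange (SR p R a)
    (extMap (B := SR p R a) (TensorProduct.mk R (SR p R a) (Mbar Λ R a) 1) t) :=
  extMap_isBaseChange (TensorProduct.isBaseChange R (Mbar Λ R a) (SR p R a)) t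

/-- `s ⊗ n ↦ ε(s) • (da ∧ n)`. -/
noncomputable def ELin : (SR p R a) ⊗[R] ↥(⋀[R]^t (Mbar Λ R a)) →ₗ[R] ↥(⋀[R]^(t + 1) Ω[R⁄Λ]) :=
  TensorProduct.lift ((eps (p := p) a).smulRight (wd Λ R a t))

theorem ELin_tmul (s : SR p R a) (n : ↥(⋀[R]^t (Mbar Λ R a))) :
    ELin p Λ R a t (s ⊗ₜ n) = eps (p := p) a s • wd Λ R a t n := by
  rw [ELin, TensorProduct.lift.tmul, LinearMap.smulRight_apply, LinearMap.smul_apply]

/-- the part of the trace after contraction. -/
noncomputable def TrAux : ↥(⋀[SR p R a]^t Ω[SR p R a⁄Λ]) →ₗ[R] ↥(⋀[R]^(t + 1) Ω[R⁄Λ]) :=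
  (ELin p Λ R a t).comp
    (((hbc p Λ R a t).equiv.symm.toLinearMap.comp
      (exteriorPower.map t (μ p Λ R a))).restrictScalars R)

theorem map_μ_apply (s : SR p R a) (η : Fin t → Ω[R⁄Λ]) :
    exteriorPower.map t (μ p Λ R a) (s • ιMulti (SR p R a) t
      (fun j => KaehlerDifferential.map Λ Λ R (SR p R a) (η j))) =
      s • ιMulti (SR p R a) t (fun j => (TensorProduct.mk R (SR p R a) (Mbar Λ R a) 1)
        (Submodule.Quotient.mk (η j) : Mbar Λ R a)) := by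
  rw [LinearMap.map_smul, exteriorPower.map_apply_ιMulti]
  congr 2
  funext j
  rw [Function.comp_apply, μ_map]
  rfl

theorem equiv_symm_apply (s : SR p R a) (η : Fin t → Ω[R⁄Λ]) :
    (hbc p Λ R a t).equiv.symm
      (s • ιMulti (SR p R a) t (fun j => (TensorProduct.mk R (SR p R a) (Mbar Λ R a) 1)
        (Submodule.Quotient.mk (η j) : Mbar Λ R a))) =
      s ⊗ₜ[R] ιMulti R t (fun j => (Submodule.Quotient.mk (η j) : Mbar Λ R a)) := by
  rw [LinearEquiv.symm_apply_eq, IsBaseChange.equiv_tmul, extMap_ιMulti]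

theorem TrAux_apply (s : SR p R a) (η : Fin t → Ω[R⁄Λ]) :
    TrAux p Λ R a t (s • ιMulti (SR p R a) t
      (fun j => KaehlerDifferential.map Λ Λ R (SR p R a) (η j))) =
      eps (p := p) a s • ιMulti R (t + 1) (Fin.cons (KaehlerDifferential.D Λ R a) η) := by
  have h0 : TrAux p Λ R a t (s • ιMulti (SR p R a) t
      (fun j => KaehlerDifferential.map Λ Λ R (SR p R a) (η j))) =
      ELin p Λ R a t ((hbc p Λ R a t).equiv.symm (exteriorPower.map t (μ p Λ R a)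
        (s • ιMulti (SR p R a) t
          (fun j => KaehlerDifferential.map Λ Λ R (SR p R a) (η j))))) := rfl
  rw [h0, map_μ_apply, equiv_symm_apply, ELin_tmul, wd_ιMulti]

/-- the trace map. -/
noncomputable def Tr : ↥(⋀[SR p R a]^(t + 1) Ω[SR p R a⁄Λ]) →ₗ[R] ↥(⋀[R]^(t + 1) Ω[R⁄Λ]) :=
  (TrAux p Λ R a t).comp ((cont (cLin p Λ R a) t).restrictScalars R)

theorem Tr_apply (ω : ↥(⋀[SR p R a]^(t + 1) Ω[SR p R a⁄Λ])) :
    Tr p Λ R a t ω = TrAux p Λ R a t (cont (cLin p Λ R a) t ω) := rfl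

theorem cont_snoc (s : SR p R a) (η : Fin t → Ω[R⁄Λ]) :
    cont (cLin p Λ R a) t (ιMulti (SR p R a) (t + 1)
      (Fin.snoc (fun j => KaehlerDifferential.map Λ Λ R (SR p R a) (η j))
        (s • KaehlerDifferential.D Λ (SR p R a) (AdjoinRoot.root _)))) =
      (-1 : ℤ) ^ t • (s • ιMulti (SR p R a) t
        (fun j => KaehlerDifferential.map Λ Λ R (SR p R a) (η j))) := by
  rw [cont_snoc_of_zero (cLin p Λ R a) t _ (fun j => cLin_map p Λ R a (η j)),
    LinearMap.map_smul, cLin_D_root, smul_eq_mul, mul_one]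

theorem Tr_snoc (s : SR p R a) (η : Fin t → Ω[R⁄Λ]) :
    Tr p Λ R a t (ιMulti (SR p R a) (t + 1)
      (Fin.snoc (fun j => KaehlerDifferential.map Λ Λ R (SR p R a) (η j))
        (s • KaehlerDifferential.D Λ (SR p R a) (AdjoinRoot.root _)))) =
      eps (p := p) a s • ιMulti R (t + 1) (Fin.snoc η (KaehlerDifferential.D Λ R a)) := by
  rw [Tr_apply, cont_snoc, map_zsmul, TrAux_apply, ιMulti_snoc, smul_comm]

theorem Tr_pull (s : SR p R a) (η : Fin (t + 1) → Ω[R⁄Λ]) :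
    Tr p Λ R a t (s • ιMulti (SR p R a) (t + 1)
      (fun j => KaehlerDifferential.map Λ Λ R (SR p R a) (η j))) = 0 := by
  rw [Tr_apply, LinearMap.map_smul,
    cont_of_zero (cLin p Λ R a) t _ (fun j => cLin_map p Λ R a (η j)), smul_zero, map_zero]

theorem Tr_smul (r : R) (ω : ↥(⋀[SR p R a]^(t + 1) Ω[SR p R a⁄Λ])) :
    Tr p Λ R a t (algebraMap R (SR p R a) r • ω) = r • Tr p Λ R a t ω := by
  rw [algebraMap_smul, map_smul]

end Main

end Groth.Agent.Lib.Helper85.TraceOmega
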