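import Mathlib

set_option autoImplicit false
universe u

open Polynomial

namespace Groth.Agent.Lib.Helper85.ZarLaurent

variable {R : Type u} [CommRing R] [IsLocalRing R]


/-- In `R[t]/(P)`, `P` distinguished, polynomials with constant term one are units. -/
theorem exists_mul_eq_one_add {P : R[X]} (hP : P.Monic)
    (hc : ∀ i, i < P.natDegree → P.coeff i ∈ IsLocalRing.maximalIdeal R)
    (w : R[X]) (hw : w.coeff 0 = 1) : ∃ v z : R[X], w * v = 1 + P * z := by
  haveI : Module.Finite R (R[X] ⧸ Ideal.span {P}) := hP.finite_quotient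
  haveI : Algebra.IsIntegral R (R[X] ⧸ Ideal.span {P}) := Algebra.IsIntegral.of_finite R _
  have hunit : IsUnit (Ideal.Quotient.mk (Ideal.span {P}) w) := by
    by_contra hnu
    obtain ⟨n, hn, hmem⟩ := exists_max_ideal_of_mem_nonunits
      (show _ ∈ nonunits (R[X] ⧸ Ideal.span {P}) from hnu)
    have hcomap : n.comap (algebraMap R (R[X] ⧸ Ideal.span {P})) = IsLocalRing.maximalIdeal R := by
      have : (n.comap (algebraMap R (R[X] ⧸ Ideal.span {P}))).IsMaximal :=
        Ideal.isMaximal_comap_of_isIntegral_of_isMaximal n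
      exact IsLocalRing.eq_maximalIdeal this
    have hm : ∀ r ∈ IsLocalRing.maximalIdeal R,
        Ideal.Quotient.mk (Ideal.span {P}) (C r) ∈ n := by
      intro r hr
      rw [← hcomap] at hr
      exact hr
    have hXd : Ideal.Quotient.mk (Ideal.span {P}) X ^ P.natDegree ∈ n := by
      have h1 : Ideal.Quotient.mk (Ideal.span {P}) (X ^ P.natDegree) =
          -Ideal.Quotient.mk (Ideal.span {P})
            (∑ i ∈ Finset.range P.natDegree, C (P.coeff i) * X ^ i) := by
        rw [eq_neg_iff_add_eq_zero, ← map_add, ← hP.as_sum,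
          Ideal.Quotient.eq_zero_iff_mem]
        exact Ideal.mem_span_singleton_self P
      rw [← map_pow, h1, neg_mem_iff, map_sum]
      refine Ideal.sum_mem _ fun i hi => ?_
      rw [map_mul]
      exact Ideal.mul_mem_right _ _ (hm _ (hc i (Finset.mem_range.mp hi)))
    have hX : Ideal.Quotient.mk (Ideal.span {P}) X ∈ n := hn.isPrime.mem_of_pow_mem _ hXd
    have hw' : Ideal.Quotient.mk (Ideal.span {P}) w =
        Ideal.Quotient.mk (Ideal.span {P}) (divX w) * Ideal.Quotient.mk (Ideal.span {P}) X + 1 := by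
      conv_lhs => rw [← divX_mul_X_add w, hw]
      simp
    have h1 : (1 : R[X] ⧸ Ideal.span {P}) ∈ n := by
      have : (1 : R[X] ⧸ Ideal.span {P}) = Ideal.Quotient.mk (Ideal.span {P}) w -
          Ideal.Quotient.mk (Ideal.span {P}) (divX w) * Ideal.Quotient.mk (Ideal.span {P}) X := by
        rw [hw']; ring
      rw [this]
      exact n.sub_mem hmem (n.mul_mem_left _ hX)
    exact hn.ne_top ((Ideal.eq_top_iff_one n).mpr h1)
  obtain ⟨vbar, hv⟩ := hunit.exists_right_inv
  obtain ⟨v, rfl⟩ := Ideal.Quotient.mk_surjective vbar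
  have : w * v - 1 ∈ Ideal.span {P} := by
    rw [← Ideal.Quotient.eq_zero_iff_mem, map_sub, map_mul, hv, map_one, sub_self]
  obtain ⟨z, hz⟩ := Ideal.mem_span_singleton'.mp this
  exact ⟨v, z, by rw [mul_comm P z, hz]; ring⟩


/-- The multiplicative set. -/
noncomputable abbrev SS (R : Type u) [CommRing R] : Submonoid R[X] :=
  Submonoid.closure ({f : R[X] | f.coeff 0 = 1} ∪ {X})

variable {L : Type u} [CommRing L] [Algebra R[X] L] [IsLocalization (SS R) L]
  [Algebra R L] [IsScalarTower R R[X] L]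
  (ψ : R[X] →ₐ[R] L) (hψ : ψ X * algebraMap R[X] L X = 1)

omit [IsLocalRing R] [IsLocalization (SS R) L] in
lemma psi_eq_eval₂ (g : R[X]) : ψ g = eval₂ (algebraMap R L) (ψ X) g := by
  have : ψ = Polynomial.aeval (ψ X) := Polynomial.algHom_ext (by simp)
  conv_lhs => rw [this]
  rfl

omit [IsLocalRing R] [IsLocalization (SS R) L] in
lemma algebraMap_eq_eval₂ (g : R[X]) :
    algebraMap R[X] L g = eval₂ (algebraMap R L) (algebraMap R[X] L X) g := by
  have : IsScalarTower.toAlgHom R R[X] L = Polynomial.aeval (algebraMap R[X] L X) :=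
    Polynomial.algHom_ext (by simp)
  have h2 := congrArg (fun φ : R[X] →ₐ[R] L => φ g) this
  exact h2

include hψ in
omit [IsLocalRing R] [IsLocalization (SS R) L] in
/-- `ψ(reflect d P) * t^d = P(t)`. -/
lemma psi_reflect_mul_pow (d : ℕ) (P : R[X]) (hd : P.natDegree ≤ d) :
    ψ (reflect d P) * algebraMap R[X] L X ^ d = algebraMap R[X] L P := by
  letI : Invertible (algebraMap R[X] L X) := ⟨ψ X, hψ, by rw [mul_comm]; exact hψ⟩
  have := eval₂_reflect_mul_pow (algebraMap R L) (algebraMap R[X] L X) d P hd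
  rw [psi_eq_eval₂ ψ, algebraMap_eq_eval₂ P]
  exact this

end Groth.Agent.Lib.Helper85.ZarLaurent
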