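import Groth.Agent.Lib.Helper85.ZarLaurentHens

set_option autoImplicit false
universe u

open Polynomial

namespace Groth.Agent.Lib.Helper85.ZarLaurent

variable {R : Type u} [CommRing R] [HenselianLocalRing R]
  {L : Type u} [CommRing L] [Algebra R[X] L] [IsLocalization (SS R) L]
  [Algebra R L] [IsScalarTower R R[X] L]

/-- From `J + mL = L` obtain a distinguished polynomial in `J`. -/
theorem exists_dist_mem (J : Ideal L)
    (hJ : J ⊔ (IsLocalRing.maximalIdeal R).map (algebraMap R L) = ⊤) :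
    ∃ P : R[X], P.Monic ∧ (∀ i, i < P.natDegree → P.coeff i ∈ IsLocalRing.maximalIdeal R) ∧
      algebraMap R[X] L P ∈ J := by
  have h1 : (1 : L) ∈ J ⊔ (IsLocalRing.maximalIdeal R).map (algebraMap R L) := by
    rw [hJ]; trivial
  obtain ⟨j, hj, μ, hμ, hjμ⟩ := Submodule.mem_sup.mp h1
  have hμ' : μ ∈ ((IsLocalRing.maximalIdeal R).map (C : R →+* R[X])).map (algebraMap R[X] L) := by
    rw [Ideal.map_map]
    have : (algebraMap R[X] L).comp (C : R →+* R[X]) = algebraMap R L := by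
      ext r
      have : (C r : R[X]) = algebraMap R R[X] r := rfl
      rw [RingHom.comp_apply, this, ← IsScalarTower.algebraMap_apply]
    rw [this]
    exact hμ
  obtain ⟨⟨⟨a, ha⟩, σ₁⟩, hμσ⟩ := (IsLocalization.mem_map_algebraMap_iff (SS R) L).mp hμ'
  obtain ⟨⟨p₂, σ₂⟩, hjσ⟩ := IsLocalization.surj (SS R) j
  simp only at hμσ hjσ
  have heq : algebraMap R[X] L ((σ₁ : R[X]) * σ₂) = algebraMap R[X] L (p₂ * σ₁ + a * σ₂) := by
    rw [map_mul, map_add, map_mul, map_mul, ← hμσ, ← hjσ]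
    have : algebraMap R[X] L σ₁ * algebraMap R[X] L σ₂ =
        (j + μ) * (algebraMap R[X] L σ₁ * algebraMap R[X] L σ₂) := by rw [hjμ, one_mul]
    rw [this]; ring
  obtain ⟨σ₃, hσ₃⟩ := (IsLocalization.eq_iff_exists (SS R) L).mp heq
  -- σ = σ₃ σ₁ σ₂, p = σ₃ p₂ σ₁
  set σ : R[X] := (σ₃ : R[X]) * ((σ₁ : R[X]) * σ₂) with hσ
  set p : R[X] := (σ₃ : R[X]) * (p₂ * σ₁) with hp
  have hσmem : σ ∈ SS R := (SS R).mul_mem σ₃.2 ((SS R).mul_mem σ₁.2 σ₂.2)
  have hpJ : algebraMap R[X] L p ∈ J := by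
    rw [hp, map_mul, map_mul, ← hjσ]
    exact J.mul_mem_left _ (J.mul_mem_right _ (J.mul_mem_right _ hj))
  have hdiff : p - σ ∈ (IsLocalRing.maximalIdeal R).map (C : R →+* R[X]) := by
    have : p - σ = -((σ₃ : R[X]) * σ₂ * a) := by
      rw [hσ₃, hp]; ring
    rw [this]
    exact neg_mem (Ideal.mul_mem_left _ _ ha)
  obtain ⟨e, w, hσew, hw⟩ := exists_pow_mul_of_mem_SS σ hσmem
  rw [hσew] at hdiff
  obtain ⟨P, W, hpPW, hPm, hPc, hWu⟩ := exists_factor p e w hw hdiff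
  refine ⟨P, hPm, hPc, ?_⟩
  -- algebraMap W is a unit
  obtain ⟨c, hc⟩ := hWu
  have hW1 : (C ((c⁻¹ : Rˣ) : R) * W) ∈ SS R := by
    apply Submonoid.subset_closure
    left
    change (C ((c⁻¹ : Rˣ) : R) * W).coeff 0 = 1
    rw [coeff_C_mul, ← hc, Units.inv_mul]
  have hWunit : IsUnit (algebraMap R[X] L W) := by
    have h1 : IsUnit (algebraMap R[X] L (C ((c⁻¹ : Rˣ) : R) * W)) :=
      IsLocalization.map_units L (⟨_, hW1⟩ : SS R)
    rw [map_mul] at h1
    exact isUnit_of_mul_isUnit_right h1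
  rw [hpPW, map_mul] at hpJ
  exact (Ideal.mul_unit_mem_iff_mem J hWunit).mp hpJ

end Groth.Agent.Lib.Helper85.ZarLaurent
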