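import Groth.Agent.Lib.Helper85.ZarLaurentBasic

set_option autoImplicit false
universe u

open Polynomial

namespace Groth.Agent.Lib.Helper85.ZarLaurent

variable {R : Type u} [CommRing R] [IsLocalRing R]

/-- the reflected polynomial `f(s) = s^d P(1/s)` -/
noncomputable def fOf (P : R[X]) : R[X] := reflect P.natDegree P

lemma fOf_coeff_zero {P : R[X]} (hP : P.Monic) : (fOf P).coeff 0 = 1 := by
  rw [fOf, coeff_reflect, revAt_zero]; exact hP.coeff_natDegree

omit [IsLocalRing R] in
lemma fOf_coeff_mem {P : R[X]} {m : Ideal R}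
    (hc : ∀ i, i < P.natDegree → P.coeff i ∈ m) {i : ℕ} (hi : 0 < i) :
    (fOf P).coeff i ∈ m := by
  rw [fOf, coeff_reflect]
  by_cases h : i ≤ P.natDegree
  · rw [revAt_le h]
    exact hc _ (by omega)
  · rw [revAt_eq_self_of_lt (by omega), coeff_eq_zero_of_natDegree_lt (by omega)]
    exact m.zero_mem

lemma one_sub_fOf_mem {P : R[X]} (hP : P.Monic) {m : Ideal R}
    (hc : ∀ i, i < P.natDegree → P.coeff i ∈ m) :
    1 - fOf P ∈ m.map (C : R →+* R[X]) := by
  rw [Ideal.mem_map_C_iff]
  intro i
  rw [coeff_sub]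
  rcases Nat.eq_zero_or_pos i with rfl | hi
  · rw [fOf_coeff_zero hP, coeff_one_zero, sub_self]; exact m.zero_mem
  · rw [coeff_one, if_neg (by omega), zero_sub, neg_mem_iff]
    exact fOf_coeff_mem hc hi

section ClaimA

variable {P : R[X]} (hP : P.Monic)
  (hc : ∀ i, i < P.natDegree → P.coeff i ∈ IsLocalRing.maximalIdeal R)

/-- the inverse of `s` modulo `f`. -/
noncomputable def tau (P : R[X]) : R[X] ⧸ Ideal.span {fOf P} :=
  -Ideal.Quotient.mk (Ideal.span {fOf P}) (divX (fOf P))

include hP in
lemma mkX_mul_tau : Ideal.Quotient.mk (Ideal.span {fOf P}) X * tau P = 1 := by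
  have h := divX_mul_X_add (fOf P)
  rw [fOf_coeff_zero hP] at h
  have h2 : Ideal.Quotient.mk (Ideal.span {fOf P}) (divX (fOf P) * X + C 1) = 0 := by
    rw [h, Ideal.Quotient.eq_zero_iff_mem]; exact Ideal.mem_span_singleton_self _
  rw [map_add, map_mul, map_one (C : R →+* R[X]), map_one] at h2
  rw [tau]
  linear_combination -h2

/-- `β : R[t] → R[s]/(f)`, `t ↦ τ`. -/
noncomputable def beta (P : R[X]) : R[X] →+* R[X] ⧸ Ideal.span {fOf P} :=
  eval₂RingHom ((Ideal.Quotient.mk (Ideal.span {fOf P})).comp C) (tau P)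

lemma beta_X : beta P X = tau P := by simp [beta]

lemma beta_C (r : R) : beta P (C r) = Ideal.Quotient.mk (Ideal.span {fOf P}) (C r) := by
  simp [beta]

include hP in
lemma beta_P : beta P P = 0 := by
  letI : Invertible (tau P) :=
    ⟨Ideal.Quotient.mk (Ideal.span {fOf P}) X, mkX_mul_tau hP, by rw [mul_comm]; exact mkX_mul_tau hP⟩
  have h := eval₂_reflect_mul_pow ((Ideal.Quotient.mk (Ideal.span {fOf P})).comp C) (tau P)
    P.natDegree P le_rfl
  have h2 : eval₂ ((Ideal.Quotient.mk (Ideal.span {fOf P})).comp C)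
      (Ideal.Quotient.mk (Ideal.span {fOf P}) X) (fOf P) = 0 := by
    rw [← hom_eval₂, eval₂_C_X, Ideal.Quotient.eq_zero_iff_mem]
    exact Ideal.mem_span_singleton_self _
  have h3 : (⅟(tau P)) = Ideal.Quotient.mk (Ideal.span {fOf P}) X := rfl
  rw [h3] at h
  change eval₂ _ _ (fOf P) * _ = _ at h
  rw [h2, zero_mul] at h
  rw [beta, coe_eval₂RingHom]
  exact h.symm

include hP hc in
lemma isUnit_beta (y : R[X]) (hy : y ∈ SS R) : IsUnit (beta P y) := by
  induction hy using Submonoid.closure_induction with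
  | mem y hy =>
    rcases hy with hy | hy
    · obtain ⟨v, z, hvz⟩ := exists_mul_eq_one_add hP hc y hy
      have := congrArg (beta P) hvz
      rw [map_mul, map_add, map_one, map_mul, beta_P hP, zero_mul, add_zero] at this
      exact IsUnit.of_mul_eq_one _ this
    · rw [Set.mem_singleton_iff] at hy
      rw [hy, beta_X]
      exact IsUnit.of_mul_eq_one _ (by rw [mul_comm]; exact mkX_mul_tau hP)
  | one => rw [map_one]; exact isUnit_one
  | mul a b _ _ ha hb => rw [map_mul]; exact ha.mul hb

variable {L : Type u} [CommRing L] [Algebra R[X] L] [IsLocalization (SS R) L]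

/-- the retraction `γ : L → R[s]/(f)` -/
noncomputable def gamma : L →+* R[X] ⧸ Ideal.span {fOf P} :=
  IsLocalization.lift (M := SS R) (S := L) (g := beta P) (fun y => isUnit_beta hP hc y y.2)

lemma gamma_algebraMap (p : R[X]) : gamma hP hc (L := L) (algebraMap R[X] L p) = beta P p :=
  IsLocalization.lift_eq _ _

variable [Algebra R L] [IsScalarTower R R[X] L]
  (ψ : R[X] →ₐ[R] L) (hψ : ψ X * algebraMap R[X] L X = 1)

include hψ in
lemma gamma_psi (q : R[X]) : gamma hP hc (L := L) (ψ q) = Ideal.Quotient.mk (Ideal.span {fOf P}) q := by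
  have : (gamma hP hc (L := L)).comp ψ.toRingHom = Ideal.Quotient.mk (Ideal.span {fOf P}) := by
    refine Polynomial.ringHom_ext ?_ ?_
    · intro r
      have h1 : ψ (C r) = algebraMap R[X] L (C r) := by
        have : (C r : R[X]) = algebraMap R R[X] r := rfl
        rw [this, AlgHom.commutes, ← IsScalarTower.algebraMap_apply]
      simp only [RingHom.comp_apply, AlgHom.toRingHom_eq_coe, RingHom.coe_coe]
      rw [h1, gamma_algebraMap, beta_C]
    · simp only [RingHom.comp_apply, AlgHom.toRingHom_eq_coe, RingHom.coe_coe]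
      have h1 : gamma hP hc (L := L) (ψ X) * tau P = 1 := by
        rw [← beta_X, ← gamma_algebraMap hP hc (L := L), ← map_mul, hψ, map_one]
      have h2 := mkX_mul_tau hP
      calc gamma hP hc (L := L) (ψ X) = gamma hP hc (L := L) (ψ X) *
            (tau P * Ideal.Quotient.mk (Ideal.span {fOf P}) X) := by
              rw [mul_comm (tau P), h2, mul_one]
        _ = Ideal.Quotient.mk (Ideal.span {fOf P}) X := by rw [← mul_assoc, h1, one_mul]
  exact congrArg (fun φ => φ q) this

end ClaimA

end Groth.Agent.Lib.Helper85.ZarLaurent
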