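import Groth.Agent.Lib.Helper85.ZarLaurentMain
import Groth.Agent.Lib.Helper90.HensWeier
import Groth.Agent.Lib.Helper90.PairHzUniv
import Groth.Agent.Lib.Helper76.PSComplete

set_option autoImplicit false
universe u

open Polynomial

namespace Groth.Agent.Lib.Helper85.ZarLaurent

variable {R : Type u} [CommRing R]

/-- elements of the multiplicative set are `t^a w` with `w(0)=1`. -/
lemma exists_pow_mul_of_mem_SS (σ : R[X]) (hσ : σ ∈ SS R) :
    ∃ (a : ℕ) (w : R[X]), σ = X ^ a * w ∧ w.coeff 0 = 1 := by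
  induction hσ using Submonoid.closure_induction with
  | mem y hy =>
    rcases hy with hy | hy
    · exact ⟨0, y, by simp, hy⟩
    · rw [Set.mem_singleton_iff] at hy
      exact ⟨1, 1, by simp [hy], by simp⟩
  | one => exact ⟨0, 1, by simp, by simp⟩
  | mul x y _ _ hx hy =>
    obtain ⟨a, w, rfl, hw⟩ := hx
    obtain ⟨b, w', rfl, hw'⟩ := hy
    refine ⟨a + b, w * w', by ring, ?_⟩
    rw [mul_coeff_zero, hw, hw', one_mul]

/-- power series over any ring are henselian along `(X)`. -/
theorem henselianRing_powerSeries (k : Type u) [CommRing k] :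
    HenselianRing (PowerSeries k) (Ideal.span {(PowerSeries.X : PowerSeries k)}) := by
  have h : Groth.Agent.Lib.Helper76.PSComplete.varIdeal Unit k =
      Ideal.span {(PowerSeries.X : PowerSeries k)} := by
    unfold Groth.Agent.Lib.Helper76.PSComplete.varIdeal
    congr 1
    ext x
    simp only [Set.mem_range, Set.mem_singleton_iff]
    constructor
    · rintro ⟨u, rfl⟩; rfl
    · rintro rfl; exact ⟨(), rfl⟩
  have h2 : IsAdicComplete (Ideal.span {(PowerSeries.X : PowerSeries k)}) (PowerSeries k) := by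
    rw [← h]
    exact (inferInstance : IsAdicComplete (Groth.Agent.Lib.Helper76.PSComplete.varIdeal Unit k)
      (MvPowerSeries Unit k))
  exact IsAdicComplete.henselianRing _ _


section Hens

variable {R : Type u} [CommRing R] [HenselianLocalRing R]

open Groth.Agent.Lib.Helper90.PairHz in
/-- **Hensel factorisation** of a polynomial congruent to `t^a w`, `w(0)=1`, modulo `m`. -/
theorem exists_factor (p : R[X]) (a : ℕ) (w : R[X]) (hw : w.coeff 0 = 1)
    (hp : p - X ^ a * w ∈ (IsLocalRing.maximalIdeal R).map (C : R →+* R[X])) :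
    ∃ P W : R[X], p = P * W ∧ P.Monic ∧
      (∀ i, i < P.natDegree → P.coeff i ∈ IsLocalRing.maximalIdeal R) ∧ IsUnit (W.coeff 0) := by
  classical
  let I : Ideal R[X] := Ideal.span {(X : R[X])}
  let B := Hz I
  have hB : Hens2.IsPairHenselization R[X] (Ideal.span {(X : R[X])}) B := isPairHenselization_Hz I
  letI : Algebra R B := ((algebraMap R[X] B).comp C).toAlgebra
  haveI : IsScalarTower R R[X] B := IsScalarTower.of_algebraMap_eq (fun _ => rfl)
  -- the comparison map to power series over the residue field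
  let k := IsLocalRing.ResidueField R
  let f₀ : R[X] →+* PowerSeries k :=
    (Polynomial.coeToPowerSeries.ringHom).comp (Polynomial.mapRingHom (IsLocalRing.residue R))
  have hf₀X : f₀ X = PowerSeries.X := by
    simp [f₀, Polynomial.coeToPowerSeries.ringHom_apply]
  have hf₀C : ∀ r, f₀ (C r) = PowerSeries.C (IsLocalRing.residue R r) := by
    intro r
    simp [f₀, Polynomial.coeToPowerSeries.ringHom_apply]
  have hf₀coeff : ∀ (q : R[X]) (n : ℕ), PowerSeries.coeff n (f₀ q) = IsLocalRing.residue R (q.coeff n) := by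
    intro q n
    simp [f₀, Polynomial.coeToPowerSeries.ringHom_apply]
  have hle : (Ideal.span {(X : R[X])}).map f₀ ≤ Ideal.span {(PowerSeries.X : PowerSeries k)} := by
    rw [Ideal.map_span, Set.image_singleton, hf₀X]
  obtain ⟨g, hg, -⟩ := hB.2 (PowerSeries k) _ f₀ (henselianRing_powerSeries k) hle
  have hgf : ∀ q : R[X], g (algebraMap R[X] B q) = f₀ q := fun q => congrArg (fun φ => φ q) hg
  have hgm : ∀ b ∈ (IsLocalRing.maximalIdeal R).map (algebraMap R B), g b = 0 := by
    have : (IsLocalRing.maximalIdeal R).map (algebraMap R B) ≤ RingHom.ker g := by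
      rw [Ideal.map_le_iff_le_comap]
      intro r hr
      rw [Ideal.mem_comap, RingHom.mem_ker]
      have : algebraMap R B r = algebraMap R[X] B (C r) := rfl
      rw [this, hgf, hf₀C, (IsLocalRing.residue_eq_zero_iff r).mpr hr, map_zero]
    exact fun b hb => this hb
  -- f₀ p = X^a * f₀ w
  have hf₀p : f₀ p = PowerSeries.X ^ a * f₀ w := by
    have h0 : f₀ (p - X ^ a * w) = 0 := by
      ext n
      rw [hf₀coeff, map_zero]
      exact (IsLocalRing.residue_eq_zero_iff _).mpr (Ideal.mem_map_C_iff.mp hp n)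
    rw [map_sub, sub_eq_zero, map_mul, map_pow, hf₀X] at h0
    exact h0
  have hf₀w : PowerSeries.constantCoeff (f₀ w) = 1 := by
    rw [← PowerSeries.coeff_zero_eq_constantCoeff_apply, hf₀coeff, hw, map_one]
  have hf₀p_ne : f₀ p ≠ 0 := by
    intro h0
    have := congrArg (PowerSeries.coeff a) h0
    rw [hf₀p, map_zero, PowerSeries.coeff_X_pow_mul' , if_pos le_rfl, Nat.sub_self,
      PowerSeries.coeff_zero_eq_constantCoeff_apply, hf₀w] at this
    exact one_ne_zero this
  have hnot : algebraMap R[X] B p ∉ (IsLocalRing.maximalIdeal R).map (algebraMap R B) := by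
    intro hmem
    apply hf₀p_ne
    rw [← hgf]
    exact hgm _ hmem
  obtain ⟨⟨⟨P, u⟩, ⟨hPm, hPc, hPu⟩, -⟩, hkey⟩ :=
    Groth.Agent.Lib.Helper90.HensWeier.weierstrass hB (algebraMap R[X] B p) hnot
  simp only at hPm hPc hPu
  obtain ⟨-, hdiv⟩ := hkey P u hPm hPc hPu
  have hpP : p ∈ Ideal.span {P} := hdiv p (Ideal.mem_span_singleton_self _)
  obtain ⟨W, hW⟩ := Ideal.mem_span_singleton'.mp hpP
  refine ⟨P, W, by rw [← hW, mul_comm], hPm, hPc, ?_⟩
  -- `f₀ P = X^d`
  have hf₀P : f₀ P = PowerSeries.X ^ P.natDegree := by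
    ext n
    rw [hf₀coeff, PowerSeries.coeff_X_pow]
    split_ifs with hn
    · rw [hn, hPm.coeff_natDegree, map_one]
    · rcases lt_or_gt_of_ne hn with hlt | hgt
      · exact (IsLocalRing.residue_eq_zero_iff _).mpr (hPc n hlt)
      · rw [coeff_eq_zero_of_natDegree_lt hgt, map_zero]
  -- compare
  have h1 : f₀ p = f₀ P * f₀ W := by rw [← map_mul, mul_comm, hW]
  have h2 : f₀ p = f₀ P * g (u : B) := by
    rw [← hgf p, hPu, map_mul, hgf]
  have h3 : f₀ W = g (u : B) := by
    apply PowerSeries.X_pow_mul_cancel (k := P.natDegree)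
    rw [← hf₀P, ← h1, h2]
  have h4 : IsUnit (f₀ W) := by
    rw [h3]; exact (u.isUnit.map g)
  have h5 : IsUnit (PowerSeries.constantCoeff (f₀ W)) := h4.map _
  rw [← PowerSeries.coeff_zero_eq_constantCoeff_apply, hf₀coeff] at h5
  by_contra hnu
  have : W.coeff 0 ∈ IsLocalRing.maximalIdeal R := (IsLocalRing.mem_maximalIdeal _).mpr hnu
  rw [(IsLocalRing.residue_eq_zero_iff _).mpr this] at h5
  exact not_isUnit_zero h5

end Hens

end Groth.Agent.Lib.Helper85.ZarLaurent
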