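import Groth.Agent.Lib.Helper85.ZarLaurentSurj

set_option autoImplicit false
universe u

open Polynomial

namespace Groth.Agent.Lib.Helper85.ZarLaurent

variable {R : Type u} [CommRing R] [IsLocalRing R]

/-- from an ideal comaximal with `m R[s]`, produce a distinguished polynomial whose reflection
lies in the ideal. -/
theorem exists_dist_of_sup_eq_top (I : Ideal R[X])
    (hI : I ⊔ (IsLocalRing.maximalIdeal R).map (algebraMap R R[X]) = ⊤) :
    ∃ P : R[X], P.Monic ∧ (∀ i, i < P.natDegree → P.coeff i ∈ IsLocalRing.maximalIdeal R) ∧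
      fOf P ∈ I := by
  have h1 : (1 : R[X]) ∈ I ⊔ (IsLocalRing.maximalIdeal R).map (algebraMap R R[X]) := by
    rw [hI]; trivial
  obtain ⟨f₁, hf₁, g, hg, hfg⟩ := Submodule.mem_sup.mp h1
  have hg' : ∀ i, g.coeff i ∈ IsLocalRing.maximalIdeal R := by
    have : g ∈ (IsLocalRing.maximalIdeal R).map (C : R →+* R[X]) := hg
    exact Ideal.mem_map_C_iff.mp this
  have hu : IsUnit (f₁.coeff 0) := by
    have e : f₁.coeff 0 = 1 - g.coeff 0 := by
      have := congrArg (fun p : R[X] => p.coeff 0) hfg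
      simp only [coeff_add, coeff_one_zero] at this
      linear_combination this
    rw [e]
    by_contra hnu
    have hmem : 1 - g.coeff 0 ∈ IsLocalRing.maximalIdeal R := (IsLocalRing.mem_maximalIdeal _).mpr hnu
    have : (1 : R) ∈ IsLocalRing.maximalIdeal R := by
      have h := (IsLocalRing.maximalIdeal R).add_mem hmem (hg' 0)
      rwa [sub_add_cancel] at h
    exact (IsLocalRing.maximalIdeal.isMaximal R).ne_top ((Ideal.eq_top_iff_one _).mpr this)
  obtain ⟨u, hu⟩ := hu
  set f₂ : R[X] := C ((u⁻¹ : Rˣ) : R) * f₁ with hf₂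
  have hf₂I : f₂ ∈ I := I.mul_mem_left _ hf₁
  have hf₂0 : f₂.coeff 0 = 1 := by
    rw [hf₂, coeff_C_mul, ← hu, Units.inv_mul]
  have hf₂i : ∀ i, 0 < i → f₂.coeff i ∈ IsLocalRing.maximalIdeal R := by
    intro i hi
    rw [hf₂, coeff_C_mul]
    have e : f₁.coeff i = - g.coeff i := by
      have := congrArg (fun p : R[X] => p.coeff i) hfg
      simp only [coeff_add, coeff_one, if_neg (by omega : ¬ i = 0)] at this
      linear_combination this
    rw [e]
    exact Ideal.mul_mem_left _ _ (neg_mem (hg' i))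
  set d := f₂.natDegree with hd
  set P : R[X] := reflect d f₂ with hPdef
  have hPd : P.coeff d = 1 := by
    rw [hPdef, coeff_reflect, revAt_le le_rfl, Nat.sub_self, hf₂0]
  have hPle : P.natDegree ≤ d := by
    have := natDegree_reflect_le (N := d) (p := f₂)
    rw [max_eq_left (le_of_eq hd.symm)] at this
    exact this
  have hPm : P.Monic := monic_of_natDegree_le_of_coeff_eq_one d hPle hPd
  have hPdeg : P.natDegree = d := by
    refine le_antisymm hPle (le_natDegree_of_ne_zero ?_)
    rw [hPd]; exact one_ne_zero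
  refine ⟨P, hPm, ?_, ?_⟩
  · intro i hi
    rw [hPdeg] at hi
    rw [hPdef, coeff_reflect, revAt_le hi.le]
    exact hf₂i _ (by omega)
  · rw [fOf, hPdeg, hPdef, reflect_reflect]
    exact hf₂I

section Main

variable {L : Type u} [CommRing L] [Algebra R[X] L] [IsLocalization (SS R) L]
  [Algebra R L] [IsScalarTower R R[X] L]
  (ψ : R[X] →ₐ[R] L) (hψ : ψ X * algebraMap R[X] L X = 1)

omit [IsLocalRing R] [IsLocalization (SS R) L] in
lemma map_map_C (m : Ideal R) :
    (m.map (algebraMap R R[X])).map ψ.toRingHom = m.map (algebraMap R L) := by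
  rw [Ideal.map_map]
  congr 1
  ext r
  have : (C r : R[X]) = algebraMap R R[X] r := rfl
  simp only [RingHom.comp_apply, AlgHom.toRingHom_eq_coe, RingHom.coe_coe, AlgHom.commutes]

include hψ in
/-- Part 1 for an ideal containing the reflection of a distinguished polynomial. -/
theorem part_one (I : Ideal R[X])
    (hI : I ⊔ (IsLocalRing.maximalIdeal R).map (algebraMap R R[X]) = ⊤) :
    (I.map ψ.toRingHom).comap ψ.toRingHom = I ∧
      I.map ψ.toRingHom ⊔ (IsLocalRing.maximalIdeal R).map (algebraMap R L) = ⊤ ∧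
      Function.Bijective (Ideal.quotientMap (I.map ψ.toRingHom) ψ.toRingHom Ideal.le_comap_map) := by
  obtain ⟨P, hP, hc, hfI⟩ := exists_dist_of_sup_eq_top I hI
  have hle : Ideal.span {fOf P} ≤ I := (Ideal.span_singleton_le_iff_mem _).mpr hfI
  have hcomap : (I.map ψ.toRingHom).comap ψ.toRingHom ≤ I := by
    intro q hq
    rw [Ideal.mem_comap] at hq
    set δ : L →+* R[X] ⧸ I := (Ideal.Quotient.factor hle).comp (gamma hP hc (L := L)) with hδ
    have hδψ : ∀ x, δ (ψ x) = Ideal.Quotient.mk I x := by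
      intro x
      rw [hδ, RingHom.comp_apply, gamma_psi hP hc ψ hψ, Ideal.Quotient.factor_mk]
    have hker : I.map ψ.toRingHom ≤ RingHom.ker δ := by
      rw [Ideal.map_le_iff_le_comap]
      intro x hx
      rw [Ideal.mem_comap, RingHom.mem_ker]
      change δ (ψ x) = 0
      rw [hδψ, Ideal.Quotient.eq_zero_iff_mem]
      exact hx
    have := hker hq
    rw [RingHom.mem_ker] at this
    change δ (ψ q) = 0 at this
    rw [hδψ, Ideal.Quotient.eq_zero_iff_mem] at this
    exact this
  refine ⟨le_antisymm hcomap Ideal.le_comap_map, ?_, ?_, ?_⟩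
  · rw [← map_map_C ψ, ← Ideal.map_sup, hI, Ideal.map_top]
  · exact Ideal.quotientMap_injective' hcomap
  · intro lbar
    obtain ⟨l, rfl⟩ := Ideal.Quotient.mk_surjective lbar
    obtain ⟨q, hq⟩ := exists_psi_sub_mem hP hc ψ hψ l
    refine ⟨Ideal.Quotient.mk I q, ?_⟩
    rw [Ideal.quotientMap_mk]
    symm
    rw [Ideal.Quotient.eq]
    refine Ideal.span_le.mpr ?_ hq
    rintro _ rfl
    exact Ideal.mem_map_of_mem _ hfI

include hψ in
/-- Part 2, given a distinguished polynomial in `J`. -/
theorem part_two (J : Ideal L) {P : R[X]} (hP : P.Monic)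
    (hc : ∀ i, i < P.natDegree → P.coeff i ∈ IsLocalRing.maximalIdeal R)
    (hPJ : algebraMap R[X] L P ∈ J) :
    (J.comap ψ.toRingHom).map ψ.toRingHom = J ∧
      J.comap ψ.toRingHom ⊔ (IsLocalRing.maximalIdeal R).map (algebraMap R R[X]) = ⊤ := by
  have hfJ : ψ (fOf P) ∈ J := by
    have h1 := psi_reflect_mul_pow ψ hψ P.natDegree P le_rfl
    have h2 : ψ (fOf P) = algebraMap R[X] L P * ψ X ^ P.natDegree := by
      rw [← h1, mul_assoc, ← mul_pow, mul_comm (algebraMap R[X] L X), hψ, one_pow, mul_one]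
      rfl
    rw [h2]
    exact J.mul_mem_right _ hPJ
  have hfc : fOf P ∈ J.comap ψ.toRingHom := hfJ
  constructor
  · refine le_antisymm Ideal.map_comap_le ?_
    intro j hj
    obtain ⟨q, hq⟩ := exists_psi_sub_mem hP hc ψ hψ j
    have hspan : Ideal.span {ψ (fOf P)} ≤ (J.comap ψ.toRingHom).map ψ.toRingHom := by
      rw [Ideal.span_le]
      rintro _ rfl
      exact Ideal.mem_map_of_mem _ hfc
    have hspanJ : Ideal.span {ψ (fOf P)} ≤ J := (Ideal.span_singleton_le_iff_mem _).mpr hfJ
    have hqJ : ψ q ∈ J := by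
      have : ψ q = j - (j - ψ q) := by ring
      rw [this]
      exact J.sub_mem hj (hspanJ hq)
    have : j = ψ q + (j - ψ q) := by ring
    rw [this]
    exact Ideal.add_mem _ (Ideal.mem_map_of_mem _ hqJ) (hspan hq)
  · rw [Ideal.eq_top_iff_one]
    have : (1 : R[X]) = fOf P + (1 - fOf P) := by ring
    rw [this]
    exact Submodule.add_mem_sup hfc (one_sub_fOf_mem hP hc)

end Main

end Groth.Agent.Lib.Helper85.ZarLaurent
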