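import Groth.Agent.Lib.Helper85.ZarLaurentGamma

set_option autoImplicit false
universe u

open Polynomial

namespace Groth.Agent.Lib.Helper85.ZarLaurent

variable {R : Type u} [CommRing R] [IsLocalRing R]

section Surj

variable {P : R[X]} (hP : P.Monic)
  (hc : ∀ i, i < P.natDegree → P.coeff i ∈ IsLocalRing.maximalIdeal R)

variable {L : Type u} [CommRing L] [Algebra R[X] L] [IsLocalization (SS R) L]
  [Algebra R L] [IsScalarTower R R[X] L]
  (ψ : R[X] →ₐ[R] L) (hψ : ψ X * algebraMap R[X] L X = 1)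

include hP hψ in
omit [IsLocalization (SS R) L] in
/-- `t ≡ ψ(-divX f)` modulo `ψ f`. -/
lemma t_sub_mem : algebraMap R[X] L X - ψ (-divX (fOf P)) ∈ Ideal.span {ψ (fOf P)} := by
  have h := divX_mul_X_add (fOf P)
  rw [fOf_coeff_zero hP] at h
  have h2 : ψ (fOf P) = ψ (divX (fOf P)) * ψ X + 1 := by
    conv_lhs => rw [← h]
    rw [map_add, map_mul, map_one (C : R →+* R[X]), map_one]
  have h3 : algebraMap R[X] L X - ψ (-divX (fOf P)) = algebraMap R[X] L X * ψ (fOf P) := by
    rw [h2, map_neg]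
    linear_combination (-ψ (divX (fOf P))) * hψ
  rw [h3]
  exact Ideal.mul_mem_left _ _ (Ideal.mem_span_singleton_self _)

include hP hψ in
omit [IsLocalization (SS R) L] in
lemma algebraMap_sub_mem (p : R[X]) :
    algebraMap R[X] L p - ψ (p.comp (-divX (fOf P))) ∈ Ideal.span {ψ (fOf P)} := by
  rw [← Ideal.Quotient.eq]
  set mk := Ideal.Quotient.mk (Ideal.span {ψ (fOf P)}) with hmk
  have e1 : mk (algebraMap R[X] L p) =
      eval₂ ((mk.comp (algebraMap R[X] L)).comp C) (mk (algebraMap R[X] L X)) p := by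
    have := hom_eval₂ p (C : R →+* R[X]) (mk.comp (algebraMap R[X] L)) X
    rw [eval₂_C_X] at this
    exact this
  have e2 : mk (ψ (p.comp (-divX (fOf P)))) =
      eval₂ ((mk.comp ψ.toRingHom).comp C) (mk (ψ (-divX (fOf P)))) p := by
    have := hom_eval₂ p (C : R →+* R[X]) (mk.comp ψ.toRingHom) (-divX (fOf P))
    exact this
  have e3 : (mk.comp (algebraMap R[X] L)).comp C = (mk.comp ψ.toRingHom).comp C := by
    ext r
    simp only [RingHom.comp_apply, AlgHom.toRingHom_eq_coe, RingHom.coe_coe]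
    congr 1
    have : (C r : R[X]) = algebraMap R R[X] r := rfl
    rw [this, AlgHom.commutes, ← IsScalarTower.algebraMap_apply]
  have e4 : mk (algebraMap R[X] L X) = mk (ψ (-divX (fOf P))) :=
    Ideal.Quotient.eq.mpr (t_sub_mem hP ψ hψ)
  rw [e1, e2, e3, e4]

include hP hc hψ in
omit [IsLocalization (SS R) L] in
lemma exists_inv_mod (σ : R[X]) (hσ : σ ∈ SS R) :
    ∃ q : R[X], algebraMap R[X] L σ * ψ q - 1 ∈ Ideal.span {ψ (fOf P)} := by
  induction hσ using Submonoid.closure_induction with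
  | mem y hy =>
    rcases hy with hy | hy
    · obtain ⟨v, z, hvz⟩ := exists_mul_eq_one_add hP hc y hy
      refine ⟨v.comp (-divX (fOf P)), ?_⟩
      have h1 := congrArg (algebraMap R[X] L) hvz
      rw [map_mul, map_add, map_one, map_mul] at h1
      have h2 : algebraMap R[X] L P ∈ Ideal.span {ψ (fOf P)} := by
        rw [← psi_reflect_mul_pow ψ hψ P.natDegree P le_rfl]
        exact Ideal.mul_mem_right _ _ (Ideal.mem_span_singleton_self _)
      have h3 := algebraMap_sub_mem hP ψ hψ v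
      have e : algebraMap R[X] L y * ψ (v.comp (-divX (fOf P))) - 1 =
          algebraMap R[X] L P * algebraMap R[X] L z -
            algebraMap R[X] L y * (algebraMap R[X] L v - ψ (v.comp (-divX (fOf P)))) := by
        linear_combination h1
      rw [e]
      exact Ideal.sub_mem _ (Ideal.mul_mem_right _ _ h2) (Ideal.mul_mem_left _ _ h3)
    · rw [Set.mem_singleton_iff] at hy
      refine ⟨X, ?_⟩
      rw [hy, mul_comm, hψ, sub_self]
      exact Ideal.zero_mem _
  | one => exact ⟨1, by simp⟩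
  | mul a b _ _ ha hb =>
    obtain ⟨qa, hqa⟩ := ha
    obtain ⟨qb, hqb⟩ := hb
    refine ⟨qa * qb, ?_⟩
    have e : algebraMap R[X] L (a * b) * ψ (qa * qb) - 1 =
        (algebraMap R[X] L a * ψ qa - 1) * (algebraMap R[X] L b * ψ qb) +
          (algebraMap R[X] L b * ψ qb - 1) := by
      rw [map_mul, map_mul]; ring
    rw [e]
    exact Ideal.add_mem _ (Ideal.mul_mem_right _ _ hqa) hqb

include hP hc hψ in
/-- every element of `L` is congruent to a polynomial in `s` modulo `ψ f` -/
theorem exists_psi_sub_mem (l : L) : ∃ q : R[X], l - ψ q ∈ Ideal.span {ψ (fOf P)} := by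
  obtain ⟨⟨p, σ⟩, hpσ⟩ := IsLocalization.surj (SS R) l
  obtain ⟨qσ, hqσ⟩ := exists_inv_mod hP hc ψ hψ σ σ.2
  refine ⟨p.comp (-divX (fOf P)) * qσ, ?_⟩
  have h3 := algebraMap_sub_mem hP ψ hψ p
  have e : l - ψ (p.comp (-divX (fOf P)) * qσ) =
      (algebraMap R[X] L p - ψ (p.comp (-divX (fOf P)))) * ψ qσ -
        l * (algebraMap R[X] L σ * ψ qσ - 1) := by
    rw [map_mul]
    simp only at hpσ
    linear_combination (ψ qσ) * hpσ
  rw [e]
  exact Ideal.sub_mem _ (Ideal.mul_mem_right _ _ h3) (Ideal.mul_mem_left _ _ hqσ)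

end Surj

end Groth.Agent.Lib.Helper85.ZarLaurent
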